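import Cfsg.Agent.Lib.Helper30.Layer
import Cfsg.Agent.Lib.Helper76.Fitting
import Cfsg.Agent.S3743

set_option autoImplicit false

namespace Cfsg.Agent.Lib.Helper30

open Subgroup
open scoped commutatorElement

variable {G : Type*} [Group G]

instance fitting_normal : (Cfsg.fittingSubgroup G).Normal :=
  Cfsg.Agent.Lib.Helper76.fittingSubgroup_normal

instance genFitting_normal : (Cfsg.generalizedFittingSubgroup G).Normal := by
  unfold Cfsg.generalizedFittingSubgroup
  infer_instance

theorem fitting_isNilpotent [Finite G] : Group.IsNilpotent ↥(Cfsg.fittingSubgroup G) :=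
  Cfsg.Agent.Lib.Helper76.fittingSubgroup_isNilpotent

theorem fitting_isSolvable [Finite G] : Group.IsSolvable ↥(Cfsg.fittingSubgroup G) := by
  have := fitting_isNilpotent (G := G)
  exact IsNilpotent.to_isSolvable

theorem layer_le_genFitting : Cfsg.layer G ≤ Cfsg.generalizedFittingSubgroup G := le_sup_left

theorem fitting_le_genFitting : Cfsg.fittingSubgroup G ≤ Cfsg.generalizedFittingSubgroup G :=
  le_sup_right

/-- A subnormal nilpotent subgroup of a finite group lies in the Fitting subgroup. -/
theorem subnormal_nilpotent_le_fitting [Finite G] {A : Subgroup G} (hA : A.IsSubnormal)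
    (hnil : Group.IsNilpotent ↥A) : A ≤ Cfsg.fittingSubgroup G :=
  (Cfsg.Agent.S3743.result A hA).1 hnil

/-- The layer is contained in every term of the derived series of `F*(G)`. -/
theorem layer_le_derivedSeries_genFitting (n : ℕ) :
    Cfsg.layer G ≤ (derivedSeries ↥(Cfsg.generalizedFittingSubgroup G) n).map
      (Cfsg.generalizedFittingSubgroup G).subtype := by
  induction n with
  | zero =>
    rw [derivedSeries_zero, ← MonoidHom.range_eq_map, Subgroup.range_subtype]
    exact layer_le_genFitting
  | succ n ih =>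
    rw [derivedSeries_succ, Subgroup.map_commutator]
    calc Cfsg.layer G = ⁅Cfsg.layer G, Cfsg.layer G⁆ := layer_perfect.symm
      _ ≤ _ := commutator_mono ih ih

/-- Some term of the derived series of `F*(G)` lies in the layer (finite `G`). -/
theorem exists_derivedSeries_genFitting_le [Finite G] :
    ∃ n : ℕ, (derivedSeries ↥(Cfsg.generalizedFittingSubgroup G) n).map
      (Cfsg.generalizedFittingSubgroup G).subtype ≤ Cfsg.layer G := by
  set E := Cfsg.layer G with hE
  set F := Cfsg.fittingSubgroup G with hF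
  set S := Cfsg.generalizedFittingSubgroup G with hS
  let π := QuotientGroup.mk' E
  have hmap : S.map π = F.map π := by
    rw [hS]
    unfold Cfsg.generalizedFittingSubgroup
    rw [Subgroup.map_sup, QuotientGroup.map_mk'_self, bot_sup_eq]
  have hsolvF : Group.IsSolvable ↥(F.map π) := by
    have := fitting_isSolvable (G := G)
    exact Group.isSolvable_of_surjective (f := π.subgroupMap F) (MonoidHom.subgroupMap_surjective π F)
  have hsolv : Group.IsSolvable ↥(S.map π) := by
    rw [hmap]; exact hsolvF
  obtain ⟨n, hn⟩ := hsolv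
  refine ⟨n, ?_⟩
  have h1 : (derivedSeries ↥S n).map (π.subgroupMap S) ≤ derivedSeries ↥(S.map π) n :=
    map_derivedSeries_le_derivedSeries _ n
  rw [hn, le_bot_iff, Subgroup.map_eq_bot_iff, Subgroup.ker_subgroupMap, QuotientGroup.ker_mk'] at h1
  calc (derivedSeries ↥S n).map S.subtype ≤ (E.subgroupOf S).map S.subtype := Subgroup.map_mono h1
    _ = E ⊓ S := Subgroup.subgroupOf_map_subtype E S
    _ ≤ E := inf_le_left

/-- `E(G)` is the last term of the derived series of `F*(G)`. -/
theorem iInf_derivedSeries_genFitting [Finite G] :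
    (⨅ n : ℕ, (derivedSeries ↥(Cfsg.generalizedFittingSubgroup G) n).map
      (Cfsg.generalizedFittingSubgroup G).subtype) = Cfsg.layer G := by
  refine le_antisymm ?_ (le_iInf layer_le_derivedSeries_genFitting)
  obtain ⟨n, hn⟩ := exists_derivedSeries_genFitting_le (G := G)
  exact (iInf_le _ n).trans hn


theorem isNilpotent_of_injective {H K : Type*} [Group H] [Group K] (f : H →* K)
    (hf : Function.Injective f) (hK : Group.IsNilpotent K) : Group.IsNilpotent H :=
  haveI := hK; Subgroup.isNilpotent_of_ker_le_center f ((f.ker_eq_bot_iff.mpr hf).symm ▸ bot_le)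

theorem mem_sup_of_le_normalizer {A B : Subgroup G} (h : A ≤ normalizer (B : Set G)) {x : G} :
    x ∈ A ⊔ B ↔ ∃ a ∈ A, ∃ b ∈ B, a * b = x := by
  rw [← SetLike.mem_coe, Subgroup.coe_mul_of_left_le_normalizer_right A B h, Set.mem_mul]
  simp

/-- For a subnormal subgroup `S` of a finite group, `F(S) = F(G) ∩ S`. -/
theorem fitting_map_subtype_of_subnormal [Finite G] {S : Subgroup G} (hS : S.IsSubnormal) :
    (Cfsg.fittingSubgroup ↥S).map S.subtype = Cfsg.fittingSubgroup G ⊓ S := by
  refine le_antisymm (le_inf ?_ (Subgroup.map_subtype_le _)) ?_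
  · refine subnormal_nilpotent_le_fitting ((fitting_normal (G := ↥S)).isSubnormal.trans' hS) ?_
    have := fitting_isNilpotent (G := ↥S)
    exact Group.nilpotent_of_mulEquiv
      ((Cfsg.fittingSubgroup ↥S).equivMapOfInjective S.subtype S.subtype_injective)
  · have hn : ((Cfsg.fittingSubgroup G).subgroupOf S).Normal := (fitting_normal (G := G)).subgroupOf S
    have hnil : Group.IsNilpotent ↥((Cfsg.fittingSubgroup G).subgroupOf S) := by
      refine isNilpotent_of_injective
        ((S.subtype.comp ((Cfsg.fittingSubgroup G).subgroupOf S).subtype).codRestrict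
          (Cfsg.fittingSubgroup G) (fun x => Subgroup.mem_subgroupOf.mp x.2)) ?_ fitting_isNilpotent
      intro x y hxy
      have := congrArg Subtype.val hxy
      exact Subtype.ext (Subtype.ext this)
    have hle : (Cfsg.fittingSubgroup G).subgroupOf S ≤ Cfsg.fittingSubgroup ↥S :=
      le_sSup ⟨hn, hnil⟩
    calc Cfsg.fittingSubgroup G ⊓ S = ((Cfsg.fittingSubgroup G).subgroupOf S).map S.subtype :=
          (Subgroup.subgroupOf_map_subtype _ _).symm
      _ ≤ _ := Subgroup.map_mono hle


/-- A subnormal subgroup `S` of `F*(G)` is the product of the components of `G` it contains and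
`F(G) ∩ S`. -/
theorem subnormal_le_genFitting_decomp {S : Subgroup G}
    (hS : S ≤ Cfsg.generalizedFittingSubgroup G) (hsn : S.IsSubnormal) :
    S ≤ sSup {L : Subgroup G | Cfsg.IsComponent L ∧ L ≤ S} ⊔ (Cfsg.fittingSubgroup G ⊓ S) := by
  set EA := sSup {L : Subgroup G | Cfsg.IsComponent L ∧ L ≤ S} with hEAdef
  set EB := sSup {L : Subgroup G | Cfsg.IsComponent L ∧ ⁅L, S⁆ = ⊥} with hEBdef
  set F := Cfsg.fittingSubgroup G with hFdef
  have hEA : EA ≤ S := sSup_le fun L hL => hL.2
  have hEB : EB ≤ centralizer (S : Set G) :=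
    sSup_le fun L hL => commutator_eq_bot_iff_le_centralizer.mp hL.2
  have hE : Cfsg.layer G ≤ EA ⊔ EB := by
    refine layer_le fun L hL => ?_
    rcases component_subnormal_dichotomy hL.1 hL.2 hsn with h | h
    · exact (le_sSup (show L ∈ {L : Subgroup G | Cfsg.IsComponent L ∧ L ≤ S} from ⟨hL, h⟩)).trans
        le_sup_left
    · exact (le_sSup (show L ∈ {L : Subgroup G | Cfsg.IsComponent L ∧ ⁅L, S⁆ = ⊥} from ⟨hL, h⟩)).trans
        le_sup_right
  have hEBE : EB ≤ Cfsg.layer G := sSup_le fun L hL => component_le_layer hL.1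
  have hSEB : S ≤ centralizer (EB : Set G) := Subgroup.le_centralizer_iff.mp hEB
  have hEF : Cfsg.layer G ≤ centralizer (F : Set G) :=
    commutator_eq_bot_iff_le_centralizer.mp layer_commute_fitting
  have hnorm : EA ≤ normalizer ((EB ⊔ F : Subgroup G) : Set G) := by
    refine le_trans ?_ (Subgroup.normalizer_inf_normalizer_le_normalizer_sup EB F)
    refine le_inf ?_ ?_
    · exact (hEA.trans hSEB).trans (Subgroup.centralizer_le_normalizer _)
    · rw [Subgroup.normalizer_eq_top]
      exact le_top
  intro s hs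
  have h1 : s ∈ EA ⊔ (EB ⊔ F) := by
    have : s ∈ Cfsg.layer G ⊔ F := hS hs
    rw [← sup_assoc]
    exact (sup_le_sup_right hE F) this
  obtain ⟨a, ha, b, hb, rfl⟩ := (mem_sup_of_le_normalizer hnorm).mp h1
  have hbS : b ∈ S := by
    have := S.mul_mem (S.inv_mem (hEA ha)) hs
    simpa using this
  obtain ⟨c, hc, f, hf, rfl⟩ := Subgroup.mem_sup_of_normal_right.mp hb
  -- `c` centralizes the layer
  have hcE : Cfsg.layer G ≤ centralizer ({c} : Set G) := by
    refine hE.trans (sup_le ?_ ?_)
    · intro x hx
      rw [Subgroup.mem_centralizer_singleton_iff]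
      have h2 : c ∈ centralizer (S : Set G) := hEB hc
      exact (Subgroup.mem_centralizer_iff.mp h2) x (hEA hx)
    · intro x hx
      rw [Subgroup.mem_centralizer_singleton_iff]
      have h2 : x * (c * f) = (c * f) * x :=
        ((Subgroup.mem_centralizer_iff.mp (hEB hx)) (c * f) hbS).symm
      have h3 : f * x = x * f := (Subgroup.mem_centralizer_iff.mp (hEF (hEBE hx))) f hf
      have h4 : x * c * f = c * x * f := by
        calc x * c * f = x * (c * f) := mul_assoc _ _ _
          _ = c * f * x := h2
          _ = c * (f * x) := mul_assoc _ _ _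
          _ = c * (x * f) := by rw [h3]
          _ = c * x * f := (mul_assoc _ _ _).symm
      exact mul_right_cancel h4
  have hcF : c ∈ F := by
    have h2 : c ∈ Cfsg.layer G ⊓ centralizer (Cfsg.layer G : Set G) := by
      refine Subgroup.mem_inf.mpr ⟨hEBE hc, ?_⟩
      rw [Subgroup.mem_centralizer_iff]
      intro x hx
      exact (Subgroup.mem_centralizer_singleton_iff.mp (hcE hx))
    rw [← map_center_subtype, center_layer_eq] at h2
    exact h2.1
  exact Subgroup.mul_mem_sup ha (Subgroup.mem_inf.mpr ⟨F.mul_mem hcF hf, hbS⟩)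


/-- The components of `G` contained in a subgroup `S` lie in the image of `E(S)`. -/
theorem sSup_components_le_layer_map (S : Subgroup G) :
    sSup {L : Subgroup G | Cfsg.IsComponent L ∧ L ≤ S} ≤ (Cfsg.layer ↥S).map S.subtype := by
  refine sSup_le ?_
  rintro L ⟨hL, hLS⟩
  have h1 : L.subgroupOf S ≤ Cfsg.layer ↥S := component_le_layer (isComponent_subgroupOf hL hLS)
  calc L = (L.subgroupOf S).map S.subtype := (Subgroup.map_subgroupOf_eq_of_le hLS).symm
    _ ≤ _ := Subgroup.map_mono h1

/-- A subnormal subgroup `S` of `F*(G)` satisfies `S = F(S) E(S)`. -/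
theorem fitting_sup_layer_eq_top [Finite G] {S : Subgroup G}
    (hS : S ≤ Cfsg.generalizedFittingSubgroup G) (hsn : S.IsSubnormal) :
    Cfsg.fittingSubgroup ↥S ⊔ Cfsg.layer ↥S = ⊤ := by
  rw [eq_top_iff]
  intro s _
  have h1 : (s : G) ∈ (Cfsg.layer ↥S).map S.subtype ⊔ (Cfsg.fittingSubgroup ↥S).map S.subtype := by
    rw [fitting_map_subtype_of_subnormal hsn]
    exact (sup_le_sup_right (sSup_components_le_layer_map S) _)
      (subnormal_le_genFitting_decomp hS hsn s.2)
  rw [← Subgroup.map_sup] at h1
  obtain ⟨t, ht, hts⟩ := h1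
  have : t = s := Subtype.ext hts
  rw [← this, sup_comm]
  exact ht


/-- For a normal subgroup `B` of a finite group, `F*(G) ∩ B = F*(B)`. -/
theorem genFitting_inf_normal [Finite G] (B : Subgroup G) [hB : B.Normal] :
    Cfsg.generalizedFittingSubgroup G ⊓ B = (Cfsg.generalizedFittingSubgroup ↥B).map B.subtype := by
  have hBsn : B.IsSubnormal := hB.isSubnormal
  have hmap : (Cfsg.generalizedFittingSubgroup ↥B).map B.subtype
      = (Cfsg.layer ↥B).map B.subtype ⊔ (Cfsg.fittingSubgroup G ⊓ B) := by
    unfold Cfsg.generalizedFittingSubgroup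
    rw [Subgroup.map_sup, fitting_map_subtype_of_subnormal hBsn]
  rw [hmap]
  refine le_antisymm ?_ ?_
  · have hSsn : (Cfsg.generalizedFittingSubgroup G ⊓ B).IsSubnormal :=
      (inferInstance : (Cfsg.generalizedFittingSubgroup G ⊓ B).Normal).isSubnormal
    refine (subnormal_le_genFitting_decomp inf_le_left hSsn).trans (sup_le_sup ?_ ?_)
    · refine le_trans (sSup_le_sSup ?_) (sSup_components_le_layer_map B)
      rintro L ⟨hL, hLS⟩
      exact ⟨hL, hLS.trans inf_le_right⟩
    · exact inf_le_inf_left _ inf_le_right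
  · refine sup_le (le_inf ?_ (Subgroup.map_subtype_le _)) (inf_le_inf_right _ fitting_le_genFitting)
    exact (layer_map_subtype_le hBsn).trans layer_le_genFitting

end Cfsg.Agent.Lib.Helper30
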