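import Cfsg.Agent.Lib.Helper30.Components

set_option autoImplicit false

namespace Cfsg.Agent.Lib.Helper30

open Subgroup
open scoped commutatorElement

variable {G : Type*} [Group G]

theorem component_perfect {K : Subgroup G} (hK : Cfsg.IsComponent K) : ⁅K, K⁆ = K :=
  (qs_subgroup hK.2).1

theorem component_ne_bot {K : Subgroup G} (hK : Cfsg.IsComponent K) : K ≠ ⊥ :=
  (qs_subgroup hK.2).2.1

theorem component_le_layer {K : Subgroup G} (hK : Cfsg.IsComponent K) : K ≤ Cfsg.layer G :=
  le_sSup hK

/-- The image of a component under a group isomorphism is a component. -/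
theorem isComponent_map_equiv {G' : Type*} [Group G'] (e : G ≃* G') {K : Subgroup G}
    (hK : Cfsg.IsComponent K) : Cfsg.IsComponent (K.map e.toMonoidHom) :=
  ⟨hK.1.map e.surjective, isQuasisimple_of_mulEquiv (e.subgroupMap K) hK.2⟩

theorem isComponent_conj (g : G) {K : Subgroup G} (hK : Cfsg.IsComponent K) :
    Cfsg.IsComponent (K.map (MulAut.conj g).toMonoidHom) :=
  isComponent_map_equiv (MulAut.conj g) hK

/-- The layer is mapped into the layer by an isomorphism. -/
theorem layer_map_equiv_le {G' : Type*} [Group G'] (e : G ≃* G') :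
    (Cfsg.layer G).map e.toMonoidHom ≤ Cfsg.layer G' := by
  unfold Cfsg.layer
  rw [sSup_eq_iSup', Subgroup.map_iSup]
  refine iSup_le ?_
  rintro ⟨K, hK⟩
  exact le_sSup (isComponent_map_equiv e hK)

theorem layer_map_equiv {G' : Type*} [Group G'] (e : G ≃* G') :
    (Cfsg.layer G).map e.toMonoidHom = Cfsg.layer G' := by
  refine le_antisymm (layer_map_equiv_le e) ?_
  have h := layer_map_equiv_le e.symm
  intro x hx
  have h1 := h (Subgroup.mem_map_of_mem _ hx)
  refine ⟨e.symm x, h1, ?_⟩
  simp

instance layer_normal : (Cfsg.layer G).Normal := by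
  refine ⟨fun n hn g => ?_⟩
  have := layer_map_equiv_le (MulAut.conj g) (Subgroup.mem_map_of_mem _ hn)
  simpa using this

theorem layer_perfect : ⁅Cfsg.layer G, Cfsg.layer G⁆ = Cfsg.layer G := by
  refine le_antisymm (Subgroup.commutator_le_self _) ?_
  unfold Cfsg.layer
  refine sSup_le ?_
  intro K hK
  calc K = ⁅K, K⁆ := (component_perfect hK).symm
    _ ≤ _ := commutator_mono (le_sSup hK) (le_sSup hK)

/-- A component is not solvable. -/
theorem component_not_le_solvable {K N : Subgroup G} (hK : Cfsg.IsComponent K)
    (hN : Group.IsSolvable ↥N) : ¬ K ≤ N := by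
  intro h
  have h1 : Group.IsSolvable ↥K :=
    Group.isSolvable_of_isSolvable_injective (f := Subgroup.inclusion h) (Subgroup.inclusion_injective h)
  have h2 : Group.IsPerfect ↥K := hK.2.1
  have h3 : Nontrivial ↥K := qs_nontrivial hK.2
  exact Group.IsPerfect.not_isSolvable ↥K h1

/-- A component commutes with every solvable subnormal subgroup. -/
theorem component_commute_solvable {K N : Subgroup G} (hK : Cfsg.IsComponent K)
    (hN : N.IsSubnormal) (hs : Group.IsSolvable ↥N) : ⁅K, N⁆ = ⊥ := by
  rcases component_subnormal_dichotomy hK.1 hK.2 hN with h | h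
  · exact absurd h (component_not_le_solvable hK hs)
  · exact h

/-- Distinct components commute. -/
theorem component_commute {K K' : Subgroup G} (hK : Cfsg.IsComponent K)
    (hK' : Cfsg.IsComponent K') (hne : K ≠ K') : ⁅K, K'⁆ = ⊥ := by
  rcases component_subnormal_dichotomy hK.1 hK.2 hK'.1 with h | h
  · rcases component_subnormal_dichotomy hK'.1 hK'.2 hK.1 with h' | h'
    · exact absurd (le_antisymm h h') hne
    · rw [commutator_comm]; exact h'
  · exact h

/-- If every component lies in a subgroup, so does the layer. -/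
theorem layer_le {H : Subgroup G} (h : ∀ K : Subgroup G, Cfsg.IsComponent K → K ≤ H) :
    Cfsg.layer G ≤ H :=
  sSup_le fun K hK => h K hK

/-- The layer commutes with every subgroup that commutes with all components. -/
theorem layer_commute {H : Subgroup G} (h : ∀ K : Subgroup G, Cfsg.IsComponent K → ⁅K, H⁆ = ⊥) :
    ⁅Cfsg.layer G, H⁆ = ⊥ := by
  rw [commutator_eq_bot_iff_le_centralizer]
  exact layer_le fun K hK => commutator_eq_bot_iff_le_centralizer.mp (h K hK)

/-- The layer commutes with every solvable subnormal subgroup. -/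
theorem layer_commute_solvable {N : Subgroup G} (hN : N.IsSubnormal) (hs : Group.IsSolvable ↥N) :
    ⁅Cfsg.layer G, N⁆ = ⊥ :=
  layer_commute fun _ hK => component_commute_solvable hK hN hs

/-- The layer commutes with the Fitting subgroup. -/
theorem layer_commute_fitting : ⁅Cfsg.layer G, Cfsg.fittingSubgroup G⁆ = ⊥ := by
  rw [commutator_comm, commutator_eq_bot_iff_le_centralizer]
  unfold Cfsg.fittingSubgroup
  refine sSup_le ?_
  rintro N ⟨hNn, hNnil⟩
  rw [← commutator_eq_bot_iff_le_centralizer, commutator_comm]
  have : Group.IsSolvable ↥N := IsNilpotent.to_isSolvable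
  exact layer_commute_solvable hNn.isSubnormal this


/-- A component of a subnormal subgroup is a component of the whole group. -/
theorem isComponent_map_subtype {A : Subgroup G} (hA : A.IsSubnormal) {K : Subgroup ↥A}
    (hK : Cfsg.IsComponent K) : Cfsg.IsComponent (K.map A.subtype) :=
  ⟨hK.1.trans' hA,
    isQuasisimple_of_mulEquiv (K.equivMapOfInjective A.subtype A.subtype_injective) hK.2⟩

/-- A component of the whole group contained in a subgroup `A` is a component of `A`. -/
theorem isComponent_subgroupOf {A K : Subgroup G} (hK : Cfsg.IsComponent K) (hKA : K ≤ A) :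
    Cfsg.IsComponent (K.subgroupOf A) :=
  ⟨hK.1.subgroupOf, isQuasisimple_of_mulEquiv (Subgroup.subgroupOfEquivOfLe hKA).symm hK.2⟩

theorem layer_map_subtype_le {A : Subgroup G} (hA : A.IsSubnormal) :
    (Cfsg.layer ↥A).map A.subtype ≤ Cfsg.layer G := by
  unfold Cfsg.layer
  rw [sSup_eq_iSup', Subgroup.map_iSup]
  refine iSup_le ?_
  rintro ⟨K, hK⟩
  exact le_sSup (isComponent_map_subtype hA hK)

/-- A component normalizes every subnormal subgroup. -/
theorem component_le_normalizer {K A : Subgroup G} (hK : Cfsg.IsComponent K) (hA : A.IsSubnormal) :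
    K ≤ normalizer (A : Set G) := by
  rcases component_subnormal_dichotomy hK.1 hK.2 hA with h | h
  · exact h.trans Subgroup.le_normalizer
  · exact (commutator_eq_bot_iff_le_centralizer.mp h).trans (Subgroup.centralizer_le_normalizer _)

/-- The layer normalizes every subnormal subgroup. -/
theorem layer_le_normalizer {A : Subgroup G} (hA : A.IsSubnormal) :
    Cfsg.layer G ≤ normalizer (A : Set G) :=
  layer_le fun _ hK => component_le_normalizer hK hA


/-- The centre of a subgroup, viewed in the ambient group. -/
theorem map_center_subtype (H : Subgroup G) :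
    (center ↥H).map H.subtype = H ⊓ centralizer (H : Set G) := by
  ext x
  rw [Subgroup.mem_map, Subgroup.mem_inf]
  constructor
  · rintro ⟨y, hy, rfl⟩
    refine ⟨y.2, ?_⟩
    rw [Subgroup.mem_centralizer_iff]
    intro h hh
    have := Subgroup.mem_center_iff.mp hy ⟨h, hh⟩
    exact congrArg Subtype.val this
  · rintro ⟨hxH, hxc⟩
    refine ⟨⟨x, hxH⟩, ?_, rfl⟩
    rw [Subgroup.mem_center_iff]
    intro g
    exact Subtype.ext ((Subgroup.mem_centralizer_iff.mp hxc) g g.2)

/-- A normal commutative subgroup lies in the Fitting subgroup. -/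
theorem le_fitting_of_normal_comm {N : Subgroup G} (hN : N.Normal) (hc : IsMulCommutative ↥N) :
    N ≤ Cfsg.fittingSubgroup G := by
  refine le_sSup ⟨hN, ?_⟩
  let _ : CommGroup ↥N := { (inferInstance : Group ↥N) with mul_comm := hc.is_comm.comm }
  exact CommGroup.isNilpotent

/-- `Z(E(G)) = F(G) ∩ E(G)`. -/
theorem center_layer_eq : (center ↥(Cfsg.layer G)).map (Cfsg.layer G).subtype
    = Cfsg.fittingSubgroup G ⊓ Cfsg.layer G := by
  rw [map_center_subtype]
  refine le_antisymm ?_ ?_
  · refine le_inf ?_ inf_le_left
    have hn : (Cfsg.layer G ⊓ centralizer (Cfsg.layer G : Set G)).Normal := inferInstance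
    refine le_fitting_of_normal_comm hn ?_
    rw [← Subgroup.le_centralizer_iff_isMulCommutative]
    exact inf_le_right.trans (Subgroup.centralizer_le inf_le_left)
  · refine le_inf inf_le_right (inf_le_left.trans ?_)
    rw [← commutator_eq_bot_iff_le_centralizer, commutator_comm]
    exact layer_commute_fitting

end Cfsg.Agent.Lib.Helper30
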