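import Mathlib
import Cfsg.Prelude.Def_Local
import Cfsg.Agent.S0022
import Cfsg.Agent.S0023

set_option autoImplicit false
set_option linter.style.haveILetI false
set_option linter.unusedSectionVars false

namespace Cfsg.Agent.Lib.Helper30

open Subgroup
open scoped commutatorElement

section Abstract

variable {V Γ : Type*} [CommGroup V] [Group Γ] [MulDistribMulAction Γ V]
variable (p : ℕ) [hp : Fact p.Prime]

theorem pow_val_add {c : Γ} (hc : c ^ p = 1) (k l : ZMod p) :
    c ^ (k + l).val = c ^ k.val * c ^ l.val := by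
  rw [ZMod.val_add, ← pow_add, ← pow_eq_pow_mod _ hc]

theorem pow_val_mul {c : Γ} (hc : c ^ p = 1) (k l : ZMod p) :
    c ^ (k * l).val = (c ^ k.val) ^ l.val := by
  rw [ZMod.val_mul, ← pow_mul, ← pow_eq_pow_mod _ hc]

/-- The norm of `v` with respect to an element `c` with `c ^ p = 1`. -/
noncomputable def nrm (c : Γ) (v : V) : V := ∏ k : ZMod p, (c ^ k.val) • v

theorem nrm_fixed {c : Γ} (hc : c ^ p = 1) (v : V) : c • nrm p c v = nrm p c v := by
  unfold nrm
  rw [Finset.smul_prod']
  have h1 : ∀ k : ZMod p, c • (c ^ k.val) • v = (c ^ (1 + k).val) • v := by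
    intro k
    rw [pow_val_add p hc, ZMod.val_one, pow_one, mul_smul]
  simp_rw [h1]
  exact Fintype.prod_equiv (Equiv.addLeft (1 : ZMod p)) _ _ (fun k => rfl)

theorem abstract_section [Finite V] (hpV : ¬ p ∣ Nat.card V) (a b : Γ) (hcomm : Commute a b)
    (ha : a ^ p = 1)
    (hb : b ^ p = 1) (h1 : ∀ v : V, a • v = v → v = 1)
    (h2 : ∀ i : ZMod p, ∀ v : V, (a ^ i.val * b) • v = v → v = 1) : ∀ v : V, v = 1 := by
  intro v
  have hab : ∀ i : ZMod p, (a ^ i.val * b) ^ p = 1 := by
    intro i
    rw [(hcomm.pow_left _).mul_pow, ← pow_mul, Nat.mul_comm, pow_mul, ha, one_pow, hb, one_mul]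
  have hna : nrm p a v = 1 := h1 _ (nrm_fixed p ha v)
  have hnab : ∀ i : ZMod p, nrm p (a ^ i.val * b) v = 1 := fun i => h2 i _ (nrm_fixed p (hab i) v)
  have key : ∏ i : ZMod p, nrm p (a ^ i.val * b) v = v ^ p := by
    unfold nrm
    rw [Finset.prod_comm]
    rw [Finset.prod_eq_single (0 : ZMod p)]
    · simp [ZMod.val_zero]
    · intro k _ hk
      have h3 : ∀ i : ZMod p, ((a ^ i.val * b) ^ k.val) • v = (b ^ k.val) • ((a ^ (i * k).val) • v) := by
        intro i
        rw [(hcomm.pow_left _).mul_pow, pow_val_mul p ha,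
          ((hcomm.pow_left _).pow_left _).pow_right _ |>.eq, mul_smul]
      simp_rw [h3]
      rw [← Finset.smul_prod']
      have h4 : ∏ i : ZMod p, (a ^ (i * k).val) • v = nrm p a v := by
        unfold nrm
        exact Fintype.prod_equiv (Equiv.mulRight₀ k hk) _ _ (fun i => rfl)
      rw [h4, hna, smul_one]
    · intro h
      exact absurd (Finset.mem_univ _) h
  have hvp : v ^ p = 1 := by
    rw [← key]
    exact Finset.prod_eq_one (fun i _ => hnab i)
  have hd1 : orderOf v ∣ p := orderOf_dvd_of_pow_eq_one hvp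
  have hd2 : orderOf v ∣ Nat.card V := orderOf_dvd_natCard v
  rcases (Nat.dvd_prime hp.out).mp hd1 with h | h
  · exact orderOf_eq_one_iff.mp h
  · exact absurd (h ▸ hd2) hpV

end Abstract


section Quotient

variable {Γ G : Type*} [Group Γ] [Group G] [MulDistribMulAction Γ G]

theorem quotientAction_aux (N : Subgroup G)
    (hN : ∀ (c : Γ) (n : G), n ∈ N → c • n ∈ N) (c : Γ) :
    N ≤ N.comap (MulDistribMulAction.toMonoidHom G c) :=
  fun n hn => Subgroup.mem_comap.mpr (hN c n hn)

/-- The action induced on the quotient by an invariant normal subgroup. -/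
@[reducible] def quotientAction (N : Subgroup G) [N.Normal]
    (hN : ∀ (c : Γ) (n : G), n ∈ N → c • n ∈ N) : MulDistribMulAction Γ (G ⧸ N) where
  smul c := QuotientGroup.map N N (MulDistribMulAction.toMonoidHom G c) (quotientAction_aux N hN c)
  one_smul v := by
    induction v using QuotientGroup.induction_on with
    | H x =>
      show QuotientGroup.map N N (MulDistribMulAction.toMonoidHom G (1 : Γ)) _ (x : G ⧸ N) = _
      rw [QuotientGroup.map_mk]
      simp
  mul_smul c d v := by
    induction v using QuotientGroup.induction_on with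
    | H x =>
      show QuotientGroup.map N N (MulDistribMulAction.toMonoidHom G (c * d)) _ (x : G ⧸ N) =
        QuotientGroup.map N N (MulDistribMulAction.toMonoidHom G c) _
          (QuotientGroup.map N N (MulDistribMulAction.toMonoidHom G d) _ (x : G ⧸ N))
      rw [QuotientGroup.map_mk, QuotientGroup.map_mk, QuotientGroup.map_mk]
      simp [mul_smul]
  smul_mul c u v := map_mul (QuotientGroup.map N N (MulDistribMulAction.toMonoidHom G c) (quotientAction_aux N hN c)) u v
  smul_one c := map_one (QuotientGroup.map N N (MulDistribMulAction.toMonoidHom G c) (quotientAction_aux N hN c))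

theorem quotientAction_smul_mk (N : Subgroup G) [N.Normal]
    (hN : ∀ (c : Γ) (n : G), n ∈ N → c • n ∈ N) (c : Γ) (x : G) :
    letI := quotientAction N hN
    c • (x : G ⧸ N) = ((c • x : G) : G ⧸ N) := rfl

end Quotient

section Concrete

/-- Commutative group structure on a quotient by a subgroup containing the commutator. -/
@[reducible] def commGroupQuot {G : Type*} [Group G] (N : Subgroup G) [N.Normal]
    (h : ∀ x y : G, (x * y)⁻¹ * (y * x) ∈ N) : CommGroup (G ⧸ N) :=
  { (inferInstance : Group (G ⧸ N)) with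
    mul_comm := by
      intro u v
      induction u using QuotientGroup.induction_on with
      | H x =>
        induction v using QuotientGroup.induction_on with
        | H y =>
          rw [← QuotientGroup.mk_mul, ← QuotientGroup.mk_mul, QuotientGroup.eq]
          exact h x y }

theorem section_trivial {H : Type*} [Group H] [Finite H] (p : ℕ) [Fact p.Prime]
    (A X N : Subgroup H)
    (hAX : A ≤ normalizer (X : Set H)) (hAN : A ≤ normalizer (N : Set H))
    (hNX : N ≤ X) (hXN : X ≤ normalizer (N : Set H)) (hcomm : ⁅X, X⁆ ≤ N)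
    (hcop : (Nat.card A).Coprime (Nat.card X)) (hpX : ¬ p ∣ Nat.card X)
    (a b : H) (ha : a ∈ A) (hb : b ∈ A) (hab : a * b = b * a) (hap : a ^ p = 1) (hbp : b ^ p = 1)
    (h1 : X ⊓ centralizer {a} ≤ N) (h2 : ∀ i : ZMod p, X ⊓ centralizer {a ^ i.val * b} ≤ N) :
    X ≤ N := by
  classical
  haveI hN'n : (N.subgroupOf X).Normal := by
    rw [← Subgroup.normal_subgroupOf_iff_le_normalizer hNX] at hXN
    exact hXN
  have hcomm' : ∀ x y : ↥X, (x * y)⁻¹ * (y * x) ∈ N.subgroupOf X := by
    intro x y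
    rw [Subgroup.mem_subgroupOf]
    apply hcomm
    have : ((x * y)⁻¹ * (y * x) : ↥X).1 = ⁅(y⁻¹ : H), (x⁻¹ : H)⁆ := by
      simp [commutatorElement_def, mul_assoc]
    rw [this]
    exact Subgroup.commutator_mem_commutator (X.inv_mem y.2) (X.inv_mem x.2)
  letI cg : CommGroup (↥X ⧸ N.subgroupOf X) := commGroupQuot (N.subgroupOf X) hcomm'
  letI act1 : MulDistribMulAction ↥A ↥X :=
    MulDistribMulAction.compHom ↥X (Subgroup.inclusion hAX)
  have hact1 : ∀ (c : ↥A) (x : ↥X), ((c • x : ↥X) : H) = (c : H) * x * (c : H)⁻¹ := fun c x => rfl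
  have hinv : ∀ (c : ↥A) (n : ↥X), n ∈ N.subgroupOf X → c • n ∈ N.subgroupOf X := by
    intro c n hn
    rw [Subgroup.mem_subgroupOf] at hn ⊢
    rw [hact1]
    exact ((hAN c.2) n.1).mp hn
  letI act2 : MulDistribMulAction ↥A (↥X ⧸ N.subgroupOf X) := quotientAction (N.subgroupOf X) hinv
  have hact2 : ∀ (c : ↥A) (x : ↥X), c • (x : ↥X ⧸ N.subgroupOf X) = ((c • x : ↥X) : ↥X ⧸ N.subgroupOf X) :=
    fun c x => rfl
  -- fixed points are trivial
  have hfix : ∀ c : ↥A, X ⊓ centralizer {(c : H)} ≤ N → ∀ v : ↥X ⧸ N.subgroupOf X, c • v = v → v = 1 := by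
    intro c hc v hv
    induction v using QuotientGroup.induction_on with
    | H x =>
      rw [QuotientGroup.eq_one_iff, Subgroup.mem_subgroupOf]
      have hstab : ∀ g ∈ zpowers (c : H), g * x * g⁻¹ * (x : H)⁻¹ ∈ N := by
        intro g hg
        obtain ⟨k, rfl⟩ := Subgroup.mem_zpowers_iff.mp hg
        have h3 : (c ^ k) • (x : ↥X ⧸ N.subgroupOf X) = x := by
          have : c ^ k ∈ MulAction.stabilizer ↥A (x : ↥X ⧸ N.subgroupOf X) :=
            Subgroup.zpow_mem _ (MulAction.mem_stabilizer_iff.mpr hv) k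
          exact MulAction.mem_stabilizer_iff.mp this
        rw [hact2, eq_comm, QuotientGroup.eq, Subgroup.mem_subgroupOf] at h3
        have h4 : (x : H)⁻¹ * ((c : H) ^ k * x * ((c : H) ^ k)⁻¹) ∈ N := by
          have h5 : ((x⁻¹ * (c ^ k) • x : ↥X) : H) = (x : H)⁻¹ * ((c : H) ^ k * x * ((c : H) ^ k)⁻¹) := by
            rw [Subgroup.coe_mul, hact1]
            simp
          rw [← h5]
          exact h3
        have h5 := ((hXN x.2) _).mp h4
        simpa [mul_assoc] using h5
      obtain ⟨y, hy, hyN⟩ := Cfsg.Agent.S0022.result (zpowers (c : H)) X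
        ((Subgroup.zpowers_le.mpr c.2).trans hAX)
        (Nat.Coprime.coprime_dvd_left (Subgroup.card_dvd_of_le (Subgroup.zpowers_le.mpr c.2)) hcop)
        (Or.inl inferInstance) N hNX hXN ((Subgroup.zpowers_le.mpr c.2).trans hAN) x x.2 hstab
      have hyN2 : y ∈ N := by
        apply hc
        refine Subgroup.mem_inf.mpr ⟨hy.1, ?_⟩
        rw [Subgroup.mem_centralizer_iff]
        intro g hg
        rw [Set.mem_singleton_iff] at hg
        subst hg
        exact (Subgroup.mem_centralizer_iff.mp hy.2) _ (Subgroup.mem_zpowers _)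
      have : (x : H)⁻¹ ∈ N := by
        have := N.mul_mem hyN (N.inv_mem hyN2)
        simpa using this
      simpa using N.inv_mem this
  have hcard : ¬ p ∣ Nat.card (↥X ⧸ N.subgroupOf X) := by
    intro h
    exact hpX (h.trans (Subgroup.card_quotient_dvd_card _))
  have hap' : (⟨a, ha⟩ : ↥A) ^ p = 1 := Subtype.ext hap
  have hbp' : (⟨b, hb⟩ : ↥A) ^ p = 1 := Subtype.ext hbp
  have hab' : Commute (⟨a, ha⟩ : ↥A) ⟨b, hb⟩ := Subtype.ext hab
  have h2' : ∀ i : ZMod p, X ⊓ centralizer {(((⟨a, ha⟩ : ↥A) ^ i.val * ⟨b, hb⟩ : ↥A) : H)} ≤ N := h2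
  have hall : ∀ v : ↥X ⧸ N.subgroupOf X, v = 1 := by
    have := @abstract_section (↥X ⧸ N.subgroupOf X) ↥A cg _ act2 p _ _ hcard ⟨a, ha⟩ ⟨b, hb⟩ hab' hap' hbp'
    have h5 := hfix ⟨a, ha⟩ h1
    have h6 := this h5
    have h7 : ∀ i : ZMod p, ∀ v : ↥X ⧸ N.subgroupOf X, ((⟨a, ha⟩ : ↥A) ^ i.val * ⟨b, hb⟩) • v = v → v = 1 := by
      intro i
      have h8 := h2' i
      have h9 := hfix _ h8
      exact h9
    exact h6 h7
  intro x hx
  have := hall ((⟨x, hx⟩ : ↥X) : ↥X ⧸ N.subgroupOf X)
  rw [QuotientGroup.eq_one_iff, Subgroup.mem_subgroupOf] at this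
  exact this

end Concrete

section Gen

variable {H : Type*} [Group H]

theorem gen_map_conj_eq_of_mem_normalizer {K : Subgroup H} {g : H}
    (hg : g ∈ normalizer (K : Set H)) : K.map (MulAut.conj g).toMonoidHom = K := by
  ext x
  constructor
  · rintro ⟨y, hy, rfl⟩
    exact (hg y).mp hy
  · intro hx
    refine ⟨g⁻¹ * x * g, ?_, by simp [mul_assoc]⟩
    rw [hg (g⁻¹ * x * g)]
    simpa [mul_assoc] using hx

theorem gen_mem_normalizer_of_map_conj_le {K : Subgroup H} [Finite H] {g : H}
    (h : K.map (MulAut.conj g).toMonoidHom ≤ K) : g ∈ normalizer (K : Set H) := by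
  have heq : K.map (MulAut.conj g).toMonoidHom = K := by
    apply Subgroup.eq_of_le_of_card_ge h
    rw [Subgroup.card_map_of_injective (MulAut.conj g).injective]
  intro y
  constructor
  · intro hy
    rw [← heq]
    exact ⟨y, hy, rfl⟩
  · intro hy
    rw [← heq] at hy
    obtain ⟨z, hz, hzy⟩ := hy
    have : z = y := (MulAut.conj g).injective hzy
    rwa [← this]

theorem gen_le_normalizer_sup {A K₁ K₂ : Subgroup H} (h1 : A ≤ normalizer (K₁ : Set H))
    (h2 : A ≤ normalizer (K₂ : Set H)) [Finite H] : A ≤ normalizer ((K₁ ⊔ K₂ : Subgroup H) : Set H) := by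
  intro g hg
  apply gen_mem_normalizer_of_map_conj_le
  rw [Subgroup.map_sup, gen_map_conj_eq_of_mem_normalizer (h1 hg),
    gen_map_conj_eq_of_mem_normalizer (h2 hg)]

theorem gen_le_normalizer_iSup {ι : Sort*} {A : Subgroup H} {K : ι → Subgroup H}
    (h : ∀ i, A ≤ normalizer (K i : Set H)) [Finite H] :
    A ≤ normalizer ((⨆ i, K i : Subgroup H) : Set H) := by
  intro g hg
  apply gen_mem_normalizer_of_map_conj_le
  rw [Subgroup.map_iSup]
  exact iSup_mono (fun i => (gen_map_conj_eq_of_mem_normalizer (h i hg)).le)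

theorem gen_le_normalizer_commutator {A X : Subgroup H} (h : A ≤ normalizer (X : Set H)) [Finite H] :
    A ≤ normalizer ((⁅X, X⁆ : Subgroup H) : Set H) := by
  intro g hg
  apply gen_mem_normalizer_of_map_conj_le
  rw [Subgroup.map_commutator, gen_map_conj_eq_of_mem_normalizer (h hg)]

theorem gen_mem_normalizer_inf_centralizer {X : Subgroup H} {g c : H}
    (hg : g ∈ normalizer (X : Set H)) (hgc : g * c = c * g) [Finite H] :
    g ∈ normalizer ((X ⊓ centralizer {c} : Subgroup H) : Set H) := by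
  apply gen_mem_normalizer_of_map_conj_le
  rintro _ ⟨y, hy, rfl⟩
  have hy' := Subgroup.mem_inf.mp hy
  refine Subgroup.mem_inf.mpr ⟨(hg y).mp hy'.1, ?_⟩
  rw [Subgroup.mem_centralizer_iff]
  intro z hz
  rw [Set.mem_singleton_iff] at hz
  subst hz
  have h1 : z * y = y * z := (Subgroup.mem_centralizer_iff.mp hy'.2) z rfl
  show z * (g * y * g⁻¹) = g * y * g⁻¹ * z
  have h2 : g⁻¹ * z = z * g⁻¹ := by
    rw [eq_mul_inv_iff_mul_eq, mul_assoc, ← hgc, ← mul_assoc, inv_mul_cancel, one_mul]
  calc z * (g * y * g⁻¹) = g * (z * y) * g⁻¹ := by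
        rw [← mul_assoc, ← mul_assoc, ← hgc, mul_assoc g z y]
    _ = g * (y * z) * g⁻¹ := by rw [h1]
    _ = g * y * g⁻¹ * z := by
        simp only [mul_assoc]; rw [h2]

/-- The subgroup generated by the centralizers in `X` of `a` and of the `a ^ i * b`. -/
def genAB (p : ℕ) (X : Subgroup H) (a b : H) : Subgroup H :=
  (X ⊓ centralizer {a}) ⊔ ⨆ i : ZMod p, X ⊓ centralizer {a ^ i.val * b}

theorem genAB_mono (p : ℕ) {X₁ X₂ : Subgroup H} (h : X₁ ≤ X₂) (a b : H) :
    genAB p X₁ a b ≤ genAB p X₂ a b :=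
  sup_le_sup (inf_le_inf_right _ h) (iSup_mono fun _ => inf_le_inf_right _ h)

theorem genAB_le (p : ℕ) (X : Subgroup H) (a b : H) : genAB p X a b ≤ X :=
  sup_le inf_le_left (iSup_le fun _ => inf_le_left)

variable [Finite H] (p : ℕ) [hp : Fact p.Prime] (A : Subgroup H)
  (hAc : ∀ x ∈ A, ∀ y ∈ A, x * y = y * x) (hAp : ∀ x ∈ A, x ^ p = 1)

include hAc in
theorem genAB_normalized {X : Subgroup H} (hAX : A ≤ normalizer (X : Set H)) {a b : H}
    (ha : a ∈ A) (hb : b ∈ A) : A ≤ normalizer ((genAB p X a b : Subgroup H) : Set H) := by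
  refine gen_le_normalizer_sup ?_ (gen_le_normalizer_iSup fun i => ?_)
  · intro g hg
    exact gen_mem_normalizer_inf_centralizer (hAX hg) (hAc g hg a ha)
  · intro g hg
    exact gen_mem_normalizer_inf_centralizer (hAX hg)
      (hAc g hg _ (A.mul_mem (A.pow_mem ha _) hb))

include hAp in
theorem gen_isPGroup : IsPGroup p ↥A := by
  intro g
  refine ⟨1, ?_⟩
  rw [pow_one]
  exact Subtype.ext (hAp g g.2)

include hAp in
theorem gen_coprime {X : Subgroup H} (hpX : ¬ p ∣ Nat.card X) :
    (Nat.card A).Coprime (Nat.card X) := by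
  obtain ⟨n, hn⟩ := IsPGroup.iff_card.mp (gen_isPGroup p A hAp)
  rw [hn]
  exact Nat.Coprime.pow_left n ((Nat.Prime.coprime_iff_not_dvd hp.out).mpr hpX)

include hAc hAp in
theorem solv_gen {a b : H} (ha : a ∈ A) (hb : b ∈ A) :
    ∀ n : ℕ, ∀ X : Subgroup H, Nat.card X ≤ n → Group.IsSolvable ↥X → A ≤ normalizer (X : Set H) →
      ¬ p ∣ Nat.card X → X ≤ genAB p X a b := by
  intro n
  induction n with
  | zero =>
    intro X hX
    exact absurd hX (by have := Nat.card_pos (α := ↥X); omega)
  | succ n ih =>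
    intro X hXn hXs hAX hpX
    by_cases hbot : X = ⊥
    · rw [hbot]; exact bot_le
    · haveI : Nontrivial ↥X := (Subgroup.nontrivial_iff_ne_bot X).mpr hbot
      haveI := hXs
      have hlt : _root_.commutator ↥X < ⊤ := Group.IsSolvable.commutator_lt_top_of_nontrivial ↥X
      have hKX : ⁅X, X⁆ ≤ X := Subgroup.commutator_le_self X
      have hKne : ⁅X, X⁆ ≠ X := by
        intro h
        rw [← Subgroup.map_subtype_commutator] at h
        have h2 : (_root_.commutator ↥X).map X.subtype = (⊤ : Subgroup ↥X).map X.subtype := by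
          rw [h, ← MonoidHom.range_eq_map, Subgroup.range_subtype]
        exact hlt.ne (Subgroup.map_injective X.subtype_injective h2)
      have hKcard : Nat.card ↥(⁅X, X⁆ : Subgroup H) ≤ n := by
        by_contra hcon
        push Not at hcon
        exact hKne (Subgroup.eq_of_le_of_card_ge hKX (by omega))
      have hKs : Group.IsSolvable ↥(⁅X, X⁆ : Subgroup H) :=
        Group.isSolvable_of_isSolvable_injective (Subgroup.inclusion_injective hKX)
      have hAK := gen_le_normalizer_commutator hAX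
      have hpK : ¬ p ∣ Nat.card ↥(⁅X, X⁆ : Subgroup H) := fun h =>
        hpX (h.trans (Subgroup.card_dvd_of_le hKX))
      have hK := (ih _ hKcard hKs hAK hpK).trans (genAB_mono p hKX a b)
      have hNX := genAB_le p X a b
      have hXN : X ≤ normalizer ((genAB p X a b : Subgroup H) : Set H) := by
        rw [Subgroup.le_normalizer_iff_commutator_le_right]
        exact (Subgroup.commutator_mono le_rfl hNX).trans hK
      exact section_trivial p A X (genAB p X a b) hAX (genAB_normalized p A hAc hAX ha hb)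
        hNX hXN hK (gen_coprime p A hAp hpX) hpX a b ha hb (hAc a ha b hb) (hAp a ha) (hAp b hb)
        le_sup_left (fun i => le_sup_of_le_right (le_iSup (fun i : ZMod p => X ⊓ centralizer {a ^ i.val * b}) i))

include hAc hAp in
theorem gen_ab {a b : H} (ha : a ∈ A) (hb : b ∈ A) (X : Subgroup H)
    (hAX : A ≤ normalizer (X : Set H)) (hpX : ¬ p ∣ Nat.card X) : X ≤ genAB p X a b := by
  by_contra hcon
  have hne : ((genAB p X a b).subgroupOf X).index ≠ 1 := by
    intro h
    rw [Subgroup.index_eq_one, Subgroup.subgroupOf_eq_top] at h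
    exact hcon h
  obtain ⟨q, hq, hqdvd⟩ := Nat.exists_prime_and_dvd hne
  haveI : Fact q.Prime := ⟨hq⟩
  obtain ⟨Q, hQ⟩ := Cfsg.Agent.S0023.result A X hAX (gen_coprime p A hAp hpX)
    (Or.inl (isSolvable_of_comm (fun x y => Subtype.ext (hAc x x.2 y y.2)))) q
  have hQX : (Q : Subgroup ↥X).map X.subtype ≤ X := Subgroup.map_subtype_le _
  have hQp : IsPGroup q ↥((Q : Subgroup ↥X).map X.subtype) := Q.2.map X.subtype
  haveI hQn : Group.IsNilpotent ↥((Q : Subgroup ↥X).map X.subtype) := hQp.isNilpotent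
  have hQs : Group.IsSolvable ↥((Q : Subgroup ↥X).map X.subtype) := inferInstance
  have hpQ : ¬ p ∣ Nat.card ↥((Q : Subgroup ↥X).map X.subtype) := fun h =>
    hpX (h.trans (Subgroup.card_dvd_of_le hQX))
  have h1 := (solv_gen p A hAc hAp ha hb _ _ le_rfl hQs hQ hpQ).trans (genAB_mono p hQX a b)
  have h2 : (Q : Subgroup ↥X) ≤ (genAB p X a b).subgroupOf X := by
    intro z hz
    rw [Subgroup.mem_subgroupOf]
    exact h1 (Subgroup.mem_map_of_mem X.subtype hz)
  exact Q.not_dvd_index (hqdvd.trans (Subgroup.index_dvd_of_le h2))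

theorem gen_card_sup_zpowers_le (D : Subgroup H) (c : H) (hc : c ^ p = 1)
    (hcD : ∀ d ∈ D, c * d = d * c) :
    Nat.card ↥(D ⊔ zpowers c) ≤ p * Nat.card ↥D := by
  have hp0 : 0 < p := hp.out.pos
  have hmem : ∀ (d : ↥D) (k : Fin p), (d : H) * c ^ k.val ∈ D ⊔ zpowers c := fun d k =>
    Subgroup.mul_mem _ (Subgroup.mem_sup_left d.2)
      (Subgroup.mem_sup_right (Subgroup.pow_mem _ (Subgroup.mem_zpowers c) _))
  let f : ↥D × Fin p → ↥(D ⊔ zpowers c) := fun x => ⟨(x.1 : H) * c ^ x.2.val, hmem x.1 x.2⟩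
  have hf : Function.Surjective f := by
    rintro ⟨x, hx⟩
    have hnorm : D ≤ normalizer ((zpowers c : Subgroup H) : Set H) := by
      intro d hd
      apply gen_mem_normalizer_of_map_conj_le
      rintro _ ⟨z, hz, rfl⟩
      obtain ⟨k, rfl⟩ := Subgroup.mem_zpowers_iff.mp hz
      have : (MulAut.conj d).toMonoidHom (c ^ k) = c ^ k := by
        show d * c ^ k * d⁻¹ = c ^ k
        have h1 : Commute c d := hcD d hd
        rw [mul_inv_eq_iff_eq_mul]
        exact ((h1.zpow_left k).eq).symm
      rw [this]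
      exact Subgroup.mem_zpowers_iff.mpr ⟨k, rfl⟩
    have hx' : x ∈ ((D ⊔ zpowers c : Subgroup H) : Set H) := hx
    rw [Subgroup.coe_mul_of_left_le_normalizer_right D (zpowers c) hnorm, Set.mem_mul] at hx'
    obtain ⟨d, hd, z, hz, rfl⟩ := hx'
    have hfin : IsOfFinOrder c := isOfFinOrder_of_finite c
    rw [SetLike.mem_coe, ← mem_powers_iff_mem_zpowers, Submonoid.mem_powers_iff] at hz
    obtain ⟨m, rfl⟩ := hz
    refine ⟨(⟨d, hd⟩, ⟨m % p, Nat.mod_lt _ hp0⟩), ?_⟩
    apply Subtype.ext
    show d * c ^ (m % p) = d * c ^ m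
    rw [← pow_eq_pow_mod m hc]
  have := Nat.card_le_card_of_surjective f hf
  rw [Nat.card_prod, Nat.card_fin, mul_comm] at this
  exact this

include hAc hAp in
theorem gen_aux : ∀ n : ℕ, ∀ D X : Subgroup H, Nat.card A - Nat.card D ≤ n → D ≤ A →
    Nat.card D < Nat.card A → A ≤ normalizer (X : Set H) → ¬ p ∣ Nat.card X →
    D ≤ centralizer (X : Set H) →
    ∀ T : Subgroup H, (∀ B : Subgroup H, D ≤ B → B ≤ A → Nat.card A = p * Nat.card B →
      X ⊓ centralizer (B : Set H) ≤ T) → X ≤ T := by
  intro n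
  induction n with
  | zero =>
    intro D X h1 _ h2
    omega
  | succ n ih =>
    intro D X hn hDA hDlt hAX hpX hDX T hT
    by_cases hcase : Nat.card A = p * Nat.card D
    · have := hT D le_rfl hDA hcase
      refine le_trans (le_inf le_rfl ?_) this
      exact Subgroup.le_centralizer_iff.mp hDX
    · -- `p * |D| < |A|`
      have hlt : p * Nat.card D < Nat.card A := by
        have hA := gen_isPGroup p A hAp
        obtain ⟨k, hk⟩ := IsPGroup.iff_card.mp hA
        have hDp : IsPGroup p ↥D := hA.to_le hDA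
        obtain ⟨m, hm⟩ := IsPGroup.iff_card.mp hDp
        rw [hk, hm] at hDlt hcase ⊢
        have hmk : m < k := (Nat.pow_lt_pow_iff_right hp.out.one_lt).mp hDlt
        have : p ^ (m + 1) ≤ p ^ k := Nat.pow_le_pow_right hp.out.pos hmk
        rw [pow_succ, mul_comm] at this
        exact lt_of_le_of_ne this (Ne.symm hcase)
      have hpD : 0 < Nat.card D := Nat.card_pos
      obtain ⟨a, haA, haD⟩ : ∃ a ∈ A, a ∉ D := by
        by_contra hcon
        push Not at hcon
        have : Nat.card A ≤ Nat.card D := Subgroup.card_le_of_le hcon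
        omega
      obtain ⟨b, hbA, hbD⟩ : ∃ b ∈ A, b ∉ D ⊔ zpowers a := by
        by_contra hcon
        push Not at hcon
        have h1 : Nat.card A ≤ Nat.card ↥(D ⊔ zpowers a) := Subgroup.card_le_of_le hcon
        have h2 := gen_card_sup_zpowers_le p D a (hAp a haA) (fun d hd => hAc a haA d (hDA hd))
        omega
      have key : ∀ c ∈ A, c ∉ D → X ⊓ centralizer {c} ≤ T := by
        intro c hcA hcD
        have hD'A : D ⊔ zpowers c ≤ A := sup_le hDA (Subgroup.zpowers_le.mpr hcA)
        have hcard1 : Nat.card D < Nat.card ↥(D ⊔ zpowers c) := by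
          by_contra hcon
          push Not at hcon
          have := Subgroup.eq_of_le_of_card_ge (le_sup_left : D ≤ D ⊔ zpowers c) hcon
          exact hcD (this ▸ Subgroup.mem_sup_right (Subgroup.mem_zpowers c))
        have hcard2 := gen_card_sup_zpowers_le p D c (hAp c hcA) (fun d hd => hAc c hcA d (hDA hd))
        refine ih (D ⊔ zpowers c) (X ⊓ centralizer {c}) (by omega) hD'A (by omega) ?_ ?_ ?_ T ?_
        · intro g hg
          exact gen_mem_normalizer_inf_centralizer (hAX hg) (hAc g hg c hcA)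
        · exact fun h => hpX (h.trans (Subgroup.card_dvd_of_le inf_le_left))
        · refine sup_le (hDX.trans (Subgroup.centralizer_le ?_)) ?_
          · exact fun x hx => (Subgroup.mem_inf.mp hx).1
          · rw [Subgroup.zpowers_le, Subgroup.mem_centralizer_iff]
            intro x hx
            have := (Subgroup.mem_centralizer_iff.mp (Subgroup.mem_inf.mp hx).2) c rfl
            exact this.symm
        · intro B hDB hBA hBcard
          exact (inf_le_inf_right _ inf_le_left).trans (hT B (le_sup_left.trans hDB) hBA hBcard)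
      refine (gen_ab p A hAc hAp haA hbA X hAX hpX).trans (sup_le (key a haA haD) (iSup_le fun i => ?_))
      refine key _ (A.mul_mem (A.pow_mem haA _) hbA) ?_
      intro h
      apply hbD
      have : b = (a ^ i.val)⁻¹ * (a ^ i.val * b) := by simp
      rw [this]
      exact Subgroup.mul_mem _ (Subgroup.mem_sup_right (Subgroup.inv_mem _
        (Subgroup.pow_mem _ (Subgroup.mem_zpowers a) _))) (Subgroup.mem_sup_left h)

include hAc hAp in
/-- Coprime generation: a `p'`-group `X` normalized by a noncyclic elementary abelian `p`-group `A`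
is generated by the centralizers in `X` of the subgroups of index `p` in `A`. -/
theorem coprime_generation (hA2 : p ^ 2 ≤ Nat.card A) (X : Subgroup H)
    (hAX : A ≤ normalizer (X : Set H)) (hpX : ¬ p ∣ Nat.card X) (T : Subgroup H)
    (hT : ∀ B : Subgroup H, B ≤ A → B.relIndex A = p → X ⊓ centralizer (B : Set H) ≤ T) :
    X ≤ T := by
  refine gen_aux p A hAc hAp _ ⊥ X le_rfl bot_le ?_ hAX hpX bot_le T ?_
  · rw [Subgroup.card_bot]
    have : p ^ 2 ≥ 2 ^ 2 := Nat.pow_le_pow_left hp.out.two_le 2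
    omega
  · intro B _ hBA hcard
    apply hT B hBA
    have h1 : Nat.card B * B.relIndex A = Nat.card A := by
      rw [← Subgroup.relIndex_bot_left, ← Subgroup.relIndex_bot_left]
      exact Subgroup.relIndex_mul_relIndex _ _ _ bot_le hBA
    have hpB : 0 < Nat.card B := Nat.card_pos
    rw [hcard, mul_comm] at h1
    exact Nat.eq_of_mul_eq_mul_right hpB h1

end Gen

end Cfsg.Agent.Lib.Helper30
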