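import Cfsg.Agent.Lib.Helper30.Layer

set_option autoImplicit false

namespace Cfsg.Agent.Lib.Helper30

open Subgroup
open scoped commutatorElement

variable {G G' : Type*} [Group G] [Group G']

theorem pPrimeCore_map_equiv_le (p : ℕ) (e : G ≃* G') :
    (Cfsg.pPrimeCore p G).map e.toMonoidHom ≤ Cfsg.pPrimeCore p G' := by
  unfold Cfsg.pPrimeCore
  rw [sSup_eq_iSup', Subgroup.map_iSup]
  refine iSup_le ?_
  rintro ⟨N, hN, hc⟩
  refine le_sSup ⟨hN.map _ e.surjective, ?_⟩
  have : Nat.card ↥(N.map e.toMonoidHom) = Nat.card ↥N :=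
    Subgroup.card_map_of_injective e.injective
  rw [this]
  exact hc

theorem pPrimeCore_map_equiv (p : ℕ) (e : G ≃* G') :
    (Cfsg.pPrimeCore p G).map e.toMonoidHom = Cfsg.pPrimeCore p G' := by
  refine le_antisymm (pPrimeCore_map_equiv_le p e) ?_
  intro x hx
  have h1 := pPrimeCore_map_equiv_le p e.symm (Subgroup.mem_map_of_mem _ hx)
  exact ⟨e.symm x, h1, by simp⟩

/-- The isomorphism of quotients by the `p'`-cores induced by an isomorphism. -/
noncomputable def quotCoreEquiv (p : ℕ) (e : G ≃* G') :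
    (G ⧸ Cfsg.pPrimeCore p G) ≃* (G' ⧸ Cfsg.pPrimeCore p G') :=
  QuotientGroup.congr (Cfsg.pPrimeCore p G) (Cfsg.pPrimeCore p G') e (pPrimeCore_map_equiv p e)

theorem map_map_mk'_core (p : ℕ) (e : G ≃* G') (H : Subgroup G) :
    (H.map e.toMonoidHom).map (QuotientGroup.mk' (Cfsg.pPrimeCore p G'))
      = (H.map (QuotientGroup.mk' (Cfsg.pPrimeCore p G))).map (quotCoreEquiv p e).toMonoidHom := by
  rw [Subgroup.map_map, Subgroup.map_map]
  congr 1

/-- The image of a `p`-component under an isomorphism is a `p`-component. -/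
theorem isPComponent_map_equiv (p : ℕ) (e : G ≃* G') {K : Subgroup G}
    (hK : Cfsg.IsPComponent p K) : Cfsg.IsPComponent p (K.map e.toMonoidHom) := by
  obtain ⟨hsn, hcomp, hmin⟩ := hK
  refine ⟨hsn.map e.surjective, ?_, ?_⟩
  · rw [map_map_mk'_core]
    exact isComponent_map_equiv _ hcomp
  · intro H' hH'sn hH'le hH'eq
    set H := H'.comap e.toMonoidHom with hH
    have hH'map : H.map e.toMonoidHom = H' :=
      Subgroup.map_comap_eq_self_of_surjective e.surjective H'
    have h1 : H.IsSubnormal := hH'sn.comap _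
    have h2 : H ≤ K := by
      intro x hx
      have : e x ∈ K.map e.toMonoidHom := hH'le hx
      obtain ⟨y, hy, hyx⟩ := this
      have : y = x := e.injective hyx
      exact this ▸ hy
    have h3 : H.map (QuotientGroup.mk' (Cfsg.pPrimeCore p G))
        = K.map (QuotientGroup.mk' (Cfsg.pPrimeCore p G)) := by
      apply Subgroup.map_injective (quotCoreEquiv p e).injective
      have := hH'eq
      rw [← hH'map, map_map_mk'_core, map_map_mk'_core] at this
      exact this
    rw [← hH'map, hmin H h1 h2 h3]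

theorem pLayer_map_equiv_le (p : ℕ) (e : G ≃* G') :
    (Cfsg.pLayer p G).map e.toMonoidHom ≤ Cfsg.pLayer p G' := by
  unfold Cfsg.pLayer
  rw [sSup_eq_iSup', Subgroup.map_iSup]
  refine iSup_le ?_
  rintro ⟨K, hK⟩
  exact le_sSup (isPComponent_map_equiv p e hK)

instance pLayer_normal (p : ℕ) : (Cfsg.pLayer p G).Normal := by
  refine ⟨fun n hn g => ?_⟩
  have := pLayer_map_equiv_le p (MulAut.conj g) (Subgroup.mem_map_of_mem _ hn)
  simpa using this


/-- `O_{p'}` of a subgroup, viewed in the ambient group, commutes with isomorphisms. -/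
theorem core_map_subtype_map_equiv (p : ℕ) (e : G ≃* G') (C : Subgroup G) (C' : Subgroup G')
    (h : C' = C.map e.toMonoidHom) :
    (Cfsg.pPrimeCore p ↥C').map C'.subtype
      = ((Cfsg.pPrimeCore p ↥C).map C.subtype).map e.toMonoidHom := by
  subst h
  have h : (Cfsg.pPrimeCore p ↥C).map (e.subgroupMap C).toMonoidHom
      = Cfsg.pPrimeCore p ↥(C.map e.toMonoidHom) := pPrimeCore_map_equiv p (e.subgroupMap C)
  ext x
  constructor
  · rintro ⟨y, hy, rfl⟩
    rw [← h] at hy
    obtain ⟨z, hz, rfl⟩ := hy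
    exact ⟨z, ⟨z, hz, rfl⟩, rfl⟩
  · rintro ⟨_, ⟨z, hz, rfl⟩, rfl⟩
    refine ⟨e.subgroupMap C z, ?_, rfl⟩
    rw [← h]
    exact ⟨z, hz, rfl⟩

theorem centralizer_map_equiv (e : G ≃* G') (S : Subgroup G) :
    centralizer ((S.map e.toMonoidHom : Subgroup G') : Set G')
      = (centralizer (S : Set G)).map e.toMonoidHom := by
  ext x
  rw [Subgroup.mem_map, Subgroup.mem_centralizer_iff]
  constructor
  · intro h
    refine ⟨e.symm x, ?_, by simp⟩
    rw [Subgroup.mem_centralizer_iff]
    intro s hs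
    have := h (e s) (Subgroup.mem_map_of_mem _ hs)
    apply e.injective
    simpa using this
  · rintro ⟨y, hy, rfl⟩ _ ⟨s, hs, rfl⟩
    have := (Subgroup.mem_centralizer_iff.mp hy) s hs
    have h2 := congrArg e this
    simpa using h2

end Cfsg.Agent.Lib.Helper30
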