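import Mathlib

/-!
# Isaacs 12.3(b): a solvable, non-nilpotent group whose derived subgroup is the unique minimal normal
subgroup is a Frobenius group with elementary abelian kernel `X'` (leaf for S4460).
-/

set_option autoImplicit false

namespace Cfsg.Agent.Lib.Helper30.FrobDerived

variable {X : Type*} [Group X]

/-- every commutator lies in the derived subgroup -/
theorem comm_mem (g x : X) : g * x * g⁻¹ * x⁻¹ ∈ commutator X := by
  have := Subgroup.commutator_mem_commutator (Subgroup.mem_top g) (Subgroup.mem_top x)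
  rwa [commutatorElement_def] at this

/-- the elements of an abelian subgroup killed by `r` -/
def omega (V : Subgroup X) (hab : ∀ a ∈ V, ∀ b ∈ V, a * b = b * a) (r : ℕ) : Subgroup X where
  carrier := {v | v ∈ V ∧ v ^ r = 1}
  one_mem' := ⟨V.one_mem, one_pow r⟩
  mul_mem' := fun {a b} ha hb => ⟨V.mul_mem ha.1 hb.1, by
    have hc : Commute a b := hab a ha.1 b hb.1
    rw [hc.mul_pow, ha.2, hb.2, one_mul]⟩
  inv_mem' := fun {a} ha => ⟨V.inv_mem ha.1, by rw [inv_pow, ha.2, inv_one]⟩

theorem omega_normal (V : Subgroup X) [hV : V.Normal] (hab : ∀ a ∈ V, ∀ b ∈ V, a * b = b * a)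
    (r : ℕ) : (omega V hab r).Normal := by
  constructor
  intro v hv g
  refine ⟨hV.conj_mem v hv.1 g, ?_⟩
  rw [conj_pow, hv.2, mul_one, mul_inv_cancel]

/-- The fixed points of `g` in the abelian normal subgroup `V ≥ X'` form a normal subgroup. -/
theorem fix_normal (V : Subgroup X) [hV : V.Normal] (hXV : commutator X ≤ V)
    (hab : ∀ a ∈ V, ∀ b ∈ V, a * b = b * a) (g : X) :
    (V ⊓ Subgroup.centralizer ({g} : Set X)).Normal := by
  constructor
  intro w hw h
  obtain ⟨hwV, hwg⟩ := Subgroup.mem_inf.mp hw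
  rw [Subgroup.mem_centralizer_singleton_iff] at hwg
  refine Subgroup.mem_inf.mpr ⟨hV.conj_mem w hwV h, ?_⟩
  rw [Subgroup.mem_centralizer_singleton_iff]
  -- u = g⁻¹ h⁻¹ g h ∈ V commutes with w
  have hu : g⁻¹ * h⁻¹ * g⁻¹⁻¹ * h⁻¹⁻¹ ∈ V := hXV (comm_mem g⁻¹ h⁻¹)
  have hcu := hab w hwV _ hu
  -- h⁻¹ g h = g u
  have e : h⁻¹ * g * h = g * (g⁻¹ * h⁻¹ * g⁻¹⁻¹ * h⁻¹⁻¹) := by group
  have hc : w * (h⁻¹ * g * h) = (h⁻¹ * g * h) * w := by
    rw [e, ← mul_assoc, hwg, mul_assoc, hcu, ← mul_assoc]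
  calc h * w * h⁻¹ * g = h * (w * (h⁻¹ * g * h)) * h⁻¹ := by group
    _ = h * ((h⁻¹ * g * h) * w) * h⁻¹ := by rw [hc]
    _ = g * (h * w * h⁻¹) := by group

/-- The centralizer in `C_X(V)` of `x` is a normal subgroup of `X`. -/
theorem cfix_normal (V : Subgroup X) [hV : V.Normal] (hXV : commutator X ≤ V) (x : X) :
    (Subgroup.centralizer (V : Set X) ⊓ Subgroup.centralizer ({x} : Set X)).Normal := by
  constructor
  intro c hc h
  obtain ⟨hcC, hcx⟩ := Subgroup.mem_inf.mp hc
  rw [Subgroup.mem_centralizer_singleton_iff] at hcx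
  have hCn : (Subgroup.centralizer (V : Set X)).Normal := inferInstance
  refine Subgroup.mem_inf.mpr ⟨hCn.conj_mem c hcC h, ?_⟩
  rw [Subgroup.mem_centralizer_singleton_iff]
  have hu : x⁻¹ * h⁻¹ * x⁻¹⁻¹ * h⁻¹⁻¹ ∈ V := hXV (comm_mem x⁻¹ h⁻¹)
  have hcu : (x⁻¹ * h⁻¹ * x⁻¹⁻¹ * h⁻¹⁻¹) * c = c * (x⁻¹ * h⁻¹ * x⁻¹⁻¹ * h⁻¹⁻¹) :=
    (Subgroup.mem_centralizer_iff.mp hcC) _ hu
  have e : h⁻¹ * x * h = x * (x⁻¹ * h⁻¹ * x⁻¹⁻¹ * h⁻¹⁻¹) := by group
  have hc' : c * (h⁻¹ * x * h) = (h⁻¹ * x * h) * c := by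
    rw [e, ← mul_assoc, hcx, mul_assoc, ← hcu, ← mul_assoc]
  calc h * c * h⁻¹ * x = h * (c * (h⁻¹ * x * h)) * h⁻¹ := by group
    _ = h * ((h⁻¹ * x * h) * c) * h⁻¹ := by rw [hc']
    _ = x * (h * c * h⁻¹) := by group


theorem comm_of_comm_eq (x a b : X) (h : x * a * x⁻¹ * a⁻¹ = x * b * x⁻¹ * b⁻¹) :
    (b⁻¹ * a) * x = x * (b⁻¹ * a) := by
  have h' : a * x⁻¹ * a⁻¹ = b * x⁻¹ * b⁻¹ := by
    have : x * (a * x⁻¹ * a⁻¹) = x * (b * x⁻¹ * b⁻¹) := by simpa [mul_assoc] using h
    exact mul_left_cancel this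
  have h2 : (b⁻¹ * a) * x⁻¹ = x⁻¹ * (b⁻¹ * a) := by
    calc (b⁻¹ * a) * x⁻¹ = b⁻¹ * (a * x⁻¹ * a⁻¹) * a := by group
      _ = b⁻¹ * (b * x⁻¹ * b⁻¹) * a := by rw [h']
      _ = x⁻¹ * (b⁻¹ * a) := by group
  have hc : Commute (b⁻¹ * a) x⁻¹ := h2
  have hc' : Commute (b⁻¹ * a) x := by simpa using hc.inv_right
  exact hc'.eq

/-- `C_X(V) ≤ V` as soon as some `x` has no nontrivial fixed point on `V`. -/
theorem centralizer_le [Finite X] (V : Subgroup X) [hV : V.Normal] (hXV : commutator X ≤ V)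
    (hab : ∀ a ∈ V, ∀ b ∈ V, a * b = b * a)
    (hmin : ∀ N : Subgroup X, N.Normal → N ≠ ⊥ → V ≤ N) (hV1 : V ≠ ⊥)
    (x : X) (hx : V ⊓ Subgroup.centralizer ({x} : Set X) = ⊥) :
    Subgroup.centralizer (V : Set X) ≤ V := by
  have hD : Subgroup.centralizer (V : Set X) ⊓ Subgroup.centralizer ({x} : Set X) = ⊥ := by
    by_contra hne
    have h1 := hmin _ (cfix_normal V hXV x) hne
    apply hV1
    rw [eq_bot_iff, ← hx]
    exact le_inf le_rfl (h1.trans inf_le_right)
  intro c hc
  let ψ : V → V := fun v =>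
    ⟨x * v * x⁻¹ * (v : X)⁻¹, V.mul_mem (hV.conj_mem v v.2 x) (V.inv_mem v.2)⟩
  have hinj : Function.Injective ψ := by
    intro v v' hvv
    have h1 : x * v * x⁻¹ * (v : X)⁻¹ = x * v' * x⁻¹ * (v' : X)⁻¹ := congrArg Subtype.val hvv
    have hmem : (v' : X)⁻¹ * v ∈ V ⊓ Subgroup.centralizer ({x} : Set X) := by
      refine Subgroup.mem_inf.mpr ⟨V.mul_mem (V.inv_mem v'.2) v.2, ?_⟩
      rw [Subgroup.mem_centralizer_singleton_iff]
      exact comm_of_comm_eq x v v' h1
    rw [hx, Subgroup.mem_bot, inv_mul_eq_one] at hmem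
    exact Subtype.ext hmem.symm
  have hsurj : Function.Surjective ψ := Finite.injective_iff_surjective.mp hinj
  obtain ⟨v, hv⟩ := hsurj ⟨x * c * x⁻¹ * c⁻¹, hXV (comm_mem x c)⟩
  have h1 : x * v * x⁻¹ * (v : X)⁻¹ = x * c * x⁻¹ * c⁻¹ := congrArg Subtype.val hv
  have hvC : (v : X) ∈ Subgroup.centralizer (V : Set X) := by
    rw [Subgroup.mem_centralizer_iff]
    intro w hw
    exact hab w hw v v.2
  have hmem : c⁻¹ * (v : X) ∈
      Subgroup.centralizer (V : Set X) ⊓ Subgroup.centralizer ({x} : Set X) := by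
    refine Subgroup.mem_inf.mpr ⟨Subgroup.mul_mem _ (Subgroup.inv_mem _ hc) hvC, ?_⟩
    rw [Subgroup.mem_centralizer_singleton_iff]
    exact comm_of_comm_eq x v c h1
  rw [hD, Subgroup.mem_bot, inv_mul_eq_one] at hmem
  rw [hmem]
  exact v.2

/-- **Isaacs 12.3(b).**  Let `X` be a finite solvable group whose derived subgroup `X'` is nontrivial and
contained in every nontrivial normal subgroup, and suppose `X` is not nilpotent.  Then `X'` is an
elementary abelian `r`-group of order prime to its index, and every element outside `X'` acts on it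
without nontrivial fixed points (so `X` is a Frobenius group with kernel `X'` and abelian complement). -/
theorem frobenius_of_commutator_minimal [Finite X] (hsolv : Group.IsSolvable X)
    (hne : commutator X ≠ ⊥)
    (hmin : ∀ N : Subgroup X, N.Normal → N ≠ ⊥ → commutator X ≤ N)
    (hnil : ¬ Group.IsNilpotent X) :
    ∃ r : ℕ, r.Prime ∧ (∀ v ∈ commutator X, v ^ r = 1) ∧
      (∀ a ∈ commutator X, ∀ b ∈ commutator X, a * b = b * a) ∧
      (Nat.card (commutator X)).Coprime (commutator X).index ∧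
      (∀ g : X, g ∉ commutator X → ∀ v ∈ commutator X, g * v = v * g → v = 1) := by
  classical
  haveI hVn : (commutator X).Normal := inferInstance
  -- `V` is abelian
  have hVV : ⁅commutator X, commutator X⁆ = ⊥ := by
    by_contra h
    haveI : (⁅commutator X, commutator X⁆ : Subgroup X).Normal := Subgroup.commutator_normal _ _
    have h1 := hmin _ inferInstance h
    exact absurd h1 (not_le_of_gt (Group.IsSolvable.commutator_lt_of_ne_bot hne))
  have hab : ∀ a ∈ commutator X, ∀ b ∈ commutator X, a * b = b * a := by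
    intro a ha b hb
    have := Subgroup.commutator_eq_bot_iff_le_centralizer.mp hVV
    exact ((Subgroup.mem_centralizer_iff.mp (this ha)) b hb).symm
  -- some `x` does not centralize `V`
  have hex : ∃ x : X, x ∉ Subgroup.centralizer (commutator X : Set X) := by
    by_contra hall
    push_neg at hall
    apply hnil
    have hVZ : commutator X ≤ Subgroup.center X := by
      intro v hv
      rw [Subgroup.mem_center_iff]
      intro g
      exact ((Subgroup.mem_centralizer_iff.mp (hall g)) v hv).symm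
    exact Subgroup.isNilpotent_of_ker_le_center (Abelianization.of (G := X))
      (by rw [Abelianization.ker_of]; exact hVZ)
  obtain ⟨x, hx⟩ := hex
  have hfix : ∀ g : X, g ∉ Subgroup.centralizer (commutator X : Set X) →
      commutator X ⊓ Subgroup.centralizer ({g} : Set X) = ⊥ := by
    intro g hg
    by_contra h
    have h1 := hmin _ (fix_normal (commutator X) le_rfl hab g) h
    apply hg
    rw [Subgroup.mem_centralizer_iff]
    intro v hv
    have h2 := (Subgroup.mem_inf.mp (h1 hv)).2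
    rw [Subgroup.mem_centralizer_singleton_iff] at h2
    exact h2
  have hCV : Subgroup.centralizer (commutator X : Set X) ≤ commutator X :=
    centralizer_le (commutator X) le_rfl hab hmin hne x (hfix x hx)
  have hfpf : ∀ g : X, g ∉ commutator X → ∀ v ∈ commutator X, g * v = v * g → v = 1 := by
    intro g hg v hv hgv
    have h1 := hfix g (fun h => hg (hCV h))
    have h2 : v ∈ commutator X ⊓ Subgroup.centralizer ({g} : Set X) := by
      refine Subgroup.mem_inf.mpr ⟨hv, ?_⟩
      rw [Subgroup.mem_centralizer_singleton_iff]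
      exact hgv.symm
    rw [h1, Subgroup.mem_bot] at h2
    exact h2
  -- the prime `r`
  have hcard1 : Nat.card (commutator X) ≠ 1 := fun h => hne (Subgroup.card_eq_one.mp h)
  obtain ⟨r, hr, hrdvd⟩ := Nat.exists_prime_and_dvd hcard1
  haveI : Fact r.Prime := ⟨hr⟩
  obtain ⟨w, hw⟩ := exists_prime_orderOf_dvd_card' r hrdvd
  have hexp : ∀ v ∈ commutator X, v ^ r = 1 := by
    haveI := omega_normal (commutator X) hab r
    have hΩ : omega (commutator X) hab r ≠ ⊥ := by
      intro h
      have hwΩ : (w : X) ∈ omega (commutator X) hab r := by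
        refine ⟨w.2, ?_⟩
        have : w ^ r = 1 := by rw [← hw]; exact pow_orderOf_eq_one w
        exact_mod_cast congrArg Subtype.val this
      rw [h, Subgroup.mem_bot] at hwΩ
      have hw1 : w = 1 := Subtype.ext hwΩ
      rw [hw1, orderOf_one] at hw
      exact hr.one_lt.ne hw
    intro v hv
    exact ((hmin _ inferInstance hΩ) hv).2
  refine ⟨r, hr, hexp, hab, ?_, hfpf⟩
  -- coprimality
  have hVp : IsPGroup r (commutator X) := by
    intro v
    refine ⟨1, ?_⟩
    rw [pow_one]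
    exact Subtype.ext (by simpa using hexp v v.2)
  obtain ⟨n, hn⟩ := IsPGroup.iff_card.mp hVp
  rw [hn]
  refine Nat.Coprime.pow_left n ((Nat.Prime.coprime_iff_not_dvd hr).mpr ?_)
  intro hdvd
  -- an element `g ∉ V` with `g ^ r ∈ V`
  rw [Subgroup.index_eq_card] at hdvd
  obtain ⟨gbar, hgbar⟩ := exists_prime_orderOf_dvd_card' r hdvd
  obtain ⟨g, rfl⟩ := QuotientGroup.mk_surjective gbar
  have hgV : g ∉ commutator X := by
    intro hg
    have : (QuotientGroup.mk g : X ⧸ commutator X) = 1 := (QuotientGroup.eq_one_iff g).mpr hg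
    rw [this, orderOf_one] at hgbar
    exact hr.one_lt.ne hgbar
  have hgr : g ^ r ∈ commutator X := by
    rw [← QuotientGroup.eq_one_iff, QuotientGroup.mk_pow, ← hgbar]
    exact pow_orderOf_eq_one _
  have hgr1 : g ^ r = 1 := by
    refine hfpf g hgV _ hgr ?_
    rw [← pow_succ', ← pow_succ]
  -- `zpowers g` is an `r`-group acting on `V` by conjugation
  have hZp : IsPGroup r (Subgroup.zpowers g) := by
    rintro ⟨y, k, rfl⟩
    refine ⟨1, Subtype.ext ?_⟩
    simp only [pow_one, Subgroup.coe_pow, Subgroup.coe_one]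
    rw [← zpow_natCast, ← zpow_mul, mul_comm, zpow_mul, zpow_natCast, hgr1, one_zpow]
  letI act : MulAction (Subgroup.zpowers g) (commutator X) :=
    MulAction.compHom (commutator X)
      ((MulAut.conjNormal : X →* MulAut (commutator X)).comp (Subgroup.zpowers g).subtype)
  have hsmul : ∀ (y : Subgroup.zpowers g) (v : commutator X),
      ((y • v : commutator X) : X) = (y : X) * v * (y : X)⁻¹ := by
    intro y v
    rfl
  have h1fix : (1 : commutator X) ∈ MulAction.fixedPoints (Subgroup.zpowers g) (commutator X) := by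
    intro y
    apply Subtype.ext
    rw [hsmul]
    simp
  have hdvdV : r ∣ Nat.card (commutator X) := hrdvd
  obtain ⟨b, hb, hb1⟩ := hZp.exists_fixed_point_of_prime_dvd_card_of_fixed_point
    (commutator X) hdvdV h1fix
  apply hb1
  have hgb := hb ⟨g, Subgroup.mem_zpowers g⟩
  have hgb' : g * (b : X) * g⁻¹ = b := by
    have := congrArg Subtype.val hgb
    rwa [hsmul] at this
  have : (b : X) = 1 := by
    refine hfpf g hgV b b.2 ?_
    calc g * (b : X) = (g * b * g⁻¹) * g := by group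
      _ = b * g := by rw [hgb']
  exact (Subtype.ext this).symm

end Cfsg.Agent.Lib.Helper30.FrobDerived
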