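import Mathlib
import Cfsg.Agent.Lib.Helper30.FrobDerived

/-!
# Corollaries of Isaacs 12.3(b) for the S4460 pack: the nilpotent alternative is a `p`-group, and
an abelian complement exists.
-/

set_option autoImplicit false

namespace Cfsg.Agent.Lib.Helper30.FrobDerived

variable {X : Type*} [Group X]

/-- A finite nilpotent group whose (nontrivial) derived subgroup lies in every nontrivial normal
subgroup is a `p`-group. -/
theorem isPGroup_of_nilpotent [Finite X] (hne : commutator X ≠ ⊥)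
    (hmin : ∀ N : Subgroup X, N.Normal → N ≠ ⊥ → commutator X ≤ N)
    (hnil : Group.IsNilpotent X) : ∃ p : ℕ, p.Prime ∧ IsPGroup p X := by
  have hcard1 : Nat.card (commutator X) ≠ 1 := fun h => hne (Subgroup.card_eq_one.mp h)
  obtain ⟨p, hp, hpdvd⟩ := Nat.exists_prime_and_dvd hcard1
  refine ⟨p, hp, ?_⟩
  haveI : Fact p.Prime := ⟨hp⟩
  have hall : ∀ q : ℕ, q.Prime → q ∣ Nat.card X → q = p := by
    intro q hq hqd
    haveI : Fact q.Prime := ⟨hq⟩
    let Q : Sylow q X := default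
    have hQn : (Q : Subgroup X).Normal :=
      ((Group.isNilpotent_of_finite_tfae (G := X)).out 0 3 rfl rfl).mp hnil q ⟨hq⟩ Q
    have hQne : (Q : Subgroup X) ≠ ⊥ := Sylow.ne_bot_of_dvd_card Q hqd
    have hVQ := hmin _ hQn hQne
    have h1 : Nat.card (commutator X) ∣ Nat.card (Q : Subgroup X) := Subgroup.card_dvd_of_le hVQ
    obtain ⟨k, hk⟩ := IsPGroup.iff_card.mp Q.isPGroup'
    have h2 : p ∣ q ^ k := by
      rw [← hk]
      exact hpdvd.trans h1
    exact ((Nat.prime_dvd_prime_iff_eq hp hq).mp (hp.dvd_of_dvd_pow h2)).symm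
  exact IsPGroup.of_card
    (Nat.eq_prime_pow_of_unique_prime_dvd Nat.card_pos.ne' (fun hd hdd => hall _ hd hdd))

/-- Variant of `frobenius_of_commutator_minimal` with the hypothesis "not a `p`-group for any `p`". -/
theorem frobenius_of_commutator_minimal' [Finite X] (hsolv : Group.IsSolvable X)
    (hne : commutator X ≠ ⊥)
    (hmin : ∀ N : Subgroup X, N.Normal → N ≠ ⊥ → commutator X ≤ N)
    (hnp : ∀ p : ℕ, p.Prime → ¬ IsPGroup p X) :
    ∃ r : ℕ, r.Prime ∧ (∀ v ∈ commutator X, v ^ r = 1) ∧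
      (∀ a ∈ commutator X, ∀ b ∈ commutator X, a * b = b * a) ∧
      (Nat.card (commutator X)).Coprime (commutator X).index ∧
      (∀ g : X, g ∉ commutator X → ∀ v ∈ commutator X, g * v = v * g → v = 1) := by
  refine frobenius_of_commutator_minimal hsolv hne hmin (fun hnil => ?_)
  obtain ⟨p, hp, hP⟩ := isPGroup_of_nilpotent hne hmin hnil
  exact hnp p hp hP

/-- An abelian complement to `X'` exists when `|X'|` is prime to its index (Schur–Zassenhaus). -/
theorem exists_abelian_complement [Finite X]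
    (hcop : (Nat.card (commutator X)).Coprime (commutator X).index) :
    ∃ Q : Subgroup X, Subgroup.IsComplement' (commutator X) Q ∧
      (∀ a ∈ Q, ∀ b ∈ Q, a * b = b * a) ∧ Nat.card Q = (commutator X).index := by
  obtain ⟨Q, hQ⟩ := Subgroup.exists_right_complement'_of_coprime hcop
  refine ⟨Q, hQ, ?_, ?_⟩
  · intro a ha b hb
    -- `a b a⁻¹ b⁻¹ ∈ X' ⊓ Q = ⊥`
    have h1 : a * b * a⁻¹ * b⁻¹ ∈ commutator X := comm_mem a b
    have h2 : a * b * a⁻¹ * b⁻¹ ∈ Q :=
      Q.mul_mem (Q.mul_mem (Q.mul_mem ha hb) (Q.inv_mem ha)) (Q.inv_mem hb)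
    have h3 : a * b * a⁻¹ * b⁻¹ ∈ commutator X ⊓ Q := Subgroup.mem_inf.mpr ⟨h1, h2⟩
    rw [hQ.disjoint.eq_bot, Subgroup.mem_bot] at h3
    calc a * b = (a * b * a⁻¹ * b⁻¹) * (b * a) := by group
      _ = b * a := by rw [h3, one_mul]
  · have := hQ.card_mul
    have h2 := (commutator X).card_mul_index
    have hpos : 0 < Nat.card (commutator X) := Nat.card_pos
    exact Nat.eq_of_mul_eq_mul_left hpos (this.trans h2.symm)


/-- If `g` has no nontrivial fixed point on the normal subgroup `V`, then `v ↦ g v g⁻¹ v⁻¹` is a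
bijection of `V`. -/
theorem comm_bijective [Finite X] (V : Subgroup X) [hV : V.Normal] (g : X)
    (hfix : ∀ v ∈ V, g * v = v * g → v = 1) :
    Function.Bijective (fun v : V =>
      (⟨g * v * g⁻¹ * (v : X)⁻¹, V.mul_mem (hV.conj_mem v v.2 g) (V.inv_mem v.2)⟩ : V)) := by
  have hinj : Function.Injective (fun v : V =>
      (⟨g * v * g⁻¹ * (v : X)⁻¹, V.mul_mem (hV.conj_mem v v.2 g) (V.inv_mem v.2)⟩ : V)) := by
    intro v v' hvv
    have h1 : g * v * g⁻¹ * (v : X)⁻¹ = g * v' * g⁻¹ * (v' : X)⁻¹ := congrArg Subtype.val hvv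
    have h2 := comm_of_comm_eq g v v' h1
    have h3 := hfix _ (V.mul_mem (V.inv_mem v'.2) v.2) h2.symm
    rw [inv_mul_eq_one] at h3
    exact Subtype.ext h3.symm
  exact ⟨hinj, Finite.injective_iff_surjective.mp hinj⟩

/-- A homomorphism from `V` to a commutative group fixed by an element `g` acting without
nontrivial fixed points on `V` is trivial (so: the stabilizer in `X` of a nontrivial linear
character of the Frobenius kernel `V` is `V`). -/
theorem hom_eq_one_of_fixed [Finite X] {A : Type*} [CommGroup A] (V : Subgroup X) [hV : V.Normal]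
    (g : X) (hfix : ∀ v ∈ V, g * v = v * g → v = 1) (lam : V →* A)
    (hlam : ∀ v : V, lam ⟨g * v * g⁻¹, hV.conj_mem v v.2 g⟩ = lam v) : lam = 1 := by
  ext w
  obtain ⟨v, hv⟩ := (comm_bijective V g hfix).2 w
  have e : (⟨g * v * g⁻¹ * (v : X)⁻¹, V.mul_mem (hV.conj_mem v v.2 g) (V.inv_mem v.2)⟩ : V) =
      ⟨g * v * g⁻¹, hV.conj_mem v v.2 g⟩ * v⁻¹ := Subtype.ext rfl
  have hv' : w = ⟨g * v * g⁻¹, hV.conj_mem v v.2 g⟩ * v⁻¹ := by rw [← hv]; exact e
  rw [hv', map_mul, hlam v, map_inv, mul_inv_cancel]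
  rfl

end Cfsg.Agent.Lib.Helper30.FrobDerived
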