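import Mathlib
import Cfsg.Prelude.Def_Blocks
import Cfsg.Agent.Lib.Helper01.CD3Defs
import Cfsg.Agent.Lib.Helper30.FrobDerived2

/-!
# S4460 pack K-CD3, leaf 446025 K-CD3-GRP `frobenius_structure` (Isaacs 12.3(b)), exact signature.
-/

set_option autoImplicit false

namespace Cfsg.Agent.Lib.Helper30.CD3

open Cfsg Cfsg.Agent.Lib.Helper01.CD3

universe u

/-- 446025 K-CD3-GRP: GROUP LEMMA (Isaacs 12.3(b), pure group theory, Mathlib only). -/
theorem frobenius_structure {X : Type u} [Group X] [Finite X] (hsolv : Group.IsSolvable X)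
    (hnab : ∃ a b : X, a * b ≠ b * a)
    (hmin : ∀ L : Subgroup X, L.Normal → L ≠ ⊥ → commutator X ≤ L)
    (hnp : ∀ p : ℕ, p.Prime → ¬ IsPGroup p X) :
    ∃ (r : ℕ) (Q : Subgroup X), r.Prime ∧ IsPGroup r (commutator X) ∧
      (∀ a ∈ commutator X, ∀ b ∈ commutator X, a * b = b * a) ∧
      (∀ a ∈ Q, ∀ b ∈ Q, a * b = b * a) ∧
      commutator X ⊓ Q = ⊥ ∧ commutator X ⊔ Q = ⊤ ∧ (Nat.card Q).Coprime r ∧
      (∀ q ∈ Q, q ≠ 1 → ∀ v ∈ commutator X, q * v = v * q → v = 1) ∧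
      (∀ g : X, g ∉ commutator X → ∀ v ∈ commutator X, g * v = v * g → v = 1) ∧
      (commutator X).index = Nat.card Q ∧ 1 < Nat.card Q ∧
      ∃ a : ℕ, 0 < a ∧ Nat.card (commutator X) = r ^ a := by
  have hne : commutator X ≠ ⊥ := by
    intro h
    obtain ⟨a, b, hab⟩ := hnab
    apply hab
    have h1 : a * b * a⁻¹ * b⁻¹ ∈ commutator X :=
      Cfsg.Agent.Lib.Helper30.FrobDerived.comm_mem a b
    rw [h, Subgroup.mem_bot] at h1
    calc a * b = (a * b * a⁻¹ * b⁻¹) * (b * a) := by group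
      _ = b * a := by rw [h1, one_mul]
  obtain ⟨r, hr, hexp, hab, hcop, hfpf⟩ :=
    Cfsg.Agent.Lib.Helper30.FrobDerived.frobenius_of_commutator_minimal' hsolv hne hmin hnp
  obtain ⟨Q, hQ, hQab, hQcard⟩ :=
    Cfsg.Agent.Lib.Helper30.FrobDerived.exists_abelian_complement hcop
  have hVp : IsPGroup r (commutator X) := by
    intro v
    refine ⟨1, ?_⟩
    rw [pow_one]
    exact Subtype.ext (by simpa using hexp v v.2)
  haveI : Fact r.Prime := ⟨hr⟩
  obtain ⟨n, hn⟩ := IsPGroup.iff_card.mp hVp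
  have hn0 : n ≠ 0 := by
    rintro rfl
    rw [pow_zero] at hn
    exact hne (Subgroup.card_eq_one.mp hn)
  have hdisj : commutator X ⊓ Q = ⊥ := hQ.disjoint.eq_bot
  have hQr : (Nat.card Q).Coprime r := by
    rw [hQcard]
    have h1 : r ∣ Nat.card (commutator X) := by rw [hn]; exact dvd_pow_self r hn0
    exact (Nat.Coprime.coprime_dvd_left h1 hcop).symm
  have hQ1 : 1 < Nat.card Q := by
    by_contra hle
    have hpos : 0 < Nat.card Q := Nat.card_pos
    have h1 : Nat.card Q = 1 := by omega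
    have hQbot : Q = ⊥ := Subgroup.card_eq_one.mp h1
    have htop : commutator X = ⊤ := by
      have := hQ.sup_eq_top
      rwa [hQbot, sup_bot_eq] at this
    apply hnp r hr
    intro x
    obtain ⟨k, hk⟩ := hVp ⟨x, by rw [htop]; exact Subgroup.mem_top x⟩
    exact ⟨k, by simpa using congrArg Subtype.val hk⟩
  refine ⟨r, Q, hr, hVp, hab, hQab, hdisj, hQ.sup_eq_top, hQr, ?_, hfpf, hQcard.symm, hQ1,
    n, Nat.pos_of_ne_zero hn0, hn⟩
  intro q hq hq1 v hv hqv
  refine hfpf q (fun hqV => hq1 ?_) v hv hqv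
  have : q ∈ commutator X ⊓ Q := Subgroup.mem_inf.mpr ⟨hqV, hq⟩
  rwa [hdisj, Subgroup.mem_bot] at this

end Cfsg.Agent.Lib.Helper30.CD3
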