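import Mathlib

/-!
# K-151-F2 (keystone 135507): the image in `X ⧸ F` of a subgroup of `F ⊔ N`, `N` nilpotent, is nilpotent.
Architect: helper12.  Spec: `notes/S1355_keystones.lean.txt`.
-/

set_option autoImplicit false

namespace Cfsg.Agent.Lib.Helper30.BG151

/-- a subgroup of a nilpotent subgroup is nilpotent (subgroups of the same ambient group) -/
theorem isNilpotent_of_le {X : Type*} [Group X] {A B : Subgroup X} (hB : Group.IsNilpotent B)
    (hAB : A ≤ B) : Group.IsNilpotent A := by
  haveI := hB
  refine Subgroup.isNilpotent_of_ker_le_center (Subgroup.inclusion hAB) ?_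
  rw [(Subgroup.inclusion hAB).ker_eq_bot_iff.mpr (Subgroup.inclusion_injective hAB)]
  exact bot_le

/-- the image of a nilpotent subgroup under a homomorphism is nilpotent -/
theorem isNilpotent_map {X Y : Type*} [Group X] [Group Y] (f : X →* Y) {N : Subgroup X}
    (hN : Group.IsNilpotent N) : Group.IsNilpotent ↥(N.map f) := by
  haveI := hN
  exact nilpotent_of_surjective (f.subgroupMap N) (MonoidHom.subgroupMap_surjective f N)

/-- K-151-F2 -/
theorem isNilpotent_map_mk {X : Type*} [Group X] (F N A : Subgroup X) [F.Normal]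
    (hN : Group.IsNilpotent N) (hA : A ≤ F ⊔ N) :
    Group.IsNilpotent ↥(A.map (QuotientGroup.mk' F)) := by
  have hF : F.map (QuotientGroup.mk' F) = ⊥ :=
    (Subgroup.map_eq_bot_iff _).mpr (le_of_eq (QuotientGroup.ker_mk' F).symm)
  have h1 : A.map (QuotientGroup.mk' F) ≤ N.map (QuotientGroup.mk' F) := by
    calc A.map (QuotientGroup.mk' F) ≤ (F ⊔ N).map (QuotientGroup.mk' F) := Subgroup.map_mono hA
      _ = N.map (QuotientGroup.mk' F) := by rw [Subgroup.map_sup, hF, bot_sup_eq]
  exact isNilpotent_of_le (isNilpotent_map _ hN) h1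

end Cfsg.Agent.Lib.Helper30.BG151
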