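import Mathlib

/-!
# The 2-adic arithmetic behind the Brauer–Suzuki theorem for `Q₈` (helper30)

`Θ = 1 + e₁χ₁ + e₂χ₂ + e₃χ₃`, `dᵢ = χᵢ(1)`, `tᵢ = χᵢ(z)`.  The relations coming from `Θ(1) = Θ(z) = 0`,
class multiplication, and the restriction to a quaternion Sylow subgroup force `tᵢ = dᵢ`.
-/

set_option autoImplicit false

namespace Cfsg.Agent.Lib.Helper30.BSQ8

/-- per character: `d + t + 6e ≡ 0 (8)` and `d² + t² + 6 ≡ 0 (8)` give `d - t = 4w`, `d = e + 2w + 4k`. -/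
theorem congr_of_sums (e d t n m : ℤ) (he : e = 1 ∨ e = -1) (ha : d + t + 6 * e = 8 * n)
    (hb : d ^ 2 + t ^ 2 + 6 = 8 * m) : ∃ w k : ℤ, d - t = 4 * w ∧ d = e + 2 * w + 4 * k := by
  have key : ∀ x y : ZMod 8, (x + y + 6 = 0 ∨ x + y - 6 = 0) → x ^ 2 + y ^ 2 + 6 = 0 →
      2 * (x - y) = 0 := by decide
  have h1 : ((d : ZMod 8) + (t : ZMod 8) + 6 = 0 ∨ (d : ZMod 8) + (t : ZMod 8) - 6 = 0) := by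
    have := congrArg (Int.cast : ℤ → ZMod 8) ha
    push_cast at this
    have h8 : (8 : ZMod 8) = 0 := by decide
    rw [h8, zero_mul] at this
    rcases he with rfl | rfl
    · left; simpa using this
    · right
      have h2 : (d : ZMod 8) + (t : ZMod 8) - 6 = (d : ZMod 8) + (t : ZMod 8) + 6 * ((-1 : ℤ) : ZMod 8) := by
        push_cast; ring
      rw [h2]; exact this
  have h2 : (d : ZMod 8) ^ 2 + (t : ZMod 8) ^ 2 + 6 = 0 := by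
    have := congrArg (Int.cast : ℤ → ZMod 8) hb
    push_cast at this
    have h8 : (8 : ZMod 8) = 0 := by decide
    rw [h8, zero_mul] at this
    exact this
  have h3 := key _ _ h1 h2
  have h4 : ((2 * (d - t) : ℤ) : ZMod 8) = 0 := by
    push_cast; exact h3
  rw [ZMod.intCast_zmod_eq_zero_iff_dvd] at h4
  obtain ⟨c, hc⟩ := h4
  refine ⟨c, n - e, by push_cast at hc; omega, ?_⟩
  push_cast at hc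
  rcases he with rfl | rfl <;> omega

/-- one descent step: under either congruence pattern, a solution has all coordinates even. -/
theorem all_even_step (e₁ e₂ e₃ d₁ d₂ d₃ v₁ v₂ v₃ : ℤ) (s : ℤ) (hs : s = 0 ∨ s = 1)
    (he₁ : e₁ = 1 ∨ e₁ = -1) (he₂ : e₂ = 1 ∨ e₂ = -1) (he₃ : e₃ = 1 ∨ e₃ = -1)
    (hd₁ : ∃ k, d₁ = e₁ + 2 * s * v₁ + 4 * k) (hd₂ : ∃ k, d₂ = e₂ + 2 * s * v₂ + 4 * k)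
    (hd₃ : ∃ k, d₃ = e₃ + 2 * s * v₃ + 4 * k)
    (h1 : e₁ * v₁ + e₂ * v₂ + e₃ * v₃ = 0)
    (h2 : e₁ * v₁ ^ 2 * d₂ * d₃ + e₂ * v₂ ^ 2 * d₁ * d₃ + e₃ * v₃ ^ 2 * d₁ * d₂ = 0) :
    2 ∣ v₁ ∧ 2 ∣ v₂ ∧ 2 ∣ v₃ := by
  obtain ⟨k₁, rfl⟩ := hd₁
  obtain ⟨k₂, rfl⟩ := hd₂
  obtain ⟨k₃, rfl⟩ := hd₃
  have key : ∀ (a b c x y z σ : ZMod 4), (σ = 0 ∨ σ = 1) → (a = 1 ∨ a = -1) → (b = 1 ∨ b = -1) →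
      (c = 1 ∨ c = -1) → a * x + b * y + c * z = 0 →
      a * x ^ 2 * (b + 2 * σ * y) * (c + 2 * σ * z) + b * y ^ 2 * (a + 2 * σ * x) * (c + 2 * σ * z)
        + c * z ^ 2 * (a + 2 * σ * x) * (b + 2 * σ * y) = 0 →
      2 * x = 0 ∧ 2 * y = 0 ∧ 2 * z = 0 := by decide
  have c4 : (4 : ZMod 4) = 0 := by decide
  have g1 := congrArg (Int.cast : ℤ → ZMod 4) h1
  have g2 := congrArg (Int.cast : ℤ → ZMod 4) h2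
  push_cast at g1 g2
  simp only [c4, zero_mul, add_zero] at g2
  have hs' : ((s : ZMod 4) = 0 ∨ (s : ZMod 4) = 1) := by
    rcases hs with rfl | rfl <;> simp
  have ha' : ((e₁ : ZMod 4) = 1 ∨ (e₁ : ZMod 4) = -1) := by
    rcases he₁ with rfl | rfl <;> simp
  have hb' : ((e₂ : ZMod 4) = 1 ∨ (e₂ : ZMod 4) = -1) := by
    rcases he₂ with rfl | rfl <;> simp
  have hc' : ((e₃ : ZMod 4) = 1 ∨ (e₃ : ZMod 4) = -1) := by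
    rcases he₃ with rfl | rfl <;> simp
  obtain ⟨r1, r2, r3⟩ := key _ _ _ _ _ _ _ hs' ha' hb' hc' g1 g2
  have conv : ∀ v : ℤ, 2 * (v : ZMod 4) = 0 → 2 ∣ v := by
    intro v hv
    have : ((2 * v : ℤ) : ZMod 4) = 0 := by push_cast; exact hv
    rw [ZMod.intCast_zmod_eq_zero_iff_dvd] at this
    obtain ⟨c, hc⟩ := this
    exact ⟨c, by push_cast at hc; omega⟩
  exact ⟨conv _ r1, conv _ r2, conv _ r3⟩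

/-- the descent: with `dᵢ ≡ eᵢ (4)` the only solution is zero. -/
theorem descent (e₁ e₂ e₃ d₁ d₂ d₃ : ℤ)
    (he₁ : e₁ = 1 ∨ e₁ = -1) (he₂ : e₂ = 1 ∨ e₂ = -1) (he₃ : e₃ = 1 ∨ e₃ = -1)
    (hd₁ : ∃ k, d₁ = e₁ + 4 * k) (hd₂ : ∃ k, d₂ = e₂ + 4 * k) (hd₃ : ∃ k, d₃ = e₃ + 4 * k) :
    ∀ (N : ℕ) (v₁ v₂ v₃ : ℤ), v₁.natAbs + v₂.natAbs + v₃.natAbs ≤ N →
      e₁ * v₁ + e₂ * v₂ + e₃ * v₃ = 0 →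
      e₁ * v₁ ^ 2 * d₂ * d₃ + e₂ * v₂ ^ 2 * d₁ * d₃ + e₃ * v₃ ^ 2 * d₁ * d₂ = 0 →
      v₁ = 0 ∧ v₂ = 0 ∧ v₃ = 0 := by
  intro N
  induction N with
  | zero =>
    intro v₁ v₂ v₃ hN _ _
    refine ⟨?_, ?_, ?_⟩ <;> omega
  | succ N ih =>
    intro v₁ v₂ v₃ hN h1 h2
    obtain ⟨k₁, hk₁⟩ := hd₁
    obtain ⟨k₂, hk₂⟩ := hd₂
    obtain ⟨k₃, hk₃⟩ := hd₃
    obtain ⟨⟨u₁, rfl⟩, ⟨u₂, rfl⟩, ⟨u₃, rfl⟩⟩ := all_even_step e₁ e₂ e₃ d₁ d₂ d₃ v₁ v₂ v₃ 0 (Or.inl rfl)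
      he₁ he₂ he₃ ⟨k₁, by rw [hk₁]; ring⟩ ⟨k₂, by rw [hk₂]; ring⟩ ⟨k₃, by rw [hk₃]; ring⟩ h1 h2
    by_cases hz : u₁ = 0 ∧ u₂ = 0 ∧ u₃ = 0
    · obtain ⟨rfl, rfl, rfl⟩ := hz
      simp
    · have hlt : u₁.natAbs + u₂.natAbs + u₃.natAbs ≤ N := by
        have : u₁ ≠ 0 ∨ u₂ ≠ 0 ∨ u₃ ≠ 0 := by
          by_contra hcon
          push Not at hcon
          exact hz hcon
        omega
      have h1' : e₁ * u₁ + e₂ * u₂ + e₃ * u₃ = 0 := by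
        have : 2 * (e₁ * u₁ + e₂ * u₂ + e₃ * u₃) = 0 := by linear_combination h1
        omega
      have h2' : e₁ * u₁ ^ 2 * d₂ * d₃ + e₂ * u₂ ^ 2 * d₁ * d₃ + e₃ * u₃ ^ 2 * d₁ * d₂ = 0 := by
        have : 4 * (e₁ * u₁ ^ 2 * d₂ * d₃ + e₂ * u₂ ^ 2 * d₁ * d₃ + e₃ * u₃ ^ 2 * d₁ * d₂) = 0 := by
          linear_combination h2
        omega
      obtain ⟨rfl, rfl, rfl⟩ := ih u₁ u₂ u₃ hlt h1' h2'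
      simp

/-- **The arithmetic core of Brauer–Suzuki for `Q₈`.** -/
theorem arith_main (e₁ e₂ e₃ d₁ d₂ d₃ t₁ t₂ t₃ n₁ n₂ n₃ m₁ m₂ m₃ : ℤ)
    (he₁ : e₁ = 1 ∨ e₁ = -1) (he₂ : e₂ = 1 ∨ e₂ = -1) (he₃ : e₃ = 1 ∨ e₃ = -1)
    (ha₁ : d₁ + t₁ + 6 * e₁ = 8 * n₁) (ha₂ : d₂ + t₂ + 6 * e₂ = 8 * n₂)
    (ha₃ : d₃ + t₃ + 6 * e₃ = 8 * n₃)
    (hb₁ : d₁ ^ 2 + t₁ ^ 2 + 6 = 8 * m₁) (hb₂ : d₂ ^ 2 + t₂ ^ 2 + 6 = 8 * m₂)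
    (hb₃ : d₃ ^ 2 + t₃ ^ 2 + 6 = 8 * m₃)
    (hc : e₁ * d₁ + e₂ * d₂ + e₃ * d₃ = -1) (hd : e₁ * t₁ + e₂ * t₂ + e₃ * t₃ = -1)
    (he : e₁ * t₁ ^ 2 * d₂ * d₃ + e₂ * t₂ ^ 2 * d₁ * d₃ + e₃ * t₃ ^ 2 * d₁ * d₂ = -(d₁ * d₂ * d₃)) :
    t₁ = d₁ ∧ t₂ = d₂ ∧ t₃ = d₃ := by
  obtain ⟨w₁, k₁, hw₁, hk₁⟩ := congr_of_sums e₁ d₁ t₁ n₁ m₁ he₁ ha₁ hb₁
  obtain ⟨w₂, k₂, hw₂, hk₂⟩ := congr_of_sums e₂ d₂ t₂ n₂ m₂ he₂ ha₂ hb₂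
  obtain ⟨w₃, k₃, hw₃, hk₃⟩ := congr_of_sums e₃ d₃ t₃ n₃ m₃ he₃ ha₃ hb₃
  have ht₁ : t₁ = d₁ - 4 * w₁ := by omega
  have ht₂ : t₂ = d₂ - 4 * w₂ := by omega
  have ht₃ : t₃ = d₃ - 4 * w₃ := by omega
  have h1 : e₁ * w₁ + e₂ * w₂ + e₃ * w₃ = 0 := by
    have : 4 * (e₁ * w₁ + e₂ * w₂ + e₃ * w₃) = 0 := by
      rw [ht₁, ht₂, ht₃] at hd
      linear_combination hc - hd
    omega
  have h2 : e₁ * w₁ ^ 2 * d₂ * d₃ + e₂ * w₂ ^ 2 * d₁ * d₃ + e₃ * w₃ ^ 2 * d₁ * d₂ = 0 := by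
    have : 16 * (e₁ * w₁ ^ 2 * d₂ * d₃ + e₂ * w₂ ^ 2 * d₁ * d₃ + e₃ * w₃ ^ 2 * d₁ * d₂) = 0 := by
      rw [ht₁, ht₂, ht₃] at he
      linear_combination he - (d₁ * d₂ * d₃) * hc + 8 * (d₁ * d₂ * d₃) * h1
    omega
  -- first step: all `wᵢ` even
  obtain ⟨⟨u₁, hu₁⟩, ⟨u₂, hu₂⟩, ⟨u₃, hu₃⟩⟩ := all_even_step e₁ e₂ e₃ d₁ d₂ d₃ w₁ w₂ w₃ 1 (Or.inr rfl)
    he₁ he₂ he₃ ⟨k₁, by rw [hk₁]; ring⟩ ⟨k₂, by rw [hk₂]; ring⟩ ⟨k₃, by rw [hk₃]; ring⟩ h1 h2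
  obtain ⟨r1, r2, r3⟩ := descent e₁ e₂ e₃ d₁ d₂ d₃ he₁ he₂ he₃
    ⟨k₁ + u₁, by rw [hk₁, hu₁]; ring⟩ ⟨k₂ + u₂, by rw [hk₂, hu₂]; ring⟩
    ⟨k₃ + u₃, by rw [hk₃, hu₃]; ring⟩ _ w₁ w₂ w₃ le_rfl h1 h2
  refine ⟨?_, ?_, ?_⟩ <;> omega

end Cfsg.Agent.Lib.Helper30.BSQ8
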