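import Mathlib
import Cfsg.Agent.Lib.Helper34.GenChar

/-!
# Generalized characters of norm three (helper30)
-/

set_option autoImplicit false
set_option linter.unusedSectionVars false

namespace Cfsg.Agent.Lib.Helper30.BSQ8

open scoped ComplexConjugate
open Cfsg
open Cfsg.Agent.Lib.Helper34

theorem pick_unit {ι : Type*} [DecidableEq ι] (s : Finset ι) (z : ι → ℤ) (m : ℤ) (hm : 1 ≤ m)
    (hm3 : m ≤ 3) (hs : ∑ φ ∈ s, z φ * z φ = m) :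
    ∃ ψ ∈ s, z ψ * z ψ = 1 ∧ ∑ φ ∈ s.erase ψ, z φ * z φ = m - 1 := by
  have hex : ∃ ψ ∈ s, z ψ ≠ 0 := by
    by_contra hne
    push Not at hne
    rw [Finset.sum_eq_zero (fun φ hφ => by rw [hne φ hφ, mul_zero])] at hs
    omega
  obtain ⟨ψ, hψs, hψ⟩ := hex
  have hsplit : z ψ * z ψ + ∑ φ ∈ s.erase ψ, z φ * z φ = m := by
    rw [Finset.add_sum_erase s (fun φ => z φ * z φ) hψs]
    exact hs
  have hnn : 0 ≤ ∑ φ ∈ s.erase ψ, z φ * z φ :=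
    Finset.sum_nonneg (fun φ _ => mul_self_nonneg (z φ))
  have hpos : 0 < z ψ * z ψ := mul_self_pos.mpr hψ
  have hsq : z ψ * z ψ = 1 := by
    have hle : z ψ * z ψ ≤ 3 := by omega
    have habs : |z ψ| ≤ 1 := by
      by_contra hc
      push Not at hc
      have : 2 ≤ |z ψ| := hc
      have h4 : 4 ≤ |z ψ| * |z ψ| := by nlinarith
      rw [abs_mul_abs_self] at h4
      omega
    have : z ψ = 1 ∨ z ψ = -1 ∨ z ψ = 0 := by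
      have := abs_le.mp habs
      omega
    rcases this with h | h | h
    · rw [h]; norm_num
    · rw [h]; norm_num
    · exact absurd h hψ
  exact ⟨ψ, hψs, hsq, by omega⟩

variable {G : Type*} [Group G] [Fintype G]

/-- a generalized character of norm three is `ε₁ ψ₁ + ε₂ ψ₂ + ε₃ ψ₃` for distinct irreducible
`ψᵢ` and signs `εᵢ = ±1`. -/
theorem exists_three_irr_of_norm_three {θ : G → ℂ} (h : IsGeneralizedCharacter G θ)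
    (h3 : classInner θ θ = 3) :
    ∃ (ψ₁ ψ₂ ψ₃ : G → ℂ) (ε₁ ε₂ ε₃ : ℤ), IsIrrCharacter G ψ₁ ∧ IsIrrCharacter G ψ₂ ∧
      IsIrrCharacter G ψ₃ ∧ ψ₁ ≠ ψ₂ ∧ ψ₁ ≠ ψ₃ ∧ ψ₂ ≠ ψ₃ ∧
      (ε₁ = 1 ∨ ε₁ = -1) ∧ (ε₂ = 1 ∨ ε₂ = -1) ∧ (ε₃ = 1 ∨ ε₃ = -1) ∧
      θ = (ε₁ : ℂ) • ψ₁ + (ε₂ : ℂ) • ψ₂ + (ε₃ : ℂ) • ψ₃ := by
  classical
  letI : Fintype (IrrCharacter G) := Fintype.ofFinite _
  obtain ⟨z, rfl⟩ := exists_int_coeff h
  rw [classInner_int_combo] at h3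
  have h3' : ∑ φ : IrrCharacter G, z φ * z φ = 3 := by exact_mod_cast h3
  obtain ⟨ψ₁, hm1, hsq1, hr1⟩ := pick_unit Finset.univ z 3 (by norm_num) (by norm_num) h3'
  obtain ⟨ψ₂, hm2, hsq2, hr2⟩ := pick_unit _ z (3 - 1) (by norm_num) (by norm_num) hr1
  obtain ⟨ψ₃, hm3, hsq3, hr3⟩ := pick_unit _ z (3 - 1 - 1) (by norm_num) (by norm_num) hr2
  have hne21 : ψ₂ ≠ ψ₁ := (Finset.mem_erase.mp hm2).1
  have hne32 : ψ₃ ≠ ψ₂ := (Finset.mem_erase.mp hm3).1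
  have hne31 : ψ₃ ≠ ψ₁ := (Finset.mem_erase.mp (Finset.mem_erase.mp hm3).2).1
  have hzero : ∀ φ, φ ≠ ψ₁ → φ ≠ ψ₂ → φ ≠ ψ₃ → z φ = 0 := by
    intro φ hφ1 hφ2 hφ3
    have hr3' : ∑ φ ∈ ((Finset.univ.erase ψ₁).erase ψ₂).erase ψ₃, z φ * z φ = 0 := by
      rw [hr3]; norm_num
    have := (Finset.sum_eq_zero_iff_of_nonneg (fun φ _ => mul_self_nonneg (z φ))).mp hr3' φ
      (Finset.mem_erase.mpr ⟨hφ3, Finset.mem_erase.mpr ⟨hφ2,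
        Finset.mem_erase.mpr ⟨hφ1, Finset.mem_univ φ⟩⟩⟩)
    exact mul_self_eq_zero.mp this
  refine ⟨ψ₁, ψ₂, ψ₃, z ψ₁, z ψ₂, z ψ₃, ψ₁.2, ψ₂.2, ψ₃.2,
    fun hh => hne21 (Subtype.ext hh.symm), fun hh => hne31 (Subtype.ext hh.symm),
    fun hh => hne32 (Subtype.ext hh.symm),
    mul_self_eq_one_iff.mp hsq1, mul_self_eq_one_iff.mp hsq2, mul_self_eq_one_iff.mp hsq3, ?_⟩
  rw [← Finset.add_sum_erase Finset.univ (fun φ : IrrCharacter G => (z φ : ℂ) • (φ : G → ℂ))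
      (Finset.mem_univ ψ₁),
    ← Finset.add_sum_erase _ (fun φ : IrrCharacter G => (z φ : ℂ) • (φ : G → ℂ)) hm2,
    ← Finset.add_sum_erase _ (fun φ : IrrCharacter G => (z φ : ℂ) • (φ : G → ℂ)) hm3]
  rw [Finset.sum_eq_zero, add_zero, add_assoc]
  intro φ hφ
  have hφ3 := (Finset.mem_erase.mp hφ).1
  have hφ2 := (Finset.mem_erase.mp (Finset.mem_erase.mp hφ).2).1
  have hφ1 := (Finset.mem_erase.mp (Finset.mem_erase.mp (Finset.mem_erase.mp hφ).2).2).1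
  rw [hzero φ hφ1 hφ2 hφ3]
  simp

end Cfsg.Agent.Lib.Helper30.BSQ8
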