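import Mathlib
import Cfsg.Agent.Lib.Helper20.BSGroup
import Cfsg.Agent.Lib.Helper20.BSCore
import Cfsg.Agent.Lib.Helper20.SylowNormal
import Cfsg.Agent.S3225

/-!
# Group theory of a quaternion Sylow 2-subgroup of order 8 (helper30)
-/

set_option autoImplicit false
set_option linter.unusedSectionVars false

namespace Cfsg.Agent.Lib.Helper30.BSQ8

open Cfsg Cfsg.Agent.Lib.Helper20 QuaternionGroup

section basic

variable {G : Type*} [Group G] (S : Subgroup G) (e : S ≃* QuaternionGroup 2)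

theorem orderOf_bsA_q8 : orderOf (bsA S e) = 4 := by
  rw [orderOf_bsA]

theorem bsA_pow_four : bsA S e ^ 4 = 1 := by
  rw [← orderOf_bsA_q8 S e]; exact pow_orderOf_eq_one _

/-- elements of `S` outside `⟨a⟩` have order four -/
theorem orderOf_eq_four_of_not_mem (x : G) (hx : x ∈ S) (hxa : x ∉ Subgroup.zpowers (bsA S e)) :
    orderOf x = 4 := by
  have h1 : x = ((e.symm (e ⟨x, hx⟩) : S) : G) := by rw [MulEquiv.symm_apply_apply]
  rcases h : e ⟨x, hx⟩ with i | i
  · exfalso
    apply hxa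
    rw [h1, h, coe_symm_a]
    exact Subgroup.npow_mem_zpowers _ _
  · have h2 : orderOf (⟨x, hx⟩ : S) = 4 := by
      rw [← MulEquiv.orderOf_eq e, h, orderOf_xa]
    rwa [Subgroup.orderOf_mk] at h2

include e in
/-- `S` has exponent four -/
theorem pow_four_of_mem (x : G) (hx : x ∈ S) : x ^ 4 = 1 := by
  by_cases hxa : x ∈ Subgroup.zpowers (bsA S e)
  · obtain ⟨k, rfl⟩ := Subgroup.mem_zpowers_iff.mp hxa
    rw [← zpow_natCast, ← zpow_mul, mul_comm, zpow_mul, zpow_natCast, bsA_pow_four, one_zpow]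
  · rw [← orderOf_eq_four_of_not_mem S e x hx hxa]; exact pow_orderOf_eq_one _

/-- an element of order four in `⟨a⟩` is `a` or `a⁻¹` -/
theorem eq_or_eq_inv_of_mem_zpowers {a x : G} (ha : orderOf a = 4) (hx : x ∈ Subgroup.zpowers a)
    (hx4 : orderOf x = 4) : x = a ∨ x = a⁻¹ := by
  have ha4 : a ^ 4 = 1 := by rw [← ha]; exact pow_orderOf_eq_one _
  obtain ⟨k, rfl⟩ := Subgroup.mem_zpowers_iff.mp hx
  have hk : a ^ k = a ^ (k % 4) := by
    conv_lhs => rw [← Int.mul_ediv_add_emod k 4]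
    rw [zpow_add, zpow_mul, zpow_ofNat, ha4, one_zpow, one_mul]
  have h0 : 0 ≤ k % 4 := Int.emod_nonneg k (by norm_num)
  have h4 : k % 4 < 4 := Int.emod_lt_of_pos k (by norm_num)
  have hcases : k % 4 = 0 ∨ k % 4 = 1 ∨ k % 4 = 2 ∨ k % 4 = 3 := by omega
  rcases hcases with h | h | h | h
  · exfalso
    rw [hk, h, zpow_zero, orderOf_one] at hx4
    omega
  · left; rw [hk, h, zpow_one]
  · exfalso
    rw [hk, h] at hx4
    have h2 : (a ^ (2 : ℤ)) ^ 2 = 1 := by
      rw [← zpow_natCast, ← zpow_mul]; norm_num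
      exact_mod_cast ha4
    have := orderOf_dvd_of_pow_eq_one h2
    rw [hx4] at this
    omega
  · right
    rw [hk, h]
    apply eq_inv_of_mul_eq_one_left
    have : a ^ (3 : ℤ) * a = a ^ 4 := by
      have : a ^ (3 : ℤ) = a ^ 3 := by norm_cast
      rw [this, ← pow_succ]
    rw [this, ha4]

end basic

section sylow

variable {G : Type*} [Group G] [Finite G] (S : Sylow 2 G) (e : (S : Subgroup G) ≃* QuaternionGroup 2)

include e in
theorem card_sylow_q8 : Nat.card (S : Subgroup G) = 8 := by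
  rw [Nat.card_congr e.toEquiv, Nat.card_eq_fintype_card, QuaternionGroup.card]

include e in
/-- every 2-element has order dividing four -/
theorem pow_four_of_two_element (u : G) (k : ℕ) (hu : orderOf u = 2 ^ k) : u ^ 4 = 1 := by
  have hp : IsPGroup 2 (Subgroup.zpowers u) :=
    IsPGroup.of_card (n := k) (by rw [Nat.card_zpowers, hu])
  obtain ⟨g, hg⟩ := sylow_le_conj S _ hp
  have h1 := pow_four_of_mem (S : Subgroup G) e _ (hg u (Subgroup.mem_zpowers u))
  have h2 : (g⁻¹ * u * g) ^ 4 = g⁻¹ * u ^ 4 * g := by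
    have := conj_pow (a := g⁻¹) (b := u) (i := 4)
    rw [inv_inv] at this
    exact this
  rw [h2] at h1
  have : u ^ 4 = g * (g⁻¹ * u ^ 4 * g) * g⁻¹ := by group
  rw [this, h1]; group

include e in
theorem even_card_q8 : Even (Nat.card G) := by
  have h2 := Subgroup.card_subgroup_dvd_card (S : Subgroup G)
  rw [card_sylow_q8 S e] at h2
  exact (even_iff_two_dvd).mpr (dvd_trans ⟨4, by norm_num⟩ h2)

/-- without subgroups of index two, every element of order four is conjugate to `a` -/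
theorem conj_of_orderOf_four (hidx : ∀ H : Subgroup G, H.index ≠ 2) (x : G) (hx : orderOf x = 4) :
    ∃ g : G, g * x * g⁻¹ = bsA (S : Subgroup G) e := by
  set a := bsA (S : Subgroup G) e with ha
  set w := bsW (S : Subgroup G) e with hw
  have ha4 : orderOf a = 4 := orderOf_bsA_q8 _ e
  have hp : IsPGroup 2 (Subgroup.zpowers x) :=
    IsPGroup.of_card (n := 2) (by rw [Nat.card_zpowers, hx]; norm_num)
  obtain ⟨g, hg⟩ := sylow_le_conj S _ hp
  set x' := g⁻¹ * x * g with hx'
  have hx'S : x' ∈ (S : Subgroup G) := hg x (Subgroup.mem_zpowers x)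
  have hx'4 : orderOf x' = 2 ^ 2 := by
    have : orderOf x' = orderOf x := by
      have := (MulAut.conj g⁻¹).orderOf_eq x
      simpa [MulAut.conj_apply, hx'] using this
    rw [this, hx]; norm_num
  have hMS : Subgroup.zpowers a ≤ (S : Subgroup G) := zpowers_bsA_le _ e
  have hM : (Subgroup.zpowers a).relIndex (S : Subgroup G) = 2 := by
    have h1 := relIndex_mul_card_of_le hMS
    rw [card_sylow_q8 S e, Nat.card_zpowers, ha4] at h1
    omega
  have hord : ∀ y ∈ (S : Subgroup G), y ∉ Subgroup.zpowers a → 2 ^ (2 - 1) < orderOf y := by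
    intro y hy hya
    rw [orderOf_eq_four_of_not_mem _ e y hy hya]; norm_num
  obtain ⟨h, hh⟩ := Cfsg.Agent.S3225.result (even_card_q8 S e) hidx S (Subgroup.zpowers a) hMS hM 2
    (by norm_num) hord x' hx'S hx'4
  have hord2 : orderOf (h * x' * h⁻¹) = 4 := by
    have := (MulAut.conj h).orderOf_eq x'
    simp only [MulAut.conj_apply] at this
    rw [this, hx'4]; norm_num
  rcases eq_or_eq_inv_of_mem_zpowers ha4 hh hord2 with h1 | h1
  · refine ⟨h * g⁻¹, ?_⟩
    rw [← h1, hx']; group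
  · refine ⟨w * h * g⁻¹, ?_⟩
    have h2 : w * a⁻¹ * w⁻¹ = a := by
      have := bsW_conj (S : Subgroup G) e
      have h4 : (w * a * w⁻¹)⁻¹ = a := by rw [this, inv_inv]
      calc w * a⁻¹ * w⁻¹ = (w * a * w⁻¹)⁻¹ := by group
        _ = a := h4
    calc w * h * g⁻¹ * x * (w * h * g⁻¹)⁻¹ = w * (h * x' * h⁻¹) * w⁻¹ := by rw [hx']; group
      _ = w * a⁻¹ * w⁻¹ := by rw [h1]
      _ = a := h2

end sylow

end Cfsg.Agent.Lib.Helper30.BSQ8
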