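import Mathlib
import Cfsg.Agent.Lib.Helper30.BSQ8Group

/-!
# The centralizer of an element of order four (quaternion Sylow 2-subgroup of order 8) (helper30)
-/

set_option autoImplicit false
set_option linter.unusedSectionVars false

namespace Cfsg.Agent.Lib.Helper30.BSQ8

open Cfsg Cfsg.Agent.Lib.Helper20 QuaternionGroup

theorem q8_comm_fact : ∀ q r : QuaternionGroup 2, q ^ 2 ≠ 1 → q * r = r * q →
    (r = 1 ∨ r = q ∨ r = q ^ 2 ∨ r = q ^ 3) := by decide

section cent

variable {G : Type*} [Group G] [Finite G] (S : Sylow 2 G) (e : (S : Subgroup G) ≃* QuaternionGroup 2)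

include e in
/-- inside `S`, the centralizer of an element of order four is the cyclic group it generates -/
theorem mem_zpowers_of_commute_in_S (x y : G) (hx : x ∈ (S : Subgroup G)) (hy : y ∈ (S : Subgroup G))
    (hx4 : orderOf x = 4) (hxy : x * y = y * x) : y ∈ Subgroup.zpowers x := by
  set q := e ⟨x, hx⟩ with hq
  set r := e ⟨y, hy⟩ with hr
  have hq4 : orderOf q = 4 := by
    rw [hq, MulEquiv.orderOf_eq, Subgroup.orderOf_mk, hx4]
  have hq2 : q ^ 2 ≠ 1 := by
    intro h
    have := orderOf_dvd_of_pow_eq_one h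
    rw [hq4] at this
    omega
  have hqr : q * r = r * q := by
    rw [hq, hr, ← map_mul, ← map_mul]
    congr 1
    exact Subtype.ext hxy
  have key : (⟨y, hy⟩ : (S : Subgroup G)) = 1 ∨ (⟨y, hy⟩ : (S : Subgroup G)) = ⟨x, hx⟩ ∨
      (⟨y, hy⟩ : (S : Subgroup G)) = ⟨x, hx⟩ ^ 2 ∨ (⟨y, hy⟩ : (S : Subgroup G)) = ⟨x, hx⟩ ^ 3 := by
    rcases q8_comm_fact q r hq2 hqr with h | h | h | h
    · left; apply e.injective; rw [map_one]; exact h
    · right; left; apply e.injective; exact h
    · right; right; left; apply e.injective; rw [map_pow]; exact h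
    · right; right; right; apply e.injective; rw [map_pow]; exact h
  rcases key with h | h | h | h
  · have : y = 1 := congrArg Subtype.val h
    rw [this]; exact Subgroup.one_mem _
  · have : y = x := congrArg Subtype.val h
    rw [this]; exact Subgroup.mem_zpowers x
  · have : y = x ^ 2 := congrArg Subtype.val h
    rw [this]; exact Subgroup.npow_mem_zpowers x 2
  · have : y = x ^ 3 := congrArg Subtype.val h
    rw [this]; exact Subgroup.npow_mem_zpowers x 3

include e in
/-- a 2-subgroup containing and centralizing an element of order four is generated by it -/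
theorem le_zpowers_of_le_centralizer (T : Subgroup G) (hT : IsPGroup 2 T) (a : G)
    (ha4 : orderOf a = 4) (haT : a ∈ T) (hTC : T ≤ Subgroup.centralizer ({a} : Set G)) :
    T ≤ Subgroup.zpowers a := by
  obtain ⟨g, hg⟩ := sylow_le_conj S T hT
  intro x hxT
  have hax : a * x = x * a := by
    have := hTC hxT
    rw [Subgroup.mem_centralizer_iff] at this
    exact this a (Set.mem_singleton a)
  have ha'4 : orderOf (g⁻¹ * a * g) = 4 := by
    have := (MulAut.conj g⁻¹).orderOf_eq a
    simp only [MulAut.conj_apply, inv_inv] at this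
    rw [this, ha4]
  have hcomm : (g⁻¹ * a * g) * (g⁻¹ * x * g) = (g⁻¹ * x * g) * (g⁻¹ * a * g) := by
    calc (g⁻¹ * a * g) * (g⁻¹ * x * g) = g⁻¹ * (a * x) * g := by group
      _ = g⁻¹ * (x * a) * g := by rw [hax]
      _ = (g⁻¹ * x * g) * (g⁻¹ * a * g) := by group
  have h1 := mem_zpowers_of_commute_in_S S e _ _ (hg a haT) (hg x hxT) ha'4 hcomm
  obtain ⟨k, hk⟩ := Subgroup.mem_zpowers_iff.mp h1
  rw [Subgroup.mem_zpowers_iff]
  refine ⟨k, ?_⟩
  have h2 : (g⁻¹ * a * g) ^ k = g⁻¹ * a ^ k * g := by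
    have := conj_zpow (a := g⁻¹) (b := a) (i := k)
    rw [inv_inv] at this
    exact this
  rw [h2] at hk
  calc a ^ k = g * (g⁻¹ * a ^ k * g) * g⁻¹ := by group
    _ = g * (g⁻¹ * x * g) * g⁻¹ := by rw [hk]
    _ = x := by group

end cent

end Cfsg.Agent.Lib.Helper30.BSQ8
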