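import Mathlib
import Cfsg.Agent.Lib.Helper30.BSQ8Cent
import Cfsg.Prelude.Def_Local

/-!
# The linear character `ν` of order two on `C_G(a)` (helper30)
-/

set_option autoImplicit false
set_option linter.unusedSectionVars false

namespace Cfsg.Agent.Lib.Helper30.BSQ8

open Cfsg Cfsg.Agent.Lib.Helper20 QuaternionGroup

/-- a homomorphism to `ℂˣ` from a group `K ⋊ ⟨a⟩` with `K` of odd order and `a` a 2-element -/
theorem exists_hom_of_normal_complement {H : Type*} [Group H] [Finite H] (K : Subgroup H) [K.Normal]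
    (hK : Odd (Nat.card K)) (a : H) (m : ℕ) (ha : orderOf a = 2 ^ m)
    (hsup : K ⊔ Subgroup.zpowers a = ⊤) (c : ℂˣ) (hc : c ^ 2 ^ m = 1) :
    ∃ μ : H →* ℂˣ, μ a = c ∧ (∀ k ∈ K, μ k = 1) := by
  set f := QuotientGroup.mk' K with hf
  set ā := f a with hā
  have hfsurj : Function.Surjective f := QuotientGroup.mk'_surjective K
  have hgen : ∀ q : H ⧸ K, q ∈ Subgroup.zpowers ā := by
    intro q
    have h1 : q ∈ Subgroup.map f ⊤ := by
      rw [Subgroup.map_top_of_surjective f hfsurj]; exact Subgroup.mem_top q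
    rw [← hsup, Subgroup.map_sup, QuotientGroup.map_mk'_self, bot_sup_eq,
      MonoidHom.map_zpowers] at h1
    exact h1
  have hordā : orderOf ā = 2 ^ m := by
    apply Nat.dvd_antisymm
    · rw [← ha]; exact orderOf_map_dvd f a
    · rw [← ha, orderOf_dvd_iff_pow_eq_one]
      set t := orderOf ā with ht
      have h1 : ā ^ t = 1 := pow_orderOf_eq_one ā
      have h2 : a ^ t ∈ K := by
        rw [hā, ← map_pow, hf, QuotientGroup.mk'_apply, QuotientGroup.eq_one_iff] at h1
        exact h1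
      have h3 : orderOf (a ^ t) ∣ Nat.card K := by
        have := orderOf_dvd_natCard (⟨a ^ t, h2⟩ : K)
        rwa [Subgroup.orderOf_mk] at this
      have h4 : orderOf (a ^ t) ∣ 2 ^ m := by
        rw [← ha]; exact orderOf_pow_dvd t
      have h5 : Nat.Coprime (Nat.card K) (2 ^ m) :=
        Nat.Coprime.pow_right _ (Nat.Coprime.symm
          ((Nat.Prime.coprime_iff_not_dvd Nat.prime_two).mpr hK.not_two_dvd_nat))
      have h6 : orderOf (a ^ t) = 1 := Nat.eq_one_of_dvd_coprimes h5 h3 h4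
      exact orderOf_eq_one_iff.mp h6
  have hdvd : orderOf c ∣ orderOf ā := by
    rw [hordā]; exact orderOf_dvd_of_pow_eq_one hc
  set φ : H ⧸ K →* ℂˣ := monoidHomOfForallMemZpowers hgen hdvd with hφ
  have hφā : φ ā = c := monoidHomOfForallMemZpowers_apply_gen hgen hdvd
  refine ⟨φ.comp f, hφā, ?_⟩
  intro k hk
  have : f k = 1 := by
    rw [hf, QuotientGroup.mk'_apply, QuotientGroup.eq_one_iff]; exact hk
  rw [MonoidHom.comp_apply, this, map_one]

/-- odd powers of an element of order four -/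
theorem zpow_odd_eq {H : Type*} [Group H] {a : H} (ha : a ^ 4 = 1) (j : ℤ) (hj : Odd j) :
    a ^ j = a ∨ a ^ j = a⁻¹ := by
  have hk : a ^ j = a ^ (j % 4) := by
    conv_lhs => rw [← Int.mul_ediv_add_emod j 4]
    rw [zpow_add, zpow_mul, zpow_ofNat, ha, one_zpow, one_mul]
  obtain ⟨c, hc⟩ := hj
  have hcases : j % 4 = 1 ∨ j % 4 = 3 := by omega
  rcases hcases with h | h
  · left; rw [hk, h, zpow_one]
  · right
    rw [hk, h]
    apply eq_inv_of_mul_eq_one_left
    have h3 : a ^ (3 : ℤ) = a ^ 3 := by norm_cast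
    rw [h3, ← pow_succ]; exact ha

theorem zpow_even_sq {H : Type*} [Group H] {a : H} (ha : a ^ 4 = 1) (j : ℤ) (hj : Even j) :
    (a ^ j) ^ 2 = 1 := by
  obtain ⟨c, rfl⟩ := hj
  rw [← zpow_natCast, ← zpow_mul]
  have : (c + c) * ((2 : ℕ) : ℤ) = 4 * c := by push_cast; ring
  rw [this, zpow_mul, zpow_ofNat, ha, one_zpow]

section nu

variable {G : Type*} [Group G] [Finite G] (S : Sylow 2 G) (e : (S : Subgroup G) ≃* QuaternionGroup 2)

/-- the package of facts about `C = C_G(a)` -/
theorem exists_nu (a : G) (ha4 : orderOf a = 4)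
    (hsyl : ∀ T : Subgroup G, IsPGroup 2 T → a ∈ T → T ≤ Subgroup.centralizer ({a} : Set G) →
      T ≤ Subgroup.zpowers a) :
    ∃ (ν : ↥(Subgroup.centralizer ({a} : Set G)) →* ℂˣ) (n : ℕ), Odd n ∧ ν ≠ 1 ∧
      (∀ y, ν y = 1 ∨ ν y = -1) ∧
      (∀ y : ↥(Subgroup.centralizer ({a} : Set G)), ν y = -1 ↔ 4 ∣ orderOf (y : G)) ∧
      (∀ y : ↥(Subgroup.centralizer ({a} : Set G)), ν y = -1 → (y : G) ^ n = a ∨ (y : G) ^ n = a⁻¹) ∧
      (∀ y : ↥(Subgroup.centralizer ({a} : Set G)), ν y = -1 →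
        ∃ k : G, k ∈ centralizerPPrimeCore 2 a ∧ ((y : G) = a * k ∨ (y : G) = a⁻¹ * k)) := by
  have : Fact (Nat.Prime 2) := ⟨Nat.prime_two⟩
  set C := Subgroup.centralizer ({a} : Set G) with hC
  have haC : a ∈ C := by
    rw [hC, Subgroup.mem_centralizer_iff]
    intro h hh
    rw [Set.mem_singleton_iff.mp hh]
  set a' : C := ⟨a, haC⟩ with ha'
  have hcentral : ∀ y : C, a' * y = y * a' := by
    intro y
    apply Subtype.ext
    exact Subgroup.mem_centralizer_iff.mp y.2 a (Set.mem_singleton a)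
  have ha'4 : orderOf a' = 4 := by rw [Subgroup.orderOf_mk, ha4]
  have ha'pow : a' ^ 4 = 1 := by rw [← ha'4]; exact pow_orderOf_eq_one _
  set R : Subgroup C := Subgroup.zpowers a' with hR
  have hRcyc : IsCyclic R := Subgroup.isCyclic_zpowers a'
  have hRp : IsPGroup 2 R := IsPGroup.of_card (n := 2) (by rw [Nat.card_zpowers, ha'4]; norm_num)
  have hidx : ¬ 2 ∣ R.index := by
    obtain ⟨T, hRT⟩ := hRp.exists_le_sylow
    have hT' : IsPGroup 2 ((T : Subgroup C).map C.subtype) := T.isPGroup'.map _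
    have haT' : a ∈ (T : Subgroup C).map C.subtype :=
      ⟨a', hRT (Subgroup.mem_zpowers a'), rfl⟩
    have hT'C : (T : Subgroup C).map C.subtype ≤ C := by
      rintro _ ⟨t, -, rfl⟩
      exact t.2
    have hle := hsyl _ hT' haT' hT'C
    have hTR : (T : Subgroup C) ≤ R := by
      intro t ht
      have h1 : (t : G) ∈ Subgroup.zpowers a := hle ⟨t, ht, rfl⟩
      obtain ⟨k, hk⟩ := Subgroup.mem_zpowers_iff.mp h1
      rw [hR, Subgroup.mem_zpowers_iff]
      exact ⟨k, Subtype.ext (by rw [Subgroup.coe_zpow]; exact hk)⟩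
    have hEq : (T : Subgroup C) = R := le_antisymm hTR hRT
    rw [← hEq]
    exact T.not_dvd_index
  have heven : 2 ∣ Nat.card C := by
    have := orderOf_dvd_natCard a'
    rw [ha'4] at this
    exact dvd_trans ⟨2, by norm_num⟩ this
  obtain ⟨K, hKn, hKodd, hKsup, hKmem⟩ := exists_normal_two_complement R hRcyc hRp hidx heven
  set n := Nat.card K with hn
  have hminus : ((-1 : ℂˣ)) ^ 2 ^ 2 = 1 := by norm_num
  obtain ⟨ν, hνa, hνK⟩ := exists_hom_of_normal_complement K hKodd a' 2 (by rw [ha'4]; norm_num)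
    hKsup (-1) hminus
  -- decomposition of elements
  have hdecomp : ∀ y : C, ∃ k ∈ K, ∃ j : ℤ, y = k * a' ^ j := by
    intro y
    have hy : y ∈ (↑(K ⊔ R) : Set C) := by rw [hKsup]; exact Subgroup.mem_top y
    rw [Subgroup.normal_mul] at hy
    obtain ⟨k, hk, r, hr, rfl⟩ := hy
    obtain ⟨j, rfl⟩ := Subgroup.mem_zpowers_iff.mp hr
    exact ⟨k, hk, j, rfl⟩
  have hνval : ∀ (k : C) (hk : k ∈ K) (j : ℤ), ν (k * a' ^ j) = (-1 : ℂˣ) ^ j := by
    intro k hk j
    rw [map_mul, hνK k hk, one_mul, map_zpow, hνa]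
  have hcomm : ∀ (k : C) (j : ℤ), Commute k (a' ^ j) := by
    intro k j
    exact (Commute.zpow_left (hcentral k) j).symm
  have hkpow : ∀ k ∈ K, k ^ n = 1 := by
    intro k hk
    have := pow_card_eq_one' (G := K) (x := ⟨k, hk⟩)
    have h2 := congrArg Subtype.val this
    rw [Subgroup.coe_pow] at h2
    exact h2
  have hne : (-1 : ℂˣ) ≠ 1 := by
    intro h
    have := congrArg Units.val h
    norm_num at this
  refine ⟨ν, n, hKodd, ?_, ?_, ?_, ?_, ?_⟩
  · intro h
    rw [h, MonoidHom.one_apply] at hνa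
    exact hne hνa.symm
  · intro y
    obtain ⟨k, hk, j, rfl⟩ := hdecomp y
    rw [hνval k hk j]
    rcases Int.even_or_odd j with hj | hj
    · left; exact hj.neg_one_zpow
    · right; exact hj.neg_one_zpow
  · intro y
    obtain ⟨k, hk, j, rfl⟩ := hdecomp y
    rw [hνval k hk j, Subgroup.orderOf_coe]
    constructor
    · intro h
      have hj : Odd j := by
        rcases Int.even_or_odd j with hj | hj
        · rw [hj.neg_one_zpow] at h; exact absurd h.symm hne
        · exact hj
      have h1 : (k * a' ^ j) ^ n = a' ^ (j * n) := by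
        rw [(hcomm k j).mul_pow, hkpow k hk, one_mul, ← zpow_natCast, ← zpow_mul]
      have hjn : Odd (j * n) := hj.mul (by exact_mod_cast hKodd)
      have h2 : orderOf ((k * a' ^ j) ^ n) = 4 := by
        rw [h1]
        rcases zpow_odd_eq ha'pow _ hjn with h | h
        · rw [h, ha'4]
        · rw [h, orderOf_inv, ha'4]
      rw [← h2]
      exact orderOf_pow_dvd n
    · intro h
      by_contra hcon
      have hj : Even j := by
        rcases Int.even_or_odd j with hj | hj
        · exact hj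
        · rw [hj.neg_one_zpow] at hcon; exact absurd rfl hcon
      have h1 : (k * a' ^ j) ^ (2 * n) = 1 := by
        rw [(hcomm k j).mul_pow, mul_comm 2 n, pow_mul, hkpow k hk, one_pow, one_mul,
          mul_comm n 2, pow_mul, zpow_even_sq ha'pow j hj, one_pow]
      have h2 := orderOf_dvd_of_pow_eq_one h1
      have h3 : 4 ∣ 2 * n := dvd_trans h h2
      obtain ⟨c, hc⟩ := hKodd
      omega
  · intro y hy
    obtain ⟨k, hk, j, rfl⟩ := hdecomp y
    rw [hνval k hk j] at hy
    have hj : Odd j := by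
      rcases Int.even_or_odd j with hj | hj
      · rw [hj.neg_one_zpow] at hy; exact absurd hy.symm hne
      · exact hj
    have h1 : (k * a' ^ j) ^ n = a' ^ (j * n) := by
      rw [(hcomm k j).mul_pow, hkpow k hk, one_mul, ← zpow_natCast, ← zpow_mul]
    have hjn : Odd (j * n) := hj.mul (by exact_mod_cast hKodd)
    rw [← Subgroup.coe_pow, h1]
    rcases zpow_odd_eq ha'pow _ hjn with h | h
    · left; rw [h]
    · right; rw [h]; rfl
  · intro y hy
    obtain ⟨k, hk, j, rfl⟩ := hdecomp y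
    rw [hνval k hk j] at hy
    have hj : Odd j := by
      rcases Int.even_or_odd j with hj | hj
      · rw [hj.neg_one_zpow] at hy; exact absurd hy.symm hne
      · exact hj
    have hkcore : (k : G) ∈ centralizerPPrimeCore 2 a := by
      refine ⟨k, ?_, rfl⟩
      have hcop : (Nat.card K).Coprime 2 := Nat.coprime_two_right.mpr hKodd
      exact (le_sSup (show K ∈ {N : Subgroup C | N.Normal ∧ (Nat.card N).Coprime 2} from
        ⟨hKn, hcop⟩)) hk
    refine ⟨(k : G), hkcore, ?_⟩
    rcases zpow_odd_eq ha'pow j hj with h | h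
    · left
      rw [h, ← hcentral k]
      rfl
    · right
      rw [h]
      have : k * a'⁻¹ = a'⁻¹ * k :=
        (Commute.inv_left (show Commute a' k from hcentral k)).eq.symm
      rw [this]
      rfl

end nu

end Cfsg.Agent.Lib.Helper30.BSQ8
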