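import Mathlib
import Cfsg.Agent.Lib.Helper30.BSQ8Nu
import Cfsg.Agent.Lib.Helper20.BSKernel

/-!
# The configuration for the Brauer–Suzuki argument with a quaternion Sylow subgroup of order 8 (helper30)
-/

set_option autoImplicit false
set_option linter.unusedSectionVars false

namespace Cfsg.Agent.Lib.Helper30.BSQ8

open Cfsg Cfsg.Agent.Lib.Helper20 QuaternionGroup

/-- The data used by the character-theoretic argument. -/
structure Q8Data (G : Type*) [Group G] where
  /-- an element of order four -/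
  a : G
  /-- an element inverting `a` -/
  w : G
  /-- the linear character of order two of `C_G(a)` -/
  ν : ↥(Subgroup.centralizer ({a} : Set G)) →* ℂˣ
  ha4 : orderOf a = 4
  hwa : w * a * w⁻¹ = a⁻¹
  hν1 : ν ≠ 1
  hνval : ∀ y, ν y = 1 ∨ ν y = -1
  hν4 : ∀ y : ↥(Subgroup.centralizer ({a} : Set G)), ν y = -1 ↔ 4 ∣ orderOf (y : G)
  hdec : ∀ y : ↥(Subgroup.centralizer ({a} : Set G)), ν y = -1 →
    ∃ k : G, k ∈ centralizerPPrimeCore 2 a ∧ ((y : G) = a * k ∨ (y : G) = a⁻¹ * k)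
  hTI : ∀ x y : G, y ∈ Subgroup.centralizer ({a} : Set G) → 4 ∣ orderOf y →
    x⁻¹ * y * x ∈ Subgroup.centralizer ({a} : Set G) →
    x ∈ Subgroup.centralizer ({a} : Set G) ∨ x * w⁻¹ ∈ Subgroup.centralizer ({a} : Set G)
  hcover : ∀ g : G, 4 ∣ orderOf g → ∃ x : G, x⁻¹ * g * x ∈ Subgroup.centralizer ({a} : Set G)
  hconj4 : ∀ x : G, orderOf x = 4 → ∃ g : G, g * x * g⁻¹ = a
  hinv : ∀ s t : G, orderOf s = 2 → orderOf t = 2 → Odd (orderOf (s * t))

theorem mem_centralizer_singleton' {G : Type*} [Group G] {a x : G} :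
    x ∈ Subgroup.centralizer ({a} : Set G) ↔ a * x = x * a := by
  rw [Subgroup.mem_centralizer_iff]
  constructor
  · intro h; exact h a (Set.mem_singleton a)
  · intro h y hy; rw [Set.mem_singleton_iff.mp hy]; exact h

section

variable {G : Type*} [Group G] [Finite G] (S : Sylow 2 G) (e : (S : Subgroup G) ≃* QuaternionGroup 2)

theorem exists_q8Data (hidx : ∀ H : Subgroup G, H.index ≠ 2) :
    ∃ D : Q8Data G, D.a = bsA (S : Subgroup G) e := by
  set a := bsA (S : Subgroup G) e with ha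
  set w := bsW (S : Subgroup G) e with hw
  have ha4 : orderOf a = 4 := orderOf_bsA_q8 _ e
  have hwa : w * a * w⁻¹ = a⁻¹ := bsW_conj _ e
  have hwa' : w⁻¹ * a * w = a⁻¹ := bsW_conj' _ e
  have hsyl := fun T hT haT hTC => le_zpowers_of_le_centralizer S e T hT a ha4 haT hTC
  obtain ⟨ν, n, hn, hν1, hνval, hν4, hpow, hdec⟩ := exists_nu a ha4 hsyl
  have hconj4 : ∀ x : G, orderOf x = 4 → ∃ g : G, g * x * g⁻¹ = a :=
    conj_of_orderOf_four S e hidx
  have hne : NeZero 2 := ⟨by norm_num⟩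
  have hU := commuting_involutions_eq S 2 e
  refine ⟨{ a := a, w := w, ν := ν, ha4 := ha4, hwa := hwa, hν1 := hν1, hνval := hνval,
            hν4 := hν4, hdec := hdec, hTI := ?_, hcover := ?_, hconj4 := hconj4,
            hinv := odd_orderOf_mul_involutions hU }, rfl⟩
  · intro x y hy h4 hxy
    have h1 : y ^ n = a ∨ y ^ n = a⁻¹ := hpow ⟨y, hy⟩ ((hν4 ⟨y, hy⟩).mpr h4)
    have h4' : 4 ∣ orderOf (x⁻¹ * y * x) := by
      have := (MulAut.conj x⁻¹).orderOf_eq y
      simp only [MulAut.conj_apply, inv_inv] at this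
      rw [this]; exact h4
    have h2 : (x⁻¹ * y * x) ^ n = a ∨ (x⁻¹ * y * x) ^ n = a⁻¹ :=
      hpow ⟨x⁻¹ * y * x, hxy⟩ ((hν4 ⟨x⁻¹ * y * x, hxy⟩).mpr h4')
    have h3 : (x⁻¹ * y * x) ^ n = x⁻¹ * y ^ n * x := by
      have := conj_pow (a := x⁻¹) (b := y) (i := n)
      rw [inv_inv] at this
      exact this
    rw [h3] at h2
    -- either `x⁻¹ a x = a` or `x⁻¹ a x = a⁻¹`
    have hcases : x⁻¹ * a * x = a ∨ x⁻¹ * a * x = a⁻¹ := by
      rcases h1 with h1 | h1 <;> rcases h2 with h2 | h2 <;> rw [h1] at h2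
      · left; exact h2
      · right; exact h2
      · right
        have : x⁻¹ * a * x = (x⁻¹ * a⁻¹ * x)⁻¹ := by group
        rw [this, h2]
      · left
        have : x⁻¹ * a * x = (x⁻¹ * a⁻¹ * x)⁻¹ := by group
        rw [this, h2, inv_inv]
    rcases hcases with h | h
    · left
      rw [mem_centralizer_singleton']
      calc a * x = x * (x⁻¹ * a * x) := by group
        _ = x * a := by rw [h]
    · right
      rw [mem_centralizer_singleton']
      have h5 : a * x = x * a⁻¹ := by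
        calc a * x = x * (x⁻¹ * a * x) := by group
          _ = x * a⁻¹ := by rw [h]
      have h6 : w⁻¹ * a = a⁻¹ * w⁻¹ := by
        calc w⁻¹ * a = (w⁻¹ * a * w) * w⁻¹ := by group
          _ = a⁻¹ * w⁻¹ := by rw [hwa']
      calc a * (x * w⁻¹) = (a * x) * w⁻¹ := by group
        _ = x * (a⁻¹ * w⁻¹) := by rw [h5]; group
        _ = x * (w⁻¹ * a) := by rw [h6]
        _ = x * w⁻¹ * a := by group
  · intro g h4
    obtain ⟨k, r, hr, hkr⟩ := Nat.exists_eq_two_pow_mul_odd (orderOf_pos g).ne'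
    set u := g ^ r with hu
    have huo : orderOf u = 2 ^ k := by
      rw [hu, orderOf_pow' _ (by rintro rfl; simp at hr), hkr, Nat.gcd_eq_right (dvd_mul_left _ _)]
      exact Nat.mul_div_cancel _ (by rcases hr with ⟨c, rfl⟩; omega)
    have hu4 : u ^ 4 = 1 := pow_four_of_two_element S e u k huo
    have hk2 : 2 ≤ k := by
      by_contra hlt
      push Not at hlt
      have h5 : (4 : ℕ) ∣ 2 ^ k * r := hkr ▸ h4
      have hcop : Nat.Coprime 4 r := by
        have : Nat.Coprime 2 r := Nat.coprime_two_left.mpr hr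
        exact Nat.Coprime.pow_left 2 this
      have h6 : 4 ∣ 2 ^ k := hcop.dvd_of_dvd_mul_right h5
      have h7 : 2 ^ k ≤ 2 ^ 1 := Nat.pow_le_pow_right (by norm_num) (by omega)
      have := Nat.le_of_dvd (by positivity) h6
      omega
    have hk2' : k = 2 := by
      have h5 := orderOf_dvd_of_pow_eq_one hu4
      rw [huo] at h5
      have h6 : 2 ^ k ≤ 4 := Nat.le_of_dvd (by norm_num) h5
      have h7 : 2 ^ 2 ≤ 2 ^ k := Nat.pow_le_pow_right (by norm_num) hk2
      by_contra hne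
      have h8 : 2 ^ 3 ≤ 2 ^ k := Nat.pow_le_pow_right (by norm_num) (by omega)
      omega
    have huo4 : orderOf u = 4 := by rw [huo, hk2']; norm_num
    obtain ⟨x, hx⟩ := hconj4 u huo4
    refine ⟨x⁻¹, ?_⟩
    rw [inv_inv, mem_centralizer_singleton', ← hx]
    have hcomm : u * g = g * u := by
      rw [hu]; exact (Commute.pow_left (Commute.refl g) r).eq
    calc x * u * x⁻¹ * (x * g * x⁻¹) = x * (u * g) * x⁻¹ := by group
      _ = x * (g * u) * x⁻¹ := by rw [hcomm]
      _ = x * g * x⁻¹ * (x * u * x⁻¹) := by group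

end

end Cfsg.Agent.Lib.Helper30.BSQ8
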