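import Mathlib
import Cfsg.Agent.Lib.Helper30.BSQ8Config
import Cfsg.Agent.Lib.Helper34.Induction
import Cfsg.Agent.Lib.Helper34.LinChar
import Cfsg.Agent.Lib.Helper34.GenChar
import Cfsg.Agent.Lib.Helper83.Linear
import Cfsg.Agent.Lib.Helper05.CharOrtho

/-!
# The generalized character `Θ = Ind_C^G (1 - ν)` (helper30)
-/

set_option autoImplicit false
set_option linter.unusedSectionVars false

namespace Cfsg.Agent.Lib.Helper30.BSQ8

open scoped ComplexConjugate
open Cfsg
open Cfsg.Agent.Lib.Helper34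

section

variable {G : Type*} [Group G] [Fintype G] (D : Q8Data G)

/-- the centralizer of `a` -/
abbrev Q8Data.C : Subgroup G := Subgroup.centralizer ({D.a} : Set G)

/-- `θ = 1 - ν` on `C` -/
noncomputable def Q8Data.theta : D.C → ℂ := fun y => 1 - ((D.ν y : ℂˣ) : ℂ)

/-- the function induced by `θ` -/
noncomputable def Q8Data.Theta : G → ℂ := indFun D.C D.theta

theorem Q8Data.theta_apply (y : D.C) : D.theta y = 1 - ((D.ν y : ℂˣ) : ℂ) := rfl

theorem Q8Data.theta_eq : D.theta = linFun (1 : D.C →* ℂˣ) - linFun D.ν := by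
  funext y
  simp [Q8Data.theta, linFun]

theorem Q8Data.theta_of_dvd (y : D.C) (h : 4 ∣ orderOf (y : G)) : D.theta y = 2 := by
  rw [D.theta_apply, (D.hν4 y).mpr h]
  norm_num

theorem Q8Data.theta_of_not_dvd (y : D.C) (h : ¬ 4 ∣ orderOf (y : G)) : D.theta y = 0 := by
  have h1 : D.ν y = 1 := by
    rcases D.hνval y with h1 | h1
    · exact h1
    · exact absurd ((D.hν4 y).mp h1) h
  rw [D.theta_apply, h1]
  simp

theorem orderOf_conj_inv_mul' {H : Type*} [Group H] (x g : H) :
    orderOf (x⁻¹ * g * x) = orderOf g := by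
  have := (MulAut.conj x⁻¹).orderOf_eq g
  simpa [MulAut.conj_apply] using this

theorem Q8Data.Theta_eq_zero (g : G) (h : ¬ 4 ∣ orderOf g) : D.Theta g = 0 := by
  rw [Q8Data.Theta, indFun_apply]
  have : ∀ x : G, extendByZero D.C D.theta (x⁻¹ * g * x) = 0 := by
    intro x
    by_cases hx : x⁻¹ * g * x ∈ D.C
    · rw [extendByZero_apply_mem _ _ hx]
      apply D.theta_of_not_dvd
      show ¬ 4 ∣ orderOf (x⁻¹ * g * x)
      rw [orderOf_conj_inv_mul']
      exact h
    · exact extendByZero_apply_not_mem _ _ hx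
  simp [this]

theorem Q8Data.w_not_mem : D.w ∉ D.C := by
  intro h
  rw [mem_centralizer_singleton'] at h
  have h1 : D.w * D.a * D.w⁻¹ = D.a := by
    rw [← h]; group
  rw [D.hwa] at h1
  -- a⁻¹ = a contradicts order four
  have h2 : D.a ^ 2 = 1 := by
    rw [sq]
    nth_rewrite 1 [← h1]
    exact inv_mul_cancel _
  have := orderOf_dvd_of_pow_eq_one h2
  rw [D.ha4] at this
  omega

theorem Q8Data.conj_w_mem (y : G) (hy : y ∈ D.C) : D.w⁻¹ * y * D.w ∈ D.C := by
  rw [mem_centralizer_singleton'] at hy ⊢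
  have h1 : D.a = D.w⁻¹ * D.a⁻¹ * D.w := by
    rw [← D.hwa]; group
  have h2 : D.a⁻¹ * y = y * D.a⁻¹ := by
    calc D.a⁻¹ * y = D.a⁻¹ * (y * D.a) * D.a⁻¹ := by group
      _ = D.a⁻¹ * (D.a * y) * D.a⁻¹ := by rw [hy]
      _ = y * D.a⁻¹ := by group
  calc D.a * (D.w⁻¹ * y * D.w) = D.w⁻¹ * D.a⁻¹ * D.w * (D.w⁻¹ * y * D.w) := by rw [← h1]
    _ = D.w⁻¹ * (D.a⁻¹ * y) * D.w := by group
    _ = D.w⁻¹ * (y * D.a⁻¹) * D.w := by rw [h2]
    _ = D.w⁻¹ * y * D.w * (D.w⁻¹ * D.a⁻¹ * D.w) := by group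
    _ = D.w⁻¹ * y * D.w * D.a := by rw [← h1]

theorem sum_ite_mem_subgroup' (C : Subgroup G) (c : ℂ) [DecidablePred (· ∈ C)] :
    ∑ x : G, (if x ∈ C then c else 0) = (Nat.card C : ℂ) * c := by
  rw [← Finset.sum_filter, Finset.sum_const, nsmul_eq_mul]
  congr 2
  exact (Nat.subtype_card (Finset.univ.filter (· ∈ C)) (by simp)).symm

theorem Q8Data.Theta_apply_mem (y : D.C) (h : 4 ∣ orderOf (y : G)) : D.Theta y = 4 := by
  classical
  rw [Q8Data.Theta, indFun_apply]
  have hterm : ∀ x : G, extendByZero D.C D.theta (x⁻¹ * (y : G) * x) =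
      (if x ∈ D.C then (2 : ℂ) else 0) + (if x * D.w⁻¹ ∈ D.C then (2 : ℂ) else 0) := by
    intro x
    have hord : 4 ∣ orderOf (x⁻¹ * (y : G) * x) := by rw [orderOf_conj_inv_mul']; exact h
    by_cases hx : x ∈ D.C
    · have hx2 : x * D.w⁻¹ ∉ D.C := by
        intro h2
        have h3 : D.w⁻¹ ∈ D.C := by
          have := D.C.mul_mem (D.C.inv_mem hx) h2
          rwa [inv_mul_cancel_left] at this
        exact D.w_not_mem (by simpa using D.C.inv_mem h3)
      rw [if_pos hx, if_neg hx2, add_zero]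
      have hmem : x⁻¹ * (y : G) * x ∈ D.C :=
        D.C.mul_mem (D.C.mul_mem (D.C.inv_mem hx) y.2) hx
      rw [extendByZero_apply_mem _ _ hmem]
      exact D.theta_of_dvd ⟨_, hmem⟩ hord
    · rw [if_neg hx, zero_add]
      by_cases hx2 : x * D.w⁻¹ ∈ D.C
      · rw [if_pos hx2]
        have h4 : x⁻¹ * (y : G) * x
            = D.w⁻¹ * ((x * D.w⁻¹)⁻¹ * (y : G) * (x * D.w⁻¹)) * D.w := by group
        have hmem : x⁻¹ * (y : G) * x ∈ D.C := by
          rw [h4]
          exact D.conj_w_mem _ (D.C.mul_mem (D.C.mul_mem (D.C.inv_mem hx2) y.2) hx2)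
        rw [extendByZero_apply_mem _ _ hmem]
        exact D.theta_of_dvd ⟨_, hmem⟩ hord
      · rw [if_neg hx2, extendByZero_apply_not_mem]
        intro hmem
        rcases D.hTI x y y.2 h hmem with h6 | h6
        · exact hx h6
        · exact hx2 h6
  simp only [hterm, Finset.sum_add_distrib]
  rw [sum_ite_mem_subgroup']
  have h7 : ∑ x : G, (if x * D.w⁻¹ ∈ D.C then (2 : ℂ) else 0)
      = ∑ x : G, (if x ∈ D.C then (2 : ℂ) else 0) := by
    rw [← Equiv.sum_comp (Equiv.mulRight D.w)]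
    apply Finset.sum_congr rfl
    intro x _
    simp only [Equiv.coe_mulRight, mul_inv_cancel_right]
  rw [h7, sum_ite_mem_subgroup']
  have hc : (Nat.card D.C : ℂ) ≠ 0 := Nat.cast_ne_zero.mpr Nat.card_pos.ne'
  field_simp
  norm_num

theorem Q8Data.Theta_of_dvd (g : G) (h : 4 ∣ orderOf g) : D.Theta g = 4 := by
  obtain ⟨x, hx⟩ := D.hcover g h
  have h1 : D.Theta (x⁻¹ * g * x) = D.Theta g := by
    have := indFun_isClassFunction D.C D.theta g x⁻¹
    rw [inv_inv] at this
    exact this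
  rw [← h1]
  apply D.Theta_apply_mem ⟨_, hx⟩
  show 4 ∣ orderOf (x⁻¹ * g * x)
  rw [orderOf_conj_inv_mul']; exact h

theorem Q8Data.Theta_restrict (y : D.C) : D.Theta y = 2 * D.theta y := by
  by_cases h : 4 ∣ orderOf (y : G)
  · rw [D.Theta_of_dvd _ h, D.theta_of_dvd y h]; norm_num
  · rw [D.Theta_eq_zero _ h, D.theta_of_not_dvd y h]; norm_num

theorem Q8Data.Theta_one : D.Theta 1 = 0 := by
  apply D.Theta_eq_zero
  rw [orderOf_one]; norm_num

variable [Fintype D.C]

theorem Q8Data.classInner_Theta_one :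
    classInner D.Theta (fun _ => (1 : ℂ)) = 1 := by
  classical
  rw [Q8Data.Theta, classInner_indFun_left D.C D.theta _ (fun _ _ => rfl),
    D.theta_eq, ← linFun_one, classInner_sub_left, classInner_linFun, classInner_linFun,
    if_pos rfl, if_neg D.hν1, sub_zero]

theorem Q8Data.classInner_theta_theta : classInner D.theta D.theta = 2 := by
  classical
  have hne2 : (1 : D.C →* ℂˣ) ≠ D.ν := fun h => D.hν1 h.symm
  rw [D.theta_eq]
  simp only [classInner_sub_left, classInner_sub_right, classInner_linFun,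
    if_pos, if_neg D.hν1, if_neg hne2]
  norm_num

theorem Q8Data.classInner_Theta_Theta : classInner D.Theta D.Theta = 4 := by
  classical
  have h1 : classInner D.Theta D.Theta = classInner D.theta (fun h : D.C => D.Theta h) := by
    conv_lhs => rw [Q8Data.Theta]
    exact classInner_indFun_left D.C D.theta _ (indFun_isClassFunction D.C D.theta)
  have h2 : (fun h : D.C => D.Theta h) = (2 : ℂ) • D.theta := by
    funext y
    rw [D.Theta_restrict y]
    rfl
  rw [h1, h2, classInner_smul_right, D.classInner_theta_theta]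
  have h3 : (starRingEnd ℂ) (2 : ℂ) = 2 := Complex.conj_ofNat 2
  rw [h3]
  norm_num

theorem Q8Data.isGeneralizedCharacter_Theta : IsGeneralizedCharacter G D.Theta := by
  apply isGeneralizedCharacter_indFun
  refine ⟨linFun 1, linFun D.ν, ?_, ?_, D.theta_eq⟩
  · exact Cfsg.Agent.Lib.Helper83.isCharacter_of_hom 1
  · exact Cfsg.Agent.Lib.Helper83.isCharacter_of_hom D.ν

end

end Cfsg.Agent.Lib.Helper30.BSQ8
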