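import Mathlib
import Cfsg.Agent.Lib.Helper30.BSQ8Theta
import Cfsg.Agent.S0942
import Cfsg.Agent.Lib.Helper81.BlockPart
import Cfsg.Agent.Lib.Helper82.WeakOrth

/-!
# Block-theoretic input for Brauer–Suzuki with `Q₈` (helper30)

* characters in the principal 2-block take the value `(Θ, χ)` at `a` (via S0942);
* the block parts of `Θ` vanish at the identity (weak block orthogonality).
-/

set_option autoImplicit false
set_option linter.unusedSectionVars false

namespace Cfsg.Agent.Lib.Helper30.BSQ8

open scoped ComplexConjugate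
open Cfsg
open Cfsg.Agent.Lib.Helper34

theorem centralizer_inv_eq {G : Type*} [Group G] (a : G) :
    Subgroup.centralizer ({a⁻¹} : Set G) = Subgroup.centralizer ({a} : Set G) := by
  ext x
  rw [mem_centralizer_singleton', mem_centralizer_singleton']
  constructor
  · intro h
    calc a * x = a * (x * a⁻¹) * a := by group
      _ = a * (a⁻¹ * x) * a := by rw [h]
      _ = x * a := by group
  · intro h
    calc a⁻¹ * x = a⁻¹ * (x * a) * a⁻¹ := by group
      _ = a⁻¹ * (a * x) * a⁻¹ := by rw [h]
      _ = x * a⁻¹ := by group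

theorem centralizerPPrimeCore_inv {G : Type*} [Group G] (p : ℕ) (a : G) :
    centralizerPPrimeCore p a⁻¹ = centralizerPPrimeCore p a := by
  unfold centralizerPPrimeCore
  exact congrArg (fun H : Subgroup G => (pPrimeCore p ↥H).map H.subtype) (centralizer_inv_eq a)

section

variable {G : Type*} [Group G] [Fintype G] (D : Q8Data G) [Fintype D.C]

theorem Q8Data.char_eq_of_nu (M : Ideal AlgInt) (hM : IsPModular 2 M) (χ : IrrCharacter G)
    (hχ : χ ∈ principalBlock M G) (y : D.C) (hy : D.ν y = -1) :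
    (χ : G → ℂ) (y : G) = (χ : G → ℂ) D.a := by
  have : Fact (Nat.Prime 2) := ⟨Nat.prime_two⟩
  obtain ⟨k, hk, h | h⟩ := D.hdec y hy
  · rw [h]
    exact Cfsg.Agent.S0942.result 2 M hM D.a ⟨2, by rw [D.ha4]; norm_num⟩ k hk χ hχ
  · rw [h]
    have h1 := Cfsg.Agent.S0942.result 2 M hM D.a⁻¹ ⟨2, by rw [orderOf_inv, D.ha4]; norm_num⟩ k
      (by rw [centralizerPPrimeCore_inv]; exact hk) χ hχ
    rw [h1, ← D.hwa]
    exact Cfsg.Agent.Lib.Helper83.char_isClassFunction
      (Cfsg.Agent.Lib.Helper83.IrrCharacter_isCharacter χ) D.a D.w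

theorem Q8Data.classInner_theta_one : classInner D.theta (fun _ => (1 : ℂ)) = 1 := by
  classical
  rw [D.theta_eq, ← linFun_one, classInner_sub_left, classInner_linFun, classInner_linFun,
    if_pos rfl, if_neg D.hν1, sub_zero]

theorem Q8Data.classInner_Theta_of_principal (M : Ideal AlgInt) (hM : IsPModular 2 M)
    (χ : IrrCharacter G) (hχ : χ ∈ principalBlock M G) :
    classInner D.Theta (χ : G → ℂ) = conj ((χ : G → ℂ) D.a) := by
  have hcl := Cfsg.Agent.Lib.Helper83.char_isClassFunction
    (Cfsg.Agent.Lib.Helper83.IrrCharacter_isCharacter χ)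
  rw [Q8Data.Theta, classInner_indFun_left D.C D.theta _ hcl]
  have h1 : classInner D.theta (fun h : D.C => (χ : G → ℂ) h)
      = classInner D.theta (fun _ => (1 : ℂ)) * conj ((χ : G → ℂ) D.a) := by
    rw [classInner_def, classInner_def, mul_assoc, Finset.sum_mul]
    congr 1
    apply Finset.sum_congr rfl
    intro y _
    by_cases hy : D.ν y = -1
    · rw [D.char_eq_of_nu M hM χ hχ y hy]
      simp
    · have h1 : D.ν y = 1 := by
        rcases D.hνval y with h1 | h1
        · exact h1
        · exact absurd h1 hy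
      rw [D.theta_apply, h1]
      simp
  rw [h1, D.classInner_theta_one, one_mul]

/-- the block parts of `Θ` vanish at the identity -/
theorem Q8Data.block_relation [Fintype (IrrCharacter G)] (M : Ideal AlgInt) (hM : IsPModular 2 M)
    (χ₀ : IrrCharacter G) :
    ∑ᶠ χ ∈ blockOf M (χ₀ : G → ℂ), classInner D.Theta (χ : G → ℂ) * (χ : G → ℂ) 1 = 0 := by
  have hcl : IsClassFunction G D.Theta := indFun_isClassFunction D.C D.theta
  rw [← Cfsg.Agent.Lib.Helper81.blockPart_apply,
    Cfsg.Agent.Lib.Helper81.blockPart_eq_sum _ hcl 1]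
  apply Finset.sum_eq_zero
  intro k _
  rw [mul_one]
  by_cases h : 4 ∣ orderOf k
  · rw [Cfsg.Agent.Lib.Helper82.blockCoeff_eq_zero_of_singular hM χ₀ k
      (dvd_trans ⟨2, by norm_num⟩ h), zero_mul]
  · rw [D.Theta_eq_zero k h, mul_zero]

end

end Cfsg.Agent.Lib.Helper30.BSQ8
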