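import Mathlib
import Cfsg.Agent.Lib.Helper30.BSQ8Group

/-!
# Summing a class function over a quaternion Sylow subgroup of order 8 (helper30)
-/

set_option autoImplicit false
set_option linter.unusedSectionVars false

namespace Cfsg.Agent.Lib.Helper30.BSQ8

open Cfsg Cfsg.Agent.Lib.Helper20 QuaternionGroup

/-- enumeration of the quaternion group -/
def quatSumEquiv (n : ℕ) : ZMod (2 * n) ⊕ ZMod (2 * n) ≃ QuaternionGroup n where
  toFun x := match x with
    | Sum.inl i => a i
    | Sum.inr i => xa i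
  invFun q := match q with
    | a i => Sum.inl i
    | xa i => Sum.inr i
  left_inv x := by rcases x with i | i <;> rfl
  right_inv q := by rcases q with i | i <;> rfl

section

variable {G : Type*} [Group G] (S : Subgroup G) (e : S ≃* QuaternionGroup 2)

theorem sum_q8 [Fintype S] (f : G → ℂ) (hf : ∀ g h : G, f (h * g * h⁻¹) = f g)
    (hconj4 : ∀ x : G, orderOf x = 4 → ∃ g : G, g * x * g⁻¹ = bsA S e) :
    ∑ s : S, f (s : G) = f 1 + f (bsA S e ^ 2) + 6 * f (bsA S e) := by
  have hne : NeZero 2 := ⟨by norm_num⟩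
  have h4 : ∀ x : G, orderOf x = 4 → f x = f (bsA S e) := by
    intro x hx
    obtain ⟨g, hg⟩ := hconj4 x hx
    rw [← hg, hf]
  have h1 : ∑ s : S, f (s : G) = ∑ q : QuaternionGroup 2, f ((e.symm q : S) : G) := by
    apply Fintype.sum_equiv e.toEquiv
    intro s
    simp
  have h2 : ∑ q : QuaternionGroup 2, f ((e.symm q : S) : G)
      = ∑ x : ZMod (2 * 2) ⊕ ZMod (2 * 2), f ((e.symm (quatSumEquiv 2 x) : S) : G) := by
    symm
    apply Fintype.sum_equiv (quatSumEquiv 2)
    intro x
    rfl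
  rw [h1, h2, Fintype.sum_sum_type]
  have hxa : ∀ i : ZMod (2 * 2), f ((e.symm (quatSumEquiv 2 (Sum.inr i)) : S) : G) = f (bsA S e) := by
    intro i
    apply h4
    show orderOf ((e.symm (xa i) : S) : G) = 4
    rw [Subgroup.orderOf_coe, MulEquiv.orderOf_eq, orderOf_xa]
  have ha : ∀ i : ZMod (2 * 2), f ((e.symm (quatSumEquiv 2 (Sum.inl i)) : S) : G)
      = f (bsA S e ^ i.val) := by
    intro i
    show f ((e.symm (a i) : S) : G) = _
    rw [coe_symm_a]
  simp only [hxa, ha]
  rw [Finset.sum_const, Finset.card_univ]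
  have hcard : Fintype.card (ZMod (2 * 2)) = 4 := by rw [ZMod.card]
  rw [hcard]
  have hsum : ∑ i : ZMod (2 * 2), f (bsA S e ^ i.val)
      = f (bsA S e ^ 0) + f (bsA S e ^ 1) + f (bsA S e ^ 2) + f (bsA S e ^ 3) := by
    show ∑ i : Fin 4, f (bsA S e ^ (i : ℕ)) = _
    rw [Fin.sum_univ_four]
    rfl
  rw [hsum]
  have h3 : f (bsA S e ^ 3) = f (bsA S e) := by
    apply h4
    have ha4 := orderOf_bsA_q8 S e
    rw [orderOf_pow' _ (by norm_num), ha4]
    norm_num
  rw [h3, pow_zero, pow_one]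
  simp only [nsmul_eq_mul]
  push_cast
  ring

end

end Cfsg.Agent.Lib.Helper30.BSQ8
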