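import Mathlib
import Cfsg.Agent.Lib.Helper30.BSQ8Block
import Cfsg.Agent.Lib.Helper30.BSQ8Sum
import Cfsg.Agent.Lib.Helper82.CharSchur
import Cfsg.Agent.Lib.Helper82.Counting
import Cfsg.Agent.Lib.Helper04.CharValues
import Cfsg.Agent.Lib.Helper21.Osima

/-!
# Relations between the constituents of `Θ` (helper30)
-/

set_option autoImplicit false
set_option linter.unusedSectionVars false

namespace Cfsg.Agent.Lib.Helper30.BSQ8

open scoped ComplexConjugate
open Cfsg
open Cfsg.Agent.Lib.Helper34 Cfsg.Agent.Lib.Helper20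

section blocksum

variable {G : Type*} [Group G] [Fintype G] [Fintype (IrrCharacter G)]

/-- the linear functional `f ↦ ∑_{χ ∈ B} (f, χ) χ(1)` -/
noncomputable def blockSum (B : Set (IrrCharacter G)) (f : G → ℂ) : ℂ :=
  ∑ᶠ χ ∈ B, classInner f (χ : G → ℂ) * (χ : G → ℂ) 1

open scoped Classical in
theorem blockSum_eq (B : Set (IrrCharacter G)) (f : G → ℂ) :
    blockSum B f = ∑ χ : IrrCharacter G, if χ ∈ B then classInner f (χ : G → ℂ) * (χ : G → ℂ) 1 else 0 := by
  rw [blockSum, Cfsg.Agent.Lib.Helper21.finsum_mem_eq_sum_ite]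

theorem blockSum_add (B : Set (IrrCharacter G)) (f g : G → ℂ) :
    blockSum B (f + g) = blockSum B f + blockSum B g := by
  classical
  rw [blockSum_eq, blockSum_eq, blockSum_eq, ← Finset.sum_add_distrib]
  apply Finset.sum_congr rfl
  intro χ _
  split_ifs
  · rw [classInner_add_left]; ring
  · simp

theorem blockSum_smul (B : Set (IrrCharacter G)) (c : ℂ) (f : G → ℂ) :
    blockSum B (c • f) = c * blockSum B f := by
  classical
  rw [blockSum_eq, blockSum_eq, Finset.mul_sum]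
  apply Finset.sum_congr rfl
  intro χ _
  split_ifs
  · rw [classInner_smul_left]; ring
  · simp

open scoped Classical in
theorem blockSum_irr (B : Set (IrrCharacter G)) (Φ : IrrCharacter G) :
    blockSum B (Φ : G → ℂ) = if Φ ∈ B then (Φ : G → ℂ) 1 else 0 := by
  rw [blockSum_eq, Finset.sum_eq_single Φ]
  · rw [Cfsg.Agent.Lib.Helper05.classInner_irr_self Φ.2, one_mul]
  · intro χ _ hχ
    have hne : (Φ : G → ℂ) ≠ (χ : G → ℂ) := fun h => hχ (Subtype.ext h.symm)
    rw [Cfsg.Agent.Lib.Helper05.classInner_irr_ne Φ.2 χ.2 hne, zero_mul, ite_self]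
  · intro h; exact absurd (Finset.mem_univ Φ) h

end blocksum

section rel

variable {G : Type*} [Group G] [Fintype G] (D : Q8Data G)

theorem Q8Data.orderOf_z : orderOf (D.a ^ 2) = 2 := by
  rw [orderOf_pow' _ (by norm_num), D.ha4]
  norm_num

theorem Q8Data.Theta_z : D.Theta (D.a ^ 2) = 0 := by
  apply D.Theta_eq_zero
  rw [D.orderOf_z]; norm_num

/-- `Θ` vanishes on products of two conjugates of the involution -/
theorem Q8Data.Theta_prod (x y : G) :
    D.Theta (1 * (x * D.a ^ 2 * x⁻¹) * (y * D.a ^ 2 * y⁻¹)) = 0 := by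
  apply D.Theta_eq_zero
  rw [one_mul]
  have h1 : orderOf (x * D.a ^ 2 * x⁻¹) = 2 := by
    have := (MulAut.conj x).orderOf_eq (D.a ^ 2)
    simp only [MulAut.conj_apply] at this
    rw [this, D.orderOf_z]
  have h2 : orderOf (y * D.a ^ 2 * y⁻¹) = 2 := by
    have := (MulAut.conj y).orderOf_eq (D.a ^ 2)
    simp only [MulAut.conj_apply] at this
    rw [this, D.orderOf_z]
  have hodd := D.hinv _ _ h1 h2
  intro h4
  exact hodd.not_two_dvd_nat (dvd_trans ⟨2, by norm_num⟩ h4)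

/-- class multiplication for an irreducible character -/
theorem Q8Data.sum_prod_irr {χ : G → ℂ} (h : IsIrrCharacter G χ) :
    ∑ x : G, ∑ y : G, χ (1 * (x * D.a ^ 2 * x⁻¹) * (y * D.a ^ 2 * y⁻¹))
      = (Fintype.card G : ℂ) ^ 2 * χ (D.a ^ 2) * χ (D.a ^ 2) * χ 1 / (χ 1) ^ 2 :=
  Cfsg.Agent.Lib.Helper82.IsIrrCharacter.sum_sum_conj_mul h (D.a ^ 2) (D.a ^ 2) 1

end rel

section sylowsum

variable {G : Type*} [Group G] [Finite G] (S : Sylow 2 G) (e : (S : Subgroup G) ≃* QuaternionGroup 2)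

theorem sylow_sum_char (D : Q8Data G) (hDa : D.a = bsA (S : Subgroup G) e) {χ : G → ℂ}
    (hχ : IsCharacter G χ) : ∃ n : ℕ, χ 1 + χ (D.a ^ 2) + 6 * χ D.a = 8 * (n : ℂ) := by
  classical
  letI : Fintype (S : Subgroup G) := Fintype.ofFinite _
  obtain ⟨m, hm⟩ := Cfsg.Agent.Lib.Helper82.IsCharacter.sum_subgroup hχ (S : Subgroup G)
  have hcl := Cfsg.Agent.Lib.Helper83.char_isClassFunction hχ
  have hconj : ∀ x : G, orderOf x = 4 → ∃ g : G, g * x * g⁻¹ = bsA (S : Subgroup G) e := by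
    intro x hx
    obtain ⟨g, hg⟩ := D.hconj4 x hx
    exact ⟨g, by rw [hg, hDa]⟩
  have h1 := sum_q8 (S : Subgroup G) e χ hcl hconj
  rw [hm] at h1
  have hcard : Fintype.card (S : Subgroup G) = 8 := by
    rw [← Nat.card_eq_fintype_card, card_sylow_q8 S e]
  rw [hcard] at h1
  refine ⟨m, ?_⟩
  rw [hDa, ← h1]
  push_cast
  ring

end sylowsum

/-- the bound `|χ(g)| ≤ χ(1)` in integer form -/
theorem int_abs_le_of_char {G : Type*} [Group G] [Finite G] {χ : G → ℂ} (hχ : IsCharacter G χ)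
    (g : G) (d : ℕ) (t : ℤ) (hd : χ 1 = d) (ht : χ g = t) : |t| ≤ d := by
  obtain ⟨n, ρ, rfl⟩ := hχ
  have h1 := Cfsg.Agent.Lib.Helper04.norm_char_le ρ g
  have h2 : ρ.character 1 = (Module.finrank ℂ (Fin n → ℂ) : ℂ) := Representation.char_one ρ
  rw [h2] at hd
  have h3 : (Module.finrank ℂ (Fin n → ℂ) : ℕ) = d := by exact_mod_cast hd
  rw [ht, h3] at h1
  have h4 : ‖((t : ℤ) : ℂ)‖ = |(t : ℝ)| := by
    rw [← Complex.ofReal_intCast, Complex.norm_real, Real.norm_eq_abs]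
  rw [h4] at h1
  have h5 : ((|t| : ℤ) : ℝ) ≤ ((d : ℤ) : ℝ) := by
    push_cast
    exact h1
  exact_mod_cast h5

end Cfsg.Agent.Lib.Helper30.BSQ8
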