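import Mathlib
import Cfsg.Agent.Lib.Helper30.BSQ8Rel
import Cfsg.Agent.Lib.Helper30.BSQ8Norm
import Cfsg.Agent.Lib.Helper30.BSQ8Arith
import Cfsg.Agent.Lib.Helper82.DefectZero
import Cfsg.Agent.Lib.Helper82.BlockBasic
import Cfsg.Agent.Lib.Helper22.KleinFourBlock

/-!
# Brauer–Suzuki for `Q₈`: a nonprincipal irreducible character with the involution in its kernel
(helper30)
-/

set_option autoImplicit false
set_option linter.unusedSectionVars false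
set_option maxHeartbeats 1000000

namespace Cfsg.Agent.Lib.Helper30.BSQ8

open scoped ComplexConjugate
open Cfsg
open Cfsg.Agent.Lib.Helper34 Cfsg.Agent.Lib.Helper20

theorem principal_of_relations (ε₁ ε₂ ε₃ d₁ d₂ d₃ : ℤ) (hd₁ : 1 ≤ d₁) (hd₂ : 1 ≤ d₂) (hd₃ : 1 ≤ d₃)
    (hε₁ : ε₁ = 1 ∨ ε₁ = -1) (hε₂ : ε₂ = 1 ∨ ε₂ = -1) (hε₃ : ε₃ = 1 ∨ ε₃ = -1)
    (p₁ p₂ p₃ q₂ q₃ : Prop) [Decidable p₁] [Decidable p₂] [Decidable p₃] [Decidable q₂]
    [Decidable q₃]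
    (h0 : 1 + (if p₁ then ε₁ * d₁ else 0) + (if p₂ then ε₂ * d₂ else 0)
      + (if p₃ then ε₃ * d₃ else 0) = 0)
    (h1 : ¬ p₁ → ε₁ * d₁ + (if q₂ then ε₂ * d₂ else 0) + (if q₃ then ε₃ * d₃ else 0) = 0)
    (hq₂ : ¬ p₁ → q₂ → ¬ p₂) (hq₃ : ¬ p₁ → q₃ → ¬ p₃)
    (hbad₂ : p₂ → d₂ = 1 → ε₂ = -1 → False) (hbad₃ : p₃ → d₃ = 1 → ε₃ = -1 → False) : p₁ := by
  by_contra hp₁
  have h1' := h1 hp₁
  rw [if_neg hp₁] at h0
  by_cases hq2 : q₂ <;> by_cases hq3 : q₃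
  · have := hq₂ hp₁ hq2
    have := hq₃ hp₁ hq3
    simp only [*, if_true, if_false] at h0
    omega
  · have hp2 := hq₂ hp₁ hq2
    rw [if_neg hp2] at h0
    by_cases hp3 : p₃
    · rw [if_pos hp3] at h0
      apply hbad₃ hp3
      · rcases hε₃ with rfl | rfl <;> omega
      · rcases hε₃ with rfl | rfl
        · omega
        · rfl
    · rw [if_neg hp3] at h0
      omega
  · have hp3 := hq₃ hp₁ hq3
    rw [if_neg hp3] at h0
    by_cases hp2 : p₂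
    · rw [if_pos hp2] at h0
      apply hbad₂ hp2
      · rcases hε₂ with rfl | rfl <;> omega
      · rcases hε₂ with rfl | rfl
        · omega
        · rfl
    · rw [if_neg hp2] at h0
      omega
  · rw [if_neg hq2, if_neg hq3] at h1'
    rcases hε₁ with rfl | rfl <;> omega

section

variable {G : Type*} [Group G] [Fintype G] (S : Sylow 2 G)
  (e : (S : Subgroup G) ≃* QuaternionGroup 2) (D : Q8Data G) [Fintype D.C]

/-- the value at `a` of a constituent of `Θ` lying in the principal block -/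
theorem constituent_value_a (M : Ideal AlgInt)
    (hM : IsPModular 2 M) (χ : IrrCharacter G) (hχ : χ ∈ principalBlock M G) (ε : ℤ)
    (hin : classInner D.Theta (χ : G → ℂ) = ε) : (χ : G → ℂ) D.a = ε := by
  have h1 := D.classInner_Theta_of_principal M hM χ hχ
  rw [hin] at h1
  have h2 : (χ : G → ℂ) D.a = conj ((ε : ℤ) : ℂ) := by
    rw [h1, Complex.conj_conj]
  rw [h2, map_intCast]

/-- the congruences for a constituent of `Θ` lying in the principal block -/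
theorem constituent_facts (hDa : D.a = bsA (S : Subgroup G) e) (M : Ideal AlgInt)
    (hM : IsPModular 2 M) (χ : IrrCharacter G) (hχ : χ ∈ principalBlock M G) (ε : ℤ)
    (hε : ε = 1 ∨ ε = -1) (hin : classInner D.Theta (χ : G → ℂ) = ε) (d : ℕ) (t : ℤ)
    (hd : (χ : G → ℂ) 1 = d) (ht : (χ : G → ℂ) (D.a ^ 2) = t) :
    ∃ n m : ℤ, (d : ℤ) + t + 6 * ε = 8 * n ∧ (d : ℤ) ^ 2 + t ^ 2 + 6 = 8 * m := by
  have hχc := Cfsg.Agent.Lib.Helper83.IrrCharacter_isCharacter χ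
  have ha : (χ : G → ℂ) D.a = ε := by
    have h1 := D.classInner_Theta_of_principal M hM χ hχ
    rw [hin] at h1
    have h2 : (χ : G → ℂ) D.a = conj ((ε : ℤ) : ℂ) := by
      rw [h1, Complex.conj_conj]
    rw [h2, map_intCast]
  obtain ⟨n, hn⟩ := sylow_sum_char S e D hDa hχc
  obtain ⟨m, hm⟩ := sylow_sum_char S e D hDa
    (Cfsg.Agent.Lib.Helper83.isCharacter_mul hχc hχc)
  rw [hd, ht, ha] at hn
  simp only [Pi.mul_apply] at hm
  rw [hd, ht, ha] at hm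
  refine ⟨n, m, ?_, ?_⟩
  · exact_mod_cast hn
  · have hε2 : (ε : ℂ) * ε = 1 := by
      rcases hε with rfl | rfl <;> norm_num
    have : ((d : ℂ) * d + (t : ℂ) * t + 6 * ((ε : ℂ) * ε)) = 8 * (m : ℂ) := hm
    rw [hε2] at this
    have h3 : (((d : ℤ) ^ 2 + t ^ 2 + 6 : ℤ) : ℂ) = ((8 * (m : ℤ) : ℤ) : ℂ) := by
      push_cast
      linear_combination this
    exact_mod_cast h3

end

end Cfsg.Agent.Lib.Helper30.BSQ8

namespace Cfsg.Agent.Lib.Helper30.BSQ8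

open scoped ComplexConjugate
open Cfsg
open Cfsg.Agent.Lib.Helper34 Cfsg.Agent.Lib.Helper20

section

variable {G : Type*} [Group G] [Fintype G] [Fintype (IrrCharacter G)]

open scoped Classical in
/-- membership in the principal block from the block relations -/
theorem mem_principal_aux (M : Ideal AlgInt) (hMp : M.IsPrime) (One Ψ₁ Ψ₂ Ψ₃ : IrrCharacter G)
    (ε₁ ε₂ ε₃ d₁ d₂ d₃ : ℤ) (hd₁ : 1 ≤ d₁) (hd₂ : 1 ≤ d₂) (hd₃ : 1 ≤ d₃)
    (hε₁ : ε₁ = 1 ∨ ε₁ = -1) (hε₂ : ε₂ = 1 ∨ ε₂ = -1) (hε₃ : ε₃ = 1 ∨ ε₃ = -1)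
    (hblock : ∀ χ₀ : IrrCharacter G,
      ((if One ∈ blockOf M (χ₀ : G → ℂ) then 1 else 0)
        + (if Ψ₁ ∈ blockOf M (χ₀ : G → ℂ) then ε₁ * d₁ else 0)
        + (if Ψ₂ ∈ blockOf M (χ₀ : G → ℂ) then ε₂ * d₂ else 0)
        + (if Ψ₃ ∈ blockOf M (χ₀ : G → ℂ) then ε₃ * d₃ else 0) : ℤ) = 0)
    (hbad₂ : Ψ₂ ∈ blockOf M (One : G → ℂ) → d₂ = 1 → ε₂ = -1 → False)
    (hbad₃ : Ψ₃ ∈ blockOf M (One : G → ℂ) → d₃ = 1 → ε₃ = -1 → False) :
    Ψ₁ ∈ blockOf M (One : G → ℂ) := by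
  have hOne : One ∈ blockOf M (One : G → ℂ) := Cfsg.Agent.Lib.Helper82.mem_blockOf_self hMp One
  have hΨ₁ : Ψ₁ ∈ blockOf M (Ψ₁ : G → ℂ) := Cfsg.Agent.Lib.Helper82.mem_blockOf_self hMp Ψ₁
  apply principal_of_relations ε₁ ε₂ ε₃ d₁ d₂ d₃ hd₁ hd₂ hd₃ hε₁ hε₂ hε₃
    (Ψ₁ ∈ blockOf M (One : G → ℂ)) (Ψ₂ ∈ blockOf M (One : G → ℂ)) (Ψ₃ ∈ blockOf M (One : G → ℂ))
    (Ψ₂ ∈ blockOf M (Ψ₁ : G → ℂ)) (Ψ₃ ∈ blockOf M (Ψ₁ : G → ℂ))
  · have := hblock One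
    rw [if_pos hOne] at this
    exact this
  · intro hp₁
    have := hblock Ψ₁
    have hOne' : One ∉ blockOf M (Ψ₁ : G → ℂ) := by
      intro h
      apply hp₁
      exact Cfsg.Agent.Lib.Helper82.sameBlock_symm h
    rw [if_neg hOne', if_pos hΨ₁] at this
    linarith
  · intro hp₁ hq hp
    apply hp₁
    exact Cfsg.Agent.Lib.Helper82.sameBlock_trans hMp hp (Cfsg.Agent.Lib.Helper82.sameBlock_symm hq)
  · intro hp₁ hq hp
    apply hp₁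
    exact Cfsg.Agent.Lib.Helper82.sameBlock_trans hMp hp (Cfsg.Agent.Lib.Helper82.sameBlock_symm hq)
  · exact hbad₂
  · exact hbad₃

end

end Cfsg.Agent.Lib.Helper30.BSQ8
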