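import Mathlib
import Cfsg.Agent.Lib.Helper30.BSQ8Main

/-!
# Brauer–Suzuki for `Q₈`: the involution lies in the kernel of a nonprincipal irreducible character
(helper30)
-/

set_option autoImplicit false
set_option linter.unusedSectionVars false
set_option maxHeartbeats 1600000

namespace Cfsg.Agent.Lib.Helper30.BSQ8

open scoped ComplexConjugate
open Cfsg
open Cfsg.Agent.Lib.Helper34 Cfsg.Agent.Lib.Helper20

theorem exists_kernel_chars {G : Type*} [Group G] [Finite G] (S : Sylow 2 G)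
    (e : (S : Subgroup G) ≃* QuaternionGroup 2) (hidx : ∀ H : Subgroup G, H.index ≠ 2) :
    ∃ χ₁ χ₂ χ₃ : G → ℂ, IsIrrCharacter G χ₁ ∧ IsIrrCharacter G χ₂ ∧ IsIrrCharacter G χ₃ ∧
      χ₁ ≠ (fun _ => 1) ∧
      χ₁ (bsA (S : Subgroup G) e ^ 2) = χ₁ 1 ∧ χ₂ (bsA (S : Subgroup G) e ^ 2) = χ₂ 1 ∧
      χ₃ (bsA (S : Subgroup G) e ^ 2) = χ₃ 1 ∧
      ¬ (χ₁ (bsA (S : Subgroup G) e) = χ₁ 1 ∧ χ₂ (bsA (S : Subgroup G) e) = χ₂ 1 ∧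
        χ₃ (bsA (S : Subgroup G) e) = χ₃ 1) := by
  classical
  letI : Fintype G := Fintype.ofFinite G
  letI : Fintype (IrrCharacter G) := Fintype.ofFinite _
  obtain ⟨D, hDa⟩ := exists_q8Data S e hidx
  letI : Fintype D.C := Fintype.ofFinite _
  obtain ⟨M, hM⟩ := Cfsg.Agent.Lib.Helper82.exists_isPModular 2 Nat.prime_two
  have hMp : M.IsPrime := hM.2.1.isPrime
  set one : G → ℂ := fun _ => 1 with hone
  have hirr1 : IsIrrCharacter G one := Cfsg.Agent.Lib.Helper05.isIrrCharacter_one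
  have hΘ := D.isGeneralizedCharacter_Theta
  have hΨ : IsGeneralizedCharacter G (D.Theta - one) :=
    isGeneralizedCharacter_sub hΘ (isGeneralizedCharacter_of_irr hirr1)
  have h11 : classInner one one = 1 := Cfsg.Agent.Lib.Helper05.classInner_irr_self hirr1
  have hΘ1 : classInner D.Theta one = 1 := D.classInner_Theta_one
  have h1Θ : classInner one D.Theta = 1 := by
    rw [← classInner_conj_symm, hΘ1, map_one]
  have hnorm : classInner (D.Theta - one) (D.Theta - one) = 3 := by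
    rw [classInner_sub_left, classInner_sub_right, classInner_sub_right,
      D.classInner_Theta_Theta, hΘ1, h1Θ, h11]
    norm_num
  obtain ⟨ψ₁, ψ₂, ψ₃, ε₁, ε₂, ε₃, hψ₁, hψ₂, hψ₃, h12, h13, h23, hε₁, hε₂, hε₃, hdec⟩ :=
    exists_three_irr_of_norm_three hΨ hnorm
  have hΘeq : D.Theta = one + ((ε₁ : ℂ) • ψ₁ + (ε₂ : ℂ) • ψ₂ + (ε₃ : ℂ) • ψ₃) := by
    rw [← hdec]; abel
  have hΨ1 : classInner (D.Theta - one) one = 0 := by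
    rw [classInner_sub_left, hΘ1, h11, sub_self]
  -- inner products of `Θ - 1` with irreducible characters
  have hinner : ∀ χ : G → ℂ, IsIrrCharacter G χ → classInner (D.Theta - one) χ
      = (ε₁ : ℂ) * (if ψ₁ = χ then 1 else 0) + (ε₂ : ℂ) * (if ψ₂ = χ then 1 else 0)
        + (ε₃ : ℂ) * (if ψ₃ = χ then 1 else 0) := by
    intro χ hχ
    rw [hdec, classInner_add_left, classInner_add_left, classInner_smul_left, classInner_smul_left,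
      classInner_smul_left, Cfsg.Agent.Lib.Helper05.classInner_irr hψ₁ hχ,
      Cfsg.Agent.Lib.Helper05.classInner_irr hψ₂ hχ, Cfsg.Agent.Lib.Helper05.classInner_irr hψ₃ hχ]
  have hεne : ∀ ε : ℤ, (ε = 1 ∨ ε = -1) → (ε : ℂ) ≠ 0 := by
    rintro ε (rfl | rfl) <;> norm_num
  have hψ₁ne : ψ₁ ≠ one := by
    intro h
    have h2 := hinner one hirr1
    rw [hΨ1, if_pos h, if_neg (fun h' => h12 (h.trans h'.symm)),
      if_neg (fun h' => h13 (h.trans h'.symm))] at h2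
    exact hεne ε₁ hε₁ (by linear_combination -h2)
  have hψ₂ne : ψ₂ ≠ one := by
    intro h
    have h2 := hinner one hirr1
    rw [hΨ1, if_pos h, if_neg (fun h' => h12 (h'.trans h.symm)),
      if_neg (fun h' => h23 (h.trans h'.symm))] at h2
    exact hεne ε₂ hε₂ (by linear_combination -h2)
  have hψ₃ne : ψ₃ ≠ one := by
    intro h
    have h2 := hinner one hirr1
    rw [hΨ1, if_pos h, if_neg (fun h' => h13 (h'.trans h.symm)),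
      if_neg (fun h' => h23 (h'.trans h.symm))] at h2
    exact hεne ε₃ hε₃ (by linear_combination -h2)
  -- inner products of `Θ` with the constituents
  have hin : ∀ χ : G → ℂ, IsIrrCharacter G χ → χ ≠ one → classInner D.Theta χ
      = (ε₁ : ℂ) * (if ψ₁ = χ then 1 else 0) + (ε₂ : ℂ) * (if ψ₂ = χ then 1 else 0)
        + (ε₃ : ℂ) * (if ψ₃ = χ then 1 else 0) := by
    intro χ hχ hne
    have h2 : classInner D.Theta χ = classInner (D.Theta - one) χ + classInner one χ := by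
      rw [classInner_sub_left]; ring
    rw [h2, hinner χ hχ, Cfsg.Agent.Lib.Helper05.classInner_irr_ne hirr1 hχ (fun h => hne h.symm),
      add_zero]
  have hin₁ : classInner D.Theta ψ₁ = ε₁ := by
    rw [hin ψ₁ hψ₁ hψ₁ne, if_pos rfl, if_neg (fun h => h12 h.symm), if_neg (fun h => h13 h.symm)]
    ring
  have hin₂ : classInner D.Theta ψ₂ = ε₂ := by
    rw [hin ψ₂ hψ₂ hψ₂ne, if_neg h12, if_pos rfl, if_neg (fun h => h23 h.symm)]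
    ring
  have hin₃ : classInner D.Theta ψ₃ = ε₃ := by
    rw [hin ψ₃ hψ₃ hψ₃ne, if_neg h13, if_neg h23, if_pos rfl]
    ring
  -- degrees and values at the involution
  have hc₁ := Cfsg.Agent.Lib.Helper83.isCharacter_of_irr hψ₁
  have hc₂ := Cfsg.Agent.Lib.Helper83.isCharacter_of_irr hψ₂
  have hc₃ := Cfsg.Agent.Lib.Helper83.isCharacter_of_irr hψ₃
  obtain ⟨d₁, hd₁⟩ := Cfsg.Agent.Lib.Helper83.char_one_eq_nat hc₁
  obtain ⟨d₂, hd₂⟩ := Cfsg.Agent.Lib.Helper83.char_one_eq_nat hc₂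
  obtain ⟨d₃, hd₃⟩ := Cfsg.Agent.Lib.Helper83.char_one_eq_nat hc₃
  have hd₁0 : d₁ ≠ 0 := by
    intro h
    exact Cfsg.Agent.Lib.Helper83.irr_degree_ne_zero ⟨ψ₁, hψ₁⟩ (by
      show ψ₁ 1 = 0
      rw [hd₁, h]; simp)
  have hd₂0 : d₂ ≠ 0 := by
    intro h
    exact Cfsg.Agent.Lib.Helper83.irr_degree_ne_zero ⟨ψ₂, hψ₂⟩ (by
      show ψ₂ 1 = 0
      rw [hd₂, h]; simp)
  have hd₃0 : d₃ ≠ 0 := by
    intro h
    exact Cfsg.Agent.Lib.Helper83.irr_degree_ne_zero ⟨ψ₃, hψ₃⟩ (by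
      show ψ₃ 1 = 0
      rw [hd₃, h]; simp)
  set z := D.a ^ 2 with hz
  have hzo : orderOf z = 2 := D.orderOf_z
  obtain ⟨t₁, ht₁⟩ := Cfsg.Agent.Lib.Helper22.exists_int_char_of_orderOf_two hc₁ z hzo
  obtain ⟨t₂, ht₂⟩ := Cfsg.Agent.Lib.Helper22.exists_int_char_of_orderOf_two hc₂ z hzo
  obtain ⟨t₃, ht₃⟩ := Cfsg.Agent.Lib.Helper22.exists_int_char_of_orderOf_two hc₃ z hzo
  have hval : ∀ g : G, D.Theta g = 1 + ((ε₁ : ℂ) * ψ₁ g + (ε₂ : ℂ) * ψ₂ g + (ε₃ : ℂ) * ψ₃ g) := by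
    intro g
    have := congrFun hΘeq g
    simpa only [Pi.add_apply, Pi.smul_apply, smul_eq_mul] using this
  -- the three relations
  have R1 : ε₁ * d₁ + ε₂ * d₂ + ε₃ * d₃ = -1 := by
    have := hval 1
    rw [D.Theta_one, hd₁, hd₂, hd₃] at this
    have h2 : ((ε₁ * d₁ + ε₂ * d₂ + ε₃ * d₃ : ℤ) : ℂ) = ((-1 : ℤ) : ℂ) := by
      push_cast
      linear_combination -this
    exact_mod_cast h2
  have R2 : ε₁ * t₁ + ε₂ * t₂ + ε₃ * t₃ = -1 := by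
    have := hval z
    rw [D.Theta_z, ht₁, ht₂, ht₃] at this
    have h2 : ((ε₁ * t₁ + ε₂ * t₂ + ε₃ * t₃ : ℤ) : ℂ) = ((-1 : ℤ) : ℂ) := by
      push_cast
      linear_combination -this
    exact_mod_cast h2
  have R3 : ε₁ * t₁ ^ 2 * d₂ * d₃ + ε₂ * t₂ ^ 2 * d₁ * d₃ + ε₃ * t₃ ^ 2 * d₁ * d₂
      = -((d₁ : ℤ) * d₂ * d₃) := by
    have hsum : ∑ x : G, ∑ y : G, D.Theta (1 * (x * z * x⁻¹) * (y * z * y⁻¹)) = 0 :=
      Finset.sum_eq_zero (fun x _ => Finset.sum_eq_zero (fun y _ => D.Theta_prod x y))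
    simp only [hval, Finset.sum_add_distrib, ← Finset.mul_sum] at hsum
    rw [D.sum_prod_irr hψ₁, D.sum_prod_irr hψ₂, D.sum_prod_irr hψ₃] at hsum
    simp only [Finset.sum_const, Finset.card_univ, nsmul_eq_mul, mul_one] at hsum
    rw [← hz, hd₁, hd₂, hd₃, ht₁, ht₂, ht₃] at hsum
    have hN : (Fintype.card G : ℂ) ≠ 0 := by exact_mod_cast Fintype.card_ne_zero
    have hD₁ : (d₁ : ℂ) ≠ 0 := by exact_mod_cast hd₁0
    have hD₂ : (d₂ : ℂ) ≠ 0 := by exact_mod_cast hd₂0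
    have hD₃ : (d₃ : ℂ) ≠ 0 := by exact_mod_cast hd₃0
    have key : ((d₁ : ℂ) * d₂ * d₃) + ((ε₁ : ℂ) * t₁ ^ 2 * d₂ * d₃ + (ε₂ : ℂ) * t₂ ^ 2 * d₁ * d₃
        + (ε₃ : ℂ) * t₃ ^ 2 * d₁ * d₂) = 0 := by
      have h5 : (Fintype.card G : ℂ) ^ 2 * (((d₁ : ℂ) * d₂ * d₃) + ((ε₁ : ℂ) * t₁ ^ 2 * d₂ * d₃
          + (ε₂ : ℂ) * t₂ ^ 2 * d₁ * d₃ + (ε₃ : ℂ) * t₃ ^ 2 * d₁ * d₂)) = 0 := by
        have h6 := congrArg (fun v : ℂ => v * ((d₁ : ℂ) * d₂ * d₃)) hsum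
        simp only [zero_mul] at h6
        rw [← h6]
        field_simp
      rcases mul_eq_zero.mp h5 with h7 | h7
      · exact absurd ((pow_eq_zero_iff (two_ne_zero)).mp h7) hN
      · exact h7
    have h2 : ((ε₁ * t₁ ^ 2 * d₂ * d₃ + ε₂ * t₂ ^ 2 * d₁ * d₃ + ε₃ * t₃ ^ 2 * d₁ * d₂ : ℤ) : ℂ)
        = ((-((d₁ : ℤ) * d₂ * d₃) : ℤ) : ℂ) := by
      push_cast
      linear_combination key
    exact_mod_cast h2
  -- the constituents lie in the principal block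
  set One : IrrCharacter G := ⟨one, hirr1⟩ with hOne
  set Ψ₁ : IrrCharacter G := ⟨ψ₁, hψ₁⟩ with hΨ₁
  set Ψ₂ : IrrCharacter G := ⟨ψ₂, hψ₂⟩ with hΨ₂
  set Ψ₃ : IrrCharacter G := ⟨ψ₃, hψ₃⟩ with hΨ₃
  have hblock : ∀ χ₀ : IrrCharacter G,
      ((if One ∈ blockOf M (χ₀ : G → ℂ) then 1 else 0)
        + (if Ψ₁ ∈ blockOf M (χ₀ : G → ℂ) then ε₁ * d₁ else 0)
        + (if Ψ₂ ∈ blockOf M (χ₀ : G → ℂ) then ε₂ * d₂ else 0)
        + (if Ψ₃ ∈ blockOf M (χ₀ : G → ℂ) then ε₃ * d₃ else 0) : ℤ) = 0 := by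
    intro χ₀
    have h1 : blockSum (blockOf M (χ₀ : G → ℂ)) D.Theta = 0 := D.block_relation M hM χ₀
    rw [hΘeq, blockSum_add, blockSum_add, blockSum_add, blockSum_smul, blockSum_smul,
      blockSum_smul] at h1
    have e0 : blockSum (blockOf M (χ₀ : G → ℂ)) one
        = if One ∈ blockOf M (χ₀ : G → ℂ) then 1 else 0 := by
      have := blockSum_irr (blockOf M (χ₀ : G → ℂ)) One
      exact this
    have e1 : blockSum (blockOf M (χ₀ : G → ℂ)) ψ₁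
        = if Ψ₁ ∈ blockOf M (χ₀ : G → ℂ) then (d₁ : ℂ) else 0 := by
      have := blockSum_irr (blockOf M (χ₀ : G → ℂ)) Ψ₁
      rw [← hd₁]
      exact this
    have e2 : blockSum (blockOf M (χ₀ : G → ℂ)) ψ₂
        = if Ψ₂ ∈ blockOf M (χ₀ : G → ℂ) then (d₂ : ℂ) else 0 := by
      have := blockSum_irr (blockOf M (χ₀ : G → ℂ)) Ψ₂
      rw [← hd₂]
      exact this
    have e3 : blockSum (blockOf M (χ₀ : G → ℂ)) ψ₃
        = if Ψ₃ ∈ blockOf M (χ₀ : G → ℂ) then (d₃ : ℂ) else 0 := by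
      have := blockSum_irr (blockOf M (χ₀ : G → ℂ)) Ψ₃
      rw [← hd₃]
      exact this
    rw [e0, e1, e2, e3] at h1
    have h2 : (((if One ∈ blockOf M (χ₀ : G → ℂ) then 1 else 0)
        + (if Ψ₁ ∈ blockOf M (χ₀ : G → ℂ) then ε₁ * d₁ else 0)
        + (if Ψ₂ ∈ blockOf M (χ₀ : G → ℂ) then ε₂ * d₂ else 0)
        + (if Ψ₃ ∈ blockOf M (χ₀ : G → ℂ) then ε₃ * d₃ else 0) : ℤ) : ℂ) = 0 := by
      rw [← h1]
      split_ifs <;> push_cast <;> ring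
    exact_mod_cast h2
  have hdpos : ∀ d : ℕ, d ≠ 0 → (1 : ℤ) ≤ d := by
    intro d hd
    have : 1 ≤ d := Nat.one_le_iff_ne_zero.mpr hd
    exact_mod_cast this
  -- the exceptional configuration is impossible
  have hbad : ∀ (Ψ : IrrCharacter G) (ε : ℤ) (d : ℕ) (t : ℤ), (ε = 1 ∨ ε = -1) →
      classInner D.Theta (Ψ : G → ℂ) = ε → (Ψ : G → ℂ) 1 = d → (Ψ : G → ℂ) z = t →
      Ψ ∈ blockOf M (One : G → ℂ) → (d : ℤ) = 1 → ε = -1 → False := by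
    intro Ψ ε d t hε hinΨ hd ht hmem hd1 hεm
    obtain ⟨n, m, hn, -⟩ := constituent_facts S e D hDa M hM Ψ hmem ε hε hinΨ d t hd ht
    have hle := int_abs_le_of_char (Cfsg.Agent.Lib.Helper83.IrrCharacter_isCharacter Ψ) z d t hd ht
    rw [hεm, hd1] at hn
    have := abs_le.mp hle
    omega
  have hp₁ : Ψ₁ ∈ blockOf M (One : G → ℂ) :=
    mem_principal_aux M hMp One Ψ₁ Ψ₂ Ψ₃ ε₁ ε₂ ε₃ d₁ d₂ d₃ (hdpos d₁ hd₁0) (hdpos d₂ hd₂0)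
      (hdpos d₃ hd₃0) hε₁ hε₂ hε₃ hblock
      (hbad Ψ₂ ε₂ d₂ t₂ hε₂ hin₂ hd₂ ht₂) (hbad Ψ₃ ε₃ d₃ t₃ hε₃ hin₃ hd₃ ht₃)
  have hp₂ : Ψ₂ ∈ blockOf M (One : G → ℂ) :=
    mem_principal_aux M hMp One Ψ₂ Ψ₁ Ψ₃ ε₂ ε₁ ε₃ d₂ d₁ d₃ (hdpos d₂ hd₂0) (hdpos d₁ hd₁0)
      (hdpos d₃ hd₃0) hε₂ hε₁ hε₃ (fun χ₀ => by have := hblock χ₀; linarith)
      (hbad Ψ₁ ε₁ d₁ t₁ hε₁ hin₁ hd₁ ht₁) (hbad Ψ₃ ε₃ d₃ t₃ hε₃ hin₃ hd₃ ht₃)
  have hp₃ : Ψ₃ ∈ blockOf M (One : G → ℂ) :=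
    mem_principal_aux M hMp One Ψ₃ Ψ₁ Ψ₂ ε₃ ε₁ ε₂ d₃ d₁ d₂ (hdpos d₃ hd₃0) (hdpos d₁ hd₁0)
      (hdpos d₂ hd₂0) hε₃ hε₁ hε₂ (fun χ₀ => by have := hblock χ₀; linarith)
      (hbad Ψ₁ ε₁ d₁ t₁ hε₁ hin₁ hd₁ ht₁) (hbad Ψ₂ ε₂ d₂ t₂ hε₂ hin₂ hd₂ ht₂)
  obtain ⟨n₁, m₁, ha₁, hb₁⟩ := constituent_facts S e D hDa M hM Ψ₁ hp₁ ε₁ hε₁ hin₁ d₁ t₁ hd₁ ht₁
  obtain ⟨n₂, m₂, ha₂, hb₂⟩ := constituent_facts S e D hDa M hM Ψ₂ hp₂ ε₂ hε₂ hin₂ d₂ t₂ hd₂ ht₂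
  obtain ⟨n₃, m₃, ha₃, hb₃⟩ := constituent_facts S e D hDa M hM Ψ₃ hp₃ ε₃ hε₃ hin₃ d₃ t₃ hd₃ ht₃
  obtain ⟨r1, r2, r3⟩ := arith_main ε₁ ε₂ ε₃ d₁ d₂ d₃ t₁ t₂ t₃ n₁ n₂ n₃ m₁ m₂ m₃ hε₁ hε₂ hε₃
    ha₁ ha₂ ha₃ hb₁ hb₂ hb₃ R1 R2 R3
  have hva₁ : ψ₁ D.a = ε₁ := constituent_value_a D M hM Ψ₁ hp₁ ε₁ hin₁
  have hva₂ : ψ₂ D.a = ε₂ := constituent_value_a D M hM Ψ₂ hp₂ ε₂ hin₂
  have hva₃ : ψ₃ D.a = ε₃ := constituent_value_a D M hM Ψ₃ hp₃ ε₃ hin₃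
  refine ⟨ψ₁, ψ₂, ψ₃, hψ₁, hψ₂, hψ₃, hψ₁ne, ?_, ?_, ?_, ?_⟩
  · rw [← hDa, ← hz, ht₁, hd₁, r1]
    norm_cast
  · rw [← hDa, ← hz, ht₂, hd₂, r2]
    norm_cast
  · rw [← hDa, ← hz, ht₃, hd₃, r3]
    norm_cast
  · rintro ⟨h1, h2, h3⟩
    rw [← hDa, hva₁, hd₁] at h1
    rw [← hDa, hva₂, hd₂] at h2
    rw [← hDa, hva₃, hd₃] at h3
    have e1 : ε₁ = (d₁ : ℤ) := by exact_mod_cast h1
    have e2 : ε₂ = (d₂ : ℤ) := by exact_mod_cast h2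
    have e3 : ε₃ = (d₃ : ℤ) := by exact_mod_cast h3
    rw [e1, e2, e3] at R1
    nlinarith [mul_self_nonneg (d₁ : ℤ), mul_self_nonneg (d₂ : ℤ), mul_self_nonneg (d₃ : ℤ)]

theorem exists_kernel_char {G : Type*} [Group G] [Finite G] (S : Sylow 2 G)
    (e : (S : Subgroup G) ≃* QuaternionGroup 2) (hidx : ∀ H : Subgroup G, H.index ≠ 2) :
    ∃ χ : G → ℂ, IsIrrCharacter G χ ∧ χ ≠ (fun _ => 1) ∧
      χ (bsA (S : Subgroup G) e ^ 2) = χ 1 := by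
  obtain ⟨χ₁, -, -, h₁, -, -, hne, hz₁, -⟩ := exists_kernel_chars S e hidx
  exact ⟨χ₁, h₁, hne, hz₁⟩

end Cfsg.Agent.Lib.Helper30.BSQ8
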