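import Mathlib
import Cfsg.Agent.Lib.Helper30.BSQ8End

/-!
# The Brauer–Suzuki theorem for a quaternion Sylow 2-subgroup of order 8 (helper30)
-/

set_option autoImplicit false
set_option linter.unusedSectionVars false

namespace Cfsg.Agent.Lib.Helper30.BSQ8

open Cfsg
open Cfsg.Agent.Lib.Helper20 Cfsg.Agent.Lib.Helper83

section

variable {G : Type*} [Group G] [Finite G] (S : Sylow 2 G)
  (e : (S : Subgroup G) ≃* QuaternionGroup 2)

/-- the case without subgroups of index two: character theory -/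
theorem exists_kernel_subgroup_q8 (hidx : ∀ H : Subgroup G, H.index ≠ 2) :
    ∃ M₀ : Subgroup G, M₀.Normal ∧ bsA (S : Subgroup G) e ^ 2 ∈ M₀ ∧
      IsCyclic ↥((S : Subgroup G) ⊓ M₀) := by
  obtain ⟨χ₁, χ₂, χ₃, h₁, h₂, h₃, -, hz₁, hz₂, hz₃, hnot⟩ := exists_kernel_chars S e hidx
  have hc₁ := isCharacter_of_irr h₁
  have hc₂ := isCharacter_of_irr h₂
  have hc₃ := isCharacter_of_irr h₃
  set a := bsA (S : Subgroup G) e with ha
  have hnorm : (charKer hc₁ ⊓ charKer hc₂ ⊓ charKer hc₃).Normal := inferInstance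
  refine ⟨charKer hc₁ ⊓ charKer hc₂ ⊓ charKer hc₃, hnorm, ?_, ?_⟩
  · exact ⟨⟨(mem_charKer hc₁ _).mpr hz₁, (mem_charKer hc₂ _).mpr hz₂⟩, (mem_charKer hc₃ _).mpr hz₃⟩
  · have hle : (S : Subgroup G) ⊓ (charKer hc₁ ⊓ charKer hc₂ ⊓ charKer hc₃)
        ≤ Subgroup.zpowers a := by
      rintro x ⟨hxS, hxM⟩
      by_contra hxa
      have hx4 := orderOf_eq_four_of_not_mem (S : Subgroup G) e x hxS hxa
      obtain ⟨g, hg⟩ := conj_of_orderOf_four S e hidx x hx4
      have haM : a ∈ charKer hc₁ ⊓ charKer hc₂ ⊓ charKer hc₃ := by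
        rw [ha, ← hg]
        exact hnorm.conj_mem x hxM g
      apply hnot
      exact ⟨(mem_charKer hc₁ _).mp haM.1.1, (mem_charKer hc₂ _).mp haM.1.2,
        (mem_charKer hc₃ _).mp haM.2⟩
    have : IsCyclic (Subgroup.zpowers a) := Subgroup.isCyclic_zpowers a
    exact isCyclic_of_injective (Subgroup.inclusion hle) (Subgroup.inclusion_injective hle)

/-- the case of a subgroup of index two -/
theorem exists_kernel_subgroup_index_two (H : Subgroup G) (hH : H.index = 2) :
    ∃ M₀ : Subgroup G, M₀.Normal ∧ bsA (S : Subgroup G) e ^ 2 ∈ M₀ ∧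
      IsCyclic ↥((S : Subgroup G) ⊓ M₀) := by
  have : Fact (Nat.Prime 2) := ⟨Nat.prime_two⟩
  have hne : NeZero 2 := ⟨by norm_num⟩
  set a := bsA (S : Subgroup G) e with ha
  set w := bsW (S : Subgroup G) e with hw
  have haS : a ∈ (S : Subgroup G) := bsA_mem _ e
  have hwS : w ∈ (S : Subgroup G) := bsW_mem _ e
  have ha4 : orderOf a = 4 := orderOf_bsA_q8 _ e
  have hwa : w ∉ Subgroup.zpowers a := bsW_not_mem_zpowers _ e
  have hw4 : orderOf w = 4 := orderOf_eq_four_of_not_mem _ e w hwS hwa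
  have hawS : a * w ∈ (S : Subgroup G) := Subgroup.mul_mem _ haS hwS
  have hawa : a * w ∉ Subgroup.zpowers a := by
    intro h
    apply hwa
    have := Subgroup.mul_mem _ (Subgroup.inv_mem _ (Subgroup.mem_zpowers a)) h
    rwa [inv_mul_cancel_left] at this
  have haw4 : orderOf (a * w) = 4 := orderOf_eq_four_of_not_mem _ e _ hawS hawa
  -- an element of order four in `S ⊓ H`
  have hex : ∃ x : G, x ∈ (S : Subgroup G) ⊓ H ∧ orderOf x = 4 := by
    by_cases h1 : a ∈ H
    · exact ⟨a, ⟨haS, h1⟩, ha4⟩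
    · by_cases h2 : w ∈ H
      · exact ⟨w, ⟨hwS, h2⟩, hw4⟩
      · refine ⟨a * w, ⟨hawS, ?_⟩, haw4⟩
        exact (Subgroup.mul_mem_iff_of_index_two hH).mpr
          ⟨fun h => absurd h h1, fun h => absurd h h2⟩
  obtain ⟨x, hxR, hx4⟩ := hex
  refine ⟨H, Subgroup.normal_of_index_eq_two hH, Subgroup.sq_mem_of_index_two hH a, ?_⟩
  set R : Subgroup G := (S : Subgroup G) ⊓ H with hR
  have hRS : R ≤ (S : Subgroup G) := inf_le_left
  have hcardS : Nat.card (S : Subgroup G) = 8 := card_sylow_q8 S e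
  have h1 : Nat.card R ∣ 8 := by
    rw [← hcardS]; exact Subgroup.card_dvd_of_le hRS
  have h2 : 4 ∣ Nat.card R := by
    have := orderOf_dvd_natCard (⟨x, hxR⟩ : R)
    rwa [Subgroup.orderOf_mk, hx4] at this
  have h3 : Nat.card R ≠ 8 := by
    intro h8
    have hSR : (S : Subgroup G) ≤ R := by
      have heq : R = (S : Subgroup G) :=
        Subgroup.eq_of_le_of_card_ge hRS (by rw [hcardS, h8])
      rw [heq]
    have hSH : (S : Subgroup G) ≤ H := hSR.trans inf_le_right
    have := Subgroup.index_dvd_of_le hSH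
    rw [hH] at this
    exact S.not_dvd_index this
  have h4 : Nat.card R = 4 := by
    have hle : Nat.card R ≤ 8 := Nat.le_of_dvd (by norm_num) h1
    obtain ⟨c, hc⟩ := h2
    have hc2 : c = 1 := by
      rcases Nat.lt_or_ge c 2 with h | h
      · have : c ≠ 0 := by
          rintro rfl
          rw [mul_zero] at hc
          exact Nat.card_pos.ne' hc
        omega
      · exfalso
        have : c = 2 := by omega
        rw [this] at hc
        exact h3 (by omega)
    omega
  exact isCyclic_of_orderOf_eq_card (⟨x, hxR⟩ : R) (by rw [Subgroup.orderOf_mk, hx4, h4])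

include e in
/-- **Brauer–Suzuki for a quaternion Sylow 2-subgroup of order 8.** -/
theorem brauer_suzuki_q8 (hO : ∀ N : Subgroup G, N.Normal → Odd (Nat.card N) → N = ⊥) :
    Nat.card (Subgroup.center G) = 2 := by
  by_cases hidx : ∀ H : Subgroup G, H.index ≠ 2
  · obtain ⟨M₀, hn, hz, hcyc⟩ := exists_kernel_subgroup_q8 S e hidx
    exact card_center_of_kernel S e hO M₀ hn hz hcyc
  · push Not at hidx
    obtain ⟨H, hH⟩ := hidx
    obtain ⟨M₀, hn, hz, hcyc⟩ := exists_kernel_subgroup_index_two S e H hH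
    exact card_center_of_kernel S e hO M₀ hn hz hcyc

end

end Cfsg.Agent.Lib.Helper30.BSQ8
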