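import Cfsg.Prelude.Def_Local

set_option autoImplicit false

namespace Cfsg.Agent.Lib.Helper30

open Subgroup
open scoped commutatorElement

/-- In a quasisimple group a normal subgroup is the whole group or central. -/
theorem qs_normal_top_or_le_center {X : Type*} [Group X] (hX : Cfsg.IsQuasisimple X)
    (N : Subgroup X) [hN : N.Normal] : N = ⊤ ∨ N ≤ center X := by
  obtain ⟨hperf, hsimple⟩ := hX
  have hn : (N.map (QuotientGroup.mk' (center X))).Normal :=
    hN.map _ (QuotientGroup.mk'_surjective _)
  rcases hn.eq_bot_or_eq_top with h | h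
  · right
    rw [Subgroup.map_eq_bot_iff, QuotientGroup.ker_mk'] at h
    exact h
  · left
    -- N ⊔ center = ⊤
    have hsup : N ⊔ center X = ⊤ := by
      have := congrArg (Subgroup.comap (QuotientGroup.mk' (center X))) h
      rw [Subgroup.comap_map_eq, QuotientGroup.ker_mk', Subgroup.comap_top] at this
      exact this
    -- the quotient X ⧸ N is perfect and commutative
    have hcomm : IsMulCommutative (X ⧸ N) := by
      refine ⟨⟨fun a b => ?_⟩⟩
      obtain ⟨a, rfl⟩ := QuotientGroup.mk_surjective a
      obtain ⟨b, rfl⟩ := QuotientGroup.mk_surjective b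
      have ha : a ∈ N ⊔ center X := hsup ▸ Subgroup.mem_top a
      obtain ⟨n, hn', z, hz, rfl⟩ := Subgroup.mem_sup_of_normal_left.mp ha
      have hnz : ((n * z : X) : X ⧸ N) = (z : X ⧸ N) := by
        rw [QuotientGroup.mk_mul, (QuotientGroup.eq_one_iff n).mpr hn', one_mul]
      rw [hnz, ← QuotientGroup.mk_mul, ← QuotientGroup.mk_mul]
      congr 1
      exact ((Subgroup.mem_center_iff.mp hz) b).symm
    have hsub : Subsingleton (X ⧸ N) := inferInstance
    exact QuotientGroup.subsingleton_iff.mp hsub


/-- Converse: a nontrivial perfect group all of whose normal subgroups are the whole group or central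
is quasisimple. -/
theorem isQuasisimple_of_normal {X : Type*} [Group X] (hperf : Group.IsPerfect X) (hnt : Nontrivial X)
    (h : ∀ N : Subgroup X, N.Normal → N = ⊤ ∨ N ≤ center X) : Cfsg.IsQuasisimple X := by
  refine ⟨hperf, ?_⟩
  have hne : center X ≠ ⊤ := by
    intro hc
    have : IsMulCommutative X := center_eq_top_iff.mp hc
    exact Group.IsPerfect.not_isMulCommutative X this
  have : Nontrivial (X ⧸ center X) := QuotientGroup.nontrivial_iff.mpr hne
  refine ⟨fun M hM => ?_⟩
  have hsurj := QuotientGroup.mk'_surjective (center X)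
  rcases h (M.comap (QuotientGroup.mk' (center X))) (hM.comap _) with hc | hc
  · right
    have := congrArg (Subgroup.map (QuotientGroup.mk' (center X))) hc
    rwa [Subgroup.map_comap_eq_self_of_surjective hsurj, Subgroup.map_top_of_surjective _ hsurj] at this
  · left
    rw [eq_bot_iff]
    intro x hx
    obtain ⟨y, rfl⟩ := hsurj x
    have hy : y ∈ center X := hc hx
    rw [Subgroup.mem_bot]
    exact (QuotientGroup.eq_one_iff y).mpr hy

variable {G : Type*} [Group G]

/-- Internal form of quasisimplicity of a subgroup. -/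
theorem qs_subgroup {L : Subgroup G} (hL : Cfsg.IsQuasisimple ↥L) :
    ⁅L, L⁆ = L ∧ L ≠ ⊥ ∧
      ∀ N : Subgroup G, N ≤ L → L ≤ normalizer (N : Set G) → N = L ∨ N ≤ centralizer (L : Set G) := by
  refine ⟨Subgroup.isPerfect_iff.mp hL.1, ?_, ?_⟩
  · rintro rfl
    have h1 := hL.2
    have : Subsingleton ((⊥ : Subgroup G) ⧸ center (⊥ : Subgroup G)) := by
      have : Subsingleton (⊥ : Subgroup G) := inferInstance
      infer_instance
    exact not_nontrivial _ h1.toNontrivial
  · intro N hNL hnorm
    have : (N.subgroupOf L).Normal := (Subgroup.normal_subgroupOf_iff_le_normalizer hNL).mpr hnorm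
    rcases qs_normal_top_or_le_center hL (N.subgroupOf L) with h | h
    · left
      exact le_antisymm hNL (Subgroup.subgroupOf_eq_top.mp h)
    · right
      intro n hn
      rw [Subgroup.mem_centralizer_iff]
      intro l hl
      have h1 : (⟨n, hNL hn⟩ : L) ∈ center L := h (Subgroup.mem_subgroupOf.mpr hn)
      have h2 := Subgroup.mem_center_iff.mp h1 ⟨l, hl⟩
      exact congrArg Subtype.val h2

/-- Converse of `qs_subgroup`. -/
theorem isQuasisimple_subgroup {L : Subgroup G} (hperf : ⁅L, L⁆ = L) (hne : L ≠ ⊥)
    (h : ∀ N : Subgroup G, N ≤ L → L ≤ normalizer (N : Set G) → N = L ∨ N ≤ centralizer (L : Set G)) :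
    Cfsg.IsQuasisimple ↥L := by
  refine isQuasisimple_of_normal (Subgroup.isPerfect_iff.mpr hperf)
    ((Subgroup.nontrivial_iff_ne_bot L).mpr hne) ?_
  intro N hN
  have hNL : N.map L.subtype ≤ L := Subgroup.map_subtype_le N
  have hnorm : L ≤ normalizer ((N.map L.subtype : Subgroup G) : Set G) := by
    have : ((N.map L.subtype).subgroupOf L).Normal := by
      have : (N.map L.subtype).subgroupOf L = N :=
        Subgroup.comap_map_eq_self_of_injective L.subtype_injective N
      rw [this]
      exact hN
    exact (Subgroup.normal_subgroupOf_iff_le_normalizer hNL).mp this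
  rcases h _ hNL hnorm with h1 | h1
  · left
    have : N.map L.subtype = (⊤ : Subgroup L).map L.subtype := by
      rw [h1, ← MonoidHom.range_eq_map, Subgroup.range_subtype]
    exact Subgroup.map_injective L.subtype_injective this
  · right
    intro n hn
    rw [Subgroup.mem_center_iff]
    intro l
    have h2 : (n : G) ∈ centralizer (L : Set G) := h1 (Subgroup.mem_map_of_mem L.subtype hn)
    have h3 := (Subgroup.mem_centralizer_iff.mp h2) l l.2
    exact Subtype.ext h3


theorem qs_nontrivial {X : Type*} [Group X] (hX : Cfsg.IsQuasisimple X) : Nontrivial X := by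
  by_contra hnt
  rw [not_nontrivial_iff_subsingleton] at hnt
  have h1 := hX.2
  have : Subsingleton (X ⧸ center X) := inferInstance
  exact not_nontrivial _ h1.toNontrivial

theorem isQuasisimple_of_mulEquiv {X Y : Type*} [Group X] [Group Y] (e : X ≃* Y)
    (hX : Cfsg.IsQuasisimple X) : Cfsg.IsQuasisimple Y := by
  have hperf : Group.IsPerfect Y := by
    have := hX.1
    exact Group.IsPerfect.ofSurjective (f := e.toMonoidHom) e.surjective
  have hnt : Nontrivial Y := by
    have := qs_nontrivial hX
    exact e.symm.toEquiv.nontrivial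
  refine isQuasisimple_of_normal hperf hnt ?_
  intro N hN
  have : (N.comap e.toMonoidHom).Normal := hN.comap _
  rcases qs_normal_top_or_le_center hX (N.comap e.toMonoidHom) with h | h
  · left
    rw [eq_top_iff]
    intro y _
    have : e.symm y ∈ N.comap e.toMonoidHom := h ▸ Subgroup.mem_top _
    simpa using this
  · right
    intro y hy
    have h1 : e.symm y ∈ N.comap e.toMonoidHom := by simpa using hy
    have h2 := Subgroup.mem_center_iff.mp (h h1)
    rw [Subgroup.mem_center_iff]
    intro z
    have h3 := congrArg e (h2 (e.symm z))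
    simpa using h3

/-- Key lemma (normal case): a subnormal quasisimple subgroup `L` and a normal subgroup `H`:
either `L ≤ H` or `L` and `H` commute. -/
theorem component_normal_dichotomy {L H : Subgroup G} (hsn : L.IsSubnormal)
    (hL : Cfsg.IsQuasisimple ↥L) (hH : H.Normal) : L ≤ H ∨ ⁅L, H⁆ = ⊥ := by
  obtain ⟨hperf, hne, hqs⟩ := qs_subgroup hL
  by_cases hLH : L ≤ H
  · exact Or.inl hLH
  right
  obtain ⟨n, f, hmono, hnorm, hf0, hfn⟩ := hsn.exists_chain
  have key : ∀ i, ⁅L, H ⊓ f i⁆ = ⊥ := by
    intro i
    induction i with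
    | zero =>
      rw [hf0]
      have h1 : H ⊓ L ≤ L := inf_le_right
      have h2 : L ≤ normalizer ((H ⊓ L : Subgroup G) : Set G) := by
        intro l hl
        rw [Subgroup.mem_normalizer_iff]
        intro x
        constructor
        · rintro ⟨hxH, hxL⟩
          exact ⟨hH.conj_mem x hxH l, L.mul_mem (L.mul_mem hl hxL) (L.inv_mem hl)⟩
        · rintro ⟨hxH, hxL⟩
          refine ⟨?_, ?_⟩
          · have := hH.conj_mem _ hxH l⁻¹
            simpa [mul_assoc] using this
          · have := L.mul_mem (L.mul_mem (L.inv_mem hl) hxL) hl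
            simpa [mul_assoc] using this
      rcases hqs _ h1 h2 with h3 | h3
      · exact absurd (h3 ▸ inf_le_left : L ≤ H) hLH
      · rw [commutator_comm]
        exact commutator_eq_bot_iff_le_centralizer.mpr h3
    | succ i ih =>
      have hLfi : L ≤ f i := hf0 ▸ hmono (Nat.zero_le i)
      have hni : f (i + 1) ≤ normalizer ((f i : Subgroup G) : Set G) :=
        (Subgroup.normal_subgroupOf_iff_le_normalizer (hmono (Nat.le_succ i))).mp (hnorm i)
      have h1 : ⁅L, H ⊓ f (i + 1)⁆ ≤ H ⊓ f i := by
        apply le_inf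
        · calc ⁅L, H ⊓ f (i + 1)⁆ ≤ ⁅L, H⁆ := commutator_mono le_rfl inf_le_left
            _ ≤ H := commutator_le_right L H
        · calc ⁅L, H ⊓ f (i + 1)⁆ ≤ ⁅f i, f (i + 1)⁆ := commutator_mono hLfi inf_le_right
            _ ≤ f i := le_normalizer_iff_commutator_le_left.mp hni
      have h2 : ⁅⁅L, H ⊓ f (i + 1)⁆, L⁆ = ⊥ := by
        rw [eq_bot_iff]
        calc ⁅⁅L, H ⊓ f (i + 1)⁆, L⁆ ≤ ⁅H ⊓ f i, L⁆ := commutator_mono h1 le_rfl
          _ = ⁅L, H ⊓ f i⁆ := commutator_comm _ _
          _ = ⊥ := ih
      have h3 : ⁅⁅H ⊓ f (i + 1), L⁆, L⁆ = ⊥ := by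
        rw [commutator_comm (H ⊓ f (i + 1)) L]
        exact h2
      have := commutator_commutator_eq_bot_of_rotate (H₁ := L) (H₂ := L) (H₃ := H ⊓ f (i + 1)) h2 h3
      rwa [hperf] at this
  have := key n
  rwa [hfn, inf_top_eq] at this

/-- Key lemma (Aschbacher 31.4): a subnormal quasisimple subgroup `L` and a subnormal subgroup `H`:
either `L ≤ H` or `L` and `H` commute. -/
theorem component_subnormal_dichotomy {L H : Subgroup G} (hsn : L.IsSubnormal)
    (hL : Cfsg.IsQuasisimple ↥L) (hH : H.IsSubnormal) : L ≤ H ∨ ⁅L, H⁆ = ⊥ := by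
  induction hH with
  | top => exact Or.inl le_top
  | step H K hHK hK hN ih =>
    rcases ih with h | h
    · have hL' : Cfsg.IsQuasisimple ↥(L.subgroupOf K) :=
        isQuasisimple_of_mulEquiv (Subgroup.subgroupOfEquivOfLe h).symm hL
      have hsn' : (L.subgroupOf K).IsSubnormal := hsn.subgroupOf
      rcases component_normal_dichotomy hsn' hL' hN with h1 | h1
      · left
        intro l hl
        have : (⟨l, h hl⟩ : K) ∈ H.subgroupOf K := h1 (Subgroup.mem_subgroupOf.mpr hl)
        exact Subgroup.mem_subgroupOf.mp this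
      · right
        rw [eq_bot_iff, Subgroup.commutator_le]
        intro l hl x hx
        have h2 : ⁅(⟨l, h hl⟩ : K), (⟨x, hHK hx⟩ : K)⁆ ∈ ⁅L.subgroupOf K, H.subgroupOf K⁆ :=
          Subgroup.commutator_mem_commutator (Subgroup.mem_subgroupOf.mpr hl)
            (Subgroup.mem_subgroupOf.mpr hx)
        rw [h1, Subgroup.mem_bot] at h2
        rw [Subgroup.mem_bot]
        exact congrArg Subtype.val h2
    · right
      rw [eq_bot_iff, ← h]
      exact commutator_mono le_rfl hHK

end Cfsg.Agent.Lib.Helper30
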