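import Cfsg.Agent.Lib.Helper50.SpinorCrit
import Cfsg.Prelude.Def_GeometricClasses

set_option autoImplicit false

/-! Keystone K-S2718-R: a similarity fixing or swapping the lines of two non-singular vectors
(orthogonal in the second case) commutes with the product of the two reflections. -/

namespace Cfsg.Agent.Lib.Helper30.S2718K

open Matrix Cfsg.Agent.Lib.Helper19 Cfsg.Agent.Lib.Helper50

universe u

variable {F : Type u} [Field F] [Fintype F] {ι : Type} [Fintype ι] [DecidableEq ι]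
variable (Q : QuadraticForm F (ι → F))

theorem polar_mulVec_sim (A : Matrix ι ι F) (c : F)
    (hA : ∀ x, Q (A *ᵥ x) = c * Q x) (x y : ι → F) :
    QuadraticMap.polar (⇑Q) (A *ᵥ x) (A *ᵥ y) = c * QuadraticMap.polar (⇑Q) x y := by
  simp only [QuadraticMap.polar, ← Matrix.mulVec_add, hA]
  ring

theorem sim_mul_reflection (A : Matrix ι ι F) (c : F) (hc : c ≠ 0)
    (hA : ∀ x, Q (A *ᵥ x) = c * Q x) (u : ι → F) :
    A * Cfsg.reflectionMatrix (⇑Q) u = Cfsg.reflectionMatrix (⇑Q) (A *ᵥ u) * A := by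
  apply Matrix.toLin'.injective
  apply LinearMap.ext
  intro x
  simp only [Matrix.toLin'_apply, ← Matrix.mulVec_mulVec, reflectionMatrix_mulVec,
    Matrix.mulVec_sub, Matrix.mulVec_smul, hA, polar_mulVec_sim Q A c hA]
  congr 2
  by_cases hu : Q u = 0
  · simp [hu]
  · field_simp

theorem reflection_comm_of_orth (u v : ι → F) (huv : QuadraticMap.polar (⇑Q) u v = 0) :
    Cfsg.reflectionMatrix (⇑Q) u * Cfsg.reflectionMatrix (⇑Q) v =
      Cfsg.reflectionMatrix (⇑Q) v * Cfsg.reflectionMatrix (⇑Q) u := by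
  have hvu : QuadraticMap.polar (⇑Q) v u = 0 := by rw [QuadraticMap.polar_comm]; exact huv
  apply Matrix.toLin'.injective
  apply LinearMap.ext
  intro x
  simp only [Matrix.toLin'_apply, ← Matrix.mulVec_mulVec, reflectionMatrix_mulVec,
    QuadraticMap.polar_sub_right, QuadraticMap.polar_smul_right, huv, hvu, smul_eq_mul,
    mul_zero, sub_zero]
  abel

theorem reflPair_comm (h2 : (2 : F) ≠ 0) (t : ↥(Cfsg.Geo.quadSimilarityGroup (F := F) ⇑Q))
    (u v : ι → F) (hu : Q u ≠ 0) (hv : Q v ≠ 0)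
    (h : (∃ a b : F, ((t : GL ι F) : Matrix ι ι F) *ᵥ u = a • u ∧
            ((t : GL ι F) : Matrix ι ι F) *ᵥ v = b • v) ∨
         (∃ a b : F, ((t : GL ι F) : Matrix ι ι F) *ᵥ u = a • v ∧
            ((t : GL ι F) : Matrix ι ι F) *ᵥ v = b • u ∧ QuadraticMap.polar Q u v = 0)) :
    (t : GL ι F) * ((Cfsg.Agent.Lib.Helper50.reflO Q u * Cfsg.Agent.Lib.Helper50.reflO Q v :
        ↥(Cfsg.isometryGroup F ⇑Q)) : GL ι F) =
      ((Cfsg.Agent.Lib.Helper50.reflO Q u * Cfsg.Agent.Lib.Helper50.reflO Q v :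
        ↥(Cfsg.isometryGroup F ⇑Q)) : GL ι F) * (t : GL ι F) := by
  obtain ⟨c, hc⟩ := t.2
  have hc0 : (c : F) ≠ 0 := c.ne_zero
  obtain ⟨T, hT⟩ : ∃ T : Matrix ι ι F, T = ((t : GL ι F) : Matrix ι ι F) := ⟨_, rfl⟩
  have hTQ : ∀ x, Q (T *ᵥ x) = (c : F) * Q x := by
    intro x; rw [hT]; exact hc x
  have key := sim_mul_reflection Q T c hc0 hTQ
  have hne : ∀ (a : F) (w z : ι → F), Q w ≠ 0 → T *ᵥ w = a • z → a ≠ 0 := by
    intro a w z hw haw ha
    rw [ha, zero_smul] at haw
    have := hTQ w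
    rw [haw, map_zero] at this
    exact (mul_ne_zero hc0 hw) this.symm
  apply Units.ext
  simp only [Subgroup.coe_mul, Units.val_mul, reflO_val Q u hu, reflO_val Q v hv]
  rw [← hT]
  rcases h with ⟨a, b, hau, hbv⟩ | ⟨a, b, hau, hbv, huv⟩
  · rw [← hT] at hau hbv
    have ha := hne a u u hu hau
    have hb := hne b v v hv hbv
    rw [← Matrix.mul_assoc, key u, Matrix.mul_assoc, key v, ← Matrix.mul_assoc, hau, hbv,
      reflectionMatrix_smul Q u a ha, reflectionMatrix_smul Q v b hb]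
  · rw [← hT] at hau hbv
    have ha := hne a u v hu hau
    have hb := hne b v u hv hbv
    rw [← Matrix.mul_assoc, key u, Matrix.mul_assoc, key v, ← Matrix.mul_assoc, hau, hbv,
      reflectionMatrix_smul Q v a ha, reflectionMatrix_smul Q u b hb,
      reflection_comm_of_orth Q u v huv]

end Cfsg.Agent.Lib.Helper30.S2718K
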