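import Mathlib
import Cfsg.Prelude.Def_GeometricClasses
import Cfsg.Agent.Lib.Helper61.AschDefs
import Cfsg.Agent.Lib.Helper61.AschBasic
import Cfsg.Agent.Lib.Helper61.AschGlueC
import Cfsg.Agent.Lib.Helper46.AschODefs
import Cfsg.Agent.Lib.Helper46.AschOBasic
import Cfsg.Agent.Lib.Helper40.EigLA
import Cfsg.Agent.Lib.Helper36.SLMaxD2

/-!
# K-S5673-A2b: the isotypic components form a non-degenerate isometric decomposition (odd dimension)
-/

set_option autoImplicit false

namespace Cfsg.Agent.Lib.Helper30.AschO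

open Cfsg Cfsg.Geo Cfsg.Agent.Lib.Helper61.Asch Cfsg.Agent.Lib.Helper46.AschO
open scoped Matrix Kronecker MatrixGroups

variable {F : Type*} [Field F] [Fintype F] {n : ℕ}

local notation "V" => (Fin n → F)
local notation "Mat" => Matrix (Fin n) (Fin n) F
local notation "Z" => scalars (Fin n) F

/-- the polar form as a Mathlib bilinear form -/
noncomputable def polarBilin (Q : V → F) (hQ : IsNondegenerateQuadraticForm Q) :
    LinearMap.BilinForm F V :=
  LinearMap.mk₂ F (QuadraticMap.polar Q) hQ.polar_bilinear.add_left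
    (fun c x w => by rw [hQ.polar_bilinear.smul_left]; rfl)
    hQ.polar_bilinear.add_right (fun c x w => by rw [hQ.polar_bilinear.smul_right]; rfl)

theorem perpQ_eq_orthogonal (Q : V → F) (hQ : IsNondegenerateQuadraticForm Q) (W : Submodule F V) :
    perpQ Q hQ W = (polarBilin Q hQ).orthogonal W := by
  ext v
  exact Iff.rfl

/-- the easy half of the dimension formula for the orthogonal complement -/
theorem le_finrank_add_finrank_perpQ (Q : V → F) (hQ : IsNondegenerateQuadraticForm Q)
    (W : Submodule F V) :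
    n ≤ Module.finrank F W + Module.finrank F (perpQ Q hQ W) := by
  rw [perpQ_eq_orthogonal, LinearMap.BilinForm.finrank_add_finrank_orthogonal', Module.finrank_fin_fun]
  exact Nat.le_add_right _ _

/-- the orthogonal complement of an `A`-invariant subspace is `A`-invariant when `A` is adjoint-closed -/
theorem perpQ_invariant_alg (Q : V → F) (hQ : IsNondegenerateQuadraticForm Q) (A : Subalgebra F Mat)
    (hA : ∀ x ∈ A, adjQ Q x ∈ A) (W : Submodule F V)
    (hW : ∀ a ∈ A, W.map (Matrix.toLin' a) ≤ W) :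
    ∀ a ∈ A, (perpQ Q hQ W).map (Matrix.toLin' a) ≤ perpQ Q hQ W := by
  intro a ha
  rintro _ ⟨v, hv, rfl⟩
  rw [mem_perpQ]
  intro w hw
  rw [Matrix.toLin'_apply]
  have h1 : QuadraticMap.polar Q w (a *ᵥ v) = QuadraticMap.polar Q (adjQ Q a *ᵥ w) v := by
    rw [polar_adjQ hQ, adjQ_adjQ hQ]
  rw [h1]
  exact hv _ (hW (adjQ Q a) (hA a ha) ⟨w, hw, by rw [Matrix.toLin'_apply]⟩)

/-- the adjoint of a matrix commuting with an adjoint-closed algebra commutes with it -/
theorem adjQ_comm_of_comm (Q : V → F) (hQ : IsNondegenerateQuadraticForm Q) (A : Subalgebra F Mat)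
    (hA : ∀ x ∈ A, adjQ Q x ∈ A) (M : Mat) (hM : ∀ a ∈ A, M * a = a * M) :
    ∀ a ∈ A, adjQ Q M * a = a * adjQ Q M := by
  intro a ha
  have h1 := hM (adjQ Q a) (hA a ha)
  calc adjQ Q M * a = adjQ Q M * adjQ Q (adjQ Q a) := by rw [adjQ_adjQ hQ]
    _ = adjQ Q (adjQ Q a * M) := (adjQ_mul hQ _ _).symm
    _ = adjQ Q (M * adjQ Q a) := by rw [h1]
    _ = adjQ Q (adjQ Q a) * adjQ Q M := adjQ_mul hQ _ _
    _ = a * adjQ Q M := by rw [adjQ_adjQ hQ]

/-- the orthogonal complement of a subspace invariant under the commutant is invariant under the commutant -/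
theorem perpQ_invariant_comm (Q : V → F) (hQ : IsNondegenerateQuadraticForm Q) (A : Subalgebra F Mat)
    (hA : ∀ x ∈ A, adjQ Q x ∈ A) (W : Submodule F V)
    (hW : ∀ M : Mat, (∀ a ∈ A, M * a = a * M) → W.map (Matrix.toLin' M) ≤ W) :
    ∀ M : Mat, (∀ a ∈ A, M * a = a * M) → (perpQ Q hQ W).map (Matrix.toLin' M) ≤ perpQ Q hQ W := by
  intro M hM
  rintro _ ⟨v, hv, rfl⟩
  rw [mem_perpQ]
  intro w hw
  rw [Matrix.toLin'_apply]
  have h1 : QuadraticMap.polar Q w (M *ᵥ v) = QuadraticMap.polar Q (adjQ Q M *ᵥ w) v := by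
    rw [polar_adjQ hQ, adjQ_adjQ hQ]
  rw [h1]
  exact hv _ (hW (adjQ Q M) (adjQ_comm_of_comm Q hQ A hA M hM) ⟨w, hw, by rw [Matrix.toLin'_apply]⟩)

/-- a non-zero vector is non-orthogonal to some member of a spanning family -/
theorem exists_polar_ne_zero (Q : V → F) (hQ : IsNondegenerateQuadraticForm Q) {t : ℕ}
    (D : Fin t → Submodule F V) (hsup : iSup D = ⊤) (w : V) (hw : w ≠ 0) :
    ∃ j, ∃ x ∈ D j, QuadraticMap.polar Q x w ≠ 0 := by
  by_contra h
  push_neg at h
  let N : Submodule F V :=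
    { carrier := {x | QuadraticMap.polar Q x w = 0}
      add_mem' := fun {a b} ha hb => by
        show QuadraticMap.polar Q (a + b) w = 0
        rw [hQ.polar_bilinear.add_left, ha, hb, add_zero]
      zero_mem' := by
        show QuadraticMap.polar Q 0 w = 0
        have := hQ.polar_bilinear.smul_left 0 0 w
        simpa using this
      smul_mem' := fun c a ha => by
        show QuadraticMap.polar Q (c • a) w = 0
        rw [hQ.polar_bilinear.smul_left, ha, mul_zero] }
  have hle : iSup D ≤ N := iSup_le fun j x hx => h j x hx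
  obtain ⟨x, hx⟩ := (hQ.nondegenerate w hw).1
  have hxN : x ∈ N := hle (hsup ▸ Submodule.mem_top)
  exact hx hxN

/-- a fixed-point-free involution forces an even number of points -/
theorem even_of_fixedPointFree_involution {t : ℕ} (σ : Fin t → Fin t) (hinv : ∀ i, σ (σ i) = i)
    (hne : ∀ i, σ i ≠ i) : Even t := by
  have hinv' : Function.Involutive σ := hinv
  have h2 : (hinv'.toPerm σ) ^ 2 = 1 := by
    ext i
    simp [pow_two, hinv i]
  have hsupp : (hinv'.toPerm σ).support = Finset.univ := by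
    rw [Finset.eq_univ_iff_forall]
    intro i
    rw [Equiv.Perm.mem_support]
    exact hne i
  have h := Equiv.Perm.two_dvd_card_support h2
  rw [hsupp, Finset.card_univ, Fintype.card_fin] at h
  exact even_iff_two_dvd.mpr h

/-- K-S5673-A2b. -/
theorem isOrthogonalMDecomposition_of_components (hodd : Odd n) (h2 : (2 : F) ≠ 0) (Q : V → F)
    (hQ : IsNondegenerateQuadraticForm Q) (H K : Subgroup (GL (Fin n) F)) (hK : K = H ⊔ Z)
    (hH : H ≤ isometryGroup F Q) (A : Subalgebra F Mat) (hA : ∀ x ∈ A, adjQ Q x ∈ A)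
    (t m : ℕ) (D : Fin t → Submodule F V) (hD : IsMDecomposition m D) (hKD : K ≤ decompositionStabilizer D)
    (htr : ∀ i j, ∃ k ∈ K, (D i).map (Matrix.toLin' (k : Mat)) = D j)
    (hinvA : ∀ i, ∀ a ∈ A, (D i).map (Matrix.toLin' a) ≤ D i)
    (hinvC : ∀ i, ∀ M : Mat, (∀ a ∈ A, M * a = a * M) → (D i).map (Matrix.toLin' M) ≤ D i)
    (hfull : ∀ W : Submodule F V, (∀ a ∈ A, W.map (Matrix.toLin' a) ≤ W) →
        (∀ M : Mat, (∀ a ∈ A, M * a = a * M) → W.map (Matrix.toLin' M) ≤ W) →
        ∃ s : Finset (Fin t), W = ⨆ i ∈ s, D i) :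
    IsOrthogonalMDecomposition Q m D := by
  classical
  have horth_symm : ∀ i j, AreOrthogonalFor (QuadraticMap.polar Q) (D i) (D j) →
      AreOrthogonalFor (QuadraticMap.polar Q) (D j) (D i) := by
    intro i j h u hu v hv
    rw [QuadraticMap.polar_comm]
    exact h v hv u hu
  have hs : ∀ i, ∃ s : Finset (Fin t), perpQ Q hQ (D i) = ⨆ j ∈ s, D j := fun i =>
    hfull _ (perpQ_invariant_alg Q hQ A hA (D i) (hinvA i))
      (perpQ_invariant_comm Q hQ A hA (D i) (hinvC i))
  choose s hs using hs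
  have hs_orth : ∀ i j, j ∈ s i → AreOrthogonalFor (QuadraticMap.polar Q) (D i) (D j) := by
    intro i j hj u hu v hv
    have hv' : v ∈ perpQ Q hQ (D i) := by
      rw [hs i]
      exact (le_iSup₂ (f := fun j (_ : j ∈ s i) => D j) j hj) hv
    exact hv' u hu
  have hn : t * m = n := Cfsg.Agent.Lib.Helper36.SLMax.mul_eq_of_isMDecomposition D hD
  have hcard : ∀ i, t ≤ (s i).card + 1 := by
    intro i
    have h1 := le_finrank_add_finrank_perpQ Q hQ (D i)
    rw [hs i, Cfsg.Agent.Lib.Helper40.EigLA.finrank_biSup_of_indep D hD.indep (s i)] at h1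
    simp only [hD.finrank_eq, Finset.sum_const, smul_eq_mul] at h1
    have h3 : t * m ≤ ((s i).card + 1) * m := by
      rw [hn, add_mul, one_mul, add_comm]
      exact h1
    exact Nat.le_of_mul_le_mul_right h3 hD.pos
  have hex : ∀ i, ∃ j, ¬ AreOrthogonalFor (QuadraticMap.polar Q) (D i) (D j) := by
    intro i
    have hne : D i ≠ ⊥ := by
      intro h
      have h3 := hD.finrank_eq i
      rw [h, finrank_bot] at h3
      exact hD.pos.ne h3
    obtain ⟨w, hw, hw0⟩ := Submodule.exists_mem_ne_zero_of_ne_bot hne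
    obtain ⟨j, x, hx, hxw⟩ := exists_polar_ne_zero Q hQ D hD.iSup_eq_top w hw0
    exact ⟨j, fun h => hxw (horth_symm i j h x hx w hw)⟩
  have huniq : ∀ i j k, ¬ AreOrthogonalFor (QuadraticMap.polar Q) (D i) (D j) →
      ¬ AreOrthogonalFor (QuadraticMap.polar Q) (D i) (D k) → j = k := by
    intro i j k hj hk
    by_contra hjk
    have hj' : j ∉ s i := fun h => hj (hs_orth i j h)
    have hk' : k ∉ s i := fun h => hk (hs_orth i k h)
    have hsub : s i ⊆ (Finset.univ.erase j).erase k := by
      intro x hx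
      rw [Finset.mem_erase, Finset.mem_erase]
      refine ⟨fun h => hk' (h ▸ hx), fun h => hj' (h ▸ hx), Finset.mem_univ _⟩
    have hc := Finset.card_le_card hsub
    rw [Finset.card_erase_of_mem (by
        rw [Finset.mem_erase]
        exact ⟨fun h => hjk h.symm, Finset.mem_univ _⟩),
      Finset.card_erase_of_mem (Finset.mem_univ _), Finset.card_univ, Fintype.card_fin] at hc
    have h3 := hcard i
    have h4 := hD.two_le
    omega
  choose σ hσ using hex
  have hfix_all : ∀ i, σ i = i → ∀ j, σ j = j := by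
    intro i hi j
    have hni : ¬ AreOrthogonalFor (QuadraticMap.polar Q) (D i) (D i) := by
      have h3 := hσ i
      rwa [hi] at h3
    unfold AreOrthogonalFor at hni
    push_neg at hni
    obtain ⟨u, hu, v, hv, huv⟩ := hni
    obtain ⟨k, hk, hkD⟩ := htr i j
    have hksim : k ∈ quadSimilarityGroup Q := by
      rw [hK] at hk
      exact sup_scalars_le_quadSimilarityGroup hQ hH hk
    obtain ⟨c, hc⟩ := hksim
    have hnj : ¬ AreOrthogonalFor (QuadraticMap.polar Q) (D j) (D j) := by
      intro h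
      have hku : (k : Mat) *ᵥ u ∈ D j := by
        rw [← hkD]
        exact ⟨u, hu, Matrix.toLin'_apply _ _⟩
      have hkv : (k : Mat) *ᵥ v ∈ D j := by
        rw [← hkD]
        exact ⟨v, hv, Matrix.toLin'_apply _ _⟩
      have h3 := h _ hku _ hkv
      rw [polar_similarity hc] at h3
      exact huv ((mul_eq_zero.mp h3).resolve_left c.ne_zero)
    exact huniq j _ _ (hσ j) hnj
  have hall : ∀ i, σ i = i := by
    by_contra hcon
    have hne : ∀ i, σ i ≠ i := by
      intro i hi
      exact hcon (hfix_all i hi)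
    have hinv : ∀ i, σ (σ i) = i := fun i =>
      huniq (σ i) (σ (σ i)) i (hσ (σ i)) (fun h => hσ i (horth_symm _ _ h))
    have heven : Even t := even_of_fixedPointFree_involution σ hinv hne
    have : Even n := by
      rw [← hn]
      exact heven.mul_right m
    exact (Nat.not_even_iff_odd.mpr hodd) this
  have hpair : ∀ i j, i ≠ j → AreOrthogonalFor (QuadraticMap.polar Q) (D i) (D j) := by
    intro i j hij
    by_contra h
    exact hij ((hall i).symm.trans (huniq i _ _ (hσ i) h))
  refine ⟨⟨hD, ?_, hpair⟩, ?_⟩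
  · intro i w hw hw0
    obtain ⟨j, x, hx, hxw⟩ := exists_polar_ne_zero Q hQ D hD.iSup_eq_top w hw0
    have hji : j = i := by
      by_contra h
      exact hxw (hpair j i h x hx w hw)
    subst hji
    exact ⟨⟨x, hx, hxw⟩, ⟨x, hx, by rwa [QuadraticMap.polar_comm]⟩⟩
  · intro i j
    obtain ⟨k, hk, hkD⟩ := htr i j
    rw [hK] at hk
    obtain ⟨h, hh, z, hz, rfl⟩ := mem_sup_scalars hk
    rw [mem_scalars_iff] at hz
    obtain ⟨c, hc⟩ := hz
    have hmap : (D i).map (Matrix.toLin' (h : Mat)) = D j := by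
      rw [← hkD, Units.val_mul, hc, Matrix.mul_smul, mul_one, map_smul,
        Submodule.map_smul _ _ _ c.ne_zero]
    have hinj : Function.Injective (Matrix.toLin' (h : Mat)) := by
      intro a b hab
      rw [Matrix.toLin'_apply, Matrix.toLin'_apply] at hab
      exact Matrix.mulVec_injective_iff_isUnit.mpr ⟨h, rfl⟩ hab
    refine ⟨(Submodule.equivMapOfInjective (Matrix.toLin' (h : Mat)) hinj (D i)).trans
      (LinearEquiv.ofEq _ _ hmap), fun w => ?_⟩
    have h3 := (mem_isometryGroup_iff Q h).mp (hH hh) (w : V)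
    rw [← h3]
    rfl

end Cfsg.Agent.Lib.Helper30.AschO
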