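import Mathlib
import Cfsg.Prelude.Def_GeometricClasses
import Cfsg.Agent.Lib.Helper61.AschDefs
import Cfsg.Agent.Lib.Helper46.AschOBasic

/-!
# K-OEvenX-X10: a tensor decomposition sym ⊗ sym whose second factor is of plus type forces plus type
-/

set_option autoImplicit false

namespace Cfsg.Agent.Lib.Helper30.OEvenX

open Cfsg Cfsg.Geo Cfsg.Agent.Lib.Helper61.Asch Cfsg.Agent.Lib.Helper46.AschO
open scoped Matrix Kronecker MatrixGroups

variable {F : Type*} [Field F] [Fintype F] {n : ℕ}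

/-- rows in `U₂` : the embedding `(Fin n₁ → U₂) → F^(n₁ × n₂)` -/
def rowsMap {n₁ n₂ : ℕ} (U₂ : Submodule F (Fin n₂ → F)) :
    (Fin n₁ → ↥U₂) →ₗ[F] (Fin n₁ × Fin n₂ → F) where
  toFun g := fun ab => (g ab.1 : Fin n₂ → F) ab.2
  map_add' g g' := by
    funext ab
    rfl
  map_smul' c g := by
    funext ab
    rfl

theorem rowsMap_injective {n₁ n₂ : ℕ} (U₂ : Submodule F (Fin n₂ → F)) :
    Function.Injective (rowsMap (n₁ := n₁) U₂) := by
  intro g g' h
  funext a
  apply Subtype.ext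
  funext b
  exact congrFun h (a, b)

/-- a totally singular subspace of `v ↦ f v v` is totally isotropic for the symmetric form `f` (`2 ≠ 0`) -/
theorem isotropic_of_singular (h2 : (2 : F) ≠ 0) {k : ℕ} (f : (Fin k → F) → (Fin k → F) → F)
    (hf : IsSymmetricForm f) (U : Submodule F (Fin k → F))
    (hU : IsTotallySingularQuad (fun v : Fin k → F => f v v) U) :
    ∀ u ∈ U, ∀ u' ∈ U, f u u' = 0 := by
  intro u hu u' hu'
  have h1 : f (u + u') (u + u') = 0 := hU _ (U.add_mem hu hu')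
  have h3 : f u u = 0 := hU _ hu
  have h4 : f u' u' = 0 := hU _ hu'
  rw [hf.bilinear.add_left, hf.bilinear.add_right, hf.bilinear.add_right, h3, h4, hf.symm u' u] at h1
  have h5 : 2 * f u u' = 0 := by linear_combination h1
  exact (mul_eq_zero.mp h5).resolve_left h2

/-- K-OEvenX-X10. -/
theorem plus_of_tensor_symm_plus (h2 : (2 : F) ≠ 0) (Q : (Fin n → F) → F) (hQ : IsNondegenerateQuadraticForm Q)
    {n₁ n₂ : ℕ} (e : Fin n ≃ Fin n₁ × Fin n₂) (P : GL (Fin n) F)
    (f₁ : (Fin n₁ → F) → (Fin n₁ → F) → F) (f₂ : (Fin n₂ → F) → (Fin n₂ → F) → F)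
    (hf₁ : IsSymmetricForm f₁) (hf₂ : IsSymmetricForm f₂)
    (hplus₂ : IsPlusTypeOn (fun v : Fin n₂ → F => f₂ v v) ⊤)
    (hT : IsTensorFormStructure id (QuadraticMap.polar Q) f₁ f₂ e P) : IsPlusTypeOn Q ⊤ := by
  classical
  obtain ⟨U₂, -, hU₂s, hU₂d⟩ := hplus₂
  obtain ⟨c, -, hc⟩ := hT
  have hiso := isotropic_of_singular h2 f₂ hf₂ U₂ hU₂s
  have hn : n = n₁ * n₂ := by
    have := Fintype.card_congr e
    rwa [Fintype.card_fin, Fintype.card_prod, Fintype.card_fin, Fintype.card_fin] at this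
  let Ψ : (Fin n₁ → ↥U₂) →ₗ[F] (Fin n → F) :=
    (Matrix.toLin' (P : Matrix (Fin n) (Fin n) F)).comp
      ((LinearMap.funLeft F F e).comp (rowsMap (n₁ := n₁) U₂))
  have hΨ : ∀ g, Ψ g = (P : Matrix (Fin n) (Fin n) F) *ᵥ ((rowsMap (n₁ := n₁) U₂ g) ∘ e) := by
    intro g
    show Matrix.toLin' (P : Matrix (Fin n) (Fin n) F) _ = _
    rw [Matrix.toLin'_apply]
    rfl
  have hΨinj : Function.Injective Ψ := by
    have h1 : Function.Injective (Matrix.toLin' (P : Matrix (Fin n) (Fin n) F)) := by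
      intro a b hab
      rw [Matrix.toLin'_apply, Matrix.toLin'_apply] at hab
      exact Matrix.mulVec_injective_iff_isUnit.mpr ⟨P, rfl⟩ hab
    have h3 : Function.Injective (LinearMap.funLeft F F e) :=
      LinearMap.funLeft_injective_of_surjective F F e e.surjective
    exact h1.comp (h3.comp (rowsMap_injective U₂))
  refine ⟨LinearMap.range Ψ, le_top, ?_, ?_⟩
  · rintro w ⟨g, rfl⟩
    have h3 : (2 : F) * Q (Ψ g) = 0 := by
      rw [two_mul_Q hQ, hΨ, hc]
      have hz : formOfGram id (gramMatrix f₁ ⊗ₖ gramMatrix f₂) (rowsMap (n₁ := n₁) U₂ g)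
          (rowsMap (n₁ := n₁) U₂ g) = 0 := by
        unfold formOfGram
        rw [Fintype.sum_prod_type]
        apply Finset.sum_eq_zero
        intro a _
        simp_rw [Fintype.sum_prod_type]
        rw [Finset.sum_comm]
        apply Finset.sum_eq_zero
        intro a' _
        have h4 : f₂ (g a : Fin n₂ → F) (g a' : Fin n₂ → F) = 0 := hiso _ (g a).2 _ (g a').2
        rw [bilin_eq_gram f₂ hf₂.bilinear] at h4
        calc ∑ b, ∑ b', rowsMap (n₁ := n₁) U₂ g (a, b) *
              (gramMatrix f₁ ⊗ₖ gramMatrix f₂) (a, b) (a', b') * id (rowsMap (n₁ := n₁) U₂ g (a', b'))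
            = gramMatrix f₁ a a' *
                ((g a : Fin n₂ → F) ⬝ᵥ (gramMatrix f₂ *ᵥ (g a' : Fin n₂ → F))) := by
              simp only [dotProduct, Matrix.mulVec, Matrix.kroneckerMap_apply, id, Finset.mul_sum]
              refine Finset.sum_congr rfl fun b _ => Finset.sum_congr rfl fun b' _ => ?_
              show (g a : Fin n₂ → F) b * (gramMatrix f₁ a a' * gramMatrix f₂ b b') *
                (g a' : Fin n₂ → F) b' = _
              ring
          _ = 0 := by rw [h4, mul_zero]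
      rw [hz, mul_zero]
    exact (mul_eq_zero.mp h3).resolve_left h2
  · rw [LinearMap.finrank_range_of_inj hΨinj, finrank_top, Module.finrank_fin_fun,
      Module.finrank_pi_fintype]
    simp only [Finset.sum_const, Finset.card_univ, Fintype.card_fin, smul_eq_mul]
    rw [finrank_top, Module.finrank_fin_fun] at hU₂d
    rw [hn, mul_left_comm, hU₂d]

end Cfsg.Agent.Lib.Helper30.OEvenX
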