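import Mathlib
import Cfsg.Agent.Lib.Helper11.ZassDefs
import Cfsg.Agent.Lib.Helper16.ClassEq2
import Cfsg.Agent.Lib.Helper16.SL2Dickson3

set_option autoImplicit false

/-!
Keystone K-S0690-4 (helper30): characteristic-zero class data for finite subgroups of `SL₂(K)`
(adapted from helper16's `SL2Dickson3/7/8`).
-/

namespace Cfsg.Agent.Lib.Helper30.Zass

open Cfsg.Agent.Lib.Helper11.Zass
open Cfsg.Agent.Lib.Helper16
open Cfsg.Agent.Lib.Helper16.SL2Q
open Classical
open Matrix

section Klein
variable {K : Type*} [Field K] [CharZero K]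

local notation "SL2" => Matrix.SpecialLinearGroup (Fin 2) K
local notation "M2" => Matrix (Fin 2) (Fin 2) K

theorem neg_one_ne_one0 : (-1 : SL2) ≠ 1 := by
  intro h
  have h2F : (2 : K) ≠ 0 := two_ne_zero
  have := congrArg tr h
  rw [tr_neg_one, tr_one] at this
  apply h2F
  have h4 : (2 : K) * 2 = 0 := by linear_combination -this
  exact mul_self_eq_zero.mp h4

/-- K-S0690-4a: the only involution of `SL₂(K)` is `-1` -/
theorem eq_neg_one_of_sq_eq_one0 {g : SL2} (h2 : g ^ 2 = 1) (h1 : g ≠ 1) : g = -1 := by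
  have h2F : (2 : K) ≠ 0 := two_ne_zero
  have hCH := coe_mul_self g
  have hsq : (g : M2) * (g : M2) = 1 := by
    have := congrArg (fun x : SL2 => (x : M2)) h2
    simpa [sq] using this
  rw [hsq] at hCH
  have h3 : tr g • (g : M2) = (2 : K) • (1 : M2) := by
    rw [two_smul]
    have : tr g • (g : M2) = 1 + 1 := by
      rw [eq_sub_iff_add_eq] at hCH
      exact hCH.symm
    exact this
  have htr : tr g ≠ 0 := by
    intro h0
    rw [h0, zero_smul] at h3
    have := congrFun (congrFun h3 0) 0
    simp at this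
  have h4 : (g : M2) = ((tr g)⁻¹ * 2) • (1 : M2) := by
    rw [mul_smul, ← h3, smul_smul, inv_mul_cancel₀ htr, one_smul]
  rcases eq_one_or_neg_one_of_scalar g _ h4 with h | h
  · exact absurd h h1
  · exact h

theorem neg_one_mem_of_even0 (L : Subgroup SL2) [Finite L] (h : Even (Nat.card L)) :
    (-1 : SL2) ∈ L := by
  obtain ⟨g, hg⟩ := exists_prime_orderOf_dvd_card' (G := L) 2 (even_iff_two_dvd.mp h)
  have h2 : ((g : L) : SL2) ^ 2 = 1 := by
    have := pow_orderOf_eq_one g
    rw [hg] at this
    have := congrArg (fun y : L => (y : SL2)) this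
    simpa using this
  have h1 : ((g : L) : SL2) ≠ 1 := by
    intro h1
    have : g = 1 := Subtype.ext h1
    rw [this, orderOf_one] at hg
    omega
  rw [← eq_neg_one_of_sq_eq_one0 h2 h1]
  exact g.2

/-- K-S0690-4b -/
theorem card_ZL_of_even0 (L : Subgroup SL2) [Finite L] (h : Even (Nat.card L)) :
    Nat.card (SL2Q.ZL L) = 2 := by
  have hm := neg_one_mem_of_even0 L h
  rw [Nat.card_eq_two_iff]
  refine ⟨⟨1, (ZL L).one_mem⟩, ⟨⟨-1, hm⟩, (mem_ZL L).mpr (Or.inr rfl)⟩, ?_, ?_⟩
  · intro h
    have := congrArg (fun y : ZL L => ((y : L) : SL2)) h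
    exact neg_one_ne_one0 this.symm
  · ext x
    simp only [Set.mem_insert_iff, Set.mem_singleton_iff, Set.mem_univ, iff_true]
    rcases (mem_ZL L).mp x.2 with h | h
    · left; exact Subtype.ext (Subtype.ext h)
    · right; exact Subtype.ext (Subtype.ext h)

/-- a unipotent matrix of finite order is the identity (characteristic zero) -/
theorem eq_one_of_unipotent_of_pow (A : M2) (hN : (A - 1) * (A - 1) = 0) (k : ℕ) (hk : 0 < k)
    (hAk : A ^ k = 1) : A = 1 := by
  set N : M2 := A - 1 with hNdef
  have hA : A = 1 + N := by rw [hNdef]; abel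
  have hpow : ∀ n : ℕ, A ^ n = 1 + n • N := by
    intro n
    induction n with
    | zero => simp
    | succ n ih =>
      rw [pow_succ, ih]
      rw [hA]
      rw [add_mul, mul_add, mul_add, one_mul, mul_one, one_mul, smul_mul_assoc, hN, smul_zero, add_zero,
        succ_nsmul]
      abel
  have h1 := hpow k
  rw [hAk] at h1
  have h2 : k • N = 0 := by
    have := h1
    exact (add_eq_left.mp this.symm)
  have h3 : N = 0 := by
    ext i j
    have := congrFun (congrFun h2 i) j
    simp only [Matrix.smul_apply, Matrix.zero_apply, nsmul_eq_mul] at this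
    rcases mul_eq_zero.mp this with h | h
    · exfalso
      have : k = 0 := by exact_mod_cast h
      omega
    · simpa using h
  rw [hA, h3, add_zero]

/-- non-central elements of a finite subgroup are semisimple (characteristic zero) -/
theorem tr_sq_ne_four0 (L : Subgroup SL2) [Finite L] (g : L) (hgZ : g ∉ SL2Q.ZL L) :
    tr (g : SL2) ^ 2 ≠ 4 := by
  intro hτ
  apply hgZ
  rw [mem_ZL]
  have hk : 0 < orderOf g := orderOf_pos g
  have hgk : ((g : SL2) : M2) ^ orderOf g = 1 := by
    have h1 : g ^ orderOf g = 1 := pow_orderOf_eq_one g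
    have h2 : ((g ^ orderOf g : L) : SL2) = 1 := by rw [h1]; rfl
    rw [Subgroup.coe_pow] at h2
    have h3 := congrArg (fun y : SL2 => (y : M2)) h2
    simp only [Matrix.SpecialLinearGroup.coe_pow, Matrix.SpecialLinearGroup.coe_one] at h3
    exact h3
  have hCH := coe_mul_self (g : SL2)
  have hcases : (tr (g : SL2) - 2) * (tr (g : SL2) + 2) = 0 := by linear_combination hτ
  rcases mul_eq_zero.mp hcases with h | h
  · left
    have ht : tr (g : SL2) = 2 := by linear_combination h
    rw [ht] at hCH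
    have hN : (((g : SL2) : M2) - 1) * (((g : SL2) : M2) - 1) = 0 := by
      rw [sub_mul, mul_sub, mul_sub, hCH, one_mul, mul_one, mul_one, two_smul]
      abel
    have := eq_one_of_unipotent_of_pow _ hN _ hk hgk
    exact Subtype.ext this
  · right
    have ht : tr (g : SL2) = -2 := by linear_combination h
    rw [ht] at hCH
    have hN : ((-((g : SL2) : M2)) - 1) * ((-((g : SL2) : M2)) - 1) = 0 := by
      rw [sub_mul, mul_sub, mul_sub, neg_mul_neg, hCH, one_mul, mul_one, mul_one, neg_smul, two_smul]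
      abel
    have hpow : (-((g : SL2) : M2)) ^ (2 * orderOf g) = 1 := by
      rw [Even.neg_pow (even_two_mul _), pow_mul', hgk, one_pow]
    have := eq_one_of_unipotent_of_pow _ hN _ (by omega) hpow
    apply Subtype.ext
    rw [Matrix.SpecialLinearGroup.coe_neg, Matrix.SpecialLinearGroup.coe_one, ← this, neg_neg]

/-- for a non-central `g`, elements normalizing `C(g)` fix or invert `g` -/
theorem conj_eq_or_inv_of_mem_Nm0 (L : Subgroup SL2) [Finite L] (g : L) (hgZ : g ∉ SL2Q.ZL L)
    (l : L) (hl : l ∈ ClassEq.Nm g) :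
    l * g * l⁻¹ = g ∨ l * g * l⁻¹ = g⁻¹ := by
  have hτ := tr_sq_ne_four0 L g hgZ
  have h2F : (2 : K) ≠ 0 := two_ne_zero
  have h1 : g ∈ Subgroup.centralizer ({g} : Set L) := Subgroup.mem_centralizer_singleton_iff.mpr rfl
  have h2 := (Subgroup.mem_normalizer_iff.mp hl g).mp h1
  have h3 := Subgroup.mem_centralizer_singleton_iff.mp h2
  have hns := not_scalar_of_ne (g : SL2) (fun e => hgZ ((mem_ZL L).mpr (Or.inl e)))
    (fun e => hgZ ((mem_ZL L).mpr (Or.inr e)))
  have h4 := eq_or_eq_inv_of_commute h2F (g : SL2) ((l : SL2) * (g : SL2) * (l : SL2)⁻¹) hns hτ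
    (by
      have := congrArg Subtype.val h3
      simpa using this) (tr_conj _ _)
  rcases h4 with h | h
  · left; apply Subtype.ext; simpa using h
  · right; apply Subtype.ext; simpa using h

/-- the index of `C(g)` in its normalizer is at most two -/
theorem card_Nm_semisimple0 (L : Subgroup SL2) [Finite L] (g : L) (hgZ : g ∉ SL2Q.ZL L) :
    Nat.card (ClassEq.Nm g) = Nat.card (Subgroup.centralizer ({g} : Set L)) ∨
    Nat.card (ClassEq.Nm g) = 2 * Nat.card (Subgroup.centralizer ({g} : Set L)) := by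
  set N := ClassEq.Nm g with hN
  set C := Subgroup.centralizer ({g} : Set L) with hC
  have hCN : C ≤ N := Subgroup.le_normalizer
  set K' := C.subgroupOf N with hK
  have hcardK : Nat.card K' = Nat.card C :=
    Nat.card_congr (Subgroup.subgroupOfEquivOfLe hCN).toEquiv
  have hmul : Nat.card K' * K'.index = Nat.card N := Subgroup.card_mul_index K'
  have hmemK : ∀ a : N, a ∈ K' ↔ (a : L) * g * (a : L)⁻¹ = g := by
    intro a
    rw [hK, Subgroup.mem_subgroupOf, hC, Subgroup.mem_centralizer_singleton_iff]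
    constructor
    · intro h; rw [h]; group
    · intro h
      have := congrArg (· * (a : L)) h
      simpa using this
  by_cases htop : K' = ⊤
  · left
    rw [htop, Subgroup.index_top, mul_one] at hmul
    rw [← hmul, ← hcardK, htop]
  · right
    obtain ⟨a, -, haK⟩ := SetLike.exists_of_lt (lt_top_iff_ne_top.mpr htop)
    have hidx : K'.index = 2 := by
      rw [Subgroup.index_eq_two_iff]
      refine ⟨a, ?_⟩
      intro b
      have ha := conj_eq_or_inv_of_mem_Nm0 L g hgZ (a : L) a.2
      have ha' : (a : L) * g * (a : L)⁻¹ = g⁻¹ := by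
        rcases ha with h | h
        · exact absurd ((hmemK a).mpr h) haK
        · exact h
      have hb := conj_eq_or_inv_of_mem_Nm0 L g hgZ (b : L) b.2
      by_cases hbK : b ∈ K'
      · refine Or.inr ⟨hbK, ?_⟩
        intro hba
        apply haK
        have := K'.mul_mem (K'.inv_mem hbK) hba
        simpa using this
      · refine Or.inl ⟨?_, hbK⟩
        have hb' : (b : L) * g * (b : L)⁻¹ = g⁻¹ := by
          rcases hb with h | h
          · exact absurd ((hmemK b).mpr h) hbK
          · exact h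
        rw [hmemK]
        have e : ((b * a : N) : L) * g * ((b * a : N) : L)⁻¹ =
            (b : L) * ((a : L) * g * (a : L)⁻¹) * (b : L)⁻¹ := by
          simp only [Subgroup.coe_mul]; group
        rw [e, ha']
        have : (b : L) * g⁻¹ * (b : L)⁻¹ = ((b : L) * g * (b : L)⁻¹)⁻¹ := by group
        rw [this, hb', inv_inv]
    rw [hidx] at hmul
    rw [← hmul, hcardK, mul_comm]

/-- K-S0690-4c: the numerical data of a class -/
theorem class_data0 (L : Subgroup SL2) [Fintype L] (g : L) (hgZ : g ∉ SL2Q.ZL L) :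
    ∃ a c : ℕ, 2 ≤ a ∧
      Nat.card (Subgroup.centralizer ({g} : Set L)) = Nat.card (SL2Q.ZL L) * a ∧
      c + Nat.card (SL2Q.ZL L) = Nat.card (SL2Q.ZL L) * a ∧
      (Nat.card (ClassEq.Nm g) = Nat.card (SL2Q.ZL L) * a ∨
        Nat.card (ClassEq.Nm g) = 2 * (Nat.card (SL2Q.ZL L) * a)) ∧
      (ClassEq.sat (SL2Q.ZL L) g).card * Nat.card (ClassEq.Nm g) = Nat.card L * c ∧
      (∀ l : L, l ∈ ClassEq.Nm g → l * g * l⁻¹ = g ∨ l * g * l⁻¹ = g⁻¹) := by
  have hct := ct_L L
  have hZC : ZL L ≤ Subgroup.centralizer ({g} : Set L) := by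
    intro z hz
    rw [Subgroup.mem_centralizer_singleton_iff]
    apply Subtype.ext
    rw [Subgroup.coe_mul, Subgroup.coe_mul]
    exact pm_central (Subgroup.mem_subgroupOf.mp hz) _
  obtain ⟨a, ha⟩ := Subgroup.card_dvd_of_le hZC
  have hz1 : 0 < Nat.card (ZL L) := Nat.card_pos
  have h2 := two_mul_card_ZL_le g hgZ
  rw [ha] at h2
  have ha2 : 2 ≤ a := by
    by_contra hlt
    push_neg at hlt
    have : a ≤ 1 := by omega
    nlinarith
  have hN := card_Nm_semisimple0 L g hgZ
  rw [ha] at hN
  have hcls := ClassEq.card_cls_add hct (g := g)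
  rw [ha] at hcls
  have hsat := ClassEq.card_sat_mul hct hgZ
  rw [← Nat.card_eq_fintype_card] at hsat
  exact ⟨a, _, ha2, ha, hcls, hN, hsat, fun l hl => conj_eq_or_inv_of_mem_Nm0 L g hgZ l hl⟩

end Klein

end Cfsg.Agent.Lib.Helper30.Zass
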