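import Mathlib
import Cfsg.Prelude.Def_Local
import Cfsg.Prelude.Def_Balance
import Cfsg.Prelude.Def_CaseTheorems
import Cfsg.Agent.Lib.Helper30.Components
import Cfsg.Agent.Lib.Helper97.UniqueOrderP
import Cfsg.Agent.Lib.Helper20.SylowNormal

/-!
# Quasisimple groups of 2-rank one (helper30)

Given the Brauer–Suzuki statement (S0225) as a hypothesis, a quasisimple group of even order and
2-rank one has a central involution, a unique involution, and generalized quaternion Sylow
2-subgroups.
-/

set_option autoImplicit false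

namespace Cfsg.Agent.Lib.Helper30.RankOneComp

open Cfsg

/-- the statement of S0225 (groups of 2-rank one have an involution central modulo the core) -/
def BSHyp.{u} : Prop :=
  ∀ (H : Type u) [Group H] [Finite H], Even (Nat.card H) → (∀ E : Subgroup H, ¬ IsKleinFour E) →
    ∃ z : H, orderOf z = 2 ∧ ∃ N : Subgroup H, N.Normal ∧ Odd (Nat.card N) ∧
      ∀ g : H, z * g * z⁻¹ * g⁻¹ ∈ N

/-- in a perfect group an element central modulo the centre is central -/
theorem mem_center_of_comm_mem_center {X : Type*} [Group X] (hperf : Group.IsPerfect X) (z : X)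
    (h : ∀ g : X, z * g * z⁻¹ * g⁻¹ ∈ Subgroup.center X) : z ∈ Subgroup.center X := by
  let φ : X →* Subgroup.center X := MonoidHom.mk' (fun g => ⟨z * g * z⁻¹ * g⁻¹, h g⟩) (by
    intro g k
    apply Subtype.ext
    show z * (g * k) * z⁻¹ * (g * k)⁻¹ = (z * g * z⁻¹ * g⁻¹) * (z * k * z⁻¹ * k⁻¹)
    have hc := Subgroup.mem_center_iff.mp (h k) g⁻¹
    calc z * (g * k) * z⁻¹ * (g * k)⁻¹ = z * g * z⁻¹ * ((z * k * z⁻¹ * k⁻¹) * g⁻¹) := by group
      _ = z * g * z⁻¹ * (g⁻¹ * (z * k * z⁻¹ * k⁻¹)) := by rw [hc]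
      _ = _ := by group)
  have hker : φ.ker = ⊤ := by
    have h1 : commutator X ≤ φ.ker := by
      rw [commutator_eq_closure, Subgroup.closure_le]
      rintro _ ⟨a, b, rfl⟩
      rw [SetLike.mem_coe, MonoidHom.mem_ker, map_commutatorElement, commutatorElement_def]
      have hab : φ a * φ b = φ b * φ a := mul_comm' _ _
      calc φ a * φ b * (φ a)⁻¹ * (φ b)⁻¹ = φ b * φ a * (φ a)⁻¹ * (φ b)⁻¹ := by rw [hab]
        _ = 1 := by group
    rw [hperf.commutator_eq_top] at h1
    exact top_le_iff.mp h1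
  rw [Subgroup.mem_center_iff]
  intro g
  have h2 : φ g = 1 := by
    rw [← MonoidHom.mem_ker, hker]
    exact Subgroup.mem_top g
  have h3 : z * g * z⁻¹ * g⁻¹ = 1 := congrArg Subtype.val h2
  have h4 : z * g = g * z := by
    calc z * g = (z * g * z⁻¹ * g⁻¹) * (g * z) := by group
      _ = g * z := by rw [h3, one_mul]
  exact h4.symm

/-- `PRankLE 2 1` excludes Klein four-subgroups -/
theorem not_isKleinFour_of_pRankLE {X : Type*} [Group X] (hrk : PRankLE 2 1 X) (E : Subgroup X) :
    ¬ IsKleinFour E := by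
  intro hE
  have hcomm : IsMulCommutative E := ⟨⟨fun a b => mul_comm_of_exponent_two hE.exponent_two a b⟩⟩
  have hexp : ∀ a ∈ E, a ^ 2 = 1 := by
    intro a ha
    have h1 : (⟨a, ha⟩ : E) ^ 2 = 1 := by
      have := Monoid.pow_exponent_eq_one (⟨a, ha⟩ : E)
      rwa [hE.exponent_two] at this
    exact congrArg Subtype.val h1
  have := hrk E hcomm hexp
  rw [hE.card_four] at this
  omega

/-- a quasisimple group of even order and 2-rank one has a central involution -/
theorem exists_central_involution.{u} (hBS : BSHyp.{u}) {X : Type u} [Group X] [Finite X]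
    (hqs : IsQuasisimple X) (heven : Even (Nat.card X)) (hrk : PRankLE 2 1 X) :
    ∃ z : X, orderOf z = 2 ∧ z ∈ Subgroup.center X := by
  obtain ⟨z, hz, N, hN, hodd, hcomm⟩ := hBS X heven (not_isKleinFour_of_pRankLE hrk)
  refine ⟨z, hz, ?_⟩
  have hNc : N ≤ Subgroup.center X := by
    rcases qs_normal_top_or_le_center hqs N with h | h
    · exfalso
      rw [h, Subgroup.card_top] at hodd
      exact (Nat.not_even_iff_odd.mpr hodd) heven
    · exact h
  exact mem_center_of_comm_mem_center hqs.1 z (fun g => hNc (hcomm g))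

/-- with a central involution and 2-rank one, the involution is unique -/
theorem involution_unique {X : Type*} [Group X] [Finite X] (hrk : PRankLE 2 1 X) (z : X)
    (hz : orderOf z = 2) (hzc : z ∈ Subgroup.center X) (u : X) (hu : orderOf u = 2) : u = z := by
  -- the subgroup generated by z and u
  have hcomm : ∀ a ∈ ({z, u} : Set X), ∀ b ∈ ({z, u} : Set X), a * b = b * a := by
    intro a ha b hb
    rcases ha with rfl | rfl
    · exact ((Subgroup.mem_center_iff.mp hzc) b).symm
    · rcases hb with rfl | rfl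
      · exact (Subgroup.mem_center_iff.mp hzc) a
      · rfl
  set A : Subgroup X := Subgroup.closure ({z, u} : Set X) with hA
  have hAcomm : IsMulCommutative A := by
    refine ⟨⟨fun a b => ?_⟩⟩
    letI := Subgroup.closureCommGroupOfComm hcomm
    exact mul_comm a b
  have hz2 : z ^ 2 = 1 := by rw [← hz]; exact pow_orderOf_eq_one z
  have hu2 : u ^ 2 = 1 := by rw [← hu]; exact pow_orderOf_eq_one u
  have hexp : ∀ a ∈ A, a ^ 2 = 1 := by
    intro a ha
    induction ha using Subgroup.closure_induction'' with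
    | one => simp
    | mem x hx =>
      rcases hx with rfl | rfl
      · exact hz2
      · exact hu2
    | inv_mem x hx =>
      rcases hx with rfl | rfl
      · rw [inv_pow, hz2, inv_one]
      · rw [inv_pow, hu2, inv_one]
    | mul x y hx hy hx' hy' =>
      have hxy : (⟨x, hx⟩ : A) * ⟨y, hy⟩ = ⟨y, hy⟩ * ⟨x, hx⟩ := hAcomm.is_comm.comm _ _
      have hxy' : Commute x y := congrArg Subtype.val hxy
      rw [hxy'.mul_pow, hx', hy', one_mul]
  have hcard := hrk A hAcomm hexp
  have hzA : Subgroup.zpowers z ≤ A := by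
    rw [Subgroup.zpowers_le]
    exact Subgroup.subset_closure (by simp)
  have hcz : Nat.card (Subgroup.zpowers z) = 2 := by rw [Nat.card_zpowers, hz]
  have hAeq : Subgroup.zpowers z = A :=
    Subgroup.eq_of_le_of_card_ge hzA (by rw [hcz]; simpa using hcard)
  have huA : u ∈ Subgroup.zpowers z := by
    rw [hAeq]
    exact Subgroup.subset_closure (by simp)
  obtain ⟨k, hk⟩ := Subgroup.mem_zpowers_iff.mp huA
  rcases Int.even_or_odd k with ⟨m, hm⟩ | ⟨m, hm⟩
  · exfalso
    have : u = 1 := by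
      rw [← hk, hm, ← two_mul, zpow_mul, zpow_ofNat, hz2, one_zpow]
    rw [this, orderOf_one] at hu
    omega
  · rw [← hk, hm, zpow_add, zpow_mul, zpow_ofNat, hz2, one_zpow, one_mul, zpow_one]

/-- a quasisimple group of even order does not have cyclic Sylow 2-subgroups -/
theorem not_isCyclic_sylow {X : Type*} [Group X] [Finite X] (hqs : IsQuasisimple X)
    (heven : Even (Nat.card X)) (S : Sylow 2 X) : ¬ IsCyclic (S : Subgroup X) := by
  intro hcyc
  haveI : Fact (Nat.Prime 2) := ⟨Nat.prime_two⟩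
  obtain ⟨K, hK, hodd, hsup, -⟩ := Cfsg.Agent.Lib.Helper20.exists_normal_two_complement
    (S : Subgroup X) hcyc S.isPGroup' S.not_dvd_index (even_iff_two_dvd.mp heven)
  haveI := hqs.1
  have hScomm : ∀ a ∈ (S : Subgroup X), ∀ b ∈ (S : Subgroup X), a * b = b * a := by
    intro a ha b hb
    obtain ⟨g, hg⟩ := hcyc.exists_generator
    obtain ⟨i, hi⟩ := Subgroup.mem_zpowers_iff.mp (hg ⟨a, ha⟩)
    obtain ⟨j, hj⟩ := Subgroup.mem_zpowers_iff.mp (hg ⟨b, hb⟩)
    have h1 : (⟨a, ha⟩ : (S : Subgroup X)) * ⟨b, hb⟩ = ⟨b, hb⟩ * ⟨a, ha⟩ := by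
      rw [← hi, ← hj, ← zpow_add, ← zpow_add, add_comm]
    exact congrArg Subtype.val h1
  have hcomm : IsMulCommutative (X ⧸ K) := by
    refine ⟨⟨fun a b => ?_⟩⟩
    obtain ⟨a, rfl⟩ := QuotientGroup.mk_surjective a
    obtain ⟨b, rfl⟩ := QuotientGroup.mk_surjective b
    have ha : a ∈ K ⊔ (S : Subgroup X) := hsup ▸ Subgroup.mem_top a
    have hb : b ∈ K ⊔ (S : Subgroup X) := hsup ▸ Subgroup.mem_top b
    obtain ⟨n, hn', s, hs, rfl⟩ := Subgroup.mem_sup_of_normal_left.mp ha
    obtain ⟨m, hm', t, ht, rfl⟩ := Subgroup.mem_sup_of_normal_left.mp hb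
    have hns : ((n * s : X) : X ⧸ K) = (s : X ⧸ K) := by
      rw [QuotientGroup.mk_mul, (QuotientGroup.eq_one_iff n).mpr hn', one_mul]
    have hmt : ((m * t : X) : X ⧸ K) = (t : X ⧸ K) := by
      rw [QuotientGroup.mk_mul, (QuotientGroup.eq_one_iff m).mpr hm', one_mul]
    rw [hns, hmt, ← QuotientGroup.mk_mul, ← QuotientGroup.mk_mul, hScomm s hs t ht]
  have hsub : Subsingleton (X ⧸ K) := inferInstance
  have hKtop : K = ⊤ := QuotientGroup.subsingleton_iff.mp hsub
  rw [hKtop, Subgroup.card_top] at hodd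
  exact (Nat.not_even_iff_odd.mpr hodd) heven

/-- Sylow 2-subgroups of a quasisimple group of even order with a unique involution are
generalized quaternion -/
theorem sylow_quaternion {X : Type*} [Group X] [Finite X] (hqs : IsQuasisimple X)
    (heven : Even (Nat.card X)) (z : X) (huniq : ∀ u : X, orderOf u = 2 → u = z) (S : Sylow 2 X) :
    ∃ n : ℕ, Nonempty (↥(S : Subgroup X) ≃* QuaternionGroup (2 ^ (n + 1))) := by
  haveI : Fact (Nat.Prime 2) := ⟨Nat.prime_two⟩
  have hnc := not_isCyclic_sylow hqs heven S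
  have hU : Cfsg.Agent.Lib.Helper97.UniqueOrderP 2 (S : Subgroup X) := by
    intro x y hx hy
    have hx' : (x : X) = z := huniq x (by rw [Subgroup.orderOf_coe, hx])
    have hy' : (y : X) = z := huniq y (by rw [Subgroup.orderOf_coe, hy])
    have : y = x := Subtype.ext (hy'.trans hx'.symm)
    rw [this]
    exact Subgroup.mem_zpowers x
  obtain ⟨n, ⟨e⟩⟩ := Cfsg.Agent.Lib.Helper97.quaternion_of_uniqueOrderP_two S.isPGroup' hU hnc
  rcases n with _ | n
  · exfalso
    apply hnc
    rw [pow_zero] at e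
    haveI := QuaternionGroup.quaternionGroup_one_isCyclic
    exact isCyclic_of_surjective e.symm.toMonoidHom e.symm.surjective
  · exact ⟨n, ⟨e⟩⟩

/-- S1307 from the Brauer–Suzuki statement -/
theorem classical_involution_of_rank_one_component.{u} (hBS : BSHyp.{u}) {G : Type u} [Group G]
    [Finite G] (x : G) (L : Subgroup G) (hLx : L ≤ Subgroup.centralizer ({x} : Set G))
    (hL : Cfsg.IsComponent (L.subgroupOf (Subgroup.centralizer ({x} : Set G))))
    (heven : Even (Nat.card ↥L)) (hrk : Cfsg.PRankLE 2 1 ↥L)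
    (hne : ∀ y : G, orderOf y = 2 → y ∈ Subgroup.centralizer (L : Set G) →
      L ≤ Subgroup.centralizer ({y} : Set G) ∧
        Cfsg.IsComponent (L.subgroupOf (Subgroup.centralizer ({y} : Set G)))) :
    ∃ t ∈ L, Cfsg.IsClassicalInvolution t := by
  have hqs : IsQuasisimple ↥L :=
    isQuasisimple_of_mulEquiv (Subgroup.subgroupOfEquivOfLe hLx) hL.2
  obtain ⟨z, hz, hzc⟩ := exists_central_involution hBS hqs heven hrk
  have huniq : ∀ u : ↥L, orderOf u = 2 → u = z := involution_unique hrk z hz hzc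
  have hzo : orderOf (z : G) = 2 := by rw [Subgroup.orderOf_coe, hz]
  have hzcent : (z : G) ∈ Subgroup.centralizer (L : Set G) := by
    rw [Subgroup.mem_centralizer_iff]
    intro g hg
    have := (Subgroup.mem_center_iff.mp hzc) ⟨g, hg⟩
    exact congrArg Subtype.val this
  obtain ⟨hLz, hLcomp⟩ := hne (z : G) hzo hzcent
  obtain ⟨n, hn⟩ := sylow_quaternion hqs heven z huniq (default : Sylow 2 ↥L)
  exact ⟨(z : G), z.2, hzo, L, hLz, z.2, hLcomp.1, default, n, hn⟩

end Cfsg.Agent.Lib.Helper30.RankOneComp
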