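import Cfsg.Agent.Lib.Helper49.OElDefs
import Cfsg.Agent.Lib.Helper96.OhPFC1

/-!
# Pack K-OEl (S5988, S5990), keystone 598802 (K-OEl-FC1t): `goodT_of_fixed`

Necessity of the arithmetic criterion with types (port of helper96's `good_of_fixed`, K-OhP FC1).
-/

set_option autoImplicit false
set_option linter.unusedSectionVars false
set_option linter.unusedVariables false

namespace Cfsg.Agent.Lib.Helper30.OEl

open Module Cfsg.Agent.Lib.Helper98.Elus Cfsg.Agent.Lib.Helper98.Sy Cfsg.Agent.Lib.Helper38.OhP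
  Cfsg.Agent.Lib.Helper49.OEl

universe u
variable {F : Type u} [Field F] {V : Type u} [AddCommGroup V] [Module F V]

theorem prop_zero {a b c d : Prop} (hb : b) (h1 : a ↔ (b ↔ c)) (h2 : c ↔ d) : a ↔ d := by
  tauto

theorem prop_full {τ w0 w1 tj ε v1 tT : Prop} (hAW : τ ↔ (w0 ↔ w1)) (htype : w1 ↔ tj)
    (hAV : ε ↔ (w0 ↔ v1)) (htypeV1 : v1 ↔ tT) : τ ↔ (tj ↔ (ε ↔ tT)) := by
  tauto

/-- LEAF FC1t with LEAF A (`hA`) and LEAF S1 (`hS1`) as hypotheses. -/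
theorem goodT_of_fixed_aux [Fintype F] [FiniteDimensional F V] (Q : QuadraticForm F V)
    (hV : NonDeg (pB Q) ⊤) (p f : ℕ) [Fact p.Prime] (hF : Fintype.card F = p ^ f)
    (r : ℕ) [Fact r.Prime] (hpr : p ≠ r) (hr2 : r ≠ 2) (hrF : (r : F) ≠ 0) (y : V →ₗ[F] V)
    (hy : y ^ r = 1) (hiso : QIso Q y)
    (i c : ℕ) (hi : i = orderOf ((Fintype.card F : ℕ) : ZMod r)) (hc : c = cOf i)
    (T k : ℕ) (hT : finrank F (V1 r y) = T * c) (hk : finrank F (V0 y) = k)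
    (m : ℕ) (W : Submodule F V) (hW : Inv y W) (hWnd : NonDeg (pB Q) W) (hWd : finrank F W = m)
    (hme : Even m)
    (hA : ∀ W1 W2 : Submodule F V, NonDeg (pB Q) W1 → NonDeg (pB Q) W2 → Ort (pB Q) W1 W2 →
      Even (finrank F W1) → Even (finrank F W2) →
      (PlusQ Q (W1 ⊔ W2) ↔ (PlusQ Q W1 ↔ PlusQ Q W2)))
    (hS1 : ∀ U : Submodule F V, U ≤ V1 r y → Inv y U → NonDeg (pB Q) U →
      c ∣ finrank F U ∧ (PlusQ Q U ↔ tPlus i (finrank F U / c))) :
    ∃ j : ℕ, j ≤ T ∧ j * c ≤ m ∧ GoodT (PlusQ Q ⊤) (PlusQ Q W) i c T k m j := by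
  classical
  have hR := Cfsg.Agent.Lib.Helper98.Os.isRefl_of_symm (pB_symm Q)
  have hi1 : 1 ≤ i := by rw [hi]; exact orderOf_card_pos p f hF r hpr
  have hc1 : 1 ≤ c := by rw [hc]; exact cOf_pos _ hi1
  have hce : Even c := by rw [hc]; exact cOf_even _
  obtain ⟨hnd0, hnd1⟩ :=
    Cfsg.Agent.Lib.Helper98.Oh.nonDeg_inf_parts_refl hR r hrF y hy hiso.iso W hWnd hW
  have hsum := finrank_inf_V0_add_inf_V1 r hrF y hy W hW
  rw [hWd] at hsum
  have hsup : (W ⊓ V0 y) ⊔ (W ⊓ V1 r y) = W :=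
    Cfsg.Agent.Lib.Helper96.OhP.inf_V0_sup_inf_V1 r hrF y hy W hW
  have hort01 := ort_V0_V1 (B := pB Q) r hrF y hy hiso.iso
  have hort : Ort (pB Q) (W ⊓ V0 y) (W ⊓ V1 r y) := fun u hu v hv =>
    hort01 u (Submodule.mem_inf.mp hu).2 v (Submodule.mem_inf.mp hv).2
  have hinv1 : Inv y (W ⊓ V1 r y) := hW.inf (inv_V1 r y)
  obtain ⟨⟨j, hj⟩, htype⟩ := hS1 (W ⊓ V1 r y) inf_le_right hinv1 hnd1
  have hdiv : finrank F ↥(W ⊓ V1 r y) / c = j := by
    rw [hj, Nat.mul_div_cancel_left j (by omega : 0 < c)]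
  rw [hdiv] at htype
  have he1 : Even (finrank F ↥(W ⊓ V1 r y)) := by rw [hj]; exact hce.mul_right j
  have he0 : Even (finrank F ↥(W ⊓ V0 y)) := by
    have : finrank F ↥(W ⊓ V0 y) = m - finrank F ↥(W ⊓ V1 r y) := by omega
    rw [this]
    exact (Nat.even_sub (by omega)).mpr ⟨fun _ => he1, fun _ => hme⟩
  have hAW := hA (W ⊓ V0 y) (W ⊓ V1 r y) hnd0 hnd1 hort he0 he1
  rw [hsup] at hAW
  have h1le : finrank F ↥(W ⊓ V1 r y) ≤ T * c := by
    rw [← hT]; exact Submodule.finrank_mono inf_le_right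
  have h0le : finrank F ↥(W ⊓ V0 y) ≤ k := by
    rw [← hk]; exact Submodule.finrank_mono inf_le_right
  have hjT : j ≤ T := by
    rw [hj] at h1le
    by_contra hcon
    push Not at hcon
    have : (T + 1) * c ≤ j * c := Nat.mul_le_mul_right c hcon
    have h3 : c * j = j * c := Nat.mul_comm c j
    nlinarith
  have hjc : j * c = finrank F ↥(W ⊓ V1 r y) := by rw [hj, Nat.mul_comm]
  have hjm : j * c ≤ m := by omega
  have he0eq : m - j * c = finrank F ↥(W ⊓ V0 y) := by omega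
  refine ⟨j, hjT, hjm, ?_⟩
  unfold GoodT
  rw [he0eq]
  rcases Nat.eq_zero_or_pos (finrank F ↥(W ⊓ V0 y)) with hz | hpos
  · left
    refine ⟨hz, ?_⟩
    have hbot : W ⊓ V0 y = ⊥ := Submodule.finrank_eq_zero.mp hz
    rw [hbot] at hAW
    exact prop_zero (plusQ_bot Q) hAW htype
  · rcases Nat.lt_or_ge (finrank F ↥(W ⊓ V0 y)) k with hlt | hge
    · right; left; exact ⟨hpos, hlt⟩
    · right; right
      have hek : finrank F ↥(W ⊓ V0 y) = k := le_antisymm h0le hge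
      refine ⟨hek, by omega, ?_⟩
      have hWV0 : W ⊓ V0 y = V0 y := by
        apply Submodule.eq_of_le_of_finrank_eq inf_le_right
        rw [hek, hk]
      obtain ⟨hndV0, hndV1⟩ :=
        Cfsg.Agent.Lib.Helper98.Oh.nonDeg_inf_parts_refl hR r hrF y hy hiso.iso
          ⊤ hV (fun _ _ => Submodule.mem_top)
      rw [top_inf_eq] at hndV0 hndV1
      have heV1 : Even (finrank F ↥(V1 r y)) := by rw [hT]; exact hce.mul_left T
      have heV0 : Even (finrank F ↥(V0 y)) := by rw [hk, ← hek]; exact he0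
      have hAV := hA (V0 y) (V1 r y) hndV0 hndV1 hort01 heV0 heV1
      rw [V0_sup_V1 r hrF y hy] at hAV
      obtain ⟨-, htypeV1⟩ := hS1 (V1 r y) le_rfl (inv_V1 r y) hndV1
      rw [hT, Nat.mul_div_cancel T (by omega : 0 < c)] at htypeV1
      rw [hWV0] at hAW
      exact prop_full hAW htype hAV htypeV1

/-- **KEYSTONE 598802  K-OEl-FC1t**. -/
theorem goodT_of_fixed [Fintype F] [FiniteDimensional F V] (Q : QuadraticForm F V)
    (hV : NonDeg (pB Q) ⊤) (p f : ℕ) [Fact p.Prime] (hF : Fintype.card F = p ^ f)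
    (r : ℕ) [Fact r.Prime] (hpr : p ≠ r) (hr2 : r ≠ 2) (hrF : (r : F) ≠ 0) (y : V →ₗ[F] V)
    (hy : y ^ r = 1) (hiso : QIso Q y)
    (i c : ℕ) (hi : i = orderOf ((Fintype.card F : ℕ) : ZMod r)) (hc : c = cOf i)
    (T k : ℕ) (hT : finrank F (V1 r y) = T * c) (hk : finrank F (V0 y) = k)
    (d : ℕ) (hdim : finrank F V = 2 * d)
    (m : ℕ) (W : Submodule F V) (hW : Inv y W) (hWnd : NonDeg (pB Q) W) (hWd : finrank F W = m)
    (hme : Even m) :
    ∃ j : ℕ, j ≤ T ∧ j * c ≤ m ∧ GoodT (PlusQ Q ⊤) (PlusQ Q W) i c T k m j := by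
  refine goodT_of_fixed_aux Q hV p f hF r hpr hr2 hrF y hy hiso i c hi hc T k hT hk m W hW hWnd
    hWd hme (fun W1 W2 h1 h2 hort he1 he2 =>
      Cfsg.Agent.Lib.Helper28.OhP.plusQ_sup_iff Q W1 W2 h1 h2 hort he1 he2) ?_
  intro U hUV1 hU hUnd
  have h := Cfsg.Agent.Lib.Helper96.OhP.type_of_le_V1_q' Q hV p f hF r hpr hr2 hrF y hy hiso U
    hUV1 hU hUnd
  rw [← hi, ← hc] at h
  exact h

end Cfsg.Agent.Lib.Helper30.OEl
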