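import Mathlib
import Cfsg.Agent.Lib.Helper17.Aut3Defs
import Cfsg.Agent.Lib.Helper19.HigB

/-!
# Keystone K-S3117-A2 (helper30): level sets of an anisotropic quadratic map `W → U`,
`|W| ≥ 8`, `|U| = 4`, have odd size (Chevalley–Warning).
-/

set_option autoImplicit false

namespace Cfsg.Agent.Lib.Helper30.Aut3

open Cfsg.Agent.Lib.Helper17.Aut3

/-- The functional `(x,y) ↦ b x + a y` on `(ZMod 2)^2` has kernel `{0,(a,b)}`. -/
theorem zmod_two_ker (a b x y : ZMod 2) (hab : ¬ (a = 0 ∧ b = 0)) :
    b * x + a * y = 0 ↔ (x = 0 ∧ y = 0) ∨ (x = a ∧ y = b) := by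
  revert a b x y; decide

theorem level_card_odd {W U : Type*} [AddCommGroup W] [AddCommGroup U] [Finite W] [Finite U]
    {q : W → U} {β : W → W → U} (h : AnisoQuad q β) (hW : 8 ≤ Nat.card W) (hU : Nat.card U = 4)
    (u : U) (hu : u ≠ 0) : Odd (Nat.card {w : W // q w = u}) := by
  classical
  have : Fact (Nat.Prime 2) := ⟨Nat.prime_two⟩
  obtain ⟨m, ⟨eW⟩⟩ := Cfsg.Agent.Lib.Helper19.Hig.exists_addEquiv_pi_zmod_two h.hW
  obtain ⟨n, ⟨eU⟩⟩ := Cfsg.Agent.Lib.Helper19.Hig.exists_addEquiv_pi_zmod_two h.hU
  have hcW : Nat.card W = 2 ^ m := by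
    rw [Nat.card_congr eW.toEquiv, Nat.card_eq_fintype_card, Fintype.card_fun, ZMod.card,
      Fintype.card_fin]
  have hcU : Nat.card U = 2 ^ n := by
    rw [Nat.card_congr eU.toEquiv, Nat.card_eq_fintype_card, Fintype.card_fun, ZMod.card,
      Fintype.card_fin]
  have hn : n = 2 := by
    have h2 : 2 ^ n = 2 ^ 2 := by rw [← hcU, hU]; norm_num
    exact Nat.pow_right_injective (le_refl 2) h2
  subst hn
  have hm : 3 ≤ m := by
    by_contra hlt
    push Not at hlt
    have h2 : 2 ^ m ≤ 2 ^ 2 := Nat.pow_le_pow_right (by norm_num) (by omega)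
    omega
  have hab : ¬ (eU u 0 = 0 ∧ eU u 1 = 0) := by
    rintro ⟨h0, h1⟩
    apply hu
    have h2 : eU u = 0 := by
      funext i
      fin_cases i
      · exact h0
      · exact h1
    exact (AddEquiv.map_eq_zero_iff eU).mp h2
  let l : U → ZMod 2 := fun v => eU u 1 * eU v 0 + eU u 0 * eU v 1
  have hl_add : ∀ v v', l (v + v') = l v + l v' := by
    intro v v'; simp only [l, map_add, Pi.add_apply]; ring
  have hl_ker : ∀ v, l v = 0 ↔ v = 0 ∨ v = u := by
    intro v
    show eU u 1 * eU v 0 + eU u 0 * eU v 1 = 0 ↔ _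
    rw [zmod_two_ker _ _ _ _ hab]
    constructor
    · rintro (⟨h0, h1⟩ | ⟨h0, h1⟩)
      · left
        apply eU.injective
        funext i
        fin_cases i
        · simpa using h0
        · simpa using h1
      · right
        apply eU.injective
        funext i
        fin_cases i
        · simpa using h0
        · simpa using h1
    · rintro (rfl | rfl)
      · left; simp
      · right; exact ⟨rfl, rfl⟩
  obtain ⟨f, hf2, hf⟩ := Cfsg.Agent.Lib.Helper19.Hig.exists_poly_of_quadratic
    (fun x => l (q (eW.symm x))) (fun x y => l (β (eW.symm x) (eW.symm y)))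
    (by intro v v'; simp only [map_add, h.hq, hl_add])
    (by intro v v' v''; simp only [map_add, h.hβl, hl_add])
    (by intro v v' v''; simp only [map_add, h.hβr, hl_add])
  have hdeg : f.totalDegree < Fintype.card (Fin m) := by
    rw [Fintype.card_fin]; omega
  have hdvd := char_dvd_card_solutions (K := ZMod 2) (σ := Fin m) 2 hdeg
  -- count
  have : Fintype W := Fintype.ofFinite W
  have hcard1 : Fintype.card { x : Fin m → ZMod 2 // MvPolynomial.eval x f = 0 }
      = (Finset.univ.filter (fun w : W => l (q w) = 0)).card := by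
    rw [Fintype.card_subtype]
    refine Finset.card_bij (fun x _ => eW.symm x) ?_ ?_ ?_
    · intro x hx
      simp only [Finset.mem_filter, Finset.mem_univ, true_and] at hx ⊢
      rw [← hf x]; exact hx
    · intro x _ y _ hxy
      exact eW.symm.injective hxy
    · intro w hw
      simp only [Finset.mem_filter, Finset.mem_univ, true_and] at hw
      refine ⟨eW w, ?_, by simp⟩
      simp only [Finset.mem_filter, Finset.mem_univ, true_and]
      rw [hf]; simpa using hw
  have hset : (Finset.univ.filter (fun w : W => l (q w) = 0))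
      = insert 0 (Finset.univ.filter (fun w : W => q w = u)) := by
    ext w
    simp only [Finset.mem_filter, Finset.mem_univ, true_and, Finset.mem_insert]
    rw [hl_ker]
    constructor
    · rintro (h0 | h1)
      · left; exact h.aniso w h0
      · right; exact h1
    · rintro (rfl | h1)
      · left; exact h.q_zero
      · right; exact h1
  have hnot : (0 : W) ∉ Finset.univ.filter (fun w : W => q w = u) := by
    simp only [Finset.mem_filter, Finset.mem_univ, true_and]
    rw [h.q_zero]; exact fun h0 => hu h0.symm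
  have hcard2 : Nat.card {w : W // q w = u} = (Finset.univ.filter (fun w : W => q w = u)).card := by
    rw [Nat.card_eq_fintype_card, Fintype.card_subtype]
  rw [hcard1, hset, Finset.card_insert_of_notMem hnot, ← hcard2] at hdvd
  rcases hdvd with ⟨k, hk⟩
  exact ⟨k - 1, by omega⟩

end Cfsg.Agent.Lib.Helper30.Aut3
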