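import Mathlib
import Cfsg.Agent.Lib.Helper15.BG1379Defs
import Cfsg.Agent.Lib.Helper11.BG144Glue
import Cfsg.Agent.Lib.Helper71.BG10Sub
import Cfsg.Agent.Lib.Helper71.BG11a
import Cfsg.Agent.Lib.Helper74.PiParts

/-!
# K-1379-V5 (keystone 137905): the `σ(N)`-part and the `σ(N)'`-part of an element of `N`.
Architect: helper15.  Spec: `notes/S1379_keystones.lean.txt`.
-/

set_option autoImplicit false

namespace Cfsg.Agent.Lib.Helper30.BG1379

open Cfsg Subgroup Cfsg.Agent.Lib.Helper11.BG14D Cfsg.Agent.Lib.Helper11.BG144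
  Cfsg.Agent.Lib.Helper15.BG1379

/-- pure group theory: coprime commuting parts of an element along a `π`-decomposition of its order -/
theorem exists_pi_parts {G : Type*} [Group G] [Finite G] (π : Set ℕ) (g : G) :
    ∃ x r : G, g = x * r ∧ x * r = r * x ∧ x ∈ zpowers g ∧ r ∈ zpowers g ∧
      (∀ q : ℕ, q.Prime → q ∣ orderOf x → q ∈ π) ∧
      (∀ q : ℕ, q.Prime → q ∣ orderOf r → q ∉ π) ∧
      (∀ q : ℕ, q.Prime → q ∣ orderOf g → q ∈ π → x ≠ 1) := by
  obtain ⟨A, B, hAB, hcop, hA, hB⟩ :=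
    Cfsg.Agent.Lib.Helper74.exists_pi_decomp π (orderOf g) (orderOf_pos g).ne'
  -- exponents
  obtain ⟨t, ht1, ht0⟩ := Nat.chineseRemainder hcop 1 0
  obtain ⟨s, hs0, hs1⟩ := Nat.chineseRemainder hcop 0 1
  have hBt : B ∣ t := (Nat.modEq_zero_iff_dvd).mp ht0
  have hAs : A ∣ s := (Nat.modEq_zero_iff_dvd).mp hs0
  have hxA : (g ^ t) ^ A = 1 := by
    rw [← pow_mul]
    apply orderOf_dvd_iff_pow_eq_one.mp
    rw [← hAB, mul_comm t A]
    exact Nat.mul_dvd_mul_left A hBt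
  have hrB : (g ^ s) ^ B = 1 := by
    rw [← pow_mul]
    apply orderOf_dvd_iff_pow_eq_one.mp
    rw [← hAB]
    exact Nat.mul_dvd_mul_right hAs B
  have hsum : g ^ t * g ^ s = g := by
    rw [← pow_add]
    conv_rhs => rw [← pow_one g]
    rw [pow_eq_pow_iff_modEq, ← hAB]
    rw [← Nat.modEq_and_modEq_iff_modEq_mul hcop]
    constructor
    · have := ht1.add hs0
      simpa using this
    · have := ht0.add hs1
      simpa using this
  have hox : orderOf (g ^ t) ∣ A := orderOf_dvd_of_pow_eq_one hxA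
  have hor : orderOf (g ^ s) ∣ B := orderOf_dvd_of_pow_eq_one hrB
  refine ⟨g ^ t, g ^ s, hsum.symm, ?_, ⟨t, by simp⟩, ⟨s, by simp⟩, ?_, ?_, ?_⟩
  · rw [← pow_add, ← pow_add, add_comm]
  · intro q hq hd
    exact hA q hq (hd.trans hox)
  · intro q hq hd
    exact hB q hq (hd.trans hor)
  · intro q hq hd hqπ hx1
    rw [hx1, one_mul] at hsum
    have : q ∣ B := by
      have h1 : orderOf g ∣ B := by
        rw [← hsum]; exact hor
      exact hd.trans h1
    exact hB q hq this hqπ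

variable {G : Type*} [Group G] [Finite G]

/-- LEAF V5 (137905) -/
theorem exists_sigma_parts (hG : IsMinSimpleOddOrder G) {N : Subgroup G} (hN : IsCoatom N) {g : G}
    (hgN : g ∈ N) :
    ∃ x r : G, g = x * r ∧ x * r = r * x ∧ x ∈ zpowers g ∧ r ∈ zpowers g ∧ x ∈ sigmaCore N ∧
      (∀ q : ℕ, q.Prime → q ∣ orderOf r → q ∉ sigma N) ∧
      (∀ q : ℕ, q.Prime → q ∣ orderOf g → q ∈ sigma N → x ≠ 1) := by
  obtain ⟨x, r, h1, h2, hx, hr, hxπ, hrπ, hne⟩ := exists_pi_parts (sigma N) g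
  refine ⟨x, r, h1, h2, hx, hr, ?_, hrπ, hne⟩
  have hxN : x ∈ N := (zpowers_le.mpr hgN) hx
  have hle : zpowers x ≤ sigmaCore N := by
    apply Cfsg.Agent.Lib.Helper71.BG10.le_of_isPiHallOf_normal
      (Cfsg.Agent.S1350.result hG N hN).1
      (Cfsg.Agent.Lib.Helper71.BG11.le_normalizer_sigmaCore N) (zpowers_le.mpr hxN)
    intro p hp hd
    rw [Nat.card_zpowers] at hd
    exact hxπ p hp hd
  exact hle (mem_zpowers x)

end Cfsg.Agent.Lib.Helper30.BG1379
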