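import Mathlib
import Cfsg.Agent.Lib.Helper23.SylowPerm
import Cfsg.Agent.Lib.Helper23.SylowEmbed
import Cfsg.Agent.Lib.Helper23.SylowCount
import Cfsg.Agent.Lib.Helper23.Burnside
import Cfsg.Agent.Lib.Helper67.PG7920_TT

set_option autoImplicit false

namespace Cfsg.Agent.Lib.Helper30.PG7920

open Cfsg.Agent.Lib.Helper23 Cfsg.Agent.Lib.Helper23.SylowPerm

/-- Sylow 2-subgroup of `G` inside a subgroup `N` whose 2-part is full. -/
theorem exists_sylow_two_le_of_card {G : Type*} [Group G] [Finite G] (N : Subgroup G)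
    (k a b : ℕ) (hG : Nat.card G = 2 ^ k * a) (ha : ¬ 2 ∣ a)
    (hN : Nat.card N = 2 ^ k * b) (hb : ¬ 2 ∣ b) :
    ∃ S : Sylow 2 G, (S : Subgroup G) ≤ N ∧ Nat.card (S : Subgroup G) = 2 ^ k := by
  have : Fact (Nat.Prime 2) := ⟨by norm_num⟩
  obtain ⟨S₀⟩ : Nonempty (Sylow 2 ↥N) := inferInstance
  have hS₀ : Nat.card ↥(S₀ : Subgroup ↥N) = 2 ^ k := sylow_card_of_card_eq 2 k b hN hb S₀
  set K : Subgroup G := (S₀ : Subgroup ↥N).map N.subtype with hK
  have hKc : Nat.card ↥K = 2 ^ k := by
    rw [hK, Subgroup.card_map_of_injective N.subtype_injective, hS₀]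
  have hKp : IsPGroup 2 ↥K := IsPGroup.of_card hKc
  obtain ⟨S, hS⟩ := hKp.exists_le_sylow
  have hSc : Nat.card ↥(S : Subgroup G) = 2 ^ k := sylow_card_of_card_eq 2 k a hG ha S
  have hKS : K = (S : Subgroup G) := Subgroup.eq_of_le_of_card_ge hS (by rw [hKc, hSc])
  refine ⟨S, ?_, hSc⟩
  rw [← hKS, hK]
  exact Subgroup.map_subtype_le _

theorem not_simple_of_card_1980 {H : Type*} [Group H] [Finite H] [IsSimpleGroup H]
    (h : Nat.card H = 1980) : False := by
  have : Fact (Nat.Prime 11) := ⟨by norm_num⟩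
  have : Fact (Nat.Prime 3) := ⟨by norm_num⟩
  have : Fact (Nat.Prime 2) := ⟨by norm_num⟩
  have hnc : ¬ IsMulCommutative H := not_isMulCommutative_of_simple (by rw [h]; norm_num)
  have h' : Nat.card H = 11 ^ 1 * 180 := by rw [h]; norm_num
  have hm : ¬ 11 ∣ 180 := by norm_num
  have hcP : ∀ P : Sylow 11 H, Nat.card ↥(P : Subgroup H) = 11 := fun P => by
    have := sylow_card_of_card_eq 11 1 180 h' hm P
    simpa using this
  have hdvd := card_sylow_dvd_of_card_eq 11 1 180 h' hm
  have hmod := card_sylow_modEq_one 11 H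
  have h11 : 11 ∣ Nat.card H := by rw [h]; norm_num
  have hcard2 : 2 < Nat.card H := by rw [h]; norm_num
  obtain ⟨P⟩ : Nonempty (Sylow 11 H) := inferInstance
  have hne1 := card_sylow_ne_one_of_simple 11 P (by rw [hcP]; norm_num) (by rw [hcP, h]; norm_num)
  have hN := card_normalizer_mul_card_sylow 11 P
  rw [h] at hN
  have hrel := relIndex_centralizer_normalizer_dvd_pred 11 (P : Subgroup H) (hcP P)
  have hmul := card_centralizer_mul_relIndex (P : Subgroup H)
  have hd1 : (Subgroup.centralizer ((P : Subgroup H) : Set H)).relIndex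
      (Subgroup.normalizer ((P : Subgroup H) : Set H)) ≠ 1 := by
    intro hd
    rw [Subgroup.relIndex_eq_one] at hd
    exact false_of_normalizer_le_centralizer hnc 11 h11 P hd
  have hd10 := Nat.le_of_dvd (by norm_num) hrel
  have hrelN : (Subgroup.centralizer ((P : Subgroup H) : Set H)).relIndex
      (Subgroup.normalizer ((P : Subgroup H) : Set H)) = 
      (Subgroup.centralizer ((P : Subgroup H) : Set H)).relIndex
      (Subgroup.normalizer ((P : Subgroup H) : Set H)) := rfl
  set d := (Subgroup.centralizer ((P : Subgroup H) : Set H)).relIndex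
      (Subgroup.normalizer ((P : Subgroup H) : Set H)) with hd
  set c := Nat.card ↥(Subgroup.centralizer ((P : Subgroup H) : Set H)) with hc
  have key : ∀ n ∈ Finset.range 181, n ∣ 180 → n % 11 = 1 → n = 1 ∨ n = 12 ∨ n = 45 := by
    set_option maxRecDepth 100000 in decide
  have hle := Nat.le_of_dvd (by norm_num) hdvd
  rcases key _ (Finset.mem_range.mpr (by omega)) hdvd hmod with h1 | h1 | h1
  · exact hne1 h1
  · -- twelve Sylow 11-subgroups
    rw [h1] at hN
    have hNc : Nat.card ↥(Subgroup.normalizer ((P : Subgroup H) : Set H)) = 165 := by omega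
    rw [hNc] at hmul
    have h3c : 3 ∣ c := by
      norm_num at hrel
      interval_cases d <;> omega
    obtain ⟨k, hk⟩ := exists_prime_orderOf_dvd_card' 3 h3c
    have hk3 : orderOf (k : H) = 3 := by rw [Subgroup.orderOf_coe]; exact hk
    have hF1 : Nat.card (MulAction.fixedBy (Sylow 11 H) (k : H)) % 11 = 1 :=
      card_fixedBy_modEq_one 11 P (k : H) k.2
    have hF2 := card_fixedBy_modEq_card 11 3 (k : H) 1 (by rw [hk3]; norm_num)
    rw [h1] at hF2
    have hF2' : 12 % 3 = Nat.card (MulAction.fixedBy (Sylow 11 H) (k : H)) % 3 := hF2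
    have hk1 : (k : H) ≠ 1 := by
      intro hk1
      rw [hk1, orderOf_one] at hk3
      omega
    have hF3 := card_fixedBy_lt 11 hne1 (k : H) hk1
    rw [h1] at hF3
    omega
  · -- forty-five Sylow 11-subgroups
    rw [h1] at hN
    have hNc : Nat.card ↥(Subgroup.normalizer ((P : Subgroup H) : Set H)) = 44 := by omega
    rw [hNc] at hmul
    have hd2 : d = 2 := by
      norm_num at hrel
      interval_cases d <;> omega
    have hc22 : c = 22 := by
      rw [hd2] at hmul; omega
    obtain ⟨S, hSN, hSc⟩ := exists_sylow_two_le_of_card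
      (Subgroup.normalizer ((P : Subgroup H) : Set H)) 2 495 11 (by rw [h]; norm_num) (by norm_num)
      (by rw [hNc]; norm_num) (by norm_num)
    -- relIndex
    have hdv : (Subgroup.centralizer ((P : Subgroup H) : Set H)).relIndex (S : Subgroup H) ∣ 2 := by
      have e1 := Subgroup.relIndex_dvd_index_of_normal
        ((Subgroup.centralizer ((P : Subgroup H) : Set H)).subgroupOf
          (Subgroup.normalizer ((P : Subgroup H) : Set H)))
        ((S : Subgroup H).subgroupOf (Subgroup.normalizer ((P : Subgroup H) : Set H)))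
      rw [Subgroup.relIndex_subgroupOf hSN] at e1
      have e2 : ((Subgroup.centralizer ((P : Subgroup H) : Set H)).subgroupOf
          (Subgroup.normalizer ((P : Subgroup H) : Set H))).index = 2 := hd2
      rwa [e2] at e1
    have hne : (Subgroup.centralizer ((P : Subgroup H) : Set H)).relIndex (S : Subgroup H) ≠ 1 := by
      intro h1'
      rw [Subgroup.relIndex_eq_one] at h1'
      have := Subgroup.card_dvd_of_le h1'
      rw [hSc, ← hc, hc22] at this
      omega
    have hrel2 : ((S : Subgroup H) ⊓ Subgroup.centralizer ((P : Subgroup H) : Set H)).relIndex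
        (S : Subgroup H) = 2 := by
      rw [Subgroup.inf_relIndex_left]
      have := Nat.le_of_dvd (by norm_num) hdv
      have h0 : (Subgroup.centralizer ((P : Subgroup H) : Set H)).relIndex (S : Subgroup H) ≠ 0 := by
        intro h0; rw [h0] at hdv; omega
      omega
    apply Cfsg.Agent.Lib.Helper67.PG7920.false_of_unique_fixed_of_relIndex_two 11 P S hSN hrel2
    intro m hm hm1 Q hQ
    have hmS : m ∈ (S : Subgroup H) := hm.1
    have hmC : m ∈ Subgroup.centralizer ((P : Subgroup H) : Set H) := hm.2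
    have ho1 : orderOf m ∣ 4 := by
      have := Subgroup.orderOf_dvd_natCard _ hmS
      rwa [hSc] at this
    have ho2 : orderOf m ∣ 22 := by
      have := Subgroup.orderOf_dvd_natCard _ hmC
      rwa [← hc, hc22] at this
    have ho : orderOf m ∣ 2 := by
      have := Nat.dvd_gcd ho1 ho2
      simpa using this
    have hm2 : m ^ 2 = 1 := orderOf_dvd_iff_pow_eq_one.mp ho
    have hF1 : Nat.card (MulAction.fixedBy (Sylow 11 H) m) % 11 = 1 :=
      card_fixedBy_modEq_one 11 P m hmC
    obtain ⟨t, ht⟩ := card_fixedBy_involution 11 hcard2 m hm2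
    have hF3 := card_fixedBy_lt 11 hne1 m hm1
    rw [h1] at ht hF3
    have hfix1 : Nat.card (MulAction.fixedBy (Sylow 11 H) m) = 1 := by omega
    have hmP : m • P = P :=
      Sylow.smul_eq_iff_mem_normalizer.mpr (Subgroup.centralizer_le_normalizer _ hmC)
    have hsub := (Nat.card_eq_one_iff_unique.mp hfix1).1
    have := Subsingleton.elim
      (⟨Q, hQ⟩ : MulAction.fixedBy (Sylow 11 H) m) ⟨P, hmP⟩
    exact congrArg Subtype.val this

end Cfsg.Agent.Lib.Helper30.PG7920
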