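import Mathlib
import Cfsg.Agent.Lib.Helper23.SylowInter
import Cfsg.Agent.Lib.Helper23.SylowCount
import Cfsg.Agent.Lib.Helper23.SylowEmbed

/-!
Keystone K-S0496-720D (helper30): in a simple group of order 720 with ten Sylow 3-subgroups, distinct Sylow
3-subgroups intersect trivially.  (Self-contained: does not use 720A.)
-/

set_option autoImplicit false

namespace Cfsg.Agent.Lib.Helper30.Small1092

open Subgroup MulAction

/-- comparison of the normalizer inside a subgroup -/
theorem card_normalizer_subtype {G : Type*} [Group G] (L Q : Subgroup G) (hQL : Q ≤ L) :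
    Nat.card ↥(normalizer ((Q.subgroupOf L : Subgroup L) : Set L)) =
      Nat.card ↥(L ⊓ normalizer (Q : Set G)) := by
  rw [← subgroupOf_normalizer_eq hQL, ← Subgroup.inf_subgroupOf_right]
  exact Nat.card_congr (Subgroup.subgroupOfEquivOfLe (inf_le_right :
    normalizer (Q : Set G) ⊓ L ≤ L)).toEquiv |>.trans (by rw [inf_comm])

theorem inf_eq_bot_of_card_sylow_three_eq_ten {G : Type*} [Group G] [Finite G] [IsSimpleGroup G]
    (hG : ¬ IsMulCommutative G)
    (h : Nat.card G = 720) (hidx : ∀ H : Subgroup G, H ≠ ⊤ → 7 ≤ H.index) (h15 : ∀ g : G, orderOf g ≠ 15)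
    (h3 : Nat.card (Sylow 3 G) = 10) (P R : Sylow 3 G) (hPR : P ≠ R) :
    (P : Subgroup G) ⊓ (R : Subgroup G) = ⊥ := by
  by_contra hne
  haveI : Fact (Nat.Prime 3) := ⟨Nat.prime_three⟩
  -- orders of the Sylow subgroups
  have hcard : ∀ T : Sylow 3 G, Nat.card ↥(T : Subgroup G) = 9 := by
    intro T
    have := Cfsg.Agent.Lib.Helper23.sylow_card_of_card_eq 3 2 80 (by rw [h]; norm_num) (by norm_num) T
    simpa using this
  have hcomm : ∀ T : Sylow 3 G, ∀ a ∈ (T : Subgroup G), ∀ b ∈ (T : Subgroup G), a * b = b * a := by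
    intro T a ha b hb
    have hc : IsMulCommutative ↥(T : Subgroup G) :=
      IsPGroup.isMulCommutative_of_card_eq_prime_sq (p := 3) (by rw [hcard T]; norm_num)
    have := hc.is_comm.comm ⟨a, ha⟩ ⟨b, hb⟩
    exact congrArg Subtype.val this
  set D : Subgroup G := (P : Subgroup G) ⊓ (R : Subgroup G) with hD
  set N : Subgroup G := normalizer ((P : Subgroup G) : Set G) with hN
  set L : Subgroup G := normalizer (D : Set G) with hL
  have hN72 : Nat.card ↥N = 72 := by
    have := Cfsg.Agent.Lib.Helper23.card_normalizer_mul_card_sylow 3 P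
    rw [h3, h] at this
    rw [hN]; omega
  -- |D| = 3
  have hD3 : Nat.card ↥D = 3 := by
    have hdvd : Nat.card ↥D ∣ 9 := by
      rw [← hcard P]; exact Subgroup.card_dvd_of_le inf_le_left
    have h1 : Nat.card ↥D ≠ 1 := by
      intro h1
      exact hne (Subgroup.card_eq_one.mp h1)
    have h9 : Nat.card ↥D ≠ 9 := by
      intro h9
      apply hPR
      have hDP : D = (P : Subgroup G) :=
        Subgroup.eq_of_le_of_card_ge inf_le_left (by rw [h9, hcard P])
      have hPleR : (P : Subgroup G) ≤ (R : Subgroup G) := by rw [← hDP]; exact inf_le_right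
      have : (P : Subgroup G) = (R : Subgroup G) :=
        Subgroup.eq_of_le_of_card_ge hPleR (by rw [hcard P, hcard R])
      exact Sylow.ext this
    have : Nat.card ↥D ∈ Nat.divisors 9 := Nat.mem_divisors.mpr ⟨hdvd, by norm_num⟩
    have hdiv : Nat.divisors 9 = {1, 3, 9} := by decide
    rw [hdiv] at this
    simp only [Finset.mem_insert, Finset.mem_singleton] at this
    omega
  -- P, R ≤ L
  have hPL : (P : Subgroup G) ≤ L :=
    Cfsg.Agent.Lib.Helper23.le_normalizer_of_comm _ D inf_le_left (hcomm P)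
  have hRL : (R : Subgroup G) ≤ L :=
    Cfsg.Agent.Lib.Helper23.le_normalizer_of_comm _ D inf_le_right (hcomm R)
  -- L is proper
  have hLtop : L ≠ ⊤ := by
    intro htop
    have hDn : D.Normal := normalizer_eq_top_iff.mp htop
    rcases hDn.eq_bot_or_eq_top with h' | h'
    · exact hne h'
    · have : Nat.card ↥D = 720 := by rw [h', Subgroup.card_top, h]
      omega
  have hL7 : 7 ≤ L.index := hidx L hLtop
  have hLmul : Nat.card ↥L * L.index = 720 := by rw [Subgroup.card_mul_index, h]
  -- Sylow count in L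
  have hd1 : Nat.card (Sylow 3 ↥L) ≡ 1 [MOD 3] := card_sylow_modEq_one 3 ↥L
  have hd2 : 1 < Nat.card (Sylow 3 ↥L) := by
    rw [Finite.one_lt_card_iff_nontrivial]
    refine ⟨⟨P.subtype hPL, R.subtype hRL, ?_⟩⟩
    intro h'
    exact hPR (Sylow.subtype_injective h')
  have hd3 : Nat.card ↥(L ⊓ N) * Nat.card (Sylow 3 ↥L) = Nat.card ↥L := by
    have h1 := Cfsg.Agent.Lib.Helper23.card_normalizer_mul_card_sylow 3 (P.subtype hPL)
    rw [Sylow.coe_subtype, card_normalizer_subtype L (P : Subgroup G) hPL] at h1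
    exact h1
  -- |L ⊓ N| is 9 or 18
  have hLN_dvd : Nat.card ↥(L ⊓ N) ∣ 72 := by
    rw [← hN72]; exact Subgroup.card_dvd_of_le inf_le_right
  have hLN_9 : 9 ∣ Nat.card ↥(L ⊓ N) := by
    rw [← hcard P]
    exact Subgroup.card_dvd_of_le (le_inf hPL le_normalizer)
  have hLN : Nat.card ↥(L ⊓ N) = 9 ∨ Nat.card ↥(L ⊓ N) = 18 := by
    obtain ⟨k, hk⟩ := hLN_9
    have hd4 : 4 ≤ Nat.card (Sylow 3 ↥L) := by
      have := hd1
      unfold Nat.ModEq at this
      omega
    have hle : Nat.card ↥(L ⊓ N) * 4 * 7 ≤ 720 := by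
      calc Nat.card ↥(L ⊓ N) * 4 * 7 ≤ Nat.card ↥(L ⊓ N) * Nat.card (Sylow 3 ↥L) * L.index :=
            Nat.mul_le_mul (Nat.mul_le_mul_left _ hd4) hL7
        _ = 720 := by rw [hd3, hLmul]
    have hpos : 0 < Nat.card ↥(L ⊓ N) := Nat.card_pos
    rw [hk] at hle hpos ⊢
    have hk3 : k ≤ 2 := by omega
    interval_cases k <;> omega
  -- the two-point stabilizer
  set H : Subgroup G := N ⊓ normalizer ((R : Subgroup G) : Set G) with hH
  have hHL : H ≤ L ⊓ N := by
    intro x hx
    have hxP : x ∈ normalizer ((P : Subgroup G) : Set G) := hx.1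
    have hxR : x ∈ normalizer ((R : Subgroup G) : Set G) := hx.2
    refine Subgroup.mem_inf.mpr ⟨?_, hxP⟩
    rw [hL, Subgroup.mem_normalizer_iff]
    intro g
    rw [hD, Subgroup.mem_inf, Subgroup.mem_inf, ← (Subgroup.mem_normalizer_iff.mp hxP) g,
      ← (Subgroup.mem_normalizer_iff.mp hxR) g]
  have hH9 : ¬ 9 ∣ Nat.card ↥H := by
    intro h9
    obtain ⟨Q, hQ⟩ := Sylow.exists_subgroup_card_pow_prime (G := ↥H) 3 (n := 2) (by simpa using h9)
    set Q' : Subgroup G := Q.map H.subtype with hQ'
    have hQ'card : Nat.card ↥Q' = 9 := by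
      rw [hQ', Subgroup.card_map_of_injective H.subtype_injective, hQ]; norm_num
    have hQ'H : Q' ≤ H := by
      rintro _ ⟨q, -, rfl⟩
      exact q.2
    have hQ'p : IsPGroup 3 ↥Q' := IsPGroup.of_card (n := 2) (by rw [hQ'card]; norm_num)
    have h1 : Q' ≤ (P : Subgroup G) := by
      have e : Q' ⊓ normalizer ((P : Subgroup G) : Set G) = Q' ⊓ (P : Subgroup G) :=
        hQ'p.inf_normalizer_sylow P
      have h2 : Q' ≤ normalizer ((P : Subgroup G) : Set G) := hQ'H.trans inf_le_left
      rw [inf_eq_left.mpr h2] at e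
      exact inf_eq_left.mp e.symm
    have h2 : Q' ≤ (R : Subgroup G) := by
      have e : Q' ⊓ normalizer ((R : Subgroup G) : Set G) = Q' ⊓ (R : Subgroup G) :=
        hQ'p.inf_normalizer_sylow R
      have h2 : Q' ≤ normalizer ((R : Subgroup G) : Set G) := hQ'H.trans inf_le_right
      rw [inf_eq_left.mpr h2] at e
      exact inf_eq_left.mp e.symm
    have h3' : Nat.card ↥Q' ∣ Nat.card ↥D := Subgroup.card_dvd_of_le (le_inf h1 h2)
    rw [hQ'card, hD3] at h3'
    omega
  have hH6 : Nat.card ↥H ≤ 6 := by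
    have hdvd : Nat.card ↥H ∣ Nat.card ↥(L ⊓ N) := Subgroup.card_dvd_of_le hHL
    have hpos : 0 < Nat.card ↥H := Nat.card_pos
    rcases hLN with h9 | h18
    · rw [h9] at hdvd
      have : Nat.card ↥H ∈ Nat.divisors 9 := Nat.mem_divisors.mpr ⟨hdvd, by norm_num⟩
      have hdiv : Nat.divisors 9 = {1, 3, 9} := by decide
      rw [hdiv] at this
      simp only [Finset.mem_insert, Finset.mem_singleton] at this
      rcases this with h' | h' | h'
      · omega
      · omega
      · exact absurd (by rw [h']) hH9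
    · rw [h18] at hdvd
      have : Nat.card ↥H ∈ Nat.divisors 18 := Nat.mem_divisors.mpr ⟨hdvd, by norm_num⟩
      have hdiv : Nat.divisors 18 = {1, 2, 3, 6, 9, 18} := by decide
      rw [hdiv] at this
      simp only [Finset.mem_insert, Finset.mem_singleton] at this
      rcases this with h' | h' | h' | h' | h' | h'
      · omega
      · omega
      · omega
      · omega
      · exact absurd (by rw [h']) hH9
      · exact absurd (by rw [h']; norm_num) hH9
  -- orbit counting for the action of `N` on the Sylow subgroups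
  have horb := Nat.card_congr (MulAction.orbitProdStabilizerEquivGroup ↥N R)
  rw [Nat.card_prod, hN72] at horb
  have hstab : Nat.card ↥(MulAction.stabilizer ↥N R) ≤ Nat.card ↥H := by
    apply Nat.card_le_card_of_injective
      (fun x : MulAction.stabilizer ↥N R => (⟨((x : ↥N) : G), ⟨(x : ↥N).2, by
        have hx := x.2
        rw [MulAction.mem_stabilizer_iff] at hx
        have hx' : ((x : ↥N) : G) • R = R := hx
        exact Sylow.smul_eq_iff_mem_normalizer.mp hx'⟩⟩ : ↥H))
    intro x y hxy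
    have := congrArg Subtype.val hxy
    exact Subtype.ext (Subtype.ext this)
  have horbit : Nat.card ↥(MulAction.orbit ↥N R) ≤ 9 := by
    have hsub : MulAction.orbit ↥N R ⊆ (Set.univ \ {P} : Set (Sylow 3 G)) := by
      rintro T ⟨n, rfl⟩
      refine ⟨Set.mem_univ _, ?_⟩
      intro hT
      rw [Set.mem_singleton_iff] at hT
      have hnP : ((n : ↥N) : G) • P = P := Sylow.smul_eq_iff_mem_normalizer.mpr n.2
      have hT' : ((n : ↥N) : G) • R = P := hT
      rw [← hnP] at hT'
      exact hPR (smul_left_cancel _ hT').symm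
    have h1 : (Set.univ \ {P} : Set (Sylow 3 G)).ncard = 9 := by
      rw [Set.ncard_diff_singleton_of_mem (Set.mem_univ P), Set.ncard_univ, h3]
    rw [Nat.card_coe_set_eq]
    calc (MulAction.orbit ↥N R).ncard ≤ (Set.univ \ {P} : Set (Sylow 3 G)).ncard :=
          Set.ncard_le_ncard hsub (Set.toFinite _)
      _ = 9 := h1
  have : 72 ≤ 9 * 6 := by
    calc 72 = Nat.card ↥(MulAction.orbit ↥N R) * Nat.card ↥(MulAction.stabilizer ↥N R) := horb.symm
      _ ≤ 9 * 6 := Nat.mul_le_mul horbit (hstab.trans hH6)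
  omega

end Cfsg.Agent.Lib.Helper30.Small1092
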