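import Mathlib
import Cfsg.Prelude.Def_OddOrderLocal

/-!
# BG Corollary 15.9 (row S1376): the normalized configuration

`Cfg M N Ns K U x`: `M` a maximal subgroup with `κ(M) = ∅`, `x ∈ M_σ` of prime order with
`C_G(x) ≤ N`, `C_G(x) ⊄ M`; `N = K U N_σ` of type P2 (`K ≠ 1 ≠ U`) with partner `Ns`, `x ∈ U ≤ M_σ`,
`M ∩ N = U K`, and `E := M ∩ Ns` is a complement of `M_σ` in `M` with `K ≤ F(E)`.
(Produced from the hypotheses of S1376 by S1375 + S1435.)
-/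

set_option autoImplicit false

namespace Cfsg.Agent.Lib.Helper30.BG159

open Cfsg Subgroup

structure Cfg {G : Type*} [Group G] (M N Ns K U : Subgroup G) (x : G) : Prop where
  hM : IsCoatom M
  hN : IsCoatom N
  hNs : IsCoatom Ns
  hKU : IsSigmaDecomposition N K U
  hK1 : K ≠ ⊥
  hU1 : U ≠ ⊥
  hKst : K = sigmaCore Ns ⊓
    centralizer ((sigmaCore N ⊓ centralizer (K : Set G) : Subgroup G) : Set G)
  hKstH : IsPiHallOf (kappa Ns) (sigmaCore N ⊓ centralizer (K : Set G)) Ns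
  hxU : x ∈ U
  hxσ : x ∈ sigmaCore M
  hxp : (orderOf x).Prime
  hCx : ¬ centralizer ({x} : Set G) ≤ M
  hCxN : centralizer ({x} : Set G) ≤ N
  hκ : kappa M = ∅
  hUσ : U ≤ sigmaCore M
  hMN : M ⊓ N = U ⊔ K
  hKF : K ≤ fittingOf (M ⊓ Ns)
  hE : IsComplIn (M ⊓ Ns) (sigmaCore M) M

end Cfsg.Agent.Lib.Helper30.BG159
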