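import Mathlib
import Cfsg.Agent.Lib.Helper30.BG159Defs

/-!
# BG Corollary 15.9 (row S1376): the data attached to a "bad" element of `E = M ∩ Ns`

`Bad M Ns q A`: `A ≤ E` is elementary abelian of order `q²` containing every subgroup of order `q`
of `E`, `C_G(A) ≤ E`, some `a ∈ A#` centralizes a non-identity element of `M_σ`, every such
`b ∈ A#` has `M` as the unique maximal subgroup over `C_G(b)`, and `q ∈ σ(Ns)`, `A ≤ (Ns)_σ`.
-/

set_option autoImplicit false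

namespace Cfsg.Agent.Lib.Helper30.BG159

open Cfsg Subgroup

structure Bad {G : Type*} [Group G] (M Ns : Subgroup G) (q : ℕ) (A : Subgroup G) : Prop where
  hq : q.Prime
  hAE : A ≤ M ⊓ Ns
  hAel : IsElementaryAbelian q A
  hAc : Nat.card A = q ^ 2
  hAall : ∀ X : Subgroup G, X ≤ M ⊓ Ns → Nat.card X = q → X ≤ A
  hCA : centralizer (A : Set G) ≤ M ⊓ Ns
  hbad : ∃ a ∈ A, a ≠ 1 ∧ sigmaCore M ⊓ centralizer ({a} : Set G) ≠ ⊥
  huniq : ∀ b ∈ A, b ≠ 1 → sigmaCore M ⊓ centralizer ({b} : Set G) ≠ ⊥ →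
    centralizer ({b} : Set G) ≤ M ∧
      ∀ L : Subgroup G, IsCoatom L → centralizer ({b} : Set G) ≤ L → L = M
  hqσ : q ∈ sigma Ns
  hAσ : A ≤ sigmaCore Ns

end Cfsg.Agent.Lib.Helper30.BG159
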