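import Mathlib
import Cfsg.Prelude.Def_Involutions
import Cfsg.Agent.Lib.Helper60.AICDefs
import Cfsg.Agent.Lib.Helper28.StronglyEmbedded
import Cfsg.Agent.Lib.Helper40.Sylow

/-!
# S2202, keystone K-C2 (relative to K-C1 and K-Q): a nonlocal element leads to a contradiction
-/

set_option autoImplicit false

namespace Cfsg.Agent.Lib.Helper30.AIC

open Subgroup Cfsg Cfsg.Agent.Lib.Helper60.AIC Cfsg.Agent.Lib.Helper41 Cfsg.Agent.Lib.Helper28

universe u

section basic

variable {G : Type u} [Group G]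

/-- an odd-order element is a power of its square -/
theorem mem_zpowers_sq_of_odd {b : G} (hb : Odd (orderOf b)) : b ∈ zpowers (b ^ 2) := by
  obtain ⟨k, hk⟩ := hb
  refine ⟨((k + 1 : ℕ) : ℤ), ?_⟩
  show (b ^ 2) ^ ((k + 1 : ℕ) : ℤ) = b
  rw [zpow_natCast, ← pow_mul]
  have : 2 * (k + 1) = orderOf b + 1 := by omega
  rw [this, pow_succ, pow_orderOf_eq_one, one_mul]

/-- if `b ^ 2` commutes with `k` and `b` has odd order then `b` commutes with `k` -/
theorem commute_of_sq_of_odd {b k : G} (hb : Odd (orderOf b)) (h : k * b ^ 2 = b ^ 2 * k) :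
    k * b = b * k := by
  have h1 : b ∈ zpowers (b ^ 2) := mem_zpowers_sq_of_odd hb
  have h2 : zpowers (b ^ 2) ≤ centralizer ({k} : Set G) := by
    rw [zpowers_le, mem_centralizer_singleton_iff]
    exact h.symm
  have := h2 h1
  rw [mem_centralizer_singleton_iff] at this
  exact this.symm

theorem orderOf_conj' (g x : G) : orderOf (g * x * g⁻¹) = orderOf x :=
  orderOf_conj_eq g x

/-- the centralizer of a conjugate -/
theorem centralizer_conj (g x : G) :
    centralizer ({g * x * g⁻¹} : Set G) = lc g (centralizer ({x} : Set G)) := by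
  ext y
  rw [mem_lc, mem_centralizer_singleton_iff, mem_centralizer_singleton_iff]
  constructor
  · intro h
    have : g⁻¹ * y * g * x = g⁻¹ * (y * (g * x * g⁻¹)) * g := by group
    rw [this, h]; group
  · intro h
    have : y * (g * x * g⁻¹) = g * (g⁻¹ * y * g * x) * g⁻¹ := by group
    rw [this, h]; group

end basic

section lift

variable {L : Type u} [Group L] [Finite L]

/-- involutions lift through a quotient by a normal subgroup of odd order -/
theorem exists_invol_lift (Z : Subgroup L) [Z.Normal] (hZ : Odd (Nat.card Z)) {x : L ⧸ Z}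
    (hx : orderOf x = 2) : ∃ t : L, orderOf t = 2 ∧ (QuotientGroup.mk' Z t) = x := by
  obtain ⟨g, rfl⟩ := QuotientGroup.mk'_surjective Z x
  obtain ⟨k, hk⟩ := hZ
  have hx2 : (QuotientGroup.mk' Z g) ^ 2 = 1 := by rw [← hx]; exact pow_orderOf_eq_one _
  have hx1 : (QuotientGroup.mk' Z g) ≠ 1 := by
    intro h; rw [h, orderOf_one] at hx; omega
  have hg2 : g ^ 2 ∈ Z := by
    rw [← QuotientGroup.eq_one_iff, ← QuotientGroup.mk'_apply, map_pow]; exact hx2
  refine ⟨g ^ (Nat.card Z), ?_, ?_⟩
  · have h1 : (g ^ (Nat.card Z)) ^ 2 = 1 := by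
      rw [← pow_mul, mul_comm, pow_mul]
      have := pow_card_eq_one' (G := Z) (x := ⟨g ^ 2, hg2⟩)
      have h2 := congrArg Subtype.val this
      rw [Subgroup.coe_pow] at h2
      exact h2
    have h3 : g ^ (Nat.card Z) ≠ 1 := by
      intro h
      apply hx1
      have : (QuotientGroup.mk' Z g) ^ (Nat.card Z) = 1 := by rw [← map_pow, h, map_one]
      rw [hk, pow_succ, pow_mul, hx2, one_pow, one_mul] at this
      exact this
    exact orderOf_eq_prime h1 h3
  · rw [map_pow, hk, pow_succ, pow_mul, hx2, one_pow, one_mul]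

end lift

section partA

variable {G : Type u} [Group G] [Finite G]

/-- a nontrivial Sylow 2-subgroup has a central involution -/
theorem exists_central_invol (S : Sylow 2 G) (hS : (S : Subgroup G) ≠ ⊥) :
    ∃ z : G, orderOf z = 2 ∧ z ∈ (S : Subgroup G) ∧ ∀ x ∈ (S : Subgroup G), x * z = z * x := by
  haveI : Nontrivial (S : Subgroup G) := (Subgroup.nontrivial_iff_ne_bot _).2 hS
  haveI : Fact (Nat.Prime 2) := ⟨Nat.prime_two⟩
  haveI := S.2.center_nontrivial
  have hZ : IsPGroup 2 (center (S : Subgroup G)) := S.2.to_subgroup _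
  have h2 : 2 ∣ Nat.card (center (S : Subgroup G)) := by
    obtain ⟨n, hn⟩ := hZ.exists_card_eq
    have hn0 : n ≠ 0 := by
      rintro rfl
      rw [pow_zero] at hn
      have := Finite.one_lt_card (α := center (S : Subgroup G))
      omega
    rw [hn]; exact dvd_pow_self 2 hn0
  obtain ⟨z, hz⟩ := exists_prime_orderOf_dvd_card' 2 h2
  refine ⟨((z : (S : Subgroup G)) : G), ?_, (z : (S : Subgroup G)).2, ?_⟩
  · rw [Subgroup.orderOf_coe, Subgroup.orderOf_coe]; exact hz
  · intro x hx
    have := (Subgroup.mem_center_iff.1 z.2) ⟨x, hx⟩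
    exact congrArg Subtype.val this

/-- A1. `S` is abelian. -/
theorem sylow_comm' (hG : Hyp G) (S : Sylow 2 G) (hS : (S : Subgroup G) ≠ ⊥) :
    ∀ x ∈ (S : Subgroup G), ∀ y ∈ (S : Subgroup G), x * y = y * x := by
  obtain ⟨z, hz, _, hzc⟩ := exists_central_invol S hS
  intro x hx y hy
  exact hG z hz x (mem_centralizer_singleton_iff.2 (hzc x hx)) y
    (mem_centralizer_singleton_iff.2 (hzc y hy))

/-- A2. `C_G(t) = C_G(S)` for every involution `t ∈ S`. -/
theorem centralizer_eq' (hG : Hyp G) (S : Sylow 2 G) {t : G} (ht : orderOf t = 2)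
    (htS : t ∈ (S : Subgroup G)) :
    centralizer ({t} : Set G) = centralizer ((S : Subgroup G) : Set G) := by
  have hS : (S : Subgroup G) ≠ ⊥ := by
    intro h
    rw [h, mem_bot] at htS
    rw [htS, orderOf_one] at ht; omega
  have hab := sylow_comm' hG S hS
  apply le_antisymm
  · intro c hc
    rw [mem_centralizer_iff]
    intro s hs
    have hsC : s ∈ centralizer ({t} : Set G) :=
      mem_centralizer_singleton_iff.2 (hab s hs t htS)
    exact hG t ht s hsC c hc
  · apply centralizer_le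
    intro x hx
    rw [Set.mem_singleton_iff] at hx
    rw [hx]; exact htS

/-- a subgroup containing `S` in which `S` is normal lies in `N_G(S)` -/
theorem le_normalizer_of_subgroupOf_normal (S K : Subgroup G) (hSK : S ≤ K)
    (h : (S.subgroupOf K).Normal) : K ≤ normalizer (S : Set G) := by
  intro k hk
  have key : ∀ k' ∈ K, ∀ s ∈ S, k' * s * k'⁻¹ ∈ S := by
    intro k' hk' s hs
    have := h.conj_mem ⟨s, hSK hs⟩ (by rw [mem_subgroupOf]; exact hs) ⟨k', hk'⟩
    rw [mem_subgroupOf] at this
    exact this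
  rw [mem_normalizer_iff]
  intro x
  constructor
  · intro hx; exact key k hk x hx
  · intro hx
    have := key k⁻¹ (K.inv_mem hk) _ hx
    have e : k⁻¹ * (k * x * k⁻¹) * k⁻¹⁻¹ = x := by group
    rwa [e] at this

/-- the hypothesis `Hyp` passes to subgroups -/
theorem hyp_subgroup (hG : Hyp G) (K : Subgroup G) : Hyp ↥K := by
  intro t ht x hx y hy
  have ht' : orderOf (t : G) = 2 := by rw [Subgroup.orderOf_coe]; exact ht
  rw [mem_centralizer_singleton_iff] at hx hy
  have hx' : (x : G) ∈ centralizer ({(t : G)} : Set G) := by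
    rw [mem_centralizer_singleton_iff]; exact congrArg Subtype.val hx
  have hy' : (y : G) ∈ centralizer ({(t : G)} : Set G) := by
    rw [mem_centralizer_singleton_iff]; exact congrArg Subtype.val hy
  exact Subtype.ext (hG (t : G) ht' x hx' y hy')

/-- L1: in a proper subgroup `K ≥ S` with `S` not normal, odd elements of `C_G(S)` inside `K`
are central in `K` (by the inductive hypothesis). -/
theorem le_centralizer_of_IH (hG : Hyp G) (S : Sylow 2 G)
    (IH : ∀ K : Subgroup G, K ≠ ⊤ → (S : Subgroup G) ≤ K →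
      ¬ ((S : Subgroup G).subgroupOf K).Normal → Concl ↥K)
    {t : G} (ht : orderOf t = 2) (htS : t ∈ (S : Subgroup G))
    (K : Subgroup G) (hK : K ≠ ⊤) (hSK : (S : Subgroup G) ≤ K)
    (hn : ¬ ((S : Subgroup G).subgroupOf K).Normal)
    {b : G} (hb : b ∈ centralizer ((S : Subgroup G) : Set G)) (hbK : b ∈ K)
    (hbo : Odd (orderOf b)) : K ≤ centralizer ({b} : Set G) := by
  have hc := IH K hK hSK hn
  have htK : t ∈ K := hSK htS
  have ht' : orderOf (⟨t, htK⟩ : ↥K) = 2 := by rw [Subgroup.orderOf_mk]; exact ht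
  have hbt : (⟨b, hbK⟩ : ↥K) ∈ centralizer ({(⟨t, htK⟩ : ↥K)} : Set ↥K) := by
    rw [mem_centralizer_singleton_iff]
    apply Subtype.ext
    have := (mem_centralizer_iff.1 hb) t htS
    exact this.symm
  have h2 := hc ⟨t, htK⟩ ht' ⟨b, hbK⟩ hbt
  rw [mem_center_iff] at h2
  intro k hk
  rw [mem_centralizer_singleton_iff]
  have h3 := h2 ⟨k, hk⟩
  have h4 : k * b ^ 2 = b ^ 2 * k := congrArg Subtype.val h3
  exact commute_of_sq_of_odd hbo h4

/-- Step 1 of K-C2: `M = C_G(a)` is a proper subgroup containing `S` non-normally, and it is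
strongly embedded in `G`. -/
theorem nonlocal_structure (hG : Hyp G) (S : Sylow 2 G)
    (hnc : ¬ IsCyclic (S : Subgroup G))
    (hcore : (normalizer ((S : Subgroup G) : Set G)).normalCore = ⊥)
    (IH : ∀ K : Subgroup G, K ≠ ⊤ → (S : Subgroup G) ≤ K →
      ¬ ((S : Subgroup G).subgroupOf K).Normal → Concl ↥K)
    {a : G} (ha : a ∈ centralizer ((S : Subgroup G) : Set G)) (hodd : Odd (orderOf a))
    (ha1 : a ≠ 1)
    (hnot : ¬ centralizer ({a} : Set G) ≤ normalizer ((S : Subgroup G) : Set G)) :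
    centralizer ({a} : Set G) ≠ ⊤ ∧ (S : Subgroup G) ≤ centralizer ({a} : Set G) ∧
      ¬ ((S : Subgroup G).subgroupOf (centralizer ({a} : Set G))).Normal ∧
      IsStronglyEmbedded (centralizer ({a} : Set G)) := by
  haveI : Fact (Nat.Prime 2) := ⟨Nat.prime_two⟩
  set H := normalizer ((S : Subgroup G) : Set G) with hH
  set C := centralizer ((S : Subgroup G) : Set G) with hC
  set M := centralizer ({a} : Set G) with hM
  have hS : (S : Subgroup G) ≠ ⊥ := by
    intro h
    apply hnc
    rw [h]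
    infer_instance
  obtain ⟨t, ht, htS, _⟩ := exists_central_invol S hS
  have hab := sylow_comm' hG S hS
  have hCt : ∀ t' : G, orderOf t' = 2 → t' ∈ (S : Subgroup G) → centralizer ({t'} : Set G) = C :=
    fun t' ht' htS' => centralizer_eq' hG S ht' htS'
  -- `C` is abelian
  have hCab : ∀ x ∈ C, ∀ y ∈ C, x * y = y * x := by
    intro x hx y hy
    rw [← hCt t ht htS] at hx hy
    exact hG t ht x hx y hy
  have hCH : C ≤ H := centralizer_le_normalizer _
  have hSC : (S : Subgroup G) ≤ C := by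
    intro s hs
    rw [hC, mem_centralizer_iff]
    intro x hx
    exact hab x hx s hs
  have hCM : C ≤ M := by
    intro c hc
    rw [hM, mem_centralizer_singleton_iff]
    exact hCab c hc a ha
  have hSM : (S : Subgroup G) ≤ M := hSC.trans hCM
  -- the center of `G` is trivial
  have hZ : center G = ⊥ := by
    have h1 : center G ≤ H.normalCore := by
      rw [normal_le_normalCore]
      refine le_trans ?_ hCH
      rw [hC]
      exact center_le_centralizer _
    rwa [hcore, le_bot_iff] at h1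
  have hcen : ∀ b : G, b ≠ 1 → centralizer ({b} : Set G) ≠ ⊤ := by
    intro b hb1 htop
    apply hb1
    have : b ∈ center G := by
      rw [mem_center_iff]
      intro g
      have hg : g ∈ centralizer ({b} : Set G) := by rw [htop]; exact mem_top g
      rw [mem_centralizer_singleton_iff] at hg
      exact hg
    rw [hZ, mem_bot] at this
    exact this
  have hMtop : M ≠ ⊤ := hcen a ha1
  have hnn_of : ∀ K : Subgroup G, (S : Subgroup G) ≤ K → ¬ K ≤ H →
      ¬ ((S : Subgroup G).subgroupOf K).Normal := by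
    intro K hSK hKH hn
    exact hKH (le_normalizer_of_subgroupOf_normal _ K hSK hn)
  have hSnM : ¬ ((S : Subgroup G).subgroupOf M).Normal := hnn_of M hSM hnot
  have L1 := le_centralizer_of_IH hG S IH ht htS
  -- (*) : every odd `b ≠ 1` of `C` has `C_G(b) = M`
  have star : ∀ b ∈ C, Odd (orderOf b) → b ≠ 1 → centralizer ({b} : Set G) = M := by
    intro b hb hbo hb1
    have h1 : M ≤ centralizer ({b} : Set G) := L1 M hMtop hSM hSnM hb (hCM hb) hbo
    have h2 : ¬ centralizer ({b} : Set G) ≤ H := fun h => hnot (h1.trans h)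
    have h3 := L1 (centralizer ({b} : Set G)) (hcen b hb1) (hSM.trans h1)
      (hnn_of _ (hSM.trans h1) h2) ha (h1 (hCM ha)) hodd
    exact le_antisymm h3 h1
  -- `N_G(M) = M`
  have hNM : normalizer (M : Set G) ≤ M := by
    by_cases hN : normalizer (M : Set G) = ⊤
    · exfalso
      apply ha1
      have : a ∈ H.normalCore := by
        intro g
        -- `b = g a g⁻¹` is central in `M`
        have hgN : g ∈ normalizer (M : Set G) := by rw [hN]; exact mem_top g
        have hbM : g * a * g⁻¹ ∈ M := by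
          rw [mem_normalizer_iff] at hgN
          exact (hgN a).1 (by rw [hM, mem_centralizer_singleton_iff])
        have hcb : centralizer ({g * a * g⁻¹} : Set G) = M := by
          rw [centralizer_conj, ← hM]
          exact mem_normalizer_iff_lc.1 hgN
        apply hCH
        rw [hC, mem_centralizer_iff]
        intro s hs
        have : s ∈ centralizer ({g * a * g⁻¹} : Set G) := by rw [hcb]; exact hSM hs
        rw [mem_centralizer_singleton_iff] at this
        exact this
      rw [hcore, mem_bot] at this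
      exact this
    · have hMN : M ≤ normalizer (M : Set G) := le_normalizer
      have h2 : ¬ normalizer (M : Set G) ≤ H := fun h => hnot (hMN.trans h)
      exact L1 _ hN (hSM.trans hMN) (hnn_of _ (hSM.trans hMN) h2) ha (hMN (hCM ha)) hodd
  -- conjugates of `a` lying in `C` are conjugate by elements of `M`
  have hconjM : ∀ r : G, r * a * r⁻¹ ∈ C → r ∈ M := by
    intro r hr
    have h1 : centralizer ({r * a * r⁻¹} : Set G) = M :=
      star _ hr (by rw [orderOf_conj']; exact hodd) (by
        intro h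
        apply ha1
        have : a = r⁻¹ * (r * a * r⁻¹) * r := by group
        rw [this, h]; group)
    rw [centralizer_conj, ← hM] at h1
    exact hNM (mem_normalizer_iff_lc.2 h1)
  -- strongly embedded
  refine ⟨hMtop, hSM, hSnM, hMtop, ?_, ?_⟩
  · -- even order
    have h2 : orderOf (⟨t, hSM htS⟩ : ↥M) = 2 := by rw [Subgroup.orderOf_mk]; exact ht
    rw [even_iff_two_dvd, ← h2]
    exact orderOf_dvd_natCard _
  · intro g hg
    by_contra hno
    rw [Nat.not_odd_iff_even, even_iff_two_dvd] at hno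
    obtain ⟨w, hw⟩ := exists_prime_orderOf_dvd_card' 2 hno
    have hw2 : orderOf (w : G) = 2 := by rw [Subgroup.orderOf_coe]; exact hw
    have hwM : (w : G) ∈ M := w.2.1
    have hwg : g⁻¹ * (w : G) * g ∈ M := mem_lc.1 w.2.2
    have hP : ∀ y : G, orderOf y = 2 → IsPGroup 2 (zpowers y) := by
      intro y hy
      apply IsPGroup.of_card (n := 1)
      rw [Nat.card_zpowers, hy, pow_one]
    obtain ⟨x, hxM, hx⟩ := Cfsg.Agent.Lib.Helper40.exists_conj_mem_sylow_of_le M S hSM
      (w : G) hwM (zpowers (w : G)) (hP _ hw2) (mem_zpowers _)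
    have hw2' : orderOf (g⁻¹ * (w : G) * g) = 2 := by
      have := orderOf_conj' g⁻¹ (w : G)
      rw [inv_inv] at this
      rw [this]; exact hw2
    obtain ⟨y, hyM, hy⟩ := Cfsg.Agent.Lib.Helper40.exists_conj_mem_sylow_of_le M S hSM
      (g⁻¹ * (w : G) * g) hwg (zpowers (g⁻¹ * (w : G) * g)) (hP _ hw2') (mem_zpowers _)
    -- `t' = x w x⁻¹` and `t'' = y g⁻¹ w g y⁻¹` are involutions of `S`
    set t' := x * (w : G) * x⁻¹ with ht'
    set t'' := y * (g⁻¹ * (w : G) * g) * y⁻¹ with ht''
    have ht'2 : orderOf t' = 2 := by rw [ht', orderOf_conj']; exact hw2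
    have ht''2 : orderOf t'' = 2 := by rw [ht'', orderOf_conj']; exact hw2'
    -- `r = x g y⁻¹` conjugates `t''` to `t'`
    set r := x * g * y⁻¹ with hr
    have hrt : r * t'' * r⁻¹ = t' := by rw [hr, ht', ht'']; group
    have haC'' : a ∈ centralizer ({t''} : Set G) := by rw [hCt t'' ht''2 hy]; exact ha
    have hraC : r * a * r⁻¹ ∈ C := by
      rw [← hCt t' ht'2 hx, ← hrt, centralizer_conj]
      exact conj_mem_lc haC''
    have hrM : r ∈ M := hconjM r hraC
    apply hg
    have : g = x⁻¹ * r * y := by rw [hr]; group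
    rw [this]
    exact M.mul_mem (M.mul_mem (M.inv_mem hxM) hrM) hyM

/-- K-C2 relative to K-C1 and K-Q. -/
theorem nonlocal_false_aux
    (hKC1 : ∀ (L : Type u) [Group L] [Finite L] (T : Sylow 2 L),
      ¬ IsCyclic (T : Subgroup L) → ¬ (T : Subgroup L).Normal → BSWHyp L →
      ∀ X : Subgroup L, Odd (Nat.card X) →
        (∀ s t : L, orderOf s = 2 → orderOf t = 2 → ∃ d ∈ X, d * s * d⁻¹ = t) → False)
    (hKQ : ∀ (K : Type u) [Group K] [Finite K], Hyp K → Concl K → ∀ S : Sylow 2 K,
      ¬ IsCyclic (S : Subgroup K) → ¬ (S : Subgroup K).Normal →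
      BSWHyp (K ⧸ center K) ∧ Odd (Nat.card (center K)) ∧
        ∃ T : Sylow 2 (K ⧸ center K), ¬ IsCyclic (T : Subgroup (K ⧸ center K)) ∧
          ¬ (T : Subgroup (K ⧸ center K)).Normal ∧ Nat.card T = Nat.card S)
    (hG : Hyp G) (S : Sylow 2 G)
    (hnc : ¬ IsCyclic (S : Subgroup G))
    (hcore : (normalizer ((S : Subgroup G) : Set G)).normalCore = ⊥)
    (IH : ∀ K : Subgroup G, K ≠ ⊤ → (S : Subgroup G) ≤ K →
      ¬ ((S : Subgroup G).subgroupOf K).Normal → Concl ↥K)
    {a : G} (ha : a ∈ centralizer ((S : Subgroup G) : Set G)) (hodd : Odd (orderOf a))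
    (ha1 : a ≠ 1)
    (hnot : ¬ centralizer ({a} : Set G) ≤ normalizer ((S : Subgroup G) : Set G)) : False := by
  obtain ⟨hMtop, hSM, hSnM, hse⟩ := nonlocal_structure hG S hnc hcore IH ha hodd ha1 hnot
  set M := centralizer ({a} : Set G) with hM
  have hcM : Concl ↥M := IH M hMtop hSM hSnM
  have hHM : Hyp ↥M := hyp_subgroup hG M
  have hncM : ¬ IsCyclic ((S.subtype hSM : Sylow 2 ↥M) : Subgroup ↥M) := by
    intro hcyc
    apply hnc
    rw [Sylow.coe_subtype] at hcyc
    exact isCyclic_of_surjective (Subgroup.subgroupOfEquivOfLe hSM)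
      (Subgroup.subgroupOfEquivOfLe hSM).surjective
  have hnnM : ¬ ((S.subtype hSM : Sylow 2 ↥M) : Subgroup ↥M).Normal := by
    rw [Sylow.coe_subtype]; exact hSnM
  obtain ⟨hBSW, hZodd, T, hTnc, hTnn, _⟩ := hKQ ↥M hHM hcM (S.subtype hSM) hncM hnnM
  -- an involution outside `M`
  obtain ⟨t, ht, htM⟩ := se_exists_involution hse
  obtain ⟨g, hg⟩ : ∃ g : G, g ∉ M := by
    by_contra hall
    push_neg at hall
    exact hMtop (eq_top_iff.2 fun x _ => hall x)
  set v := g * t * g⁻¹ with hv
  have hv2 : orderOf v = 2 := by rw [hv, orderOf_conj']; exact ht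
  have hvM : v ∉ M := fun h => hg (se_mem_of_conj_mem hse ht htM h)
  -- the image of the two-point stabilizer
  set X : Subgroup (↥M ⧸ center ↥M) :=
    ((M ⊓ lc v M).subgroupOf M).map (QuotientGroup.mk' (center ↥M)) with hX
  have hXodd : Odd (Nat.card X) := by
    have h1 : Odd (Nat.card ↥(M ⊓ lc v M)) := hse.2.2 v hvM
    have h2 : Nat.card ↥((M ⊓ lc v M).subgroupOf M) = Nat.card ↥(M ⊓ lc v M) :=
      Nat.card_congr (Subgroup.subgroupOfEquivOfLe inf_le_left).toEquiv
    have h3 : Nat.card X ∣ Nat.card ↥((M ⊓ lc v M).subgroupOf M) := Subgroup.card_map_dvd _ _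
    rw [h2] at h3
    exact Odd.of_dvd_nat h1 h3
  apply hKC1 (↥M ⧸ center ↥M) T hTnc hTnn hBSW X hXodd
  intro s₁ t₁ hs₁ ht₁
  obtain ⟨s₀, hs₀, rfl⟩ := exists_invol_lift (center ↥M) hZodd hs₁
  obtain ⟨t₀, ht₀, rfl⟩ := exists_invol_lift (center ↥M) hZodd ht₁
  have hs₀' : orderOf (s₀ : G) = 2 := by rw [Subgroup.orderOf_coe]; exact hs₀
  have ht₀' : orderOf (t₀ : G) = 2 := by rw [Subgroup.orderOf_coe]; exact ht₀
  obtain ⟨d, hd, hdst, _⟩ := se_exists_conj_in_D hse hv2 hvM hs₀' s₀.2 ht₀' t₀.2
  refine ⟨QuotientGroup.mk' (center ↥M) ⟨d, hd.1⟩, ?_, ?_⟩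
  · exact Subgroup.mem_map_of_mem _ (by rw [mem_subgroupOf]; exact hd)
  · rw [← map_inv, ← map_mul, ← map_mul]
    congr 1
    exact Subtype.ext hdst

end partA

end Cfsg.Agent.Lib.Helper30.AIC
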