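import Mathlib
import Cfsg.Agent.Lib.Helper30.AICC2
import Cfsg.Agent.Lib.Helper63.AICPairing
import Cfsg.Agent.Lib.Helper01.AICQ

/-!
# S2202, keystone K-C2: a nonlocal element leads to a contradiction
-/

set_option autoImplicit false

namespace Cfsg.Agent.Lib.Helper30.AIC

open Subgroup Cfsg Cfsg.Agent.Lib.Helper60.AIC Cfsg.Agent.Lib.Helper41 Cfsg.Agent.Lib.Helper28

universe u

variable {G : Type u} [Group G] [Finite G]

/-- K-C2: in a core-free minimal situation no odd element of `C` has a centralizer outside `H`. -/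
theorem nonlocal_false (hG : Hyp G) (S : Sylow 2 G)
    (hnc : ¬ IsCyclic (S : Subgroup G)) (hnn : ¬ (S : Subgroup G).Normal)
    (hcore : (normalizer ((S : Subgroup G) : Set G)).normalCore = ⊥)
    (IH : ∀ K : Subgroup G, K ≠ ⊤ → (S : Subgroup G) ≤ K →
      ¬ ((S : Subgroup G).subgroupOf K).Normal → Concl ↥K)
    {a : G} (ha : a ∈ centralizer ((S : Subgroup G) : Set G)) (hodd : Odd (orderOf a))
    (ha1 : a ≠ 1)
    (hnot : ¬ centralizer ({a} : Set G) ≤ normalizer ((S : Subgroup G) : Set G)) : False :=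
  nonlocal_false_aux
    (fun L _ _ T hTnc hTnn hC X hX htr =>
      Cfsg.Agent.Lib.Helper63.AIC.no_odd_transitive T hTnc hTnn hC X hX htr)
    (fun K _ _ hK hc S' hnc' hnn' =>
      Cfsg.Agent.Lib.Helper01.AIC.bswHyp_quotient_center hK hc S' hnc' hnn')
    hG S hnc hcore IH ha hodd ha1 hnot

end Cfsg.Agent.Lib.Helper30.AIC
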