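import Mathlib
import Cfsg.Prelude.Def_Local
import Cfsg.Agent.Lib.Helper43.ThreeCycle
import Cfsg.Agent.Lib.Helper67.Subnormal

set_option autoImplicit false

namespace Cfsg.Agent.Lib.Helper30.AltStd

open Equiv Equiv.Perm

variable {α : Type*} [Fintype α] [DecidableEq α]

/-- The even permutations fixing every point outside `S`. -/
def fixOut (S : Finset α) : Subgroup (alternatingGroup α) where
  carrier := {σ | ∀ x, x ∉ S → (σ : Perm α) x = x}
  mul_mem' := by
    intro a b ha hb x hx
    rw [Subgroup.coe_mul, Perm.mul_apply, hb x hx, ha x hx]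
  one_mem' := by intro x _; rfl
  inv_mem' := by
    intro a ha x hx
    have := ha x hx
    rw [InvMemClass.coe_inv, Perm.inv_eq_iff_eq]
    exact this.symm

theorem mem_fixOut {S : Finset α} {σ : alternatingGroup α} :
    σ ∈ fixOut S ↔ ∀ x, x ∉ S → (σ : Perm α) x = x := Iff.rfl

theorem fixOut_mono {S T : Finset α} (h : S ⊆ T) : fixOut S ≤ fixOut T := by
  intro σ hσ x hx
  exact hσ x (fun hxS => hx (h hxS))

theorem fixOut_inf (S T : Finset α) : fixOut S ⊓ fixOut T = fixOut (S ∩ T) := by
  ext σ
  rw [Subgroup.mem_inf, mem_fixOut, mem_fixOut, mem_fixOut]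
  constructor
  · rintro ⟨h1, h2⟩ x hx
    rw [Finset.mem_inter, not_and_or] at hx
    rcases hx with hx | hx
    · exact h1 x hx
    · exact h2 x hx
  · intro h
    exact ⟨fun x hx => h x (fun hx' => hx (Finset.mem_inter.mp hx').1),
      fun x hx => h x (fun hx' => hx (Finset.mem_inter.mp hx').2)⟩

theorem map_conj_fixOut (S : Finset α) (g : alternatingGroup α) :
    (fixOut S).map (MulAut.conj g).toMonoidHom = fixOut (S.image (g : Perm α)) := by
  ext τ
  rw [Subgroup.mem_map, mem_fixOut]
  constructor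
  · rintro ⟨σ, hσ, rfl⟩ x hx
    have h1 : (g : Perm α)⁻¹ x ∉ S := by
      intro h
      apply hx
      rw [Finset.mem_image]
      exact ⟨_, h, by simp⟩
    have h2 := hσ _ h1
    simp only [MulEquiv.coe_toMonoidHom, MulAut.conj_apply, Subgroup.coe_mul, InvMemClass.coe_inv,
      Perm.mul_apply]
    rw [h2]
    simp
  · intro h
    refine ⟨g⁻¹ * τ * g, ?_, ?_⟩
    · intro x hx
      have h1 : (g : Perm α) x ∉ S.image (g : Perm α) := by
        intro h'
        rw [Finset.mem_image] at h'
        obtain ⟨y, hy, hyx⟩ := h'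
        have := (g : Perm α).injective hyx
        exact hx (this ▸ hy)
      have h2 := h _ h1
      simp only [Subgroup.coe_mul, InvMemClass.coe_inv, Perm.mul_apply]
      rw [h2]
      simp
    · simp only [MulEquiv.coe_toMonoidHom, MulAut.conj_apply]
      group

/-- a 3-cycle in `fixOut S` through three given distinct points of `S` -/
theorem exists_cyc3_mem {S : Finset α} {a b c : α} (ha : a ∈ S) (hb : b ∈ S) (hc : c ∈ S)
    (hab : a ≠ b) (hbc : b ≠ c) (hca : c ≠ a) :
    ∃ σ : alternatingGroup α, σ ∈ fixOut S ∧ Cfsg.Agent.Lib.Helper43.Cyc3 (σ : Perm α) a b c := by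
  obtain ⟨x, hx⟩ := Cfsg.Agent.Lib.Helper43.Cyc3.exists_cyc3 hab hbc hca
  refine ⟨⟨x, hx.isThreeCycle.mem_alternatingGroup⟩, ?_, hx⟩
  intro p hp
  exact hx.apply_of_ne (fun h => hp (h ▸ ha)) (fun h => hp (h ▸ hb)) (fun h => hp (h ▸ hc))

theorem exists_two_more {S : Finset α} (hS : 3 ≤ S.card) (x : α) :
    ∃ a ∈ S, ∃ b ∈ S, a ≠ b ∧ a ≠ x ∧ b ≠ x := by
  have h1 : 2 ≤ (S.erase x).card := by
    have := Finset.pred_card_le_card_erase (s := S) (a := x)
    omega
  obtain ⟨a, ha, b, hb, hab⟩ := Finset.one_lt_card.mp (by omega : 1 < (S.erase x).card)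
  rw [Finset.mem_erase] at ha hb
  exact ⟨a, ha.2, b, hb.2, hab, ha.1, hb.1⟩

theorem exists_two_more' {S : Finset α} (hS : 4 ≤ S.card) (x y : α) :
    ∃ a ∈ S, ∃ b ∈ S, a ≠ b ∧ a ≠ x ∧ b ≠ x ∧ a ≠ y ∧ b ≠ y := by
  have h0 := Finset.pred_card_le_card_erase (s := S) (a := x)
  have h1 := Finset.pred_card_le_card_erase (s := S.erase x) (a := y)
  obtain ⟨a, ha, b, hb, hab⟩ := Finset.one_lt_card.mp (by omega : 1 < ((S.erase x).erase y).card)
  rw [Finset.mem_erase, Finset.mem_erase] at ha hb
  exact ⟨a, ha.2.2, b, hb.2.2, hab, ha.2.1, hb.2.1, ha.1, hb.1⟩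

theorem exists_moving {S : Finset α} (hS : 3 ≤ S.card) {x : α} (hx : x ∈ S) :
    ∃ σ : alternatingGroup α, σ ∈ fixOut S ∧ (σ : Perm α) x ≠ x := by
  obtain ⟨a, ha, b, hb, hab, hax, hbx⟩ := exists_two_more hS x
  obtain ⟨σ, hσ, hc⟩ := exists_cyc3_mem hx ha hb (Ne.symm hax) hab hbx
  refine ⟨σ, hσ, ?_⟩
  rw [hc.apply_a]
  exact hax

theorem subset_of_fixOut_le {S T : Finset α} (hS : 3 ≤ S.card) (h : fixOut S ≤ fixOut T) :
    S ⊆ T := by
  intro x hx
  by_contra hxT
  obtain ⟨σ, hσ, hσx⟩ := exists_moving hS hx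
  exact hσx (h hσ x hxT)

theorem centralizer_fixOut {S : Finset α} (hS : 4 ≤ S.card) :
    Subgroup.centralizer (fixOut S : Set (alternatingGroup α)) = fixOut Sᶜ := by
  ext σ
  rw [Subgroup.mem_centralizer_iff, mem_fixOut]
  constructor
  · intro h x hx
    rw [Finset.mem_compl, not_not] at hx
    by_contra hne
    obtain ⟨a, ha, b, hb, hab, hax, hbx, hay, hby⟩ := exists_two_more' hS x ((σ : Perm α) x)
    obtain ⟨τ, hτ, hc⟩ := exists_cyc3_mem hx ha hb (Ne.symm hax) hab hbx
    have h1 := h τ hτ
    have h2 : ((τ * σ : alternatingGroup α) : Perm α) x = ((σ * τ : alternatingGroup α) : Perm α) x := by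
      rw [h1]
    rw [Subgroup.coe_mul, Subgroup.coe_mul, Perm.mul_apply, Perm.mul_apply, hc.apply_a,
      hc.apply_of_ne hne hay.symm hby.symm] at h2
    exact hax ((σ : Perm α).injective h2).symm
  · intro h τ hτ
    have hd : Perm.Disjoint (τ : Perm α) (σ : Perm α) := by
      intro x
      by_cases hx : x ∈ S
      · right
        exact h x (by rw [Finset.mem_compl, not_not]; exact hx)
      · left
        exact hτ x hx
    apply Subtype.ext
    rw [Subgroup.coe_mul, Subgroup.coe_mul]
    exact hd.commute.eq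


theorem support_subset_of_mem {S : Finset α} {σ : alternatingGroup α} (h : σ ∈ fixOut S) :
    (σ : Perm α).support ⊆ S := by
  intro x hx
  by_contra hxS
  rw [Perm.mem_support] at hx
  exact hx (h x hxS)

theorem odd_card_fixOut {S : Finset α} (hS : S.card ≤ 3) : Odd (Nat.card (fixOut S)) := by
  by_contra hodd
  rw [Nat.not_odd_iff_even, even_iff_two_dvd] at hodd
  have : Fact (Nat.Prime 2) := ⟨Nat.prime_two⟩
  obtain ⟨σ, hσ⟩ := exists_prime_orderOf_dvd_card' (G := fixOut S) 2 hodd
  have h1 : orderOf ((σ : alternatingGroup α) : Perm α) = 2 := by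
    rw [← hσ]
    rw [← Subgroup.orderOf_coe, ← Subgroup.orderOf_coe]
  obtain ⟨k, hk⟩ := Perm.cycleType_prime_order (σ := ((σ : alternatingGroup α) : Perm α))
    (by rw [h1]; exact Nat.prime_two)
  rw [h1] at hk
  have h2 : ((σ : alternatingGroup α) : Perm α).support.card = 2 * (k + 1) := by
    rw [← Perm.sum_cycleType, hk, Multiset.sum_replicate, smul_eq_mul, mul_comm]
  have h3 := Finset.card_le_card (support_subset_of_mem σ.2)
  have hk0 : k = 0 := by omega
  have h4 : Perm.sign ((σ : alternatingGroup α) : Perm α) = -1 := by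
    rw [Perm.sign_of_cycleType, hk, hk0]
    simp
    decide
  have h5 : Perm.sign ((σ : alternatingGroup α) : Perm α) = 1 :=
    Perm.mem_alternatingGroup.mp (σ : alternatingGroup α).2
  rw [h5] at h4
  exact absurd h4 (by decide)

theorem even_card_fixOut {S : Finset α} {a b c d : α} (ha : a ∈ S) (hb : b ∈ S) (hc : c ∈ S)
    (hd : d ∈ S) (hnd : [a, b, c, d].Nodup) : Even (Nat.card (fixOut S)) := by
  have hab : a ≠ b := by
    intro h; subst h; simp at hnd
  have hcd : c ≠ d := by
    intro h; subst h; simp at hnd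
  have hac : a ≠ c := by
    intro h; subst h; simp at hnd
  have hadd : a ≠ d := by
    intro h; subst h; simp at hnd
  have hmem : swap a b * swap c d ∈ alternatingGroup α := by
    rw [Perm.mem_alternatingGroup, Perm.sign_mul, Perm.sign_swap hab, Perm.sign_swap hcd]
    decide
  have hfix : (⟨swap a b * swap c d, hmem⟩ : alternatingGroup α) ∈ fixOut S := by
    intro x hx
    have hxa : x ≠ a := fun h => hx (h ▸ ha)
    have hxb : x ≠ b := fun h => hx (h ▸ hb)
    have hxc : x ≠ c := fun h => hx (h ▸ hc)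
    have hxd : x ≠ d := fun h => hx (h ▸ hd)
    show (swap a b * swap c d) x = x
    rw [Perm.mul_apply, swap_apply_of_ne_of_ne hxc hxd, swap_apply_of_ne_of_ne hxa hxb]
  rw [even_iff_two_dvd]
  have h2 : orderOf (⟨⟨swap a b * swap c d, hmem⟩, hfix⟩ : fixOut S) = 2 := by
    apply orderOf_eq_prime
    · apply Subtype.ext
      apply Subtype.ext
      show (swap a b * swap c d) ^ 2 = 1
      have hcomm : Commute (swap a b) (swap c d) := (Perm.disjoint_swap_swap hnd).commute
      rw [hcomm.mul_pow]
      simp [sq]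
    · intro h
      have h' : swap a b * swap c d = 1 := by
        have := congrArg (fun z : fixOut S => ((z : alternatingGroup α) : Perm α)) h
        exact this
      have h3 := congrArg (fun f : Perm α => f a) h'
      simp only [Perm.mul_apply, Perm.one_apply] at h3
      rw [swap_apply_of_ne_of_ne hac hadd, swap_apply_left] at h3
      exact hab h3.symm
  rw [← h2]
  exact orderOf_dvd_natCard _


/-- extension by the identity, as a homomorphism onto `fixOut S` -/
def extHom (S : Finset α) : alternatingGroup {x // x ∈ S} →* fixOut S where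
  toFun σ := ⟨⟨Perm.ofSubtype (σ : Perm {x // x ∈ S}), by
      rw [Perm.mem_alternatingGroup, Perm.sign_ofSubtype]
      exact Perm.mem_alternatingGroup.mp σ.2⟩,
    by
      intro x hx
      exact Perm.ofSubtype_apply_of_not_mem _ hx⟩
  map_one' := by
    apply Subtype.ext
    apply Subtype.ext
    simp
  map_mul' := by
    intro a b
    apply Subtype.ext
    apply Subtype.ext
    simp

theorem extHom_surjective (S : Finset α) : Function.Surjective (extHom S) := by
  intro τ
  have hτ : ∀ x, x ∉ S → ((τ : alternatingGroup α) : Perm α) x = x := τ.2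
  have h2 : ∀ x, ((τ : alternatingGroup α) : Perm α) x ≠ x → x ∈ S := by
    intro x hx
    by_contra h
    exact hx (hτ x h)
  have h1 : ∀ x, ((τ : alternatingGroup α) : Perm α) x ∈ S ↔ x ∈ S := by
    intro x
    constructor
    · intro h
      by_contra hx
      rw [hτ x hx] at h
      exact hx h
    · intro h
      by_contra hx
      have := hτ _ hx
      have := ((τ : alternatingGroup α) : Perm α).injective this
      rw [this] at hx
      exact hx h
  refine ⟨⟨Perm.subtypePerm ((τ : alternatingGroup α) : Perm α) h1, ?_⟩, ?_⟩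
  · have hs : Perm.sign (Perm.subtypePerm ((τ : alternatingGroup α) : Perm α) h1)
        = Perm.sign ((τ : alternatingGroup α) : Perm α) := by
      convert Perm.sign_subtypePerm _ h1 h2
    rw [Perm.mem_alternatingGroup, hs]
    exact Perm.mem_alternatingGroup.mp (τ : alternatingGroup α).2
  · apply Subtype.ext
    apply Subtype.ext
    exact Perm.ofSubtype_subtypePerm h1 h2

theorem isSimpleGroup_fixOut {S : Finset α} (hS : 5 ≤ S.card) : IsSimpleGroup (fixOut S) := by
  have : IsSimpleGroup (alternatingGroup {x // x ∈ S}) := by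
    apply alternatingGroup.isSimpleGroup
    rw [Nat.card_eq_fintype_card, Fintype.card_coe]
    exact hS
  have : Nontrivial (fixOut S) := by
    obtain ⟨x, hx⟩ : S.Nonempty := Finset.card_pos.mp (by omega)
    obtain ⟨σ, hσ, hσx⟩ := exists_moving (by omega : 3 ≤ S.card) hx
    refine ⟨⟨⟨σ, hσ⟩, 1, ?_⟩⟩
    intro h
    apply hσx
    have : σ = 1 := congrArg Subtype.val h
    rw [this]
    rfl
  exact IsSimpleGroup.isSimpleGroup_of_surjective (extHom S) (extHom_surjective S)

theorem not_comm_fixOut {S : Finset α} (hS : 5 ≤ S.card) : ¬ IsMulCommutative (fixOut S) := by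
  intro hc
  have h1 : fixOut S ≤ Subgroup.centralizer (fixOut S : Set (alternatingGroup α)) := by
    intro σ hσ
    rw [Subgroup.mem_centralizer_iff]
    intro τ hτ
    have := hc.is_comm.comm (⟨τ, hτ⟩ : fixOut S) ⟨σ, hσ⟩
    exact congrArg Subtype.val this
  rw [centralizer_fixOut (by omega)] at h1
  have h2 := subset_of_fixOut_le (by omega) h1
  obtain ⟨x, hx⟩ : S.Nonempty := Finset.card_pos.mp (by omega)
  have := h2 hx
  rw [Finset.mem_compl] at this
  exact this hx

theorem isQuasisimple_fixOut {S : Finset α} (hS : 5 ≤ S.card) : Cfsg.IsQuasisimple (fixOut S) := by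
  have := isSimpleGroup_fixOut hS
  exact Cfsg.Agent.Lib.Helper67.isQuasisimple_of_simple (not_comm_fixOut hS)

theorem image_eq_of_mem_normalizer {S : Finset α} (hS : 3 ≤ S.card) {g : alternatingGroup α}
    (hg : g ∈ Subgroup.normalizer (fixOut S : Set (alternatingGroup α))) :
    S.image (g : Perm α) = S := by
  have h1 : fixOut (S.image (g : Perm α)) ≤ fixOut S := by
    rw [← map_conj_fixOut]
    rintro _ ⟨σ, hσ, rfl⟩
    exact (hg σ).mp hσ
  have hc : (S.image (g : Perm α)).card = S.card :=
    Finset.card_image_of_injective _ (g : Perm α).injective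
  have h2 := subset_of_fixOut_le (by omega) h1
  exact Finset.eq_of_subset_of_card_le h2 (by omega)

theorem mem_normalizer_of_image_eq {S : Finset α} {g : alternatingGroup α}
    (hg : S.image (g : Perm α) = S) :
    g ∈ Subgroup.normalizer (fixOut S : Set (alternatingGroup α)) := by
  have h1 := map_conj_fixOut S g
  rw [hg] at h1
  intro σ
  constructor
  · intro hσ
    rw [← h1]
    exact ⟨σ, hσ, rfl⟩
  · intro hσ
    have : g * σ * g⁻¹ ∈ (fixOut S).map (MulAut.conj g).toMonoidHom := by rw [h1]; exact hσ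
    obtain ⟨τ, hτ, hτe⟩ := this
    have : τ = σ := by
      simp only [MulEquiv.coe_toMonoidHom, MulAut.conj_apply] at hτe
      have := mul_left_cancel (mul_right_cancel hτe)
      exact this
    rw [← this]
    exact hτ

theorem image_compl_eq {S : Finset α} (g : Perm α) (h : S.image g = S) : Sᶜ.image g = Sᶜ := by
  ext x
  rw [Finset.mem_image, Finset.mem_compl]
  constructor
  · rintro ⟨y, hy, rfl⟩ hgy
    rw [Finset.mem_compl] at hy
    rw [← h, Finset.mem_image] at hgy
    obtain ⟨z, hz, hzy⟩ := hgy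
    exact hy (g.injective hzy ▸ hz)
  · intro hx
    refine ⟨g⁻¹ x, ?_, by simp⟩
    rw [Finset.mem_compl]
    intro h'
    apply hx
    rw [← h, Finset.mem_image]
    exact ⟨_, h', by simp⟩

end Cfsg.Agent.Lib.Helper30.AltStd
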