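import Mathlib
import Cfsg.Prelude.Def_GeometricClasses
import Cfsg.Agent.Lib.Helper61.AschDefs
import Cfsg.Agent.Lib.Helper61.AschUDefs
import Cfsg.Agent.Lib.Helper63.AschB6

/-!
# K-S5663-B6b: a tensor decomposition of the unitary form with unequal factors gives a member of class 4
-/

set_option autoImplicit false

namespace Cfsg.Agent.Lib.Helper30.AschU

open Cfsg Cfsg.Geo Cfsg.Agent.Lib.Helper61.Asch Cfsg.Agent.Lib.Helper61.AschU
open scoped Matrix Kronecker MatrixGroups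

variable {F : Type*} [Field F] [Fintype F] {n q : ℕ}

/-- swapping the factors of the Kronecker Gram form. -/
theorem formOfGram_kronecker_swap {a b : ℕ} (σ : F → F) (G₁ : Matrix (Fin a) (Fin a) F)
    (G₂ : Matrix (Fin b) (Fin b) F) (x y : Fin b × Fin a → F) :
    formOfGram σ (G₁ ⊗ₖ G₂) (x ∘ Prod.swap) (y ∘ Prod.swap) = formOfGram σ (G₂ ⊗ₖ G₁) x y := by
  unfold formOfGram
  rw [← (Equiv.prodComm (Fin b) (Fin a)).sum_comp]
  refine Finset.sum_congr rfl fun p _ => ?_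
  rw [← (Equiv.prodComm (Fin b) (Fin a)).sum_comp]
  refine Finset.sum_congr rfl fun r _ => ?_
  obtain ⟨j, i⟩ := p
  obtain ⟨l, k⟩ := r
  simp [Matrix.kroneckerMap_apply, mul_comm]

/-- swapping the factors of a tensor form structure. -/
theorem isTensorFormStructure_swap {a b : ℕ} (σ : F → F)
    (f : (Fin n → F) → (Fin n → F) → F)
    (f₁ : (Fin a → F) → (Fin a → F) → F) (f₂ : (Fin b → F) → (Fin b → F) → F)
    (e : Fin n ≃ Fin a × Fin b) (P : GL (Fin n) F)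
    (hT : IsTensorFormStructure σ f f₁ f₂ e P) :
    IsTensorFormStructure σ f f₂ f₁ (e.trans (Equiv.prodComm _ _)) P := by
  obtain ⟨c, hc, h⟩ := hT
  refine ⟨c, hc, fun x y => ?_⟩
  have := h (x ∘ Prod.swap) (y ∘ Prod.swap)
  rw [formOfGram_kronecker_swap] at this
  rw [← this]
  rfl

theorem ugeom_of_tensor_ne (K : Subgroup (GL (Fin n) F)) (a b : ℕ) (e : Fin n ≃ Fin a × Fin b)
    (P : GL (Fin n) F) (ha : 2 ≤ a) (hb : 2 ≤ b) (hab : a ≠ b) (hK : K ≤ tensorProductSubgroup a b e P)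
    (f₁ : (Fin a → F) → (Fin a → F) → F) (f₂ : (Fin b → F) → (Fin b → F) → F)
    (h₁ : IsUnitaryFormPow q f₁) (h₂ : IsUnitaryFormPow q f₂)
    (hT : IsTensorFormStructure (fun x : F => x ^ q) (hermForm n F q) f₁ f₂ e P) : UGeom n q K := by
  rcases lt_or_gt_of_ne hab with hlt | hgt
  · refine ⟨tensorProductSubgroup a b e P ⊓ GU n F q, ?_, inf_le_inf_right _ hK⟩
    exact Or.inr (Or.inr (Or.inl ⟨a, b, e, P, f₁, f₂, ha, hlt, h₁, h₂, hT, rfl⟩))
  · refine ⟨tensorProductSubgroup b a (e.trans (Equiv.prodComm _ _)) P ⊓ GU n F q, ?_,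
      inf_le_inf_right _ (hK.trans (Cfsg.Agent.Lib.Helper63.Asch.tensorProductSubgroup_le_swap e P))⟩
    exact Or.inr (Or.inr (Or.inl ⟨b, a, e.trans (Equiv.prodComm _ _), P, f₂, f₁, hb, hgt, h₂, h₁,
      isTensorFormStructure_swap _ _ f₁ f₂ e P hT, rfl⟩))

end Cfsg.Agent.Lib.Helper30.AschU
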