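import Mathlib
import Cfsg.Agent.Lib.Helper15.BG139Defs
import Cfsg.Agent.Lib.Helper15.BG139Glue
import Cfsg.Agent.Lib.Helper31.BG12a
import Cfsg.Agent.Lib.Helper54.BG134A3a
import Cfsg.Agent.Lib.Helper71.BG10Sub
import Cfsg.Agent.Lib.Helper01.BG134T3N
import Cfsg.Agent.Lib.Helper58.BG134CJ
import Cfsg.Agent.Lib.Helper58.BG134G3
import Cfsg.Agent.Lib.Helper12.CNMaxSub
import Cfsg.Agent.S1409
import Cfsg.Agent.S1415

/-!
# BG 14.2 pack (S1352/S1353/S1354), keystone 135302 (K-S1353-T3): `tau3_fix_le` (BG 13.3(b))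

All subgroups of prime order of the Hall `τ₃(M)`-subgroup `E₃` of a complement `E` of `M_σ` have the
same fixed points on `M_σ`.
-/

set_option autoImplicit false
set_option linter.unusedSectionVars false
set_option linter.unusedVariables false

namespace Cfsg.Agent.Lib.Helper30.BG14

open Cfsg Cfsg.Agent.Lib.Helper55 Cfsg.Agent.Lib.Helper31.BG134 Cfsg.Agent.Lib.Helper15.BG139

variable {G : Type*} [Group G] [Finite G]

/-- a subgroup of prime order `s` is an `s`-group -/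
theorem isPGroup_of_card_eq {s : ℕ} [Fact s.Prime] {X : Subgroup G} (hX : Nat.card X = s) :
    IsPGroup s X := by
  apply IsPGroup.of_card (n := 1)
  rw [hX, pow_one]

/-- **KEYSTONE 135302  K-S1353-T3**  (BG 13.3(b)). -/
theorem tau3_fix_le (hG : IsMinSimpleOddOrder G) {M E S₀ S₀' : Subgroup G} (hM : IsCoatom M)
    (hE : IsComplIn E (sigmaCore M) M) {s s' : ℕ} (hs : s ∈ tau3 M) (hs' : s' ∈ tau3 M)
    (hS₀E : S₀ ≤ E) (hS₀c : Nat.card S₀ = s) (hS₀'E : S₀' ≤ E) (hS₀'c : Nat.card S₀' = s') :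
    sigmaCore M ⊓ Subgroup.centralizer (S₀ : Set G) ≤
      sigmaCore M ⊓ Subgroup.centralizer (S₀' : Set G) := by
  have hsp : s.Prime := hs.1
  have hs'p : s'.Prime := hs'.1
  haveI : Fact s.Prime := ⟨hsp⟩
  have hEM : E ≤ M := hE.1
  have hEtop : E ≠ ⊤ := fun h => hM.1 (top_le_iff.mp (h ▸ hEM))
  have hsolv : Group.IsSolvable ↥E := ms_solvable hG hEtop
  -- the Hall `τ₃(M)`-subgroup `E₃ ≥ S₀`
  have hS₀τ : ∀ p : ℕ, p.Prime → p ∣ Nat.card S₀ → p ∈ tau3 M := by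
    intro p hp hpd
    rw [hS₀c] at hpd
    rwa [(Nat.prime_dvd_prime_iff_eq hp hsp).mp hpd]
  have hS₀'τ : ∀ p : ℕ, p.Prime → p ∣ Nat.card S₀' → p ∈ tau3 M := by
    intro p hp hpd
    rw [hS₀'c] at hpd
    rwa [(Nat.prime_dvd_prime_iff_eq hp hs'p).mp hpd]
  obtain ⟨E₃, hE₃, hS₀E₃⟩ :=
    Cfsg.Agent.Lib.Helper54.BG134.exists_isPiHallOf_ge hsolv (tau3 M) hS₀E hS₀τ
  obtain ⟨hE₃c, hE₃d, hE₃n⟩ := (Cfsg.Agent.S1415.result hG M hM E hE).2.2 E₃ hE₃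
  have hS₀'E₃ : S₀' ≤ E₃ :=
    Cfsg.Agent.Lib.Helper71.BG10.le_of_isPiHallOf_normal hE₃ hE₃n hS₀'E hS₀'τ
  -- `E ≤ N_G(S₀)`
  have hES₀ : E ≤ Subgroup.normalizer (S₀ : Set G) :=
    hE₃n.trans (Cfsg.Agent.Lib.Helper01.BG134.normalizer_le_normalizer_of_isCyclic E₃ S₀ hE₃c hS₀E₃)
  -- a maximal subgroup `H ≥ N_G(S₀)`
  have hS₀1 : S₀ ≠ ⊥ := by
    intro h
    rw [h, Subgroup.card_bot] at hS₀c
    exact hsp.one_lt.ne' hS₀c.symm
  have hS₀top : S₀ ≠ ⊤ := fun h => hEtop (top_le_iff.mp (h ▸ hS₀E))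
  obtain ⟨H, hH, hNH⟩ := Cfsg.Agent.Lib.Helper12.CNMaxSub.exists_coatom_normalizer_le hG hS₀1 hS₀top
  have hEH : E ≤ H := hES₀.trans hNH
  have hS₀M : S₀ ≤ M := hS₀E.trans hEM
  have hS₀H : S₀ ≤ H := hS₀E.trans hEH
  -- `s ∉ τ₁(H)` and `H` is not conjugate to `M`
  have h09 : s ∉ sigma H → ¬ PRankLE s 1 H := fun hσ =>
    (Cfsg.Agent.S1409.result hG H hH s hσ S₀ hS₀c hNH).1.2
  have hs1 : s ∉ tau1 H := by
    intro h
    exact h09 h.2.1 h.2.2.2.2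
  have hnc : ∀ g : G, cj g M ≠ H := by
    intro g hg
    by_cases hσ : s ∈ sigma H
    · have h1 : s ∈ sigma (cj g⁻¹ H) := Cfsg.Agent.Lib.Helper31.BG12.mem_sigma_cj hσ g⁻¹
      rw [← hg, cj_inv_cj] at h1
      exact hs.2.1 h1
    · have h2 : s ∈ tau2 H := by
        have h := Cfsg.Agent.S1409.result hG H hH s hσ S₀ hS₀c hNH
        exact ⟨hsp, hσ, h.1.1, h.1.2⟩
      have h3 : s ∈ tau2 (cj g⁻¹ H) := Cfsg.Agent.Lib.Helper58.BG134.mem_tau2_cj h2 g⁻¹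
      rw [← hg, cj_inv_cj] at h3
      exact h3.2.2.2 hs.2.2.2
  -- `S₀` centralizes `M_σ ∩ H`
  have hT : S₀ ≤ Subgroup.centralizer ((sigmaCore M ⊓ H : Subgroup G) : Set G) :=
    Cfsg.Agent.Lib.Helper15.BG139.t131 hG M H hM hH hnc s hs.2.1 S₀ (isPGroup_of_card_eq hS₀c) hS₀M hS₀H hs1
  -- `S₀'` centralizes `M_σ ∩ H`
  haveI : Fact s'.Prime := ⟨hs'p⟩
  have hS₀'H' : S₀' ≤ ⁅H, H⁆ :=
    hS₀'E₃.trans (hE₃d.trans (Subgroup.commutator_mono hEH hEH))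
  have hT' : S₀' ≤ Subgroup.centralizer ((sigmaCore M ⊓ H : Subgroup G) : Set G) :=
    Cfsg.Agent.Lib.Helper58.BG134.centralizes_of_le_commutator hG hM hH hnc hs'.2.1
      (isPGroup_of_card_eq hS₀'c) (hS₀'E.trans hEM) (hS₀'E.trans hEH) hS₀'H'
  -- conclusion
  intro x hx
  have hxσ : x ∈ sigmaCore M := hx.1
  have hxN : x ∈ Subgroup.normalizer (S₀ : Set G) :=
    (Subgroup.centralizer_le_normalizer (S₀ : Set G)) hx.2
  have hxH : x ∈ sigmaCore M ⊓ H := ⟨hxσ, hNH hxN⟩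
  refine ⟨hxσ, ?_⟩
  show x ∈ Subgroup.centralizer (S₀' : Set G)
  rw [Subgroup.mem_centralizer_iff]
  intro y hy
  have := hT' hy
  rw [Subgroup.mem_centralizer_iff] at this
  exact (this x hxH).symm
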