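import Mathlib

/-!
# Brauer's theorem on homocyclic Sylow 2-subgroups: the arithmetic (helper30)
-/

set_option autoImplicit false

namespace Cfsg.Agent.Lib.Helper30.Homo

/-- the signed degrees `F₁, F₂ ≡ 1`, `D ≡ 3 (mod 16)` with `1 + F₁ + F₂ = D` and
`1 + 1/F₁ + 1/F₂ = 9/D` are `F₁ = F₂ = 1` -/
theorem homo_arith (F₁ F₂ D k₁ k₂ k : ℤ) (hF₁ : F₁ = 1 + 16 * k₁) (hF₂ : F₂ = 1 + 16 * k₂)
    (hD : D = 3 + 16 * k) (h1 : 1 + F₁ + F₂ = D)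
    (h2 : D * (F₁ * F₂ + F₁ + F₂) = 9 * (F₁ * F₂)) : F₁ = 1 ∧ F₂ = 1 := by
  have key : (F₁ - F₂) ^ 2 * (D - 9) = (D - 1) * (D - 3) ^ 2 := by
    subst h1
    linear_combination (-4) * h2
  rw [hF₁, hF₂, hD] at key
  have key2 : (k₁ - k₂) ^ 2 * (8 * k - 3) = (8 * k + 1) * k ^ 2 := by
    have h512 : (512 : ℤ) * ((k₁ - k₂) ^ 2 * (8 * k - 3)) = 512 * ((8 * k + 1) * k ^ 2) := by
      linear_combination key
    exact mul_left_cancel₀ (by norm_num) h512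
  have hcop : IsCoprime (8 * k - 3) (8 * k + 1) := ⟨2 * k, -2 * k + 1, by ring⟩
  have hdvd1 : (8 * k - 3) ∣ (8 * k + 1) * k ^ 2 := ⟨(k₁ - k₂) ^ 2, by rw [← key2]; ring⟩
  have hdvd2 : (8 * k - 3) ∣ k ^ 2 := hcop.dvd_of_dvd_mul_left hdvd1
  have hdvd3 : (8 * k - 3) ∣ 9 := by
    have h3 : (9 : ℤ) = 64 * k ^ 2 - (8 * k - 3) * (8 * k + 3) := by ring
    rw [h3]
    exact dvd_sub (Dvd.dvd.mul_left hdvd2 64) (dvd_mul_right _ _)
  have hk0 : k = 0 := by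
    have hle1 : 8 * k - 3 ≤ 9 := Int.le_of_dvd (by norm_num) hdvd3
    have hle2 : -(8 * k - 3) ≤ 9 := Int.le_of_dvd (by norm_num) ((neg_dvd).mpr hdvd3)
    have hk1 : 0 ≤ k := by omega
    have hk2 : k ≤ 1 := by omega
    interval_cases k
    · rfl
    · norm_num at hdvd3
  clear hdvd1 hdvd2 hdvd3 hcop
  subst hk0
  have h5 : (k₁ - k₂) ^ 2 = 0 := by nlinarith [key2]
  have h6 : k₁ = k₂ := by
    have := pow_eq_zero_iff (two_ne_zero) |>.mp h5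
    omega
  subst h6
  have h7 : k₁ = 0 := by
    rw [hF₁, hF₂, hD] at h1
    omega
  subst h7
  exact ⟨by rw [hF₁]; ring, by rw [hF₂]; ring⟩

end Cfsg.Agent.Lib.Helper30.Homo
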