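import Mathlib
import Cfsg.Agent.Lib.Helper30.HomoArith

/-!
# Brauer's theorem for `N/C` of order three: the arithmetic of the involution relations
(helper30)
-/

set_option autoImplicit false

namespace Cfsg.Agent.Lib.Helper30.Brm

theorem three_arith_key (F₁ F₂ F₃ X₁ X₂ X₃ : ℤ) (hF : 1 + F₁ + F₂ + F₃ = 0)
    (hX : 1 + X₁ + X₂ + X₃ = 0)
    (hQ : F₁ * F₂ * F₃ + X₁ ^ 2 * F₂ * F₃ + X₂ ^ 2 * F₁ * F₃ + X₃ ^ 2 * F₁ * F₂ = 0) :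
    F₁ * F₂ * F₃ * (F₂ - X₂) ^ 2
      = (F₂ * (1 + F₂) * (F₁ - X₁) - F₁ * F₂ * (F₂ - X₂)) ^ 2 := by
  obtain rfl : F₃ = -1 - F₁ - F₂ := by linarith
  obtain rfl : X₃ = -1 - X₁ - X₂ := by linarith
  linear_combination (F₂ * (1 + F₂)) * hQ

theorem isSquare_of_mul_sq {N u W : ℤ} (hu : u ≠ 0) (h : N * u ^ 2 = W ^ 2) : IsSquare N := by
  have hdvd : u ^ 2 ∣ W ^ 2 := ⟨N, by rw [← h]; ring⟩
  have hdvd' : u ∣ W := (Int.pow_dvd_pow_iff two_ne_zero).mp hdvd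
  obtain ⟨v, rfl⟩ := hdvd'
  refine ⟨v, ?_⟩
  have hu2 : u ^ 2 ≠ 0 := pow_ne_zero 2 hu
  apply mul_right_cancel₀ hu2
  rw [h]
  ring

/-- the arithmetic of the three relations at an involution (odd `p`) -/
theorem three_arith (a₁ a₂ ε f₁ f₂ f x₁ x₂ h : ℤ) (ha₁ : a₁ = 1 ∨ a₁ = -1)
    (ha₂ : a₂ = 1 ∨ a₂ = -1) (hε : ε = 1 ∨ ε = -1) (hf₁ : 0 < f₁) (hf₂ : 0 < f₂) (hf : 0 < f)
    (R1 : 1 + a₁ * f₁ + a₂ * f₂ = ε * f) (R2 : 1 + a₁ * x₁ + a₂ * x₂ = ε * h)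
    (R3 : f₁ * f₂ * f + a₁ * x₁ ^ 2 * f₂ * f + a₂ * x₂ ^ 2 * f₁ * f = ε * h ^ 2 * f₁ * f₂)
    (hx₂ : x₂ ≠ f₂) :
    ((a₁ = -1 ∧ a₂ = -1 ∧ ε = -1) ∨ (a₁ = -1 ∧ a₂ = 1 ∧ ε = 1) ∨ (a₁ = 1 ∧ a₂ = -1 ∧ ε = 1)) ∧
      IsSquare (f₁ * f₂ * f) := by
  have ha₁2 : a₁ * a₁ = 1 := by rcases ha₁ with h | h <;> rw [h] <;> norm_num
  have ha₂2 : a₂ * a₂ = 1 := by rcases ha₂ with h | h <;> rw [h] <;> norm_num
  have hε2 : ε * ε = 1 := by rcases hε with h | h <;> rw [h] <;> norm_num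
  have key := three_arith_key (a₁ * f₁) (a₂ * f₂) (-ε * f) (a₁ * x₁) (a₂ * x₂) (-ε * h)
    (by linarith) (by linarith)
    (by linear_combination (-a₁ * a₂ * ε) * R3)
  have hu : f₂ - x₂ ≠ 0 := fun h0 => hx₂ (by linarith)
  have hu2 : 0 < (f₂ - x₂) ^ 2 := by positivity
  have hN : 0 < f₁ * f₂ * f := by positivity
  have key2 : (-a₁ * a₂ * ε) * ((f₁ * f₂ * f) * (f₂ - x₂) ^ 2)
      = (a₂ * f₂ * (1 + a₂ * f₂) * (a₁ * f₁ - a₁ * x₁) - a₁ * f₁ * (a₂ * f₂) * (a₂ * f₂ - a₂ * x₂)) ^ 2 := by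
    rw [← key]
    linear_combination (a₁ * f₁ * a₂ * f₂ * ε * f * (f₂ - x₂) ^ 2) * ha₂2
  set W := a₂ * f₂ * (1 + a₂ * f₂) * (a₁ * f₁ - a₁ * x₁) - a₁ * f₁ * (a₂ * f₂) * (a₂ * f₂ - a₂ * x₂)
    with hW
  have hNu : 0 < (f₁ * f₂ * f) * (f₂ - x₂) ^ 2 := by positivity
  have hWsq : 0 ≤ W ^ 2 := sq_nonneg W
  rcases ha₁ with rfl | rfl <;> rcases ha₂ with rfl | rfl <;> rcases hε with rfl | rfl
  · -- (1, 1, 1): negative sign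
    exfalso; nlinarith
  · -- (1, 1, -1)
    exfalso; linarith
  · -- (1, -1, 1)
    refine ⟨Or.inr (Or.inr ⟨rfl, rfl, rfl⟩), ?_⟩
    exact isSquare_of_mul_sq hu (by rw [← key2]; ring)
  · -- (1, -1, -1)
    exfalso; nlinarith
  · -- (-1, 1, 1)
    refine ⟨Or.inr (Or.inl ⟨rfl, rfl, rfl⟩), ?_⟩
    exact isSquare_of_mul_sq hu (by rw [← key2]; ring)
  · -- (-1, 1, -1)
    exfalso; nlinarith
  · -- (-1, -1, 1)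
    exfalso; nlinarith
  · -- (-1, -1, -1)
    refine ⟨Or.inl ⟨rfl, rfl, rfl⟩, ?_⟩
    exact isSquare_of_mul_sq hu (by rw [← key2]; ring)

/-- the arithmetic of the relations for `p = 2` -/
theorem three_arith_even (a₁ a₂ ε f₁ f₂ f q c₁ c₂ c₃ : ℤ) (ha₁ : a₁ = 1 ∨ a₁ = -1)
    (ha₂ : a₂ = 1 ∨ a₂ = -1) (hε : ε = 1 ∨ ε = -1) (hf₁ : 0 < f₁) (hf₂ : 0 < f₂)
    (hq : 16 ∣ q) (hc₁ : f₁ = a₁ + q * c₁) (hc₂ : f₂ = a₂ + q * c₂) (hc₃ : f = 3 * ε + q * c₃)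
    (R1 : 1 + a₁ * f₁ + a₂ * f₂ = ε * f)
    (R3 : f₁ * f₂ * f + a₁ * f₂ * f + a₂ * f₁ * f = 9 * ε * f₁ * f₂) :
    f₁ = 1 ∧ a₁ = 1 := by
  have ha₁2 : a₁ * a₁ = 1 := by rcases ha₁ with h | h <;> rw [h] <;> norm_num
  have ha₂2 : a₂ * a₂ = 1 := by rcases ha₂ with h | h <;> rw [h] <;> norm_num
  have hε2 : ε * ε = 1 := by rcases hε with h | h <;> rw [h] <;> norm_num
  obtain ⟨q', rfl⟩ := hq
  have h := Cfsg.Agent.Lib.Helper30.Homo.homo_arith (a₁ * f₁) (a₂ * f₂) (ε * f)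
    (q' * a₁ * c₁) (q' * a₂ * c₂) (q' * ε * c₃)
    (by rw [hc₁]; linear_combination ha₁2)
    (by rw [hc₂]; linear_combination ha₂2)
    (by rw [hc₃]; linear_combination 3 * hε2)
    R1
    (by linear_combination (a₁ * a₂ * ε) * R3 - (ε * f * a₁ * f₁) * ha₂2
      - (ε * f * a₂ * f₂) * ha₁2 + (9 * a₁ * a₂ * f₁ * f₂) * hε2)
  rcases ha₁ with rfl | rfl
  · exact ⟨by linarith [h.1], rfl⟩
  · exfalso
    linarith [h.1]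

end Cfsg.Agent.Lib.Helper30.Brm
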