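import Mathlib
import Cfsg.Prelude.Def_Solvable
import Cfsg.Agent.Lib.Helper42.PPrimeCore

/-!
# Brauer's theorem on abelian Sylow `p`-subgroups with cyclic semiregular `N/C`: group theory
(helper30)
-/

set_option autoImplicit false

namespace Cfsg.Agent.Lib.Helper30.Brm

open Cfsg

/-- Burnside: if `N(R) ≤ C(R)` for a Sylow `p`-subgroup `R`, then `O_{p'}(H)` has `p`-power
index. -/
theorem burnside_p {H : Type*} [Group H] [Finite H] (p : ℕ) [Fact p.Prime] (R : Sylow p H)
    (hR : Subgroup.normalizer ((R : Subgroup H) : Set H) ≤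
      Subgroup.centralizer ((R : Subgroup H) : Set H)) :
    ∃ k : ℕ, (pPrimeCore p H).index = p ^ k := by
  have hp : p.Prime := Fact.out
  set φ := MonoidHom.transferSylow R hR with hφ
  have hcompl := MonoidHom.ker_transferSylow_isComplement' R hR
  have hnd : ¬ p ∣ Nat.card φ.ker := MonoidHom.not_dvd_card_ker_transferSylow R hR
  have hle : φ.ker ≤ pPrimeCore p H :=
    Cfsg.Agent.Lib.Helper42.le_pPrimeCore φ.ker
      (Nat.Coprime.symm ((Nat.Prime.coprime_iff_not_dvd hp).mpr hnd))
  have h1 : (pPrimeCore p H).index ∣ φ.ker.index := Subgroup.index_dvd_of_le hle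
  obtain ⟨n, hn⟩ := (R.isPGroup').exists_card_eq
  rw [hcompl.symm.index_eq_card, hn] at h1
  obtain ⟨k, -, hk⟩ := (Nat.dvd_prime_pow hp).mp h1
  exact ⟨k, hk⟩

section centralizer

variable {G : Type*} [Group G] [Finite G] {p : ℕ} [Fact p.Prime] (P : Sylow p G)

/-- the centralizer of a nontrivial element of `P` is `p`-nilpotent, provided
`C_G(u) ∩ N_G(P) = C_G(P)` -/
theorem centralizer_p_nilpotent
    (hcomm : ∀ a ∈ (P : Subgroup G), ∀ b ∈ (P : Subgroup G), a * b = b * a)
    (u : G) (hu : u ∈ (P : Subgroup G))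
    (hfpf : Subgroup.centralizer ({u} : Set G) ⊓ Subgroup.normalizer ((P : Subgroup G) : Set G)
      = Subgroup.centralizer ((P : Subgroup G) : Set G)) :
    ∃ k : ℕ, (pPrimeCore p (Subgroup.centralizer ({u} : Set G))).index = p ^ k := by
  set H := Subgroup.centralizer ({u} : Set G) with hH
  have hPH : (P : Subgroup G) ≤ H := by
    intro a ha
    rw [hH, Subgroup.mem_centralizer_singleton_iff]
    exact hcomm a ha u hu
  set R : Sylow p ↥H := P.subtype hPH with hR
  have hRcoe : (R : Subgroup ↥H) = (P : Subgroup G).subgroupOf H := Sylow.coe_subtype P hPH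
  have hNC : Subgroup.normalizer ((R : Subgroup ↥H) : Set ↥H) ≤
      Subgroup.centralizer ((R : Subgroup ↥H) : Set ↥H) := by
    intro h hh
    have hmem : (h : G) ∈ Subgroup.normalizer ((P : Subgroup G) : Set G) := by
      rw [Subgroup.mem_normalizer_iff]
      intro a
      constructor
      · intro ha
        have h1 := (Subgroup.mem_normalizer_iff.mp hh ⟨a, hPH ha⟩).mp
          (by rw [hRcoe, Subgroup.mem_subgroupOf]; exact ha)
        rw [hRcoe, Subgroup.mem_subgroupOf] at h1
        exact h1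
      · intro ha
        have ha' : a ∈ H := by
          have h2 : a = (h : G)⁻¹ * ((h : G) * a * (h : G)⁻¹) * (h : G) := by group
          rw [h2]
          exact H.mul_mem (H.mul_mem (H.inv_mem h.2) (hPH ha)) h.2
        have h1 := (Subgroup.mem_normalizer_iff.mp hh ⟨a, ha'⟩).mpr
          (by rw [hRcoe, Subgroup.mem_subgroupOf]; exact ha)
        rw [hRcoe, Subgroup.mem_subgroupOf] at h1
        exact h1
    have hcent : (h : G) ∈ Subgroup.centralizer ((P : Subgroup G) : Set G) := by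
      rw [← hfpf]
      exact ⟨h.2, hmem⟩
    rw [Subgroup.mem_centralizer_iff]
    intro a ha
    rw [SetLike.mem_coe, hRcoe, Subgroup.mem_subgroupOf] at ha
    apply Subtype.ext
    exact (Subgroup.mem_centralizer_iff.mp hcent) (a : G) ha
  exact burnside_p p R hNC

end centralizer

/-- the group-theoretic data used by the character-theoretic argument -/
structure MData (G : Type*) [Group G] (p : ℕ) where
  P : Subgroup G
  σ : MulAut P
  m : ℕ
  g : G
  hm : 1 < m
  hcomm : ∀ a b : P, a * b = b * a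
  hσm : σ ^ m = 1
  hfree : ∀ k : ℕ, 0 < k → k < m → ∀ u : P, u ≠ 1 → (σ ^ k) u ≠ u
  hg : g ∈ Subgroup.normalizer (P : Set G)
  hconj : ∀ u : P, ((σ u : P) : G) = g * (u : G) * g⁻¹
  hNσ : ∀ n ∈ Subgroup.normalizer (P : Set G), ∃ k : ℕ, k < m ∧
    ∀ w : P, n * (w : G) * n⁻¹ = (((σ ^ k) w : P) : G)
  hfus : ∀ u v : P, IsConj (u : G) (v : G) → ∃ k : ℕ, k < m ∧ v = (σ ^ k) u
  hidx : ∀ u : P, u ≠ 1 →
    ∃ k : ℕ, (pPrimeCore p (Subgroup.centralizer ({(u : G)} : Set G))).index = p ^ k
  hsyl : ∀ u : P, p ^ (Nat.card (Subgroup.centralizer ({(u : G)} : Set G))).factorization p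
    = Nat.card P
  hcard : m + 1 < Nat.card P
  hconjP : ∀ x : G, (∃ k : ℕ, orderOf x = p ^ k) → ∃ c : G, c * x * c⁻¹ ∈ P

section sigma

variable {G : Type*} [Group G] [Finite G] {p : ℕ} [Fact p.Prime] (P : Sylow p G)

theorem exists_mData (hab : IsMulCommutative P) (m : ℕ) (hm1 : 1 < m) (hm2 : m + 1 < Nat.card P)
    (hCN : (Subgroup.centralizer ((P : Subgroup G) : Set G)).relIndex
      (Subgroup.normalizer ((P : Subgroup G) : Set G)) = m)
    (hcyc : ∃ g : G, g ∈ Subgroup.normalizer ((P : Subgroup G) : Set G) ∧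
      Subgroup.centralizer ((P : Subgroup G) : Set G) ⊔ Subgroup.zpowers g
        = Subgroup.normalizer ((P : Subgroup G) : Set G))
    (hfrob : ∀ y : G, y ∈ (P : Subgroup G) → y ≠ 1 →
      Subgroup.centralizer ({y} : Set G) ⊓ Subgroup.normalizer ((P : Subgroup G) : Set G)
        = Subgroup.centralizer ((P : Subgroup G) : Set G)) :
    ∃ D : MData G p, D.P = (P : Subgroup G) ∧ D.m = m := by
  have hp : p.Prime := Fact.out
  haveI : IsMulCommutative (P : Subgroup G) := hab
  have hcomm' : ∀ a b : (P : Subgroup G), a * b = b * a := fun a b => mul_comm' a b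
  have hcomm : ∀ a ∈ (P : Subgroup G), ∀ b ∈ (P : Subgroup G), a * b = b * a := by
    intro a ha b hb
    exact congrArg Subtype.val (hcomm' ⟨a, ha⟩ ⟨b, hb⟩)
  set f := (P : Subgroup G).normalizerMonoidHom with hf
  have hcard : Nat.card f.range = m := by
    rw [← hCN, Subgroup.relIndex, ← Subgroup.normalizerMonoidHom_ker, Subgroup.index_ker]
  obtain ⟨g, hgN, hgen⟩ := hcyc
  set σ : MulAut (P : Subgroup G) := f ⟨g, hgN⟩ with hσ
  have happ : ∀ (n : G) (hn : n ∈ Subgroup.normalizer ((P : Subgroup G) : Set G))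
      (u : (P : Subgroup G)), ((f ⟨n, hn⟩ u : (P : Subgroup G)) : G) = n * u * n⁻¹ := by
    intro n hn u
    rfl
  have hker : ∀ (n : G) (hn : n ∈ Subgroup.normalizer ((P : Subgroup G) : Set G)),
      n ∈ Subgroup.centralizer ((P : Subgroup G) : Set G) → f ⟨n, hn⟩ = 1 := by
    intro n hn hc
    have : (⟨n, hn⟩ : Subgroup.normalizer ((P : Subgroup G) : Set G)) ∈ f.ker := by
      rw [hf, Subgroup.normalizerMonoidHom_ker, Subgroup.mem_subgroupOf]
      exact hc
    exact this
  have hrange : ∀ (n : G) (hn : n ∈ Subgroup.normalizer ((P : Subgroup G) : Set G)),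
      f ⟨n, hn⟩ ∈ Subgroup.zpowers σ := by
    intro n hn
    have hle' : Subgroup.centralizer ((P : Subgroup G) : Set G) ⊔ Subgroup.zpowers g
        ≤ ((Subgroup.zpowers σ).comap f).map (Subgroup.normalizer ((P : Subgroup G) : Set G)).subtype := by
      apply sup_le
      · intro c hc
        have hcN : c ∈ Subgroup.normalizer ((P : Subgroup G) : Set G) :=
          Subgroup.centralizer_le_normalizer _ hc
        refine ⟨⟨c, hcN⟩, ?_, rfl⟩
        rw [SetLike.mem_coe, Subgroup.mem_comap, hker c hcN hc]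
        exact Subgroup.one_mem _
      · rw [Subgroup.zpowers_le]
        refine ⟨⟨g, hgN⟩, ?_, rfl⟩
        rw [SetLike.mem_coe, Subgroup.mem_comap]
        exact Subgroup.mem_zpowers σ
    obtain ⟨x, hx, hxn⟩ := hle' (by rw [hgen]; exact hn)
    have hxe : x = ⟨n, hn⟩ := Subtype.ext hxn
    rw [← hxe]
    exact hx
  have hrange' : f.range = Subgroup.zpowers σ := by
    apply le_antisymm
    · rintro τ ⟨x, rfl⟩
      exact hrange x.1 x.2
    · rw [Subgroup.zpowers_le]
      exact ⟨_, rfl⟩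
  have hord : orderOf σ = m := by
    rw [← Nat.card_zpowers, ← hrange', hcard]
  have hσm : σ ^ m = 1 := by rw [← hord]; exact pow_orderOf_eq_one σ
  have hpow : ∀ (k : ℕ) (u : (P : Subgroup G)),
      (((σ ^ k) u : (P : Subgroup G)) : G) = g ^ k * u * (g ^ k)⁻¹ := by
    intro k u
    have h1 : σ ^ k = f (⟨g, hgN⟩ ^ k) := by rw [map_pow]
    rw [h1]
    rfl
  have hNσ : ∀ n ∈ Subgroup.normalizer ((P : Subgroup G) : Set G), ∃ k : ℕ, k < m ∧
      ∀ w : (P : Subgroup G), n * (w : G) * n⁻¹ = (((σ ^ k) w : (P : Subgroup G)) : G) := by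
    intro n hn
    obtain ⟨j, hj⟩ := Subgroup.mem_zpowers_iff.mp (hrange n hn)
    have hm0 : (m : ℤ) ≠ 0 := by exact_mod_cast (by omega : m ≠ 0)
    have hj2 : σ ^ (j % (m : ℤ)) = f ⟨n, hn⟩ := by
      rw [← hj]
      have := zpow_mod_orderOf σ j
      rw [hord] at this
      exact this
    have hj3 : 0 ≤ j % (m : ℤ) := Int.emod_nonneg j hm0
    have hj4 : j % (m : ℤ) < m := Int.emod_lt_of_pos j (by exact_mod_cast (by omega : 0 < m))
    refine ⟨(j % (m : ℤ)).toNat, by omega, ?_⟩
    intro w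
    have h5 : σ ^ (j % (m : ℤ)).toNat = f ⟨n, hn⟩ := by
      rw [← hj2, ← zpow_natCast, Int.toNat_of_nonneg hj3]
    rw [h5]
    rfl
  have hsylow : ∀ u : (P : Subgroup G),
      p ^ (Nat.card (Subgroup.centralizer ({(u : G)} : Set G))).factorization p
        = Nat.card (P : Subgroup G) := by
    intro u
    set H := Subgroup.centralizer ({(u : G)} : Set G) with hH
    have hPH : (P : Subgroup G) ≤ H := by
      intro a ha
      rw [hH, Subgroup.mem_centralizer_singleton_iff]
      exact hcomm a ha u u.2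
    have hcardP := P.card_eq_multiplicity
    have h1 : Nat.card (P : Subgroup G) ∣ Nat.card H := Subgroup.card_dvd_of_le hPH
    have h2 : Nat.card H ∣ Nat.card G := Subgroup.card_subgroup_dvd_card H
    have hHpos : Nat.card H ≠ 0 := Nat.card_pos.ne'
    have hGpos : Nat.card G ≠ 0 := Nat.card_pos.ne'
    have h3' : (Nat.card H).factorization p ≤ (Nat.card G).factorization p :=
      (Nat.factorization_le_iff_dvd hHpos hGpos).mpr h2 p
    have h4 : (Nat.card G).factorization p ≤ (Nat.card H).factorization p := by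
      rw [hcardP] at h1
      exact (Nat.Prime.pow_dvd_iff_le_factorization hp hHpos).mp h1
    rw [hcardP, le_antisymm h3' h4]
  refine ⟨{ P := (P : Subgroup G), σ := σ, m := m, g := g, hm := hm1, hcomm := hcomm',
            hσm := hσm, hfree := ?_, hg := hgN, hconj := fun u => happ g hgN u, hNσ := hNσ,
            hfus := ?_, hidx := ?_, hsyl := hsylow, hcard := hm2, hconjP := ?_ }, rfl, rfl⟩
  · intro k hk0 hkm u hu hfix
    have hgk : g ^ k ∈ Subgroup.normalizer ((P : Subgroup G) : Set G) := Subgroup.pow_mem _ hgN k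
    have hxc : g ^ k ∈ Subgroup.centralizer ({(u : G)} : Set G) := by
      rw [Subgroup.mem_centralizer_singleton_iff]
      have h1 := hpow k u
      rw [hfix] at h1
      calc g ^ k * u = (g ^ k * u * (g ^ k)⁻¹) * g ^ k := by group
        _ = u * g ^ k := by rw [← h1]
    have hu1 : (u : G) ≠ 1 := fun h => hu (Subtype.ext h)
    have hxC : g ^ k ∈ Subgroup.centralizer ((P : Subgroup G) : Set G) := by
      rw [← hfrob (u : G) u.2 hu1]
      exact ⟨hxc, hgk⟩
    have h2 : σ ^ k = 1 := by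
      have h1 : σ ^ k = f (⟨g, hgN⟩ ^ k) := by rw [map_pow]
      rw [h1]
      exact hker (g ^ k) hgk hxC
    have h3 : m ∣ k := by rw [← hord]; exact orderOf_dvd_of_pow_eq_one h2
    have := Nat.le_of_dvd hk0 h3
    omega
  · intro u v huv
    obtain ⟨c, hc⟩ := isConj_iff.mp huv
    obtain ⟨n, hn, hn2⟩ := P.conj_eq_normalizer_conj_of_mem (u : G) c⁻¹ u.2
      (by rw [inv_inv, hc]; exact v.2)
    rw [inv_inv, hc] at hn2
    have hninv : n⁻¹ ∈ Subgroup.normalizer ((P : Subgroup G) : Set G) := Subgroup.inv_mem _ hn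
    obtain ⟨k, hk, hkw⟩ := hNσ n⁻¹ hninv
    refine ⟨k, hk, ?_⟩
    apply Subtype.ext
    rw [← hkw u, inv_inv, hn2]
  · intro u hu
    have hu1 : (u : G) ≠ 1 := fun h => hu (Subtype.ext h)
    exact centralizer_p_nilpotent P hcomm (u : G) u.2 (hfrob (u : G) u.2 hu1)
  · intro x hx
    obtain ⟨k, hk⟩ := hx
    have hpg : IsPGroup p (Subgroup.zpowers x) :=
      IsPGroup.of_card (n := k) (by rw [Nat.card_zpowers, hk])
    obtain ⟨Q, hQ⟩ := hpg.exists_le_sylow
    obtain ⟨c, hc⟩ := MulAction.exists_smul_eq G Q P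
    refine ⟨c, ?_⟩
    have hxQ : x ∈ Q := hQ (Subgroup.mem_zpowers x)
    have h1 : c * x * c⁻¹ ∈ ((c • Q : Sylow p G) : Subgroup G) := by
      rw [Sylow.coe_subgroup_smul]
      have := Subgroup.smul_mem_pointwise_smul x (MulAut.conj c) (Q : Subgroup G) hxQ
      rwa [MulAut.smul_def, MulAut.conj_apply] at this
    rw [hc] at h1
    exact h1

end sigma

end Cfsg.Agent.Lib.Helper30.Brm
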