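import Mathlib
import Cfsg.Agent.Lib.Helper34.LinChar

/-!
# Brauer's theorem on homocyclic Sylow 2-subgroups: the dual group (helper30)
-/

set_option autoImplicit false

namespace Cfsg.Agent.Lib.Helper30.Homo

open scoped ComplexConjugate
open Cfsg.Agent.Lib.Helper34

section dual

variable {A : Type*} [Group A] [Fintype A]

theorem dual_equiv (hcomm : ∀ a b : A, a * b = b * a) : Nonempty ((A →* ℂˣ) ≃ A) := by
  letI : CommGroup A := { (inferInstance : Group A) with mul_comm := hcomm }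
  obtain ⟨e⟩ := CommGroup.monoidHom_mulEquiv_of_hasEnoughRootsOfUnity A ℂ
  exact ⟨e.toEquiv⟩

theorem finite_dual (hcomm : ∀ a b : A, a * b = b * a) : Finite (A →* ℂˣ) := by
  obtain ⟨e⟩ := dual_equiv hcomm
  exact Finite.of_equiv A e.symm

theorem card_dual (hcomm : ∀ a b : A, a * b = b * a) [Fintype (A →* ℂˣ)] :
    Fintype.card (A →* ℂˣ) = Fintype.card A := by
  obtain ⟨e⟩ := dual_equiv hcomm
  exact Fintype.card_congr e

theorem exists_dual_ne_one (hcomm : ∀ a b : A, a * b = b * a) {a : A} (ha : a ≠ 1) :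
    ∃ φ : A →* ℂˣ, φ a ≠ 1 := by
  letI : CommGroup A := { (inferInstance : Group A) with mul_comm := hcomm }
  exact CommGroup.exists_apply_ne_one_of_hasEnoughRootsOfUnity A ℂ ha

variable [Fintype (A →* ℂˣ)]

/-- the sum of all linear characters at a point -/
theorem sum_dual_apply (hcomm : ∀ a b : A, a * b = b * a) [DecidableEq A] (a : A) :
    ∑ φ : A →* ℂˣ, (φ a : ℂ) = if a = 1 then (Fintype.card A : ℂ) else 0 := by
  by_cases ha : a = 1
  · subst ha
    rw [if_pos rfl]
    simp [card_dual hcomm]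
  · rw [if_neg ha]
    obtain ⟨φ₀, hφ₀⟩ := exists_dual_ne_one hcomm ha
    have h1 : ∑ φ : A →* ℂˣ, (φ a : ℂ) = (φ₀ a : ℂ) * ∑ φ : A →* ℂˣ, (φ a : ℂ) := by
      rw [Finset.mul_sum]
      rw [← Equiv.sum_comp (Equiv.mulLeft φ₀) (fun φ : A →* ℂˣ => (φ a : ℂ))]
      apply Finset.sum_congr rfl
      intro φ _
      simp
    have h2 : (1 - (φ₀ a : ℂ)) * ∑ φ : A →* ℂˣ, (φ a : ℂ) = 0 := by
      rw [sub_mul, one_mul, ← h1, sub_self]
    rcases mul_eq_zero.mp h2 with h | h
    · exfalso
      apply hφ₀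
      have : ((φ₀ a : ℂˣ) : ℂ) = 1 := by linear_combination -h
      exact Units.ext this
    · exact h

theorem conj_dual_apply (φ : A →* ℂˣ) (v : A) : conj (φ v : ℂ) = (φ v⁻¹ : ℂ) := by
  rw [conj_linChar, MonoidHom.inv_apply, map_inv]

/-- Fourier inversion on a finite abelian group -/
theorem fourier_inversion (hcomm : ∀ a b : A, a * b = b * a) (f : A → ℂ) (u : A) :
    f u = ∑ φ : A →* ℂˣ,
      ((Fintype.card A : ℂ)⁻¹ * ∑ v, f v * conj (φ v : ℂ)) * (φ u : ℂ) := by
  classical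
  have hA : (Fintype.card A : ℂ) ≠ 0 := by exact_mod_cast Fintype.card_ne_zero
  have h1 : ∀ φ : A →* ℂˣ, ((Fintype.card A : ℂ)⁻¹ * ∑ v, f v * conj (φ v : ℂ)) * (φ u : ℂ)
      = (Fintype.card A : ℂ)⁻¹ * ∑ v, f v * (φ (v⁻¹ * u) : ℂ) := by
    intro φ
    rw [mul_assoc, Finset.sum_mul]
    congr 1
    apply Finset.sum_congr rfl
    intro v _
    rw [conj_dual_apply, map_mul]
    push_cast
    ring
  rw [Finset.sum_congr rfl (fun φ _ => h1 φ), ← Finset.mul_sum, Finset.sum_comm]
  simp_rw [← Finset.mul_sum, sum_dual_apply hcomm]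
  have h2 : ∀ v : A, f v * (if v⁻¹ * u = 1 then (Fintype.card A : ℂ) else 0)
      = if v = u then f u * (Fintype.card A : ℂ) else 0 := by
    intro v
    by_cases hv : v = u
    · subst hv
      simp
    · have : ¬ v⁻¹ * u = 1 := by
        intro h
        apply hv
        have := inv_mul_eq_one.mp h
        exact this
      rw [if_neg this, if_neg hv, mul_zero]
  rw [Finset.sum_congr rfl (fun v _ => h2 v), Finset.sum_ite_eq' Finset.univ u]
  simp only [Finset.mem_univ, if_true]
  field_simp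

/-- orthogonality of linear characters, as a sum -/
theorem sum_conj_mul_dual [DecidableEq (A →* ℂˣ)] (φ ψ : A →* ℂˣ) :
    ∑ u, conj (φ u : ℂ) * (ψ u : ℂ) = if φ = ψ then (Fintype.card A : ℂ) else 0 := by
  have h1 : ∀ u : A, conj (φ u : ℂ) * (ψ u : ℂ) = ((φ⁻¹ * ψ) u : ℂ) := by
    intro u
    rw [conj_linChar]
    simp
  rw [Finset.sum_congr rfl (fun u _ => h1 u), sum_linChar]
  by_cases h : φ = ψ
  · subst h
    have h2 : φ⁻¹ * φ = 1 := MonoidHom.ext (fun u => by simp)
    rw [if_pos h2, if_pos rfl, Nat.card_eq_fintype_card]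
  · have : ¬ φ⁻¹ * ψ = 1 := by
      intro h2
      apply h
      ext u
      have h3 := congrArg (fun χ : A →* ℂˣ => ((χ u : ℂˣ) : ℂ)) h2
      simp only [MonoidHom.mul_apply, MonoidHom.inv_apply, MonoidHom.one_apply, Units.val_mul,
        Units.val_inv_eq_inv_val, Units.val_one] at h3
      have hne : ((φ u : ℂˣ) : ℂ) ≠ 0 := Units.ne_zero _
      field_simp at h3
      exact h3.symm
    rw [if_neg this, if_neg h]

end dual

section action

variable {A : Type*} [Group A] [Fintype A] (σ : MulAut A)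

/-- the dual action of an automorphism on linear characters -/
noncomputable def twist (φ : A →* ℂˣ) : A →* ℂˣ := φ.comp σ.toMonoidHom

theorem twist_apply (φ : A →* ℂˣ) (u : A) : twist σ φ u = φ (σ u) := rfl

theorem twist_one : twist σ (1 : A →* ℂˣ) = 1 := rfl

theorem twist_injective : Function.Injective (twist σ) := by
  intro φ ψ h
  ext u
  have := congrArg (fun χ : A →* ℂˣ => ((χ (σ.symm u) : ℂˣ) : ℂ)) h
  simpa [twist_apply] using this

/-- a fixed-point-free automorphism acts freely on the nontrivial linear characters -/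
theorem eq_one_of_twist_eq_self (hcomm : ∀ a b : A, a * b = b * a)
    (hfree : ∀ u : A, u ≠ 1 → σ u ≠ u) (φ : A →* ℂˣ) (h : twist σ φ = φ) : φ = 1 := by
  set ρ : A → A := fun u => σ u * u⁻¹ with hρ
  have hinj : Function.Injective ρ := by
    intro u v huv
    have h1 : σ u * u⁻¹ = σ v * v⁻¹ := huv
    have h2 : σ (u * v⁻¹) = u * v⁻¹ := by
      rw [map_mul, map_inv]
      have h3 : σ u = σ v * v⁻¹ * u := by
        calc σ u = (σ u * u⁻¹) * u := by group
          _ = σ v * v⁻¹ * u := by rw [h1]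
      rw [h3]
      calc σ v * v⁻¹ * u * (σ v)⁻¹ = σ v * (v⁻¹ * u) * (σ v)⁻¹ := by group
        _ = (v⁻¹ * u) * σ v * (σ v)⁻¹ := by rw [hcomm (σ v) (v⁻¹ * u)]
        _ = v⁻¹ * u := by group
        _ = u * v⁻¹ := hcomm _ _
    by_contra hne
    have h4 : u * v⁻¹ ≠ 1 := by
      intro h5
      apply hne
      exact mul_inv_eq_one.mp h5
    exact hfree _ h4 h2
  have hsurj : Function.Surjective ρ := Finite.surjective_of_injective hinj
  ext u
  obtain ⟨t, rfl⟩ := hsurj u
  have h1 : φ (σ t) = φ t := by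
    have := congrArg (fun χ : A →* ℂˣ => χ t) h
    simpa [twist_apply] using this
  show ((φ (σ t * t⁻¹) : ℂˣ) : ℂ) = ((1 : ℂˣ) : ℂ)
  rw [map_mul, map_inv, h1, mul_inv_cancel]

end action

end Cfsg.Agent.Lib.Helper30.Homo
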