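import Mathlib
import Cfsg.Agent.Lib.Helper30.HomoDual

/-!
# Brauer's theorem on homocyclic Sylow 2-subgroups: the Gram matrix of the multiplicities
(helper30)
-/

set_option autoImplicit false

namespace Cfsg.Agent.Lib.Helper30.Homo

open scoped ComplexConjugate
open Cfsg.Agent.Lib.Helper34

section gram

variable {A : Type*} [Group A] [Fintype A] [DecidableEq A] (σ : MulAut A)
  {ι : Type*} [Fintype ι] (F : ι → A → ℂ) [Fintype (A →* ℂˣ)] [DecidableEq (A →* ℂˣ)]

/-- the multiplicity of the linear character `φ` in `F χ` -/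
noncomputable def mult (χ : ι) (φ : A →* ℂˣ) : ℂ :=
  (Fintype.card A : ℂ)⁻¹ * ∑ u, F χ u * conj (φ u : ℂ)

/-- the fusion pattern -/
noncomputable def Rfun (u v : A) : ℂ :=
  (if v = u then 1 else 0) + (if v = σ u then 1 else 0) + (if v = σ (σ u) then 1 else 0)

/-- the dual fusion pattern -/
noncomputable def Nfun (φ ψ : A →* ℂˣ) : ℂ :=
  (if φ = ψ then 1 else 0) + (if φ = twist σ ψ then 1 else 0)
    + (if φ = twist σ (twist σ ψ) then 1 else 0)

theorem conj_mult (χ : ι) (ψ : A →* ℂˣ) :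
    conj (mult F χ ψ) = (Fintype.card A : ℂ)⁻¹ * ∑ v, conj (F χ v) * (ψ v : ℂ) := by
  unfold mult
  rw [map_mul, map_inv₀, Complex.conj_natCast, map_sum]
  congr 1
  apply Finset.sum_congr rfl
  intro v _
  rw [map_mul, Complex.conj_conj]

theorem sum_R (φ ψ : A →* ℂˣ) :
    ∑ u, ∑ v, conj (φ u : ℂ) * (ψ v : ℂ) * Rfun σ u v = (Fintype.card A : ℂ) * Nfun σ φ ψ := by
  have h1 : ∀ u : A, ∑ v, conj (φ u : ℂ) * (ψ v : ℂ) * Rfun σ u v
      = conj (φ u : ℂ) * (ψ u : ℂ) + conj (φ u : ℂ) * (twist σ ψ u : ℂ)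
        + conj (φ u : ℂ) * (twist σ (twist σ ψ) u : ℂ) := by
    intro u
    unfold Rfun
    simp_rw [mul_add, Finset.sum_add_distrib, mul_ite, mul_one, mul_zero,
      Finset.sum_ite_eq' Finset.univ, Finset.mem_univ, if_true]
    rfl
  rw [Finset.sum_congr rfl (fun u _ => h1 u), Finset.sum_add_distrib, Finset.sum_add_distrib,
    sum_conj_mul_dual, sum_conj_mul_dual, sum_conj_mul_dual]
  unfold Nfun
  split_ifs <;> ring

/-- **the Gram matrix of the multiplicity vectors** -/
theorem gram (hK : ∀ u v : A, (u ≠ 1 ∨ v ≠ 1) →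
      ∑ χ, F χ u * conj (F χ v) = (Fintype.card A : ℂ) * Rfun σ u v) (φ ψ : A →* ℂˣ) :
    ∑ χ, mult F χ φ * conj (mult F χ ψ)
      = ((∑ χ, F χ 1 * conj (F χ 1)) - 3 * (Fintype.card A : ℂ)) / (Fintype.card A : ℂ) ^ 2
        + Nfun σ φ ψ := by
  set Q : ℂ := (Fintype.card A : ℂ) with hQ
  set W : ℂ := ∑ χ, F χ 1 * conj (F χ 1) with hW
  have hQ0 : Q ≠ 0 := by rw [hQ]; exact_mod_cast Fintype.card_ne_zero
  have hKfull : ∀ u v : A, ∑ χ, F χ u * conj (F χ v)
      = Q * Rfun σ u v + (if u = 1 ∧ v = 1 then W - 3 * Q else 0) := by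
    intro u v
    by_cases h : u = 1 ∧ v = 1
    · obtain ⟨rfl, rfl⟩ := h
      rw [if_pos ⟨rfl, rfl⟩]
      unfold Rfun
      simp only [map_one, if_true]
      rw [← hW]
      ring
    · rw [if_neg h, add_zero]
      apply hK
      by_contra hc
      push Not at hc
      exact h hc
  have h1 : ∀ χ, mult F χ φ * conj (mult F χ ψ)
      = Q⁻¹ * Q⁻¹ * ∑ u, ∑ v, conj (φ u : ℂ) * (ψ v : ℂ) * (F χ u * conj (F χ v)) := by
    intro χ
    rw [conj_mult]
    unfold mult
    rw [← hQ]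
    rw [mul_mul_mul_comm, Finset.sum_mul_sum]
    congr 1
    apply Finset.sum_congr rfl
    intro u _
    apply Finset.sum_congr rfl
    intro v _
    ring
  rw [Finset.sum_congr rfl (fun χ _ => h1 χ), ← Finset.mul_sum, Finset.sum_comm]
  have h2 : ∀ u : A, ∑ χ, ∑ v, conj (φ u : ℂ) * (ψ v : ℂ) * (F χ u * conj (F χ v))
      = ∑ v, conj (φ u : ℂ) * (ψ v : ℂ)
        * (Q * Rfun σ u v + (if u = 1 ∧ v = 1 then W - 3 * Q else 0)) := by
    intro u
    rw [Finset.sum_comm]
    apply Finset.sum_congr rfl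
    intro v _
    rw [← Finset.mul_sum, hKfull]
  rw [Finset.sum_congr rfl (fun u _ => h2 u)]
  have h3 : ∀ u v : A, conj (φ u : ℂ) * (ψ v : ℂ)
        * (Q * Rfun σ u v + (if u = 1 ∧ v = 1 then W - 3 * Q else 0))
      = Q * (conj (φ u : ℂ) * (ψ v : ℂ) * Rfun σ u v)
        + (if u = 1 then (if v = 1 then W - 3 * Q else 0) else 0) := by
    intro u v
    by_cases hu : u = 1
    · by_cases hv : v = 1
      · subst hu; subst hv
        simp
      · rw [if_neg (fun h => hv h.2), if_pos hu, if_neg hv]; ring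
    · rw [if_neg (fun h => hu h.1), if_neg hu]; ring
  simp_rw [h3, Finset.sum_add_distrib, ← Finset.mul_sum]
  rw [sum_R σ φ ψ]
  have h4 : ∑ x : A, ∑ x_1 : A, (if x = 1 then (if x_1 = 1 then W - 3 * Q else 0) else 0)
      = W - 3 * Q := by
    rw [Finset.sum_eq_single (1 : A)]
    · simp
    · intro b _ hb
      simp [hb]
    · intro h; exact absurd (Finset.mem_univ _) h
  rw [h4, ← hQ]
  field_simp
  ring

/-- the degree vector has the same inner product with all multiplicity vectors -/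
theorem sum_mult_degree (hK : ∀ u v : A, (u ≠ 1 ∨ v ≠ 1) →
      ∑ χ, F χ u * conj (F χ v) = (Fintype.card A : ℂ) * Rfun σ u v) (φ : A →* ℂˣ) :
    ∑ χ, mult F χ φ * conj (F χ 1)
      = (∑ χ, F χ 1 * conj (F χ 1)) / (Fintype.card A : ℂ) := by
  set Q : ℂ := (Fintype.card A : ℂ) with hQ
  have hQ0 : Q ≠ 0 := by rw [hQ]; exact_mod_cast Fintype.card_ne_zero
  have h1 : ∀ χ, mult F χ φ * conj (F χ 1)
      = Q⁻¹ * ∑ u, conj (φ u : ℂ) * (F χ u * conj (F χ 1)) := by
    intro χ
    unfold mult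
    rw [← hQ, mul_assoc, Finset.sum_mul]
    congr 1
    apply Finset.sum_congr rfl
    intro u _
    ring
  rw [Finset.sum_congr rfl (fun χ _ => h1 χ), ← Finset.mul_sum, Finset.sum_comm]
  have h2 : ∀ u : A, ∑ χ, conj (φ u : ℂ) * (F χ u * conj (F χ 1))
      = if u = 1 then ∑ χ, F χ 1 * conj (F χ 1) else 0 := by
    intro u
    rw [← Finset.mul_sum]
    by_cases hu : u = 1
    · subst hu
      rw [if_pos rfl]
      simp
    · rw [if_neg hu, hK u 1 (Or.inl hu)]
      unfold Rfun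
      have h3 : (1 : A) ≠ u := fun h => hu h.symm
      have h4 : (1 : A) ≠ σ u := by
        intro h
        apply hu
        have : σ u = σ 1 := by rw [map_one]; exact h.symm
        exact σ.injective this
      have h5 : (1 : A) ≠ σ (σ u) := by
        intro h
        apply h4
        have : σ (σ u) = σ 1 := by rw [map_one]; exact h.symm
        exact (σ.injective this).symm
      rw [if_neg h3, if_neg h4, if_neg h5]
      ring
  rw [Finset.sum_congr rfl (fun u _ => h2 u), Finset.sum_ite_eq' Finset.univ (1 : A)]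
  simp only [Finset.mem_univ, if_true]
  field_simp

end gram

end Cfsg.Agent.Lib.Helper30.Homo
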