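import Mathlib
import Cfsg.Agent.Lib.Helper30.HomoGram

/-!
# Brauer's theorem on abelian Sylow `p`-subgroups with cyclic semiregular `N/C`: the Gram matrix
of the multiplicities (helper30)
-/

set_option autoImplicit false

namespace Cfsg.Agent.Lib.Helper30.Brm

open scoped ComplexConjugate
open Cfsg.Agent.Lib.Helper34 Cfsg.Agent.Lib.Helper30.Homo

section gram

variable {A : Type*} [Group A] [Fintype A] [DecidableEq A] (σ : MulAut A) (m : ℕ)
  {ι : Type*} [Fintype ι] (F : ι → A → ℂ) [Fintype (A →* ℂˣ)] [DecidableEq (A →* ℂˣ)]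

/-- the fusion pattern -/
noncomputable def RfunM (u v : A) : ℂ :=
  ∑ k ∈ Finset.range m, if v = (σ ^ k) u then 1 else 0

/-- the dual fusion pattern -/
noncomputable def NfunM (φ ψ : A →* ℂˣ) : ℂ :=
  ∑ k ∈ Finset.range m, if φ = twist (σ ^ k) ψ then 1 else 0

theorem RfunM_one_one : RfunM σ m (1 : A) 1 = m := by
  unfold RfunM
  simp

theorem RfunM_ne_one {u : A} (hu : u ≠ 1) : RfunM σ m u 1 = 0 := by
  unfold RfunM
  apply Finset.sum_eq_zero
  intro k _
  rw [if_neg]
  intro h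
  apply hu
  have : (σ ^ k) u = (σ ^ k) 1 := by rw [map_one]; exact h.symm
  exact (σ ^ k).injective this

theorem sum_RM (φ ψ : A →* ℂˣ) :
    ∑ u, ∑ v, conj (φ u : ℂ) * (ψ v : ℂ) * RfunM σ m u v
      = (Fintype.card A : ℂ) * NfunM σ m φ ψ := by
  have h1 : ∀ u : A, ∑ v, conj (φ u : ℂ) * (ψ v : ℂ) * RfunM σ m u v
      = ∑ k ∈ Finset.range m, conj (φ u : ℂ) * (twist (σ ^ k) ψ u : ℂ) := by
    intro u
    unfold RfunM
    simp_rw [Finset.mul_sum]
    rw [Finset.sum_comm]
    apply Finset.sum_congr rfl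
    intro k _
    simp_rw [mul_ite, mul_one, mul_zero]
    rw [Finset.sum_ite_eq' Finset.univ]
    simp only [Finset.mem_univ, if_true]
    rfl
  rw [Finset.sum_congr rfl (fun u _ => h1 u), Finset.sum_comm]
  unfold NfunM
  rw [Finset.mul_sum]
  apply Finset.sum_congr rfl
  intro k _
  rw [sum_conj_mul_dual]
  split_ifs <;> ring

/-- **the Gram matrix of the multiplicity vectors** -/
theorem gramM (hK : ∀ u v : A, (u ≠ 1 ∨ v ≠ 1) →
      ∑ χ, F χ u * conj (F χ v) = (Fintype.card A : ℂ) * RfunM σ m u v) (φ ψ : A →* ℂˣ) :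
    ∑ χ, mult F χ φ * conj (mult F χ ψ)
      = ((∑ χ, F χ 1 * conj (F χ 1)) - m * (Fintype.card A : ℂ)) / (Fintype.card A : ℂ) ^ 2
        + NfunM σ m φ ψ := by
  set Q : ℂ := (Fintype.card A : ℂ) with hQ
  set W : ℂ := ∑ χ, F χ 1 * conj (F χ 1) with hW
  have hQ0 : Q ≠ 0 := by rw [hQ]; exact_mod_cast Fintype.card_ne_zero
  have hKfull : ∀ u v : A, ∑ χ, F χ u * conj (F χ v)
      = Q * RfunM σ m u v + (if u = 1 ∧ v = 1 then W - m * Q else 0) := by
    intro u v
    by_cases h : u = 1 ∧ v = 1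
    · obtain ⟨rfl, rfl⟩ := h
      rw [if_pos ⟨rfl, rfl⟩, RfunM_one_one, ← hW]
      ring
    · rw [if_neg h, add_zero]
      apply hK
      by_contra hc
      push Not at hc
      exact h hc
  have h1 : ∀ χ, mult F χ φ * conj (mult F χ ψ)
      = Q⁻¹ * Q⁻¹ * ∑ u, ∑ v, conj (φ u : ℂ) * (ψ v : ℂ) * (F χ u * conj (F χ v)) := by
    intro χ
    rw [conj_mult]
    unfold mult
    rw [← hQ]
    rw [mul_mul_mul_comm, Finset.sum_mul_sum]
    congr 1
    apply Finset.sum_congr rfl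
    intro u _
    apply Finset.sum_congr rfl
    intro v _
    ring
  rw [Finset.sum_congr rfl (fun χ _ => h1 χ), ← Finset.mul_sum, Finset.sum_comm]
  have h2 : ∀ u : A, ∑ χ, ∑ v, conj (φ u : ℂ) * (ψ v : ℂ) * (F χ u * conj (F χ v))
      = ∑ v, conj (φ u : ℂ) * (ψ v : ℂ)
        * (Q * RfunM σ m u v + (if u = 1 ∧ v = 1 then W - m * Q else 0)) := by
    intro u
    rw [Finset.sum_comm]
    apply Finset.sum_congr rfl
    intro v _
    rw [← Finset.mul_sum, hKfull]
  rw [Finset.sum_congr rfl (fun u _ => h2 u)]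
  have h3 : ∀ u v : A, conj (φ u : ℂ) * (ψ v : ℂ)
        * (Q * RfunM σ m u v + (if u = 1 ∧ v = 1 then W - m * Q else 0))
      = Q * (conj (φ u : ℂ) * (ψ v : ℂ) * RfunM σ m u v)
        + (if u = 1 then (if v = 1 then W - m * Q else 0) else 0) := by
    intro u v
    by_cases hu : u = 1
    · by_cases hv : v = 1
      · subst hu; subst hv
        simp
      · rw [if_neg (fun h => hv h.2), if_pos hu, if_neg hv]; ring
    · rw [if_neg (fun h => hu h.1), if_neg hu]; ring
  simp_rw [h3, Finset.sum_add_distrib, ← Finset.mul_sum]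
  rw [sum_RM σ m φ ψ]
  have h4 : ∑ x : A, ∑ x_1 : A, (if x = 1 then (if x_1 = 1 then W - m * Q else 0) else 0)
      = W - m * Q := by
    rw [Finset.sum_eq_single (1 : A)]
    · simp
    · intro b _ hb
      simp [hb]
    · intro h; exact absurd (Finset.mem_univ _) h
  rw [h4, ← hQ]
  field_simp
  ring

/-- the degree vector has the same inner product with all multiplicity vectors -/
theorem sum_mult_degreeM (hK : ∀ u v : A, (u ≠ 1 ∨ v ≠ 1) →
      ∑ χ, F χ u * conj (F χ v) = (Fintype.card A : ℂ) * RfunM σ m u v) (φ : A →* ℂˣ) :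
    ∑ χ, mult F χ φ * conj (F χ 1)
      = (∑ χ, F χ 1 * conj (F χ 1)) / (Fintype.card A : ℂ) := by
  set Q : ℂ := (Fintype.card A : ℂ) with hQ
  have hQ0 : Q ≠ 0 := by rw [hQ]; exact_mod_cast Fintype.card_ne_zero
  have h1 : ∀ χ, mult F χ φ * conj (F χ 1)
      = Q⁻¹ * ∑ u, conj (φ u : ℂ) * (F χ u * conj (F χ 1)) := by
    intro χ
    unfold mult
    rw [← hQ, mul_assoc, Finset.sum_mul]
    congr 1
    apply Finset.sum_congr rfl
    intro u _
    ring
  rw [Finset.sum_congr rfl (fun χ _ => h1 χ), ← Finset.mul_sum, Finset.sum_comm]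
  have h2 : ∀ u : A, ∑ χ, conj (φ u : ℂ) * (F χ u * conj (F χ 1))
      = if u = 1 then ∑ χ, F χ 1 * conj (F χ 1) else 0 := by
    intro u
    rw [← Finset.mul_sum]
    by_cases hu : u = 1
    · subst hu
      rw [if_pos rfl]
      simp
    · rw [if_neg hu, hK u 1 (Or.inl hu), RfunM_ne_one σ m hu]
      ring
  rw [Finset.sum_congr rfl (fun u _ => h2 u), Finset.sum_ite_eq' Finset.univ (1 : A)]
  simp only [Finset.mem_univ, if_true]
  field_simp

end gram

end Cfsg.Agent.Lib.Helper30.Brm
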