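import Mathlib

/-!
# Brauer's theorem on homocyclic Sylow 2-subgroups: the lattice lemma (helper30)

Integer vectors with pairwise differences of norm two, all orthogonal to a positive vector, have
the form `c + ε e_{X i}`.
-/

set_option autoImplicit false

namespace Cfsg.Agent.Lib.Helper30.Homo

variable {ι : Type*} [Fintype ι] [DecidableEq ι]

/-- the unit vector -/
def ev (a : ι) : ι → ℤ := fun χ => if χ = a then 1 else 0

theorem ev_apply (a χ : ι) : ev a χ = if χ = a then 1 else 0 := rfl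

theorem ev_self (a : ι) : ev a a = 1 := by simp [ev]

theorem ev_ne {a χ : ι} (h : χ ≠ a) : ev a χ = 0 := by simp [ev, h]

theorem sum_mul_ev (y : ι → ℤ) (a : ι) : ∑ χ, y χ * ev a χ = y a := by
  simp [ev]

theorem sum_ev_mul (y : ι → ℤ) (a : ι) : ∑ χ, ev a χ * y χ = y a := by
  simp [ev]

theorem sum_ev_mul_ev (a b : ι) : ∑ χ, ev a χ * ev b χ = if a = b then 1 else 0 := by
  rw [sum_ev_mul, ev_apply]

theorem ev_injective {a b : ι} (h : ev a = ev b) : a = b := by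
  have := congrFun h a
  rw [ev_self, ev_apply] at this
  by_contra hne
  rw [if_neg hne] at this
  exact one_ne_zero this

theorem pick_unit' (s : Finset ι) (z : ι → ℤ) (m : ℤ) (hm : 1 ≤ m)
    (hm3 : m ≤ 3) (hs : ∑ φ ∈ s, z φ * z φ = m) :
    ∃ ψ ∈ s, z ψ * z ψ = 1 ∧ ∑ φ ∈ s.erase ψ, z φ * z φ = m - 1 := by
  have hex : ∃ ψ ∈ s, z ψ ≠ 0 := by
    by_contra hne
    push Not at hne
    rw [Finset.sum_eq_zero (fun φ hφ => by rw [hne φ hφ, mul_zero])] at hs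
    omega
  obtain ⟨ψ, hψs, hψ⟩ := hex
  have hsplit : z ψ * z ψ + ∑ φ ∈ s.erase ψ, z φ * z φ = m := by
    rw [Finset.add_sum_erase s (fun φ => z φ * z φ) hψs]
    exact hs
  have hnn : 0 ≤ ∑ φ ∈ s.erase ψ, z φ * z φ :=
    Finset.sum_nonneg (fun φ _ => mul_self_nonneg (z φ))
  have hpos : 0 < z ψ * z ψ := mul_self_pos.mpr hψ
  have hsq : z ψ * z ψ = 1 := by
    have hle : z ψ * z ψ ≤ 3 := by omega
    have habs : |z ψ| ≤ 1 := by
      by_contra hc
      push Not at hc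
      have : 2 ≤ |z ψ| := hc
      have h4 : 4 ≤ |z ψ| * |z ψ| := by nlinarith
      rw [abs_mul_abs_self] at h4
      omega
    have : z ψ = 1 ∨ z ψ = -1 ∨ z ψ = 0 := by
      have := abs_le.mp habs
      omega
    rcases this with h | h | h
    · rw [h]; norm_num
    · rw [h]; norm_num
    · exact absurd h hψ
  exact ⟨ψ, hψs, hsq, by omega⟩

/-- a vector whose squares sum to zero over a finset vanishes there -/
theorem eq_zero_of_sum_sq_zero (s : Finset ι) (z : ι → ℤ) (hs : ∑ φ ∈ s, z φ * z φ = 0) :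
    ∀ φ ∈ s, z φ = 0 := by
  intro φ hφ
  have := (Finset.sum_eq_zero_iff_of_nonneg (fun φ _ => mul_self_nonneg (z φ))).mp hs φ hφ
  exact mul_self_eq_zero.mp this

/-- an integer vector of norm one is `± e_a` -/
theorem eq_ev_of_norm_one (y : ι → ℤ) (h : ∑ χ, y χ * y χ = 1) :
    ∃ a, ∃ s : ℤ, (s = 1 ∨ s = -1) ∧ y = fun χ => s * ev a χ := by
  obtain ⟨a, -, ha, hrest⟩ := pick_unit' Finset.univ y 1 le_rfl (by norm_num) h
  have hz := eq_zero_of_sum_sq_zero _ y (by rw [hrest]; norm_num)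
  have hs : y a = 1 ∨ y a = -1 := by
    have h1 : (y a - 1) * (y a + 1) = 0 := by linear_combination ha
    rcases mul_eq_zero.mp h1 with h | h
    · left; omega
    · right; omega
  refine ⟨a, y a, hs, ?_⟩
  funext χ
  by_cases hχ : χ = a
  · rw [hχ, ev_self, mul_one]
  · rw [ev_ne hχ, mul_zero]
    exact hz χ (Finset.mem_erase.mpr ⟨hχ, Finset.mem_univ _⟩)

/-- an integer vector of norm two orthogonal to a positive vector is `e_a - e_b` -/
theorem eq_ev_sub_ev (d S : ι → ℤ) (hS : ∀ χ, 0 < S χ) (h2 : ∑ χ, d χ * d χ = 2)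
    (h0 : ∑ χ, d χ * S χ = 0) : ∃ a b, a ≠ b ∧ d = fun χ => ev a χ - ev b χ := by
  obtain ⟨a, -, ha, hrest⟩ := pick_unit' Finset.univ d 2 (by norm_num) (by norm_num) h2
  obtain ⟨b, hb, hb1, hrest2⟩ := pick_unit' (Finset.univ.erase a) d 1 le_rfl (by norm_num)
    (by rw [hrest]; norm_num)
  have hz := eq_zero_of_sum_sq_zero _ d (by rw [hrest2]; norm_num)
  have hba : b ≠ a := (Finset.mem_erase.mp hb).1
  have hd : ∀ χ, d χ = d a * ev a χ + d b * ev b χ := by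
    intro χ
    by_cases h1 : χ = a
    · rw [h1, ev_self, ev_ne hba.symm]; ring
    · by_cases h2 : χ = b
      · rw [h2, ev_self, ev_ne hba]; ring
      · rw [ev_ne h1, ev_ne h2]
        rw [hz χ (Finset.mem_erase.mpr ⟨h2, Finset.mem_erase.mpr ⟨h1, Finset.mem_univ _⟩⟩)]
        ring
  have hsum : d a * S a + d b * S b = 0 := by
    have h3 : ∑ χ, d χ * S χ = ∑ χ, (d a * (ev a χ * S χ) + d b * (ev b χ * S χ)) :=
      Finset.sum_congr rfl (fun χ _ => by rw [hd χ]; ring)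
    rw [h3, Finset.sum_add_distrib, ← Finset.mul_sum, ← Finset.mul_sum, sum_ev_mul,
      sum_ev_mul] at h0
    exact h0
  have hsa : d a = 1 ∨ d a = -1 := by
    have h1 : (d a - 1) * (d a + 1) = 0 := by linear_combination ha
    rcases mul_eq_zero.mp h1 with h | h
    · left; omega
    · right; omega
  have hsb : d b = 1 ∨ d b = -1 := by
    have h1 : (d b - 1) * (d b + 1) = 0 := by linear_combination hb1
    rcases mul_eq_zero.mp h1 with h | h
    · left; omega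
    · right; omega
  have hSa := hS a
  have hSb := hS b
  rcases hsa with hsa | hsa <;> rcases hsb with hsb | hsb
  · rw [hsa, hsb] at hsum; omega
  · refine ⟨a, b, hba.symm, ?_⟩
    funext χ
    rw [hd χ, hsa, hsb]; ring
  · refine ⟨b, a, hba, ?_⟩
    funext χ
    rw [hd χ, hsa, hsb]; ring
  · rw [hsa, hsb] at hsum; omega

theorem sum_three (f : ι → ℤ) {a b c : ι} (hab : a ≠ b) (hac : a ≠ c) (hbc : b ≠ c) :
    ∑ χ, f χ = f a + f b + f c + ∑ χ ∈ ((Finset.univ.erase a).erase b).erase c, f χ := by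
  have hb : b ∈ Finset.univ.erase a := Finset.mem_erase.mpr ⟨hab.symm, Finset.mem_univ _⟩
  have hc : c ∈ (Finset.univ.erase a).erase b :=
    Finset.mem_erase.mpr ⟨hbc.symm, Finset.mem_erase.mpr ⟨hac.symm, Finset.mem_univ _⟩⟩
  have h1 := Finset.add_sum_erase Finset.univ f (Finset.mem_univ a)
  have h2 := Finset.add_sum_erase _ f hb
  have h3 := Finset.add_sum_erase _ f hc
  linarith

theorem norm_sub_ev (y : ι → ℤ) (ε : ℤ) (hε : ε = 1 ∨ ε = -1) (a : ι) :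
    ∑ χ, (y χ - ε * ev a χ) * (y χ - ε * ev a χ) = ∑ χ, y χ * y χ - 2 * ε * y a + 1 := by
  have hε2 : ε * ε = 1 := by rcases hε with rfl | rfl <;> norm_num
  have h1 : ∀ χ, (y χ - ε * ev a χ) * (y χ - ε * ev a χ)
      = y χ * y χ - 2 * ε * (y χ * ev a χ) + (ε * ε) * (ev a χ * ev a χ) := by
    intro χ; ring
  rw [Finset.sum_congr rfl (fun χ _ => h1 χ), Finset.sum_add_distrib, Finset.sum_sub_distrib,
    ← Finset.mul_sum, ← Finset.mul_sum, sum_mul_ev, sum_ev_mul_ev, if_pos rfl, hε2]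
  ring

theorem sum_evsub_mul_evsub (a b a' b' : ι) :
    ∑ χ, (ev a χ - ev b χ) * (ev a' χ - ev b' χ)
      = (if a = a' then 1 else 0) - (if a = b' then 1 else 0) - (if b = a' then 1 else 0)
        + (if b = b' then 1 else 0) := by
  have h1 : ∀ χ, (ev a χ - ev b χ) * (ev a' χ - ev b' χ)
      = ev a χ * ev a' χ - ev a χ * ev b' χ - ev b χ * ev a' χ + ev b χ * ev b' χ := by
    intro χ; ring
  rw [Finset.sum_congr rfl (fun χ _ => h1 χ), Finset.sum_add_distrib, Finset.sum_sub_distrib,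
    Finset.sum_sub_distrib, sum_ev_mul_ev, sum_ev_mul_ev, sum_ev_mul_ev, sum_ev_mul_ev]

/-- three vectors with pairwise differences of norm two, orthogonal to a positive vector -/
theorem base_triple (v₁ v₂ v₃ S : ι → ℤ) (hS : ∀ χ, 0 < S χ)
    (h12 : ∑ χ, (v₁ χ - v₂ χ) * (v₁ χ - v₂ χ) = 2)
    (h13 : ∑ χ, (v₁ χ - v₃ χ) * (v₁ χ - v₃ χ) = 2)
    (h23 : ∑ χ, (v₂ χ - v₃ χ) * (v₂ χ - v₃ χ) = 2)
    (o12 : ∑ χ, (v₁ χ - v₂ χ) * S χ = 0) (o13 : ∑ χ, (v₁ χ - v₃ χ) * S χ = 0) :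
    ∃ (ε : ℤ) (c : ι → ℤ) (χ₁ χ₂ χ₃ : ι), (ε = 1 ∨ ε = -1) ∧ χ₁ ≠ χ₂ ∧ χ₁ ≠ χ₃ ∧ χ₂ ≠ χ₃ ∧
      (∀ χ, v₁ χ = c χ + ε * ev χ₁ χ) ∧ (∀ χ, v₂ χ = c χ + ε * ev χ₂ χ) ∧
      (∀ χ, v₃ χ = c χ + ε * ev χ₃ χ) := by
  obtain ⟨a, b, hab, hd12⟩ := eq_ev_sub_ev (fun χ => v₁ χ - v₂ χ) S hS h12 o12
  obtain ⟨a', b', hab', hd13⟩ := eq_ev_sub_ev (fun χ => v₁ χ - v₃ χ) S hS h13 o13
  have e12 : ∀ χ, v₁ χ - v₂ χ = ev a χ - ev b χ := fun χ => congrFun hd12 χ
  have e13 : ∀ χ, v₁ χ - v₃ χ = ev a' χ - ev b' χ := fun χ => congrFun hd13 χ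
  have hIP : (if a = a' then (1 : ℤ) else 0) - (if a = b' then 1 else 0) - (if b = a' then 1 else 0)
      + (if b = b' then 1 else 0) = 1 := by
    rw [← sum_evsub_mul_evsub]
    have h1 : ∀ χ, (v₂ χ - v₃ χ) * (v₂ χ - v₃ χ)
        = (v₁ χ - v₂ χ) * (v₁ χ - v₂ χ) + (v₁ χ - v₃ χ) * (v₁ χ - v₃ χ)
          - 2 * ((ev a χ - ev b χ) * (ev a' χ - ev b' χ)) := by
      intro χ
      rw [← e12, ← e13]; ring
    rw [Finset.sum_congr rfl (fun χ _ => h1 χ), Finset.sum_sub_distrib, Finset.sum_add_distrib,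
      h12, h13, ← Finset.mul_sum] at h23
    linarith
  by_cases haa : a = a'
  · -- common positive entry
    subst haa
    have hbb : b ≠ b' := by
      intro h
      rw [if_pos rfl, if_neg hab', if_neg hab.symm, if_pos h] at hIP
      omega
    refine ⟨1, fun χ => v₁ χ - ev a χ, a, b, b', Or.inl rfl, hab, hab', hbb, ?_, ?_, ?_⟩
    · intro χ; ring
    · intro χ
      have := e12 χ
      linarith
    · intro χ
      have := e13 χ
      linarith
  · -- common negative entry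
    have hbb : b = b' := by
      by_contra h
      rw [if_neg haa, if_neg h] at hIP
      split_ifs at hIP <;> omega
    subst hbb
    refine ⟨-1, fun χ => v₁ χ + ev b χ, b, a, a', Or.inr rfl, hab.symm, hab'.symm, haa, ?_, ?_, ?_⟩
    · intro χ; ring
    · intro χ
      have := e12 χ
      linarith
    · intro χ
      have := e13 χ
      linarith

theorem orth_sub_ev (y S : ι → ℤ) (ε : ℤ) (a : ι) :
    ∑ χ, (y χ - ε * ev a χ) * S χ = ∑ χ, y χ * S χ - ε * S a := by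
  have h1 : ∀ χ, (y χ - ε * ev a χ) * S χ = y χ * S χ - ε * (ev a χ * S χ) := by
    intro χ; ring
  rw [Finset.sum_congr rfl (fun χ _ => h1 χ), Finset.sum_sub_distrib, ← Finset.mul_sum,
    sum_ev_mul]

/-- a further vector at distance two from the three base vectors has the same shape -/
theorem extend_point (y S : ι → ℤ) (hS : ∀ χ, 0 < S χ) (ε : ℤ) (hε : ε = 1 ∨ ε = -1)
    (χ₁ χ₂ χ₃ : ι) (h12 : χ₁ ≠ χ₂) (h13 : χ₁ ≠ χ₃) (h23 : χ₂ ≠ χ₃)
    (n₁ : ∑ χ, (y χ - ε * ev χ₁ χ) * (y χ - ε * ev χ₁ χ) = 2)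
    (n₂ : ∑ χ, (y χ - ε * ev χ₂ χ) * (y χ - ε * ev χ₂ χ) = 2)
    (n₃ : ∑ χ, (y χ - ε * ev χ₃ χ) * (y χ - ε * ev χ₃ χ) = 2)
    (o₁ : ∑ χ, (y χ - ε * ev χ₁ χ) * S χ = 0) :
    ∃ a, ∀ χ, y χ = ε * ev a χ := by
  have hε2 : ε * ε = 1 := by rcases hε with rfl | rfl <;> norm_num
  rw [norm_sub_ev y ε hε] at n₁ n₂ n₃
  rw [orth_sub_ev] at o₁
  set N := ∑ χ, y χ * y χ with hN
  have e1 : 2 * ε * y χ₁ = N - 1 := by linarith
  have e2 : 2 * ε * y χ₂ = N - 1 := by linarith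
  have e3 : 2 * ε * y χ₃ = N - 1 := by linarith
  have hy2 : y χ₂ = y χ₁ := by
    have : ε * (2 * ε * y χ₂) = ε * (2 * ε * y χ₁) := by rw [e1, e2]
    have h3 : 2 * (ε * ε) * y χ₂ = 2 * (ε * ε) * y χ₁ := by linarith
    rw [hε2] at h3
    linarith
  have hy3 : y χ₃ = y χ₁ := by
    have : ε * (2 * ε * y χ₃) = ε * (2 * ε * y χ₁) := by rw [e1, e3]
    have h3 : 2 * (ε * ε) * y χ₃ = 2 * (ε * ε) * y χ₁ := by linarith
    rw [hε2] at h3
    linarith
  set t := y χ₁ with ht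
  have hsplit := sum_three (fun χ => y χ * y χ) h12 h13 h23
  beta_reduce at hsplit
  rw [← hN, hy2, hy3, ← ht] at hsplit
  have hrest : 0 ≤ ∑ χ ∈ ((Finset.univ.erase χ₁).erase χ₂).erase χ₃, y χ * y χ :=
    Finset.sum_nonneg (fun χ _ => mul_self_nonneg (y χ))
  have hcases : t = 0 ∨ t = ε := by
    have h3t : 3 * (t * t) ≤ 1 + 2 * ε * t := by linarith
    rcases hε with rfl | rfl
    · have hb1 : 0 ≤ t := by nlinarith
      have hb2 : t ≤ 1 := by nlinarith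
      omega
    · have hb1 : -1 ≤ t := by nlinarith
      have hb2 : t ≤ 0 := by nlinarith
      omega
  rcases hcases with h0 | h1
  · -- norm one
    rw [h0] at e1
    have hN1 : N = 1 := by linarith
    obtain ⟨a, s, hs, hya⟩ := eq_ev_of_norm_one y hN1
    refine ⟨a, ?_⟩
    have hsum : ∑ χ, y χ * S χ = s * S a := by
      have h5 : ∀ χ, y χ * S χ = s * (ev a χ * S χ) := by
        intro χ
        rw [congrFun hya χ]; ring
      rw [Finset.sum_congr rfl (fun χ _ => h5 χ), ← Finset.mul_sum, sum_ev_mul]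
    rw [hsum] at o₁
    have hSa := hS a
    have hS1 := hS χ₁
    have hsε : s = ε := by
      rcases hs with rfl | rfl <;> rcases hε with rfl | rfl
      · rfl
      · exfalso; linarith
      · exfalso; linarith
      · rfl
    intro χ
    rw [congrFun hya χ, hsε]
  · -- impossible case
    exfalso
    have hN3 : N = 3 := by
      have : 2 * ε * ε = N - 1 := by rw [h1] at e1; linarith
      rw [mul_assoc, hε2] at this
      linarith
    have hzero : ∑ χ ∈ ((Finset.univ.erase χ₁).erase χ₂).erase χ₃, y χ * y χ = 0 := by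
      rw [h1, hε2] at hsplit
      linarith
    have hz := eq_zero_of_sum_sq_zero _ y hzero
    have hsplit2 := sum_three (fun χ => y χ * S χ) h12 h13 h23
    beta_reduce at hsplit2
    have hrest0 : ∑ χ ∈ ((Finset.univ.erase χ₁).erase χ₂).erase χ₃, y χ * S χ = 0 :=
      Finset.sum_eq_zero (fun χ hχ => by rw [hz χ hχ, zero_mul])
    rw [hrest0, hy2, hy3, ← ht, h1] at hsplit2
    rw [hsplit2] at o₁
    have hS2 := hS χ₂
    have hS3 := hS χ₃
    rcases hε with rfl | rfl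
    · linarith
    · linarith

/-- **the lattice lemma** -/
theorem lattice_structure {I : Type*} (r : I → I → Prop) (v : I → ι → ℤ) (S : ι → ℤ)
    (hS : ∀ χ, 0 < S χ)
    (hr : ∀ i j, r i j → v i = v j)
    (hn : ∀ i j, ¬ r i j → ∑ χ, (v i χ - v j χ) * (v i χ - v j χ) = 2)
    (ho : ∀ i j, ∑ χ, (v i χ - v j χ) * S χ = 0)
    (i₁ i₂ i₃ : I) (h12 : ¬ r i₁ i₂) (h13 : ¬ r i₁ i₃) (h23 : ¬ r i₂ i₃) :
    ∃ (ε : ℤ) (c : ι → ℤ) (X : I → ι), (ε = 1 ∨ ε = -1) ∧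
      (∀ i χ, v i χ = c χ + ε * ev (X i) χ) ∧ (∀ i j, X i = X j ↔ r i j) := by
  obtain ⟨ε, c, χ₁, χ₂, χ₃, hε, hχ12, hχ13, hχ23, hv1, hv2, hv3⟩ :=
    base_triple (v i₁) (v i₂) (v i₃) S hS (hn _ _ h12) (hn _ _ h13) (hn _ _ h23) (ho i₁ i₂)
      (ho i₁ i₃)
  have hε0 : ε ≠ 0 := by rcases hε with rfl | rfl <;> norm_num
  have hall : ∀ i, ∃ a, ∀ χ, v i χ = c χ + ε * ev a χ := by
    intro i
    by_cases r1 : r i i₁
    · exact ⟨χ₁, fun χ => by rw [hr i i₁ r1]; exact hv1 χ⟩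
    by_cases r2 : r i i₂
    · exact ⟨χ₂, fun χ => by rw [hr i i₂ r2]; exact hv2 χ⟩
    by_cases r3 : r i i₃
    · exact ⟨χ₃, fun χ => by rw [hr i i₃ r3]; exact hv3 χ⟩
    have n₁ : ∑ χ, ((v i χ - c χ) - ε * ev χ₁ χ) * ((v i χ - c χ) - ε * ev χ₁ χ) = 2 := by
      rw [← hn i i₁ r1]
      exact Finset.sum_congr rfl (fun χ _ => by rw [hv1 χ]; ring)
    have n₂ : ∑ χ, ((v i χ - c χ) - ε * ev χ₂ χ) * ((v i χ - c χ) - ε * ev χ₂ χ) = 2 := by
      rw [← hn i i₂ r2]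
      exact Finset.sum_congr rfl (fun χ _ => by rw [hv2 χ]; ring)
    have n₃ : ∑ χ, ((v i χ - c χ) - ε * ev χ₃ χ) * ((v i χ - c χ) - ε * ev χ₃ χ) = 2 := by
      rw [← hn i i₃ r3]
      exact Finset.sum_congr rfl (fun χ _ => by rw [hv3 χ]; ring)
    have o₁ : ∑ χ, ((v i χ - c χ) - ε * ev χ₁ χ) * S χ = 0 := by
      rw [← ho i i₁]
      exact Finset.sum_congr rfl (fun χ _ => by rw [hv1 χ]; ring)
    obtain ⟨a, ha⟩ := extend_point (fun χ => v i χ - c χ) S hS ε hε χ₁ χ₂ χ₃ hχ12 hχ13 hχ23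
      n₁ n₂ n₃ o₁
    exact ⟨a, fun χ => by have := ha χ; linarith⟩
  choose X hX using hall
  refine ⟨ε, c, X, hε, hX, ?_⟩
  intro i j
  constructor
  · intro hij
    by_contra hr'
    have h2 := hn i j hr'
    have h0 : ∑ χ, (v i χ - v j χ) * (v i χ - v j χ) = 0 :=
      Finset.sum_eq_zero (fun χ _ => by rw [hX i χ, hX j χ, hij]; ring)
    rw [h0] at h2
    norm_num at h2
  · intro hij
    apply ev_injective
    funext χ
    have h1 := congrFun (hr i j hij) χ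
    rw [hX i χ, hX j χ] at h1
    have h2 : ε * ev (X i) χ = ε * ev (X j) χ := by linarith
    exact mul_left_cancel₀ hε0 h2

/-- the multiplicity vector of the trivial character of `P` relative to the others -/
theorem a_vector {I : Type*} (r : I → I → Prop) (v : I → ι → ℤ) (v₀ c : ι → ℤ) (ε : ℤ)
    (X : I → ι) (hε : ε = 1 ∨ ε = -1) (hX : ∀ i χ, v i χ = c χ + ε * ev (X i) χ)
    (hXr : ∀ i j, X i = X j ↔ r i j)
    (g1 : ∀ i, ∑ χ, (v₀ χ - v i χ) * (v₀ χ - v i χ) = 4)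
    (g2 : ∀ i j, ¬ r i j → ∑ χ, (v₀ χ - v i χ) * (v i χ - v j χ) = -1)
    (o : ι) (ho0 : v₀ o = 1) (hoi : ∀ i, v i o = 0)
    (T : Finset ι) (hT : ∀ χ ∈ T, ∃ i, X i = χ) (hT5 : 5 ≤ T.card) :
    ∃ (ψ₁ ψ₂ : ι) (δ₁ δ₂ : ℤ), ψ₁ ≠ ψ₂ ∧ ψ₁ ≠ o ∧ ψ₂ ≠ o ∧ (δ₁ = 1 ∨ δ₁ = -1) ∧
      (δ₂ = 1 ∨ δ₂ = -1) ∧ (∀ χ, v₀ χ - c χ = ev o χ + δ₁ * ev ψ₁ χ + δ₂ * ev ψ₂ χ) ∧
      (∀ i, X i ≠ o ∧ X i ≠ ψ₁ ∧ X i ≠ ψ₂) := by
  have hε2 : ε * ε = 1 := by rcases hε with rfl | rfl <;> norm_num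
  have hε0 : ε ≠ 0 := by rcases hε with rfl | rfl <;> norm_num
  -- some exceptional index differs from `o`
  obtain ⟨χa, hχa, χb, hχb, hab⟩ : ∃ χa ∈ T, ∃ χb ∈ T, χa ≠ χb := by
    apply Finset.one_lt_card.mp
    omega
  have hco : c o = 0 := by
    have hex : ∃ i, X i ≠ o := by
      by_cases h : χa = o
      · obtain ⟨i, hi⟩ := hT χb hχb
        exact ⟨i, by rw [hi]; intro h'; exact hab (h.trans h'.symm)⟩
      · obtain ⟨i, hi⟩ := hT χa hχa
        exact ⟨i, by rw [hi]; exact h⟩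
    obtain ⟨i, hi⟩ := hex
    have := hX i o
    rw [hoi i, ev_ne (Ne.symm hi), mul_zero, add_zero] at this
    exact this.symm
  have hXo : ∀ i, X i ≠ o := by
    intro i h
    have := hX i o
    rw [hoi i, hco, h, ev_self, mul_one, zero_add] at this
    exact hε0 this.symm
  set a : ι → ℤ := fun χ => v₀ χ - c χ with ha
  have hao : a o = 1 := by
    show v₀ o - c o = 1
    rw [ho0, hco]; ring
  -- `a` is constant on the exceptional indices
  have hconst : ∀ i j, a (X i) = a (X j) := by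
    intro i j
    by_cases hij : r i j
    · rw [(hXr i j).mpr hij]
    · have hXij : X i ≠ X j := fun h => hij ((hXr i j).mp h)
      have h1 := g2 i j hij
      have h2 : ∀ χ, (v₀ χ - v i χ) * (v i χ - v j χ)
          = ε * (a χ * ev (X i) χ) - ε * (a χ * ev (X j) χ)
            - (ε * ε) * (ev (X i) χ * ev (X i) χ) + (ε * ε) * (ev (X i) χ * ev (X j) χ) := by
        intro χ
        rw [hX i χ, hX j χ]
        show _ = ε * ((v₀ χ - c χ) * ev (X i) χ) - ε * ((v₀ χ - c χ) * ev (X j) χ) - _ + _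
        ring
      rw [Finset.sum_congr rfl (fun χ _ => h2 χ), Finset.sum_add_distrib, Finset.sum_sub_distrib,
        Finset.sum_sub_distrib, ← Finset.mul_sum, ← Finset.mul_sum, ← Finset.mul_sum,
        ← Finset.mul_sum, sum_mul_ev, sum_mul_ev, sum_ev_mul_ev, sum_ev_mul_ev, if_pos rfl,
        if_neg hXij, hε2] at h1
      have h3 : ε * (a (X i) - a (X j)) = 0 := by linarith
      rcases mul_eq_zero.mp h3 with h | h
      · exact absurd h hε0
      · linarith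
  obtain ⟨i₀, hi₀⟩ := hT χa hχa
  set ct := a (X i₀) with hct
  have hnorm : ∑ χ, a χ * a χ = 3 + 2 * ε * ct := by
    have h1 := g1 i₀
    have h2 : ∀ χ, (v₀ χ - v i₀ χ) * (v₀ χ - v i₀ χ)
        = (a χ - ε * ev (X i₀) χ) * (a χ - ε * ev (X i₀) χ) := by
      intro χ
      rw [hX i₀ χ]
      show _ = ((v₀ χ - c χ) - ε * ev (X i₀) χ) * ((v₀ χ - c χ) - ε * ev (X i₀) χ)
      ring
    rw [Finset.sum_congr rfl (fun χ _ => h2 χ), norm_sub_ev a ε hε] at h1
    linarith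
  -- the lower bound for the norm
  have hoT : o ∉ T := by
    intro h
    obtain ⟨i, hi⟩ := hT o h
    exact hXo i hi
  have hlow : 1 + (T.card : ℤ) * (ct * ct) ≤ ∑ χ, a χ * a χ := by
    have h1 : ∑ χ ∈ insert o T, a χ * a χ ≤ ∑ χ, a χ * a χ :=
      Finset.sum_le_sum_of_subset_of_nonneg (Finset.subset_univ _)
        (fun χ _ _ => mul_self_nonneg (a χ))
    rw [Finset.sum_insert hoT, hao] at h1
    have h2 : ∑ χ ∈ T, a χ * a χ = (T.card : ℤ) * (ct * ct) := by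
      have h3 : ∀ χ ∈ T, a χ * a χ = ct * ct := by
        intro χ hχ
        obtain ⟨i, hi⟩ := hT χ hχ
        rw [← hi, hconst i i₀]
      rw [Finset.sum_congr rfl h3, Finset.sum_const, nsmul_eq_mul]
    rw [h2] at h1
    linarith
  have hct0 : ct = 0 := by
    have h5 : (5 : ℤ) ≤ T.card := by exact_mod_cast hT5
    have h6 : 1 + 5 * (ct * ct) ≤ 3 + 2 * ε * ct := by
      have : 5 * (ct * ct) ≤ (T.card : ℤ) * (ct * ct) :=
        mul_le_mul_of_nonneg_right h5 (mul_self_nonneg ct)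
      linarith
    rcases hε with rfl | rfl
    · have hb1 : 0 ≤ ct := by nlinarith
      have hb2 : ct ≤ 0 := by nlinarith
      omega
    · have hb1 : 0 ≤ ct := by nlinarith
      have hb2 : ct ≤ 0 := by nlinarith
      omega
  rw [hct0, mul_zero, add_zero] at hnorm
  -- the two remaining entries
  have hrest : ∑ χ ∈ Finset.univ.erase o, a χ * a χ = 2 := by
    have := Finset.add_sum_erase Finset.univ (fun χ => a χ * a χ) (Finset.mem_univ o)
    beta_reduce at this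
    rw [hao] at this
    linarith
  obtain ⟨ψ₁, hψ₁, hψ₁1, hrest1⟩ := pick_unit' (Finset.univ.erase o) a 2 (by norm_num)
    (by norm_num) hrest
  obtain ⟨ψ₂, hψ₂, hψ₂1, hrest2⟩ := pick_unit' ((Finset.univ.erase o).erase ψ₁) a 1 le_rfl
    (by norm_num) (by rw [hrest1]; norm_num)
  have hz := eq_zero_of_sum_sq_zero _ a (by rw [hrest2]; norm_num)
  have hψ₁o : ψ₁ ≠ o := (Finset.mem_erase.mp hψ₁).1
  have hψ₂1' : ψ₂ ≠ ψ₁ := (Finset.mem_erase.mp hψ₂).1
  have hψ₂o : ψ₂ ≠ o := (Finset.mem_erase.mp (Finset.mem_erase.mp hψ₂).2).1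
  have hδ₁ : a ψ₁ = 1 ∨ a ψ₁ = -1 := by
    have h1 : (a ψ₁ - 1) * (a ψ₁ + 1) = 0 := by linear_combination hψ₁1
    rcases mul_eq_zero.mp h1 with h | h
    · left; omega
    · right; omega
  have hδ₂ : a ψ₂ = 1 ∨ a ψ₂ = -1 := by
    have h1 : (a ψ₂ - 1) * (a ψ₂ + 1) = 0 := by linear_combination hψ₂1
    rcases mul_eq_zero.mp h1 with h | h
    · left; omega
    · right; omega
  have hashape : ∀ χ, a χ = ev o χ + a ψ₁ * ev ψ₁ χ + a ψ₂ * ev ψ₂ χ := by
    intro χ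
    by_cases h0 : χ = o
    · rw [h0, ev_self, ev_ne hψ₁o.symm, ev_ne hψ₂o.symm, hao]; ring
    · by_cases h1 : χ = ψ₁
      · rw [h1, ev_self, ev_ne hψ₁o, ev_ne hψ₂1'.symm]; ring
      · by_cases h2 : χ = ψ₂
        · rw [h2, ev_self, ev_ne hψ₂o, ev_ne hψ₂1']; ring
        · rw [ev_ne h0, ev_ne h1, ev_ne h2]
          rw [hz χ (Finset.mem_erase.mpr ⟨h2, Finset.mem_erase.mpr ⟨h1,
            Finset.mem_erase.mpr ⟨h0, Finset.mem_univ _⟩⟩⟩)]
          ring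
  refine ⟨ψ₁, ψ₂, a ψ₁, a ψ₂, hψ₂1'.symm, hψ₁o, hψ₂o, hδ₁, hδ₂, hashape, ?_⟩
  intro i
  have hai : a (X i) = 0 := by rw [hconst i i₀, ← hct, hct0]
  refine ⟨hXo i, ?_, ?_⟩
  · intro h
    rw [h] at hai
    rcases hδ₁ with h' | h' <;> omega
  · intro h
    rw [h] at hai
    rcases hδ₂ with h' | h' <;> omega

end Cfsg.Agent.Lib.Helper30.Homo
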