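import Mathlib
import Cfsg.Agent.Lib.Helper30.HomoLattice

/-!
# Brauer's theorem on abelian Sylow `p`-subgroups: lattice lemmas for two or more classes
(helper30)
-/

set_option autoImplicit false

namespace Cfsg.Agent.Lib.Helper30.Brm

open Cfsg.Agent.Lib.Helper30.Homo

variable {ι : Type*} [Fintype ι] [DecidableEq ι]

/-- the lattice lemma when there are exactly two classes -/
theorem lattice_two {I : Type*} (r : I → I → Prop) (hsymm : ∀ i j, r i j → r j i)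
    (htrans : ∀ i j k, r i j → r j k → r i k) (v : I → ι → ℤ) (S : ι → ℤ)
    (hS : ∀ χ, 0 < S χ)
    (hr : ∀ i j, r i j → v i = v j)
    (hn : ∀ i j, ¬ r i j → ∑ χ, (v i χ - v j χ) * (v i χ - v j χ) = 2)
    (ho : ∀ i j, ∑ χ, (v i χ - v j χ) * S χ = 0)
    (i₁ i₂ : I) (h12 : ¬ r i₁ i₂) (hall : ∀ i, r i₁ i ∨ r i₂ i) :
    ∃ (ε : ℤ) (c : ι → ℤ) (X : I → ι), (ε = 1 ∨ ε = -1) ∧
      (∀ i χ, v i χ = c χ + ε * ev (X i) χ) ∧ (∀ i j, X i = X j ↔ r i j) := by
  classical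
  obtain ⟨a, b, hab, hd⟩ := eq_ev_sub_ev (fun χ => v i₁ χ - v i₂ χ) S hS (hn i₁ i₂ h12)
    (ho i₁ i₂)
  have hd' : ∀ χ, v i₁ χ - v i₂ χ = ev a χ - ev b χ := fun χ => congrFun hd χ
  refine ⟨1, fun χ => v i₁ χ - ev a χ, fun i => if r i₁ i then a else b, Or.inl rfl, ?_, ?_⟩
  · intro i χ
    beta_reduce
    by_cases h : r i₁ i
    · rw [if_pos h, hr i i₁ (hsymm _ _ h)]
      ring
    · rw [if_neg h]
      have h2 : r i₂ i := (hall i).resolve_left h
      rw [hr i i₂ (hsymm _ _ h2)]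
      have := hd' χ
      linarith
  · intro i j
    beta_reduce
    by_cases hi : r i₁ i
    · by_cases hj : r i₁ j
      · rw [if_pos hi, if_pos hj]
        exact ⟨fun _ => htrans _ _ _ (hsymm _ _ hi) hj, fun _ => rfl⟩
      · rw [if_pos hi, if_neg hj]
        constructor
        · intro h; exact absurd h hab
        · intro h; exact absurd (htrans _ _ _ hi h) hj
    · by_cases hj : r i₁ j
      · rw [if_neg hi, if_pos hj]
        constructor
        · intro h; exact absurd h.symm hab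
        · intro h; exact absurd (htrans _ _ _ hj (hsymm _ _ h)) hi
      · rw [if_neg hi, if_neg hj]
        have h2i : r i₂ i := (hall i).resolve_left hi
        have h2j : r i₂ j := (hall j).resolve_left hj
        exact ⟨fun _ => htrans _ _ _ (hsymm _ _ h2i) h2j, fun _ => rfl⟩

/-- **the lattice lemma**, for an equivalence relation with at least two classes -/
theorem lattice_general {I : Type*} (r : I → I → Prop) (hsymm : ∀ i j, r i j → r j i)
    (htrans : ∀ i j k, r i j → r j k → r i k) (v : I → ι → ℤ) (S : ι → ℤ)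
    (hS : ∀ χ, 0 < S χ)
    (hr : ∀ i j, r i j → v i = v j)
    (hn : ∀ i j, ¬ r i j → ∑ χ, (v i χ - v j χ) * (v i χ - v j χ) = 2)
    (ho : ∀ i j, ∑ χ, (v i χ - v j χ) * S χ = 0)
    (i₁ i₂ : I) (h12 : ¬ r i₁ i₂) :
    ∃ (ε : ℤ) (c : ι → ℤ) (X : I → ι), (ε = 1 ∨ ε = -1) ∧
      (∀ i χ, v i χ = c χ + ε * ev (X i) χ) ∧ (∀ i j, X i = X j ↔ r i j) := by
  by_cases h3 : ∃ i₃, ¬ r i₁ i₃ ∧ ¬ r i₂ i₃
  · obtain ⟨i₃, h13, h23⟩ := h3
    exact lattice_structure r v S hS hr hn ho i₁ i₂ i₃ h12 h13 h23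
  · push Not at h3
    apply lattice_two r hsymm htrans v S hS hr hn ho i₁ i₂ h12
    intro i
    by_cases h : r i₁ i
    · exact Or.inl h
    · exact Or.inr (h3 i h)

/-- the vector `a = v₀ - c` is constant on the exceptional coordinates -/
theorem a_const {I : Type*} (r : I → I → Prop) (v : I → ι → ℤ) (v₀ c : ι → ℤ) (ε : ℤ)
    (X : I → ι) (hε : ε = 1 ∨ ε = -1) (hX : ∀ i χ, v i χ = c χ + ε * ev (X i) χ)
    (hXr : ∀ i j, X i = X j ↔ r i j)
    (g2 : ∀ i j, ¬ r i j → ∑ χ, (v₀ χ - v i χ) * (v i χ - v j χ) = -1)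
    (i j : I) (hij : ¬ r i j) : v₀ (X i) - c (X i) = v₀ (X j) - c (X j) := by
  have hne : X i ≠ X j := fun h => hij ((hXr i j).mp h)
  have h := g2 i j hij
  have e : ∑ χ, (v₀ χ - v i χ) * (v i χ - v j χ)
      = ε * (∑ χ, (v₀ χ - c χ) * ev (X i) χ - ∑ χ, (v₀ χ - c χ) * ev (X j) χ)
        - ε * ε * (∑ χ, ev (X i) χ * ev (X i) χ - ∑ χ, ev (X i) χ * ev (X j) χ) := by
    rw [← Finset.sum_sub_distrib, ← Finset.sum_sub_distrib, Finset.mul_sum, Finset.mul_sum,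
      ← Finset.sum_sub_distrib]
    apply Finset.sum_congr rfl
    intro χ _
    rw [hX i, hX j]
    ring
  rw [e, sum_mul_ev, sum_mul_ev, sum_ev_mul_ev, sum_ev_mul_ev, if_pos rfl, if_neg hne] at h
  have hε2 : ε * ε = 1 := by rcases hε with h | h <;> rw [h] <;> norm_num
  rw [hε2] at h
  have h2 : ε * (v₀ (X i) - c (X i) - (v₀ (X j) - c (X j))) = 0 := by linarith
  have hε0 : ε ≠ 0 := by rcases hε with h | h <;> rw [h] <;> norm_num
  rcases mul_eq_zero.mp h2 with h3 | h3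
  · exact absurd h3 hε0
  · linarith

/-- the norm of the vector `a = v₀ - c` -/
theorem a_norm {I : Type*} (v : I → ι → ℤ) (v₀ c : ι → ℤ) (ε : ℤ)
    (X : I → ι) (hε : ε = 1 ∨ ε = -1) (hX : ∀ i χ, v i χ = c χ + ε * ev (X i) χ)
    (n : ℤ) (i : I) (g1 : ∑ χ, (v₀ χ - v i χ) * (v₀ χ - v i χ) = n) :
    ∑ χ, (v₀ χ - c χ) * (v₀ χ - c χ) = n - 1 + 2 * ε * (v₀ (X i) - c (X i)) := by
  have e : ∑ χ, (v₀ χ - v i χ) * (v₀ χ - v i χ)
      = ∑ χ, (v₀ χ - c χ) * (v₀ χ - c χ) - 2 * ε * ∑ χ, (v₀ χ - c χ) * ev (X i) χ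
        + ε * ε * ∑ χ, ev (X i) χ * ev (X i) χ := by
    rw [Finset.mul_sum, Finset.mul_sum, ← Finset.sum_sub_distrib, ← Finset.sum_add_distrib]
    apply Finset.sum_congr rfl
    intro χ _
    rw [hX i]
    ring
  rw [e, sum_mul_ev, sum_ev_mul_ev, if_pos rfl] at g1
  have hε2 : ε * ε = 1 := by rcases hε with h | h <;> rw [h] <;> norm_num
  rw [hε2] at g1
  linarith

end Cfsg.Agent.Lib.Helper30.Brm
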