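import Mathlib
import Cfsg.Agent.Lib.Helper30.BrmGram
import Cfsg.Agent.Lib.Helper30.BrmLattice

/-!
# Brauer's theorem on abelian Sylow `p`-subgroups with cyclic semiregular `N/C`: the structure of
the principal block restricted to `P` (helper30)
-/

set_option autoImplicit false
set_option linter.unusedSectionVars false

namespace Cfsg.Agent.Lib.Helper30.Brm

open scoped ComplexConjugate Classical
open Cfsg.Agent.Lib.Helper34 Cfsg.Agent.Lib.Helper30.Homo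

/-- the character-theoretic data on the abelian group `A = P` -/
structure CData (A : Type*) [Group A] [Fintype A] (ι : Type*) [Fintype ι] where
  σ : MulAut A
  m : ℕ
  F : ι → A → ℂ
  S : ι → ℤ
  o : ι
  hm : 1 < m
  hcomm : ∀ a b : A, a * b = b * a
  hσm : σ ^ m = 1
  hfree : ∀ k : ℕ, 0 < k → k < m → ∀ u : A, u ≠ 1 → (σ ^ k) u ≠ u
  hS : ∀ χ, 0 < S χ
  hF1 : ∀ χ, F χ 1 = S χ
  hFσ : ∀ χ u, F χ (σ u) = F χ u
  hFo : ∀ u, F o u = 1
  hint : ∀ χ (φ : A →* ℂˣ),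
    ∃ n : ℤ, (Fintype.card A : ℂ)⁻¹ * ∑ u, F χ u * conj (φ u : ℂ) = n
  hK : ∀ u v : A, (u ≠ 1 ∨ v ≠ 1) →
    ∑ χ, F χ u * conj (F χ v) = (Fintype.card A : ℂ) * RfunM σ m u v
  hcard : m + 1 < Fintype.card A

section

variable {A : Type*} [Group A] [Fintype A] {ι : Type*} [Fintype ι] (D : CData A ι)
  [Fintype (A →* ℂˣ)]

theorem twist_twist (τ₁ τ₂ : MulAut A) (φ : A →* ℂˣ) :
    twist τ₁ (twist τ₂ φ) = twist (τ₂ * τ₁) φ := by
  ext u
  simp only [twist_apply, MulAut.mul_apply]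

theorem twist_one_aut (φ : A →* ℂˣ) : twist (1 : MulAut A) φ = φ := by
  ext u
  simp only [twist_apply, MulAut.one_apply]

/-- the relation "same orbit" on linear characters -/
def CData.rel (φ ψ : A →* ℂˣ) : Prop := ∃ k : ℕ, φ = twist (D.σ ^ k) ψ

theorem CData.rel_refl (φ : A →* ℂˣ) : D.rel φ φ := ⟨0, by rw [pow_zero, twist_one_aut]⟩

theorem CData.rel_trans {φ ψ θ : A →* ℂˣ} (h1 : D.rel φ ψ) (h2 : D.rel ψ θ) : D.rel φ θ := by
  obtain ⟨k, hk⟩ := h1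
  obtain ⟨j, hj⟩ := h2
  exact ⟨j + k, by rw [hk, hj, twist_twist, ← pow_add]⟩

theorem CData.rel_symm {φ ψ : A →* ℂˣ} (h : D.rel φ ψ) : D.rel ψ φ := by
  obtain ⟨k, hk⟩ := h
  refine ⟨k * (D.m - 1), ?_⟩
  rw [hk, twist_twist, ← pow_add]
  have h1 : k + k * (D.m - 1) = D.m * k := by
    have := D.hm
    obtain ⟨n, hn⟩ : ∃ n, D.m = n + 1 := ⟨D.m - 1, by omega⟩
    rw [hn]
    simp only [Nat.add_sub_cancel]
    ring
  rw [h1, pow_mul, D.hσm, one_pow, twist_one_aut]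

theorem CData.rel_lt {φ ψ : A →* ℂˣ} (h : D.rel φ ψ) :
    ∃ k : ℕ, k < D.m ∧ φ = twist (D.σ ^ k) ψ := by
  obtain ⟨k, hk⟩ := h
  refine ⟨k % D.m, Nat.mod_lt _ (by have := D.hm; omega), ?_⟩
  rw [hk, pow_eq_pow_mod k D.hσm]

theorem CData.twist_pow_ne_self {k : ℕ} (hk0 : 0 < k) (hkm : k < D.m) {φ : A →* ℂˣ}
    (hφ : φ ≠ 1) : twist (D.σ ^ k) φ ≠ φ := by
  intro h
  exact hφ (eq_one_of_twist_eq_self (D.σ ^ k) D.hcomm (D.hfree k hk0 hkm) φ h)

theorem CData.not_rel_one {φ : A →* ℂˣ} (hφ : φ ≠ 1) : ¬ D.rel 1 φ := by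
  rintro ⟨k, hk⟩
  apply hφ
  apply twist_injective (D.σ ^ k)
  rw [← hk, twist_one]

theorem CData.not_rel_one' {φ : A →* ℂˣ} (hφ : φ ≠ 1) : ¬ D.rel φ 1 :=
  fun h => D.not_rel_one hφ (D.rel_symm h)

theorem CData.ne_one_of_rel {φ ψ : A →* ℂˣ} (hψ : ψ ≠ 1) (h : D.rel φ ψ) : φ ≠ 1 := by
  intro h1
  rw [h1] at h
  exact D.not_rel_one hψ h

theorem CData.NfunM_self {φ : A →* ℂˣ} (hφ : φ ≠ 1) : NfunM D.σ D.m φ φ = 1 := by
  unfold NfunM
  rw [Finset.sum_eq_single 0]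
  · rw [pow_zero, twist_one_aut, if_pos rfl]
  · intro k hk hk0
    rw [if_neg]
    intro h
    exact D.twist_pow_ne_self (Nat.pos_of_ne_zero hk0) (Finset.mem_range.mp hk) hφ h.symm
  · intro h
    exfalso
    apply h
    rw [Finset.mem_range]
    have := D.hm
    omega

theorem CData.NfunM_of_not_rel {φ ψ : A →* ℂˣ} (h : ¬ D.rel φ ψ) : NfunM D.σ D.m φ ψ = 0 := by
  unfold NfunM
  apply Finset.sum_eq_zero
  intro k _
  rw [if_neg]
  intro hk
  exact h ⟨k, hk⟩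

theorem CData.NfunM_one_one : NfunM D.σ D.m (1 : A →* ℂˣ) 1 = D.m := by
  unfold NfunM
  simp [twist_one]

theorem CData.hFσ_pow (χ : ι) (k : ℕ) (u : A) : D.F χ ((D.σ ^ k) u) = D.F χ u := by
  induction k generalizing u with
  | zero => simp
  | succ k ih =>
    rw [pow_succ, MulAut.mul_apply, ih, D.hFσ]

/-- multiplicities are invariant under the dual action -/
theorem CData.mult_twist (χ : ι) (k : ℕ) (φ : A →* ℂˣ) :
    mult D.F χ (twist (D.σ ^ k) φ) = mult D.F χ φ := by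
  unfold mult
  congr 1
  rw [← Equiv.sum_comp (D.σ ^ k).toEquiv (fun u => D.F χ u * conj (φ u : ℂ))]
  apply Finset.sum_congr rfl
  intro u _
  rw [twist_apply]
  show _ = D.F χ ((D.σ ^ k) u) * conj (φ ((D.σ ^ k) u) : ℂ)
  rw [D.hFσ_pow]

theorem CData.mult_rel (χ : ι) {φ ψ : A →* ℂˣ} (h : D.rel φ ψ) :
    mult D.F χ φ = mult D.F χ ψ := by
  obtain ⟨k, hk⟩ := h
  rw [hk, D.mult_twist]

/-- the integer multiplicities -/
noncomputable def CData.mm (χ : ι) (φ : A →* ℂˣ) : ℤ := Classical.choose (D.hint χ φ)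

theorem CData.mult_eq (χ : ι) (φ : A →* ℂˣ) : mult D.F χ φ = (D.mm χ φ : ℂ) :=
  Classical.choose_spec (D.hint χ φ)

theorem CData.mm_rel (χ : ι) {φ ψ : A →* ℂˣ} (h : D.rel φ ψ) : D.mm χ φ = D.mm χ ψ := by
  have := D.mult_rel χ h
  rw [D.mult_eq, D.mult_eq] at this
  exact_mod_cast this

/-- Gram numbers -/
noncomputable def CData.G (φ ψ : A →* ℂˣ) : ℤ := ∑ χ, D.mm χ φ * D.mm χ ψ

/-- the constant part of the Gram matrix -/
noncomputable def CData.w₀ : ℂ :=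
  ((∑ χ, D.F χ 1 * conj (D.F χ 1)) - D.m * (Fintype.card A : ℂ)) / (Fintype.card A : ℂ) ^ 2

theorem CData.G_cast (φ ψ : A →* ℂˣ) : (D.G φ ψ : ℂ) = D.w₀ + NfunM D.σ D.m φ ψ := by
  unfold CData.w₀
  rw [← gramM D.σ D.m D.F D.hK φ ψ]
  unfold CData.G
  push_cast
  apply Finset.sum_congr rfl
  intro χ _
  rw [D.mult_eq, D.mult_eq, map_intCast]

theorem CData.sum_sub_mul_sub (φ₁ φ₂ φ₃ φ₄ : A →* ℂˣ) :
    ∑ χ, (D.mm χ φ₁ - D.mm χ φ₂) * (D.mm χ φ₃ - D.mm χ φ₄)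
      = D.G φ₁ φ₃ - D.G φ₁ φ₄ - D.G φ₂ φ₃ + D.G φ₂ φ₄ := by
  unfold CData.G
  rw [← Finset.sum_sub_distrib, ← Finset.sum_sub_distrib, ← Finset.sum_add_distrib]
  apply Finset.sum_congr rfl
  intro χ _
  ring

/-- inner products with the degree vector -/
noncomputable def CData.L (φ : A →* ℂˣ) : ℤ := ∑ χ, D.mm χ φ * D.S χ

theorem CData.L_cast (φ : A →* ℂˣ) :
    (D.L φ : ℂ) = (∑ χ, D.F χ 1 * conj (D.F χ 1)) / (Fintype.card A : ℂ) := by
  rw [← sum_mult_degreeM D.σ D.m D.F D.hK φ]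
  unfold CData.L
  push_cast
  apply Finset.sum_congr rfl
  intro χ _
  rw [D.mult_eq, D.hF1, map_intCast]

theorem CData.L_eq (φ ψ : A →* ℂˣ) : D.L φ = D.L ψ := by
  have h : (D.L φ : ℂ) = (D.L ψ : ℂ) := by rw [D.L_cast, D.L_cast]
  exact_mod_cast h

theorem CData.sum_sub_mul_S (φ ψ : A →* ℂˣ) :
    ∑ χ, (D.mm χ φ - D.mm χ ψ) * D.S χ = 0 := by
  have h := D.L_eq φ ψ
  unfold CData.L at h
  rw [← sub_eq_zero, ← Finset.sum_sub_distrib] at h
  rw [← h]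
  apply Finset.sum_congr rfl
  intro χ _
  ring

theorem CData.mult_o (φ : A →* ℂˣ) :
    mult D.F D.o φ = if φ = 1 then 1 else 0 := by
  unfold mult
  have h1 : ∑ u, D.F D.o u * conj (φ u : ℂ) = ∑ u, conj (φ u : ℂ) * ((1 : A →* ℂˣ) u : ℂ) := by
    apply Finset.sum_congr rfl
    intro u _
    rw [D.hFo]
    simp
  rw [h1, sum_conj_mul_dual]
  have hA : (Fintype.card A : ℂ) ≠ 0 := by exact_mod_cast Fintype.card_ne_zero
  by_cases h : φ = 1
  · rw [if_pos h, if_pos h]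
    field_simp
  · rw [if_neg h, if_neg h, mul_zero]

theorem CData.mm_o_one : D.mm D.o 1 = 1 := by
  have h := D.mult_o 1
  rw [if_pos rfl, D.mult_eq] at h
  exact_mod_cast h

theorem CData.mm_o_ne {φ : A →* ℂˣ} (hφ : φ ≠ 1) : D.mm D.o φ = 0 := by
  have h := D.mult_o φ
  rw [if_neg hφ, D.mult_eq] at h
  exact_mod_cast h

/-- the class of a linear character -/
noncomputable def CData.cls (φ : A →* ℂˣ) : Finset (A →* ℂˣ) :=
  (Finset.range D.m).image (fun k => twist (D.σ ^ k) φ)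

theorem CData.mem_cls_iff {φ ψ : A →* ℂˣ} : ψ ∈ D.cls φ ↔ D.rel ψ φ := by
  unfold CData.cls
  rw [Finset.mem_image]
  constructor
  · rintro ⟨k, _, hk⟩
    exact ⟨k, hk.symm⟩
  · intro h
    obtain ⟨k, hk, hk2⟩ := D.rel_lt h
    exact ⟨k, Finset.mem_range.mpr hk, hk2.symm⟩

theorem CData.card_cls_le (φ : A →* ℂˣ) : (D.cls φ).card ≤ D.m := by
  unfold CData.cls
  calc ((Finset.range D.m).image (fun k => twist (D.σ ^ k) φ)).card
      ≤ (Finset.range D.m).card := Finset.card_image_le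
    _ = D.m := Finset.card_range _

theorem CData.card_cls {φ : A →* ℂˣ} (hφ : φ ≠ 1) : (D.cls φ).card = D.m := by
  unfold CData.cls
  rw [Finset.card_image_of_injOn, Finset.card_range]
  intro k hk j hj hkj
  simp only [Finset.coe_range, Set.mem_Iio] at hk hj
  have hkj' : twist (D.σ ^ k) φ = twist (D.σ ^ j) φ := hkj
  by_contra hne
  rcases Nat.lt_or_gt_of_ne hne with hlt | hlt
  · have h1 : twist (D.σ ^ j) φ = twist (D.σ ^ k) (twist (D.σ ^ (j - k)) φ) := by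
      rw [twist_twist, ← pow_add]
      congr 2
      omega
    rw [h1] at hkj'
    have h2 := twist_injective (D.σ ^ k) hkj'
    exact D.twist_pow_ne_self (by omega) (by omega) hφ h2.symm
  · have h1 : twist (D.σ ^ k) φ = twist (D.σ ^ j) (twist (D.σ ^ (k - j)) φ) := by
      rw [twist_twist, ← pow_add]
      congr 2
      omega
    rw [h1] at hkj'
    have h2 := twist_injective (D.σ ^ j) hkj'
    exact D.twist_pow_ne_self (by omega) (by omega) hφ h2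

include D in
theorem CData.exists_notMem (s : Finset (A →* ℂˣ)) (hs : s.card < Fintype.card A) :
    ∃ φ, φ ∉ s := by
  have h : s.card < (Finset.univ : Finset (A →* ℂˣ)).card := by
    rw [Finset.card_univ, card_dual D.hcomm]
    exact hs
  obtain ⟨φ, _, hφ⟩ := Finset.exists_mem_notMem_of_card_lt_card h
  exact ⟨φ, hφ⟩

theorem CData.exists_two :
    ∃ φ₁ φ₂ : A →* ℂˣ, φ₁ ≠ 1 ∧ φ₂ ≠ 1 ∧ ¬ D.rel φ₁ φ₂ := by
  have hc := D.hcard
  have hm := D.hm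
  obtain ⟨φ₁, h1⟩ := D.exists_notMem {1} (by rw [Finset.card_singleton]; omega)
  obtain ⟨φ₂, h2⟩ := D.exists_notMem ({1} ∪ D.cls φ₁) (by
    have := Finset.card_union_le ({1} : Finset (A →* ℂˣ)) (D.cls φ₁)
    have := D.card_cls_le φ₁
    rw [Finset.card_singleton] at *
    omega)
  simp only [Finset.mem_union, Finset.mem_singleton, not_or] at h1 h2
  refine ⟨φ₁, φ₂, h1, h2.1, ?_⟩
  intro h
  exact h2.2 (D.mem_cls_iff.mpr (D.rel_symm h))

/-- integer Gram values -/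
theorem CData.G_self_sub {φ ψ : A →* ℂˣ} (hφ : φ ≠ 1) (h : ¬ D.rel φ ψ) :
    D.G φ φ = D.G φ ψ + 1 := by
  have h1 : (D.G φ φ : ℂ) = (D.G φ ψ : ℂ) + 1 := by
    rw [D.G_cast, D.G_cast, D.NfunM_self hφ, D.NfunM_of_not_rel h]
    ring
  exact_mod_cast h1

theorem CData.G_one_sub {φ ψ : A →* ℂˣ} (h : ¬ D.rel φ ψ) :
    D.G 1 1 = D.G φ ψ + D.m := by
  have h1 : (D.G 1 1 : ℂ) = (D.G φ ψ : ℂ) + D.m := by
    rw [D.G_cast, D.G_cast, D.NfunM_one_one, D.NfunM_of_not_rel h]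
    ring
  exact_mod_cast h1

theorem CData.G_not_rel {φ ψ φ' ψ' : A →* ℂˣ} (h : ¬ D.rel φ ψ) (h' : ¬ D.rel φ' ψ') :
    D.G φ ψ = D.G φ' ψ' := by
  have h1 : (D.G φ ψ : ℂ) = (D.G φ' ψ' : ℂ) := by
    rw [D.G_cast, D.G_cast, D.NfunM_of_not_rel h, D.NfunM_of_not_rel h']
  exact_mod_cast h1

theorem CData.G_comm (φ ψ : A →* ℂˣ) : D.G φ ψ = D.G ψ φ := by
  unfold CData.G
  apply Finset.sum_congr rfl
  intro χ _
  ring

end

end Cfsg.Agent.Lib.Helper30.Brm
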