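import Mathlib
import Cfsg.Agent.Lib.Helper30.BrmStruct

/-!
# Brauer's theorem on abelian Sylow `p`-subgroups with cyclic semiregular `N/C`: solving the Gram
matrix (helper30)
-/

set_option autoImplicit false
set_option linter.unusedSectionVars false

namespace Cfsg.Agent.Lib.Helper30.Brm

open scoped ComplexConjugate Classical
open Cfsg.Agent.Lib.Helper34 Cfsg.Agent.Lib.Helper30.Homo

section

variable {A : Type*} [Group A] [Fintype A] {ι : Type*} [Fintype ι] (D : CData A ι)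
  [Fintype (A →* ℂˣ)]

/-- the solution of the Gram matrix -/
structure CData.Sol where
  ε : ℤ
  c : ι → ℤ
  X : (A →* ℂˣ) → ι
  d : ℤ
  hε : ε = 1 ∨ ε = -1
  hmv : ∀ φ, φ ≠ 1 → ∀ χ, D.mm χ φ = c χ + ε * ev (X φ) χ
  hX : ∀ φ ψ, φ ≠ 1 → ψ ≠ 1 → (X φ = X ψ ↔ D.rel φ ψ)
  hd : ∀ φ, φ ≠ 1 → D.mm (X φ) 1 - c (X φ) = d
  hXo : ∀ φ, φ ≠ 1 → X φ ≠ D.o
  hao : D.mm D.o 1 - c D.o = 1
  hnorm : ∑ χ, (D.mm χ 1 - c χ) * (D.mm χ 1 - c χ) = D.m + 2 * ε * d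
  hdeg : ∀ φ ψ, φ ≠ 1 → ψ ≠ 1 → D.S (X φ) = D.S (X ψ)

theorem CData.exists_sol : Nonempty D.Sol := by
  obtain ⟨φ₁, φ₂, h1, h2, h12⟩ := D.exists_two
  let I := {φ : A →* ℂˣ // φ ≠ 1}
  let r : I → I → Prop := fun i j => D.rel i.1 j.1
  let v : I → ι → ℤ := fun i χ => D.mm χ i.1
  have hr : ∀ i j, r i j → v i = v j := by
    intro i j h
    funext χ
    exact D.mm_rel χ h
  have hn : ∀ i j, ¬ r i j → ∑ χ, (v i χ - v j χ) * (v i χ - v j χ) = 2 := by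
    intro i j h
    show ∑ χ, (D.mm χ i.1 - D.mm χ j.1) * (D.mm χ i.1 - D.mm χ j.1) = 2
    rw [D.sum_sub_mul_sub]
    have e1 := D.G_self_sub i.2 h
    have h' : ¬ D.rel j.1 i.1 := fun hh => h (D.rel_symm hh)
    have e2 := D.G_self_sub j.2 h'
    have e3 := D.G_comm i.1 j.1
    omega
  have ho : ∀ i j, ∑ χ, (v i χ - v j χ) * D.S χ = 0 := fun i j => D.sum_sub_mul_S i.1 j.1
  obtain ⟨ε, c, X, hε, hX, hXr⟩ := lattice_general r (fun i j h => D.rel_symm h)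
    (fun i j k h1 h2 => D.rel_trans h1 h2) v D.S D.hS hr hn ho ⟨φ₁, h1⟩ ⟨φ₂, h2⟩ h12
  let v₀ : ι → ℤ := fun χ => D.mm χ 1
  have g1 : ∀ i, ∑ χ, (v₀ χ - v i χ) * (v₀ χ - v i χ) = (D.m : ℤ) + 1 := by
    intro i
    show ∑ χ, (D.mm χ 1 - D.mm χ i.1) * (D.mm χ 1 - D.mm χ i.1) = (D.m : ℤ) + 1
    rw [D.sum_sub_mul_sub]
    have hn1 : ¬ D.rel 1 i.1 := D.not_rel_one i.2
    have hn2 : ¬ D.rel i.1 1 := D.not_rel_one' i.2
    have e1 := D.G_one_sub hn1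
    have e2 := D.G_self_sub i.2 hn2
    have e3 := D.G_comm 1 i.1
    omega
  have g2 : ∀ i j, ¬ r i j → ∑ χ, (v₀ χ - v i χ) * (v i χ - v j χ) = -1 := by
    intro i j h
    show ∑ χ, (D.mm χ 1 - D.mm χ i.1) * (D.mm χ i.1 - D.mm χ j.1) = -1
    rw [D.sum_sub_mul_sub]
    have hn1 : ¬ D.rel 1 i.1 := D.not_rel_one i.2
    have hn2 : ¬ D.rel 1 j.1 := D.not_rel_one j.2
    have e1 := D.G_not_rel hn1 hn2
    have e2 := D.G_self_sub i.2 h
    omega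
  have hε0 : ε ≠ 0 := by rcases hε with h | h <;> rw [h] <;> norm_num
  -- every index has an unrelated one
  have hunrel : ∀ i : I, ∃ j : I, ¬ r i j := by
    intro i
    by_cases h : r i ⟨φ₁, h1⟩
    · refine ⟨⟨φ₂, h2⟩, fun hh => h12 ?_⟩
      exact D.rel_trans (D.rel_symm h) hh
    · exact ⟨_, h⟩
  -- the constant `d`
  have hconst : ∀ i j : I, v₀ (X i) - c (X i) = v₀ (X j) - c (X j) := by
    intro i j
    by_cases hij : r i j
    · rw [(hXr i j).mpr hij]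
    · exact a_const r v v₀ c ε X hε hX hXr g2 i j hij
  -- the trivial character
  have hco : c D.o = 0 ∧ ∀ i : I, X i ≠ D.o := by
    have hz : ∀ i : I, c D.o + ε * ev (X i) D.o = 0 := by
      intro i
      rw [← hX i D.o]
      exact D.mm_o_ne i.2
    have hc0 : c D.o = 0 := by
      have hne : X ⟨φ₁, h1⟩ ≠ X ⟨φ₂, h2⟩ := fun h => h12 ((hXr _ _).mp h)
      by_cases ha : X ⟨φ₁, h1⟩ = D.o
      · have hb : D.o ≠ X ⟨φ₂, h2⟩ := fun h => hne (ha.trans h)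
        have := hz ⟨φ₂, h2⟩
        rw [ev_ne hb] at this
        linarith
      · have := hz ⟨φ₁, h1⟩
        rw [ev_ne (fun h => ha h.symm)] at this
        linarith
    refine ⟨hc0, ?_⟩
    intro i hi
    have := hz i
    rw [hc0, hi, ev_self] at this
    apply hε0
    linarith
  have hdegI : ∀ i j : I, D.S (X i) = D.S (X j) := by
    intro i j
    have h := ho i j
    have e : ∑ χ, (v i χ - v j χ) * D.S χ
        = ε * (∑ χ, ev (X i) χ * D.S χ - ∑ χ, ev (X j) χ * D.S χ) := by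
      rw [← Finset.sum_sub_distrib, Finset.mul_sum]
      apply Finset.sum_congr rfl
      intro χ _
      rw [hX i, hX j]
      ring
    rw [e, sum_ev_mul, sum_ev_mul] at h
    rcases mul_eq_zero.mp h with h | h
    · exact absurd h hε0
    · omega
  have hnormI := a_norm v v₀ c ε X hε hX ((D.m : ℤ) + 1) ⟨φ₁, h1⟩ (g1 _)
  refine ⟨{ ε := ε, c := c,
            X := fun φ => if h : φ ≠ 1 then X ⟨φ, h⟩ else D.o,
            d := v₀ (X ⟨φ₁, h1⟩) - c (X ⟨φ₁, h1⟩),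
            hε := hε, hmv := ?_, hX := ?_, hd := ?_, hXo := ?_, hao := ?_, hnorm := ?_,
            hdeg := ?_ }⟩
  · intro φ hφ χ
    rw [dif_pos hφ]
    exact hX ⟨φ, hφ⟩ χ
  · intro φ ψ hφ hψ
    rw [dif_pos hφ, dif_pos hψ]
    exact hXr ⟨φ, hφ⟩ ⟨ψ, hψ⟩
  · intro φ hφ
    rw [dif_pos hφ]
    exact hconst ⟨φ, hφ⟩ ⟨φ₁, h1⟩
  · intro φ hφ
    rw [dif_pos hφ]
    exact hco.2 ⟨φ, hφ⟩
  · rw [hco.1, D.mm_o_one]
    ring
  · rw [hnormI]
    ring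
  · intro φ ψ hφ hψ
    rw [dif_pos hφ, dif_pos hψ]
    exact hdegI ⟨φ, hφ⟩ ⟨ψ, hψ⟩

end

end Cfsg.Agent.Lib.Helper30.Brm
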