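import Mathlib
import Cfsg.Agent.Lib.Helper30.HomoGram
import Cfsg.Agent.Lib.Helper30.HomoLattice

/-!
# Brauer's theorem on homocyclic Sylow 2-subgroups: the structure of the principal block
restricted to `P` (helper30)
-/

set_option autoImplicit false
set_option linter.unusedSectionVars false

namespace Cfsg.Agent.Lib.Helper30.Homo

open scoped ComplexConjugate Classical
open Cfsg.Agent.Lib.Helper34

/-- the character-theoretic data on the abelian group `A = P` -/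
structure CharData (A : Type*) [Group A] [Fintype A] (ι : Type*) [Fintype ι] where
  σ : MulAut A
  F : ι → A → ℂ
  S : ι → ℤ
  o : ι
  w : A
  hcomm : ∀ a b : A, a * b = b * a
  hσ3 : ∀ u, σ (σ (σ u)) = u
  hfree : ∀ u, u ≠ 1 → σ u ≠ u
  hS : ∀ χ, 0 < S χ
  hF1 : ∀ χ, F χ 1 = S χ
  hFσ : ∀ χ u, F χ (σ u) = F χ u
  hFo : ∀ u, F o u = 1
  hint : ∀ χ (φ : A →* ℂˣ),
    ∃ n : ℤ, (Fintype.card A : ℂ)⁻¹ * ∑ u, F χ u * conj (φ u : ℂ) = n
  hK : ∀ u v : A, (u ≠ 1 ∨ v ≠ 1) →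
    ∑ χ, F χ u * conj (F χ v) = (Fintype.card A : ℂ) * Rfun σ u v
  hw : orderOf w = 4
  hE2 : ∑ χ, F χ (w ^ 2) * F χ (w ^ 2) * conj (F χ w) / F χ 1 = 0
  h16 : 16 ∣ Fintype.card A

section

variable {A : Type*} [Group A] [Fintype A] {ι : Type*} [Fintype ι] (D : CharData A ι)
  [Fintype (A →* ℂˣ)]

theorem CharData.twist3 (φ : A →* ℂˣ) : twist D.σ (twist D.σ (twist D.σ φ)) = φ := by
  ext u
  simp only [twist_apply, D.hσ3]

/-- the relation "same orbit" on linear characters -/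
def CharData.rel (φ ψ : A →* ℂˣ) : Prop :=
  φ = ψ ∨ φ = twist D.σ ψ ∨ φ = twist D.σ (twist D.σ ψ)

theorem CharData.rel_symm {φ ψ : A →* ℂˣ} (h : D.rel φ ψ) : D.rel ψ φ := by
  rcases h with h | h | h
  · exact Or.inl h.symm
  · right; right
    rw [h, D.twist3]
  · right; left
    rw [h, D.twist3]

theorem CharData.twist_ne_self {φ : A →* ℂˣ} (hφ : φ ≠ 1) : φ ≠ twist D.σ φ := by
  intro h
  exact hφ (eq_one_of_twist_eq_self D.σ D.hcomm D.hfree φ h.symm)

theorem CharData.twist2_ne_self {φ : A →* ℂˣ} (hφ : φ ≠ 1) :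
    φ ≠ twist D.σ (twist D.σ φ) := by
  intro h
  apply D.twist_ne_self hφ
  have := congrArg (twist D.σ) h
  rw [D.twist3] at this
  exact this.symm

theorem CharData.twist_ne_one {φ : A →* ℂˣ} (hφ : φ ≠ 1) : twist D.σ φ ≠ 1 := by
  intro h
  apply hφ
  apply twist_injective D.σ
  rw [h, twist_one]

theorem CharData.Nfun_self {φ : A →* ℂˣ} (hφ : φ ≠ 1) : Nfun D.σ φ φ = 1 := by
  unfold Nfun
  rw [if_pos rfl, if_neg (D.twist_ne_self hφ), if_neg (D.twist2_ne_self hφ)]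
  ring

theorem CharData.Nfun_of_not_rel {φ ψ : A →* ℂˣ} (h : ¬ D.rel φ ψ) : Nfun D.σ φ ψ = 0 := by
  unfold Nfun
  unfold CharData.rel at h
  push Not at h
  rw [if_neg h.1, if_neg h.2.1, if_neg h.2.2]
  ring

theorem CharData.Nfun_one_one : Nfun D.σ (1 : A →* ℂˣ) 1 = 3 := by
  unfold Nfun
  rw [twist_one, twist_one, if_pos rfl]
  ring

theorem CharData.not_rel_one {φ : A →* ℂˣ} (hφ : φ ≠ 1) : ¬ D.rel 1 φ := by
  intro h
  rcases h with h | h | h
  · exact hφ h.symm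
  · exact D.twist_ne_one hφ h.symm
  · exact D.twist_ne_one (D.twist_ne_one hφ) h.symm

theorem CharData.not_rel_one' {φ : A →* ℂˣ} (hφ : φ ≠ 1) : ¬ D.rel φ 1 :=
  fun h => D.not_rel_one hφ (D.rel_symm h)

/-- multiplicities are invariant under the dual action -/
theorem CharData.mult_twist (χ : ι) (φ : A →* ℂˣ) :
    mult D.F χ (twist D.σ φ) = mult D.F χ φ := by
  unfold mult
  congr 1
  rw [← Equiv.sum_comp D.σ.toEquiv (fun u => D.F χ u * conj (φ u : ℂ))]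
  apply Finset.sum_congr rfl
  intro u _
  rw [twist_apply]
  show _ = D.F χ (D.σ u) * conj (φ (D.σ u) : ℂ)
  rw [D.hFσ]

theorem CharData.mult_rel (χ : ι) {φ ψ : A →* ℂˣ} (h : D.rel φ ψ) :
    mult D.F χ φ = mult D.F χ ψ := by
  rcases h with h | h | h
  · rw [h]
  · rw [h, D.mult_twist]
  · rw [h, D.mult_twist, D.mult_twist]

/-- the integer multiplicities -/
noncomputable def CharData.m (χ : ι) (φ : A →* ℂˣ) : ℤ := Classical.choose (D.hint χ φ)

theorem CharData.mult_eq (χ : ι) (φ : A →* ℂˣ) : mult D.F χ φ = (D.m χ φ : ℂ) :=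
  Classical.choose_spec (D.hint χ φ)

theorem CharData.m_rel (χ : ι) {φ ψ : A →* ℂˣ} (h : D.rel φ ψ) : D.m χ φ = D.m χ ψ := by
  have := D.mult_rel χ h
  rw [D.mult_eq, D.mult_eq] at this
  exact_mod_cast this

/-- the Gram matrix in integer form -/
theorem CharData.gram_int (φ ψ : A →* ℂˣ) :
    ((∑ χ, D.m χ φ * D.m χ ψ : ℤ) : ℂ)
      = ((∑ χ, D.F χ 1 * conj (D.F χ 1)) - 3 * (Fintype.card A : ℂ)) / (Fintype.card A : ℂ) ^ 2
        + Nfun D.σ φ ψ := by
  rw [← gram D.σ D.F D.hK φ ψ]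
  push_cast
  apply Finset.sum_congr rfl
  intro χ _
  rw [D.mult_eq, D.mult_eq, map_intCast]

end

end Cfsg.Agent.Lib.Helper30.Homo
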