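import Mathlib
import Cfsg.Agent.Lib.Helper30.HomoStruct

/-!
# Brauer's theorem on homocyclic Sylow 2-subgroups: solving the Gram matrix (helper30)
-/

set_option autoImplicit false
set_option linter.unusedSectionVars false

namespace Cfsg.Agent.Lib.Helper30.Homo

open scoped ComplexConjugate Classical
open Cfsg.Agent.Lib.Helper34

section

variable {A : Type*} [Group A] [Fintype A] {ι : Type*} [Fintype ι] (D : CharData A ι)
  [Fintype (A →* ℂˣ)]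

/-- Gram numbers -/
noncomputable def CharData.G (φ ψ : A →* ℂˣ) : ℤ := ∑ χ, D.m χ φ * D.m χ ψ

/-- the constant part of the Gram matrix -/
noncomputable def CharData.w₀ : ℂ :=
  ((∑ χ, D.F χ 1 * conj (D.F χ 1)) - 3 * (Fintype.card A : ℂ)) / (Fintype.card A : ℂ) ^ 2

theorem CharData.G_cast (φ ψ : A →* ℂˣ) : (D.G φ ψ : ℂ) = D.w₀ + Nfun D.σ φ ψ :=
  D.gram_int φ ψ

theorem CharData.sum_sub_mul_sub (φ₁ φ₂ φ₃ φ₄ : A →* ℂˣ) :
    ∑ χ, (D.m χ φ₁ - D.m χ φ₂) * (D.m χ φ₃ - D.m χ φ₄)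
      = D.G φ₁ φ₃ - D.G φ₁ φ₄ - D.G φ₂ φ₃ + D.G φ₂ φ₄ := by
  unfold CharData.G
  rw [← Finset.sum_sub_distrib, ← Finset.sum_sub_distrib, ← Finset.sum_add_distrib]
  apply Finset.sum_congr rfl
  intro χ _
  ring

/-- inner products with the degree vector -/
noncomputable def CharData.L (φ : A →* ℂˣ) : ℤ := ∑ χ, D.m χ φ * D.S χ

theorem CharData.L_cast (φ : A →* ℂˣ) :
    (D.L φ : ℂ) = (∑ χ, D.F χ 1 * conj (D.F χ 1)) / (Fintype.card A : ℂ) := by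
  rw [← sum_mult_degree D.σ D.F D.hK φ]
  unfold CharData.L
  push_cast
  apply Finset.sum_congr rfl
  intro χ _
  rw [D.mult_eq, D.hF1, map_intCast]

theorem CharData.L_eq (φ ψ : A →* ℂˣ) : D.L φ = D.L ψ := by
  have h : (D.L φ : ℂ) = (D.L ψ : ℂ) := by rw [D.L_cast, D.L_cast]
  exact_mod_cast h

theorem CharData.sum_sub_mul_S (φ ψ : A →* ℂˣ) :
    ∑ χ, (D.m χ φ - D.m χ ψ) * D.S χ = 0 := by
  have h := D.L_eq φ ψ
  unfold CharData.L at h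
  rw [← sub_eq_zero, ← Finset.sum_sub_distrib] at h
  rw [← h]
  apply Finset.sum_congr rfl
  intro χ _
  ring

theorem CharData.mult_o (φ : A →* ℂˣ) :
    mult D.F D.o φ = if φ = 1 then 1 else 0 := by
  unfold mult
  have h1 : ∑ u, D.F D.o u * conj (φ u : ℂ) = ∑ u, conj (φ u : ℂ) * ((1 : A →* ℂˣ) u : ℂ) := by
    apply Finset.sum_congr rfl
    intro u _
    rw [D.hFo]
    simp
  rw [h1, sum_conj_mul_dual]
  have hA : (Fintype.card A : ℂ) ≠ 0 := by exact_mod_cast Fintype.card_ne_zero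
  by_cases h : φ = 1
  · rw [if_pos h, if_pos h]
    field_simp
  · rw [if_neg h, if_neg h, mul_zero]

theorem CharData.m_o_one : D.m D.o 1 = 1 := by
  have h := D.mult_o 1
  rw [if_pos rfl, D.mult_eq] at h
  exact_mod_cast h

theorem CharData.m_o_ne {φ : A →* ℂˣ} (hφ : φ ≠ 1) : D.m D.o φ = 0 := by
  have h := D.mult_o φ
  rw [if_neg hφ, D.mult_eq] at h
  exact_mod_cast h

/-- the class of a linear character -/
noncomputable def CharData.cls (φ : A →* ℂˣ) : Finset (A →* ℂˣ) :=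
  {φ, twist D.σ φ, twist D.σ (twist D.σ φ)}

theorem CharData.mem_cls_of_rel {φ ψ : A →* ℂˣ} (h : D.rel ψ φ) : ψ ∈ D.cls φ := by
  unfold CharData.cls
  rcases h with h | h | h
  · simp [h]
  · simp [h]
  · simp [h]

theorem CharData.card_cls (φ : A →* ℂˣ) : (D.cls φ).card ≤ 3 := Finset.card_le_three

include D in
theorem CharData.exists_notMem (s : Finset (A →* ℂˣ)) (hs : s.card < Fintype.card A) :
    ∃ φ, φ ∉ s := by
  have h : s.card < (Finset.univ : Finset (A →* ℂˣ)).card := by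
    rw [Finset.card_univ, card_dual D.hcomm]
    exact hs
  obtain ⟨φ, _, hφ⟩ := Finset.exists_mem_notMem_of_card_lt_card h
  exact ⟨φ, hφ⟩

include D in
theorem CharData.card_ge : 16 ≤ Fintype.card A :=
  Nat.le_of_dvd Fintype.card_pos D.h16

theorem CharData.exists_three :
    ∃ φ₁ φ₂ φ₃ : A →* ℂˣ, φ₁ ≠ 1 ∧ φ₂ ≠ 1 ∧ φ₃ ≠ 1 ∧ ¬ D.rel φ₁ φ₂ ∧ ¬ D.rel φ₁ φ₃ ∧
      ¬ D.rel φ₂ φ₃ := by
  have h16 := D.card_ge
  obtain ⟨φ₁, h1⟩ := D.exists_notMem {1} (by rw [Finset.card_singleton]; omega)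
  obtain ⟨φ₂, h2⟩ := D.exists_notMem ({1} ∪ D.cls φ₁) (by
    have := Finset.card_union_le ({1} : Finset (A →* ℂˣ)) (D.cls φ₁)
    have := D.card_cls φ₁
    rw [Finset.card_singleton] at *
    omega)
  obtain ⟨φ₃, h3⟩ := D.exists_notMem ({1} ∪ D.cls φ₁ ∪ D.cls φ₂) (by
    have := Finset.card_union_le ({1} ∪ D.cls φ₁ : Finset (A →* ℂˣ)) (D.cls φ₂)
    have := Finset.card_union_le ({1} : Finset (A →* ℂˣ)) (D.cls φ₁)
    have := D.card_cls φ₁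
    have := D.card_cls φ₂
    rw [Finset.card_singleton] at *
    omega)
  simp only [Finset.mem_union, Finset.mem_singleton, not_or] at h1 h2 h3
  refine ⟨φ₁, φ₂, φ₃, h1, h2.1, h3.1.1, ?_, ?_, ?_⟩
  · intro h
    exact h2.2 (D.mem_cls_of_rel (D.rel_symm h))
  · intro h
    exact h3.1.2 (D.mem_cls_of_rel (D.rel_symm h))
  · intro h
    exact h3.2 (D.mem_cls_of_rel (D.rel_symm h))

/-- integer Gram values -/
theorem CharData.G_self_sub {φ ψ : A →* ℂˣ} (hφ : φ ≠ 1) (h : ¬ D.rel φ ψ) :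
    D.G φ φ = D.G φ ψ + 1 := by
  have h1 : (D.G φ φ : ℂ) = (D.G φ ψ : ℂ) + 1 := by
    rw [D.G_cast, D.G_cast, D.Nfun_self hφ, D.Nfun_of_not_rel h]
    ring
  exact_mod_cast h1

theorem CharData.G_one_sub {φ ψ : A →* ℂˣ} (h : ¬ D.rel φ ψ) :
    D.G 1 1 = D.G φ ψ + 3 := by
  have h1 : (D.G 1 1 : ℂ) = (D.G φ ψ : ℂ) + 3 := by
    rw [D.G_cast, D.G_cast, D.Nfun_one_one, D.Nfun_of_not_rel h]
    ring
  exact_mod_cast h1

theorem CharData.G_not_rel {φ ψ φ' ψ' : A →* ℂˣ} (h : ¬ D.rel φ ψ) (h' : ¬ D.rel φ' ψ') :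
    D.G φ ψ = D.G φ' ψ' := by
  have h1 : (D.G φ ψ : ℂ) = (D.G φ' ψ' : ℂ) := by
    rw [D.G_cast, D.G_cast, D.Nfun_of_not_rel h, D.Nfun_of_not_rel h']
  exact_mod_cast h1

theorem CharData.G_comm (φ ψ : A →* ℂˣ) : D.G φ ψ = D.G ψ φ := by
  unfold CharData.G
  apply Finset.sum_congr rfl
  intro χ _
  ring


/-- the solution of the Gram matrix -/
structure CharData.Sol where
  ε : ℤ
  c : ι → ℤ
  X : (A →* ℂˣ) → ι
  ψ₁ : ι
  ψ₂ : ι
  δ₁ : ℤ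
  δ₂ : ℤ
  hε : ε = 1 ∨ ε = -1
  hδ₁ : δ₁ = 1 ∨ δ₁ = -1
  hδ₂ : δ₂ = 1 ∨ δ₂ = -1
  h12 : ψ₁ ≠ ψ₂
  h1o : ψ₁ ≠ D.o
  h2o : ψ₂ ≠ D.o
  hm : ∀ φ, φ ≠ 1 → ∀ χ, D.m χ φ = c χ + ε * ev (X φ) χ
  hX : ∀ φ ψ, φ ≠ 1 → ψ ≠ 1 → (X φ = X ψ ↔ D.rel φ ψ)
  ha : ∀ χ, D.m χ 1 - c χ = ev D.o χ + δ₁ * ev ψ₁ χ + δ₂ * ev ψ₂ χ
  hXo : ∀ φ, φ ≠ 1 → X φ ≠ D.o ∧ X φ ≠ ψ₁ ∧ X φ ≠ ψ₂
  hd : ∀ φ ψ, φ ≠ 1 → ψ ≠ 1 → D.S (X φ) = D.S (X ψ)

theorem CharData.exists_sol : Nonempty D.Sol := by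
  obtain ⟨φ₁, φ₂, φ₃, h1, h2, h3, h12, h13, h23⟩ := D.exists_three
  let I := {φ : A →* ℂˣ // φ ≠ 1}
  let r : I → I → Prop := fun i j => D.rel i.1 j.1
  let v : I → ι → ℤ := fun i χ => D.m χ i.1
  have hr : ∀ i j, r i j → v i = v j := by
    intro i j h
    funext χ
    exact D.m_rel χ h
  have hn : ∀ i j, ¬ r i j → ∑ χ, (v i χ - v j χ) * (v i χ - v j χ) = 2 := by
    intro i j h
    show ∑ χ, (D.m χ i.1 - D.m χ j.1) * (D.m χ i.1 - D.m χ j.1) = 2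
    rw [D.sum_sub_mul_sub]
    have e1 := D.G_self_sub i.2 h
    have h' : ¬ D.rel j.1 i.1 := fun hh => h (D.rel_symm hh)
    have e2 := D.G_self_sub j.2 h'
    have e3 := D.G_comm i.1 j.1
    omega
  have ho : ∀ i j, ∑ χ, (v i χ - v j χ) * D.S χ = 0 := fun i j => D.sum_sub_mul_S i.1 j.1
  obtain ⟨ε, c, X, hε, hX, hXr⟩ := lattice_structure r v D.S D.hS hr hn ho
    ⟨φ₁, h1⟩ ⟨φ₂, h2⟩ ⟨φ₃, h3⟩ h12 h13 h23
  let v₀ : ι → ℤ := fun χ => D.m χ 1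
  have g1 : ∀ i, ∑ χ, (v₀ χ - v i χ) * (v₀ χ - v i χ) = 4 := by
    intro i
    show ∑ χ, (D.m χ 1 - D.m χ i.1) * (D.m χ 1 - D.m χ i.1) = 4
    rw [D.sum_sub_mul_sub]
    have hn1 : ¬ D.rel 1 i.1 := D.not_rel_one i.2
    have hn2 : ¬ D.rel i.1 1 := D.not_rel_one' i.2
    have e1 := D.G_one_sub hn1
    have e2 := D.G_self_sub i.2 hn2
    have e3 := D.G_comm 1 i.1
    omega
  have g2 : ∀ i j, ¬ r i j → ∑ χ, (v₀ χ - v i χ) * (v i χ - v j χ) = -1 := by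
    intro i j h
    show ∑ χ, (D.m χ 1 - D.m χ i.1) * (D.m χ i.1 - D.m χ j.1) = -1
    rw [D.sum_sub_mul_sub]
    have hn1 : ¬ D.rel 1 i.1 := D.not_rel_one i.2
    have hn2 : ¬ D.rel 1 j.1 := D.not_rel_one j.2
    have e1 := D.G_not_rel hn1 hn2
    have e2 := D.G_self_sub i.2 h
    omega
  have ho0 : v₀ D.o = 1 := D.m_o_one
  have hoi : ∀ i : I, v i D.o = 0 := fun i => D.m_o_ne i.2
  -- the image of X is large
  have hfib : ∀ b ∈ (Finset.univ : Finset I).image X,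
      ((Finset.univ : Finset I).filter (fun a => X a = b)).card ≤ 3 := by
    intro b hb
    obtain ⟨i₀, _, rfl⟩ := Finset.mem_image.mp hb
    calc ((Finset.univ : Finset I).filter (fun a => X a = X i₀)).card
        = (((Finset.univ : Finset I).filter (fun a => X a = X i₀)).image Subtype.val).card :=
          (Finset.card_image_of_injective _ Subtype.val_injective).symm
      _ ≤ (D.cls i₀.1).card := by
          apply Finset.card_le_card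
          intro φ hφ
          obtain ⟨a, ha, rfl⟩ := Finset.mem_image.mp hφ
          have ha' : X a = X i₀ := (Finset.mem_filter.mp ha).2
          exact D.mem_cls_of_rel ((hXr a i₀).mp ha')
      _ ≤ 3 := D.card_cls _
  have hcardI : 15 ≤ (Finset.univ : Finset I).card := by
    have h16 := D.card_ge
    have e1 : (Finset.univ : Finset I).card = Fintype.card I := Finset.card_univ
    have e2 : Fintype.card I = ((Finset.univ : Finset (A →* ℂˣ)).filter (fun φ => φ ≠ 1)).card :=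
      Fintype.card_subtype _
    rw [Finset.filter_ne', Finset.card_erase_of_mem (Finset.mem_univ _), Finset.card_univ,
      card_dual D.hcomm] at e2
    omega
  have hT5 : 5 ≤ ((Finset.univ : Finset I).image X).card := by
    have := Finset.card_le_mul_card_image (Finset.univ : Finset I) 3 hfib
    omega
  obtain ⟨ψ₁, ψ₂, δ₁, δ₂, hψ12, hψ1o, hψ2o, hδ₁, hδ₂, ha, hXo⟩ :=
    a_vector r v v₀ c ε X hε hX hXr g1 g2 D.o ho0 hoi ((Finset.univ : Finset I).image X)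
      (fun χ hχ => by
        obtain ⟨i, _, hi⟩ := Finset.mem_image.mp hχ
        exact ⟨i, hi⟩) hT5
  have hε0 : ε ≠ 0 := by rcases hε with h | h <;> rw [h] <;> norm_num
  have hdI : ∀ i j : I, D.S (X i) = D.S (X j) := by
    intro i j
    have h := ho i j
    have e : ∑ χ, (v i χ - v j χ) * D.S χ
        = ε * (∑ χ, ev (X i) χ * D.S χ - ∑ χ, ev (X j) χ * D.S χ) := by
      rw [← Finset.sum_sub_distrib, Finset.mul_sum]
      apply Finset.sum_congr rfl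
      intro χ _
      rw [hX i, hX j]
      ring
    rw [e, sum_ev_mul, sum_ev_mul] at h
    rcases mul_eq_zero.mp h with h | h
    · exact absurd h hε0
    · omega
  refine ⟨{ ε := ε, c := c,
            X := fun φ => if h : φ ≠ 1 then X ⟨φ, h⟩ else D.o,
            ψ₁ := ψ₁, ψ₂ := ψ₂, δ₁ := δ₁, δ₂ := δ₂, hε := hε, hδ₁ := hδ₁, hδ₂ := hδ₂,
            h12 := hψ12, h1o := hψ1o, h2o := hψ2o, hm := ?_, hX := ?_, ha := ha, hXo := ?_,
            hd := ?_ }⟩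
  · intro φ hφ χ
    rw [dif_pos hφ]
    exact hX ⟨φ, hφ⟩ χ
  · intro φ ψ hφ hψ
    rw [dif_pos hφ, dif_pos hψ]
    exact hXr ⟨φ, hφ⟩ ⟨ψ, hψ⟩
  · intro φ hφ
    rw [dif_pos hφ]
    exact hXo ⟨φ, hφ⟩
  · intro φ ψ hφ hψ
    rw [dif_pos hφ, dif_pos hψ]
    exact hdI ⟨φ, hφ⟩ ⟨ψ, hψ⟩

end

end Cfsg.Agent.Lib.Helper30.Homo
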