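import Mathlib
import Cfsg.Agent.Lib.Helper30.HomoSol
import Cfsg.Agent.Lib.Helper30.HomoArith

/-!
# Brauer's theorem on homocyclic Sylow 2-subgroups: evaluating the character relations (helper30)
-/

set_option autoImplicit false
set_option linter.unusedSectionVars false

namespace Cfsg.Agent.Lib.Helper30.Homo

open scoped ComplexConjugate Classical
open Cfsg.Agent.Lib.Helper34

section

variable {A : Type*} [Group A] [Fintype A] {ι : Type*} [Fintype ι] {D : CharData A ι}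
  [Fintype (A →* ℂˣ)]

theorem sum_erase_one (hcomm : ∀ a b : A, a * b = b * a) (u : A) :
    ∑ φ ∈ (Finset.univ : Finset (A →* ℂˣ)).erase 1, (φ u : ℂ)
      = (if u = 1 then (Fintype.card A : ℂ) else 0) - 1 := by
  have h := Finset.add_sum_erase (Finset.univ : Finset (A →* ℂˣ)) (fun φ => (φ u : ℂ))
    (Finset.mem_univ 1)
  rw [sum_dual_apply hcomm] at h
  rw [← h]
  simp

theorem sum_erase_one_ne (hcomm : ∀ a b : A, a * b = b * a) {u : A} (hu : u ≠ 1) :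
    ∑ φ ∈ (Finset.univ : Finset (A →* ℂˣ)).erase 1, (φ u : ℂ) = -1 := by
  rw [sum_erase_one hcomm, if_neg hu]
  ring

/-- the exceptional part of the values -/
noncomputable def CharData.Sol.E (s : D.Sol) (χ : ι) (u : A) : ℂ :=
  ∑ φ ∈ (Finset.univ : Finset (A →* ℂˣ)).erase 1, (ev (s.X φ) χ : ℂ) * (φ u : ℂ)

/-- the small part -/
noncomputable def CharData.Sol.a (s : D.Sol) (χ : ι) : ℤ := ev D.o χ + s.δ₁ * ev s.ψ₁ χ + s.δ₂ * ev s.ψ₂ χ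

theorem CharData.Sol.value (s : D.Sol) (χ : ι) (u : A) :
    D.F χ u = (D.m χ 1 : ℂ)
      + (s.c χ : ℂ) * ((if u = 1 then (Fintype.card A : ℂ) else 0) - 1)
      + (s.ε : ℂ) * s.E χ u := by
  have h0 : D.F χ u = ∑ φ : A →* ℂˣ, (D.m χ φ : ℂ) * (φ u : ℂ) := by
    rw [fourier_inversion D.hcomm (D.F χ) u]
    apply Finset.sum_congr rfl
    intro φ _
    rw [← D.mult_eq]
    rfl
  rw [h0, ← Finset.add_sum_erase _ _ (Finset.mem_univ (1 : A →* ℂˣ))]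
  have h1 : ∑ φ ∈ (Finset.univ : Finset (A →* ℂˣ)).erase 1, (D.m χ φ : ℂ) * (φ u : ℂ)
      = (s.c χ : ℂ) * ∑ φ ∈ (Finset.univ : Finset (A →* ℂˣ)).erase 1, (φ u : ℂ)
        + (s.ε : ℂ) * s.E χ u := by
    unfold CharData.Sol.E
    rw [Finset.mul_sum, Finset.mul_sum, ← Finset.sum_add_distrib]
    apply Finset.sum_congr rfl
    intro φ hφ
    rw [s.hm φ (Finset.ne_of_mem_erase hφ) χ]
    push_cast
    ring
  rw [h1, sum_erase_one D.hcomm]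
  simp only [MonoidHom.one_apply, Units.val_one, mul_one]
  ring

theorem CharData.Sol.value_ne (s : D.Sol) (χ : ι) {u : A} (hu : u ≠ 1) :
    D.F χ u = (s.a χ : ℂ) + (s.ε : ℂ) * s.E χ u := by
  rw [s.value χ u, if_neg hu]
  have h := s.ha χ
  unfold CharData.Sol.a
  rw [← h]
  push_cast
  ring

theorem CharData.Sol.value_one (s : D.Sol) (χ : ι) :
    (D.S χ : ℂ) = (s.a χ : ℂ) + (Fintype.card A : ℂ) * (s.c χ : ℂ) + (s.ε : ℂ) * s.E χ 1 := by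
  rw [← D.hF1, s.value χ 1, if_pos rfl]
  have h := s.ha χ
  unfold CharData.Sol.a
  rw [← h]
  push_cast
  ring

theorem CharData.Sol.E_eq_zero (s : D.Sol) (χ : ι) (h : ∀ φ : A →* ℂˣ, φ ≠ 1 → s.X φ ≠ χ)
    (u : A) : s.E χ u = 0 := by
  unfold CharData.Sol.E
  apply Finset.sum_eq_zero
  intro φ hφ
  have hne : χ ≠ s.X φ := fun hh => h φ (Finset.ne_of_mem_erase hφ) hh.symm
  rw [ev_ne hne]
  simp

theorem sum_mul_ev_complex (g : ι → ℂ) (a : ι) : ∑ χ, g χ * (ev a χ : ℂ) = g a := by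
  simp [ev]

theorem CharData.Sol.sum_mul_E (s : D.Sol) (g : ι → ℂ) (u : A) :
    ∑ χ, g χ * s.E χ u
      = ∑ φ ∈ (Finset.univ : Finset (A →* ℂˣ)).erase 1, g (s.X φ) * (φ u : ℂ) := by
  unfold CharData.Sol.E
  simp_rw [Finset.mul_sum]
  rw [Finset.sum_comm]
  apply Finset.sum_congr rfl
  intro φ _
  have h : ∀ χ, g χ * ((ev (s.X φ) χ : ℂ) * (φ u : ℂ)) = (g χ * (φ u : ℂ)) * (ev (s.X φ) χ : ℂ) := by
    intro χ; ring
  rw [Finset.sum_congr rfl (fun χ _ => h χ), sum_mul_ev_complex (fun χ => g χ * (φ u : ℂ))]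

theorem CharData.Nfun_of_rel (D : CharData A ι) {φ φ₀ : A →* ℂˣ} (hφ₀ : φ₀ ≠ 1)
    (h : D.rel φ φ₀) : Nfun D.σ φ φ₀ = 1 := by
  have h1 : twist D.σ φ₀ ≠ φ₀ := fun hh => D.twist_ne_self hφ₀ hh.symm
  have h2 : twist D.σ (twist D.σ φ₀) ≠ φ₀ := fun hh => D.twist2_ne_self hφ₀ hh.symm
  have h3 : twist D.σ φ₀ ≠ twist D.σ (twist D.σ φ₀) := by
    intro hh
    exact D.twist_ne_self hφ₀ (twist_injective D.σ hh)
  rcases h with h | h | h
  · rw [h]; exact D.Nfun_self hφ₀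
  · rw [h]
    unfold Nfun
    rw [if_neg h1, if_pos rfl, if_neg h3]
    ring
  · rw [h]
    unfold Nfun
    rw [if_neg h2, if_neg (fun hh => h3 hh.symm), if_pos rfl]
    ring

theorem CharData.Sol.E_X (s : D.Sol) {φ₀ : A →* ℂˣ} (hφ₀ : φ₀ ≠ 1) (u : A) :
    s.E (s.X φ₀) u = (φ₀ u : ℂ) + (φ₀ (D.σ u) : ℂ) + (φ₀ (D.σ (D.σ u)) : ℂ) := by
  unfold CharData.Sol.E
  have h1 : ∀ φ ∈ (Finset.univ : Finset (A →* ℂˣ)).erase 1,
      (ev (s.X φ) (s.X φ₀) : ℂ) * (φ u : ℂ) = Nfun D.σ φ φ₀ * (φ u : ℂ) := by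
    intro φ hφ
    have hφ1 : φ ≠ 1 := Finset.ne_of_mem_erase hφ
    congr 1
    by_cases hr : D.rel φ φ₀
    · rw [D.Nfun_of_rel hφ₀ hr]
      have : s.X φ = s.X φ₀ := (s.hX φ φ₀ hφ1 hφ₀).mpr hr
      rw [this, ev_self]
      simp
    · rw [D.Nfun_of_not_rel hr]
      have : s.X φ₀ ≠ s.X φ := fun hh => hr ((s.hX φ φ₀ hφ1 hφ₀).mp hh.symm)
      rw [ev_ne this]
      simp
  rw [Finset.sum_congr rfl h1]
  have h2 : ∑ φ ∈ (Finset.univ : Finset (A →* ℂˣ)).erase 1, Nfun D.σ φ φ₀ * (φ u : ℂ)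
      = ∑ φ : A →* ℂˣ, Nfun D.σ φ φ₀ * (φ u : ℂ) := by
    rw [← Finset.add_sum_erase _ _ (Finset.mem_univ (1 : A →* ℂˣ)),
      D.Nfun_of_not_rel (D.not_rel_one hφ₀), zero_mul, zero_add]
  rw [h2]
  unfold Nfun
  simp_rw [add_mul, Finset.sum_add_distrib, ite_mul, one_mul, zero_mul,
    Finset.sum_ite_eq' Finset.univ, Finset.mem_univ, if_true]
  rfl


theorem CharData.S_o (D : CharData A ι) : D.S D.o = 1 := by
  have h := D.hF1 D.o
  rw [D.hFo] at h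
  exact_mod_cast h.symm

theorem CharData.w_ne_one (D : CharData A ι) : D.w ≠ 1 := by
  intro h
  have := D.hw
  rw [h, orderOf_one] at this
  omega

theorem CharData.w_pow_four (D : CharData A ι) : D.w ^ 4 = 1 := by
  rw [← D.hw]
  exact pow_orderOf_eq_one _

theorem CharData.w_sq_ne_one (D : CharData A ι) : D.w ^ 2 ≠ 1 := by
  intro h
  have := orderOf_dvd_of_pow_eq_one h
  rw [D.hw] at this
  omega

theorem CharData.z_mul_z (D : CharData A ι) : D.w ^ 2 * D.w ^ 2 = 1 := by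
  rw [← pow_add]
  exact D.w_pow_four

theorem CharData.orbit_prod (D : CharData A ι) (z : A) : z * D.σ z * D.σ (D.σ z) = 1 := by
  by_contra h
  apply D.hfree _ h
  rw [map_mul, map_mul, D.hσ3]
  rw [D.hcomm (D.σ z * D.σ (D.σ z)) z, mul_assoc]

theorem CharData.Sol.sum_a_mul (s : D.Sol) (g : ι → ℂ) :
    ∑ χ, (s.a χ : ℂ) * g χ = g D.o + (s.δ₁ : ℂ) * g s.ψ₁ + (s.δ₂ : ℂ) * g s.ψ₂ := by
  have h : ∀ χ, (s.a χ : ℂ) * g χ = g χ * (ev D.o χ : ℂ)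
      + (s.δ₁ : ℂ) * (g χ * (ev s.ψ₁ χ : ℂ)) + (s.δ₂ : ℂ) * (g χ * (ev s.ψ₂ χ : ℂ)) := by
    intro χ
    unfold CharData.Sol.a
    push_cast
    ring
  rw [Finset.sum_congr rfl (fun χ _ => h χ), Finset.sum_add_distrib, Finset.sum_add_distrib,
    ← Finset.mul_sum, ← Finset.mul_sum, sum_mul_ev_complex, sum_mul_ev_complex,
    sum_mul_ev_complex]

theorem CharData.Sol.a_o (s : D.Sol) : s.a D.o = 1 := by
  unfold CharData.Sol.a
  rw [ev_self, ev_ne s.h1o.symm, ev_ne s.h2o.symm]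
  ring

theorem CharData.Sol.a_psi1 (s : D.Sol) : s.a s.ψ₁ = s.δ₁ := by
  unfold CharData.Sol.a
  rw [ev_ne s.h1o, ev_self, ev_ne s.h12]
  ring

theorem CharData.Sol.a_psi2 (s : D.Sol) : s.a s.ψ₂ = s.δ₂ := by
  unfold CharData.Sol.a
  rw [ev_ne s.h2o, ev_self, ev_ne s.h12.symm]
  ring

theorem CharData.Sol.a_other (s : D.Sol) {χ : ι} (h0 : χ ≠ D.o) (h1 : χ ≠ s.ψ₁) (h2 : χ ≠ s.ψ₂) :
    s.a χ = 0 := by
  unfold CharData.Sol.a
  rw [ev_ne h0, ev_ne h1, ev_ne h2]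
  ring

theorem CharData.Rfun_ne (D : CharData A ι) {u : A} (hu : u ≠ 1) : Rfun D.σ u 1 = 0 := by
  unfold Rfun
  have h3 : (1 : A) ≠ u := fun h => hu h.symm
  have h4 : (1 : A) ≠ D.σ u := by
    intro h
    apply hu
    have : D.σ u = D.σ 1 := by rw [map_one]; exact h.symm
    exact D.σ.injective this
  have h5 : (1 : A) ≠ D.σ (D.σ u) := by
    intro h
    apply h4
    have : D.σ (D.σ u) = D.σ 1 := by rw [map_one]; exact h.symm
    exact (D.σ.injective this).symm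
  rw [if_neg h3, if_neg h4, if_neg h5]
  ring

/-- the first relation: orthogonality with the degrees -/
theorem CharData.Sol.E1 (s : D.Sol) {φ₀ : A →* ℂˣ} (hφ₀ : φ₀ ≠ 1) :
    1 + s.δ₁ * D.S s.ψ₁ + s.δ₂ * D.S s.ψ₂ = s.ε * D.S (s.X φ₀) := by
  have hw1 := D.w_ne_one
  have hK := D.hK D.w 1 (Or.inl hw1)
  rw [D.Rfun_ne hw1, mul_zero] at hK
  have h1 : ∀ χ, D.F χ D.w * conj (D.F χ 1)
      = (s.a χ : ℂ) * (D.S χ : ℂ) + (s.ε : ℂ) * ((D.S χ : ℂ) * s.E χ D.w) := by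
    intro χ
    rw [D.hF1, map_intCast, s.value_ne χ hw1]
    ring
  rw [Finset.sum_congr rfl (fun χ _ => h1 χ), Finset.sum_add_distrib, ← Finset.mul_sum,
    s.sum_mul_E, s.sum_a_mul (fun χ => (D.S χ : ℂ))] at hK
  have h3 : ∑ φ ∈ (Finset.univ : Finset (A →* ℂˣ)).erase 1, (D.S (s.X φ) : ℂ) * (φ D.w : ℂ)
      = - (D.S (s.X φ₀) : ℂ) := by
    have : ∀ φ ∈ (Finset.univ : Finset (A →* ℂˣ)).erase 1,
        (D.S (s.X φ) : ℂ) * (φ D.w : ℂ) = (D.S (s.X φ₀) : ℂ) * (φ D.w : ℂ) := by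
      intro φ hφ
      rw [s.hd φ φ₀ (Finset.ne_of_mem_erase hφ) hφ₀]
    rw [Finset.sum_congr rfl this, ← Finset.mul_sum, sum_erase_one_ne D.hcomm hw1]
    ring
  rw [h3, D.S_o] at hK
  have : ((1 + s.δ₁ * D.S s.ψ₁ + s.δ₂ * D.S s.ψ₂ : ℤ) : ℂ) = ((s.ε * D.S (s.X φ₀) : ℤ) : ℂ) := by
    push_cast
    linear_combination hK
  exact_mod_cast this

theorem CharData.Sol.S_psi1 (s : D.Sol) :
    D.S s.ψ₁ = s.δ₁ + (Fintype.card A : ℤ) * s.c s.ψ₁ := by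
  have h := s.value_one s.ψ₁
  rw [s.E_eq_zero s.ψ₁ (fun φ hφ => (s.hXo φ hφ).2.1), s.a_psi1] at h
  have : (D.S s.ψ₁ : ℂ) = ((s.δ₁ + (Fintype.card A : ℤ) * s.c s.ψ₁ : ℤ) : ℂ) := by
    push_cast
    linear_combination h
  exact_mod_cast this

theorem CharData.Sol.S_psi2 (s : D.Sol) :
    D.S s.ψ₂ = s.δ₂ + (Fintype.card A : ℤ) * s.c s.ψ₂ := by
  have h := s.value_one s.ψ₂
  rw [s.E_eq_zero s.ψ₂ (fun φ hφ => (s.hXo φ hφ).2.2), s.a_psi2] at h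
  have : (D.S s.ψ₂ : ℂ) = ((s.δ₂ + (Fintype.card A : ℤ) * s.c s.ψ₂ : ℤ) : ℂ) := by
    push_cast
    linear_combination h
  exact_mod_cast this

theorem CharData.Sol.S_X (s : D.Sol) {φ₀ : A →* ℂˣ} (hφ₀ : φ₀ ≠ 1) :
    D.S (s.X φ₀) = (Fintype.card A : ℤ) * s.c (s.X φ₀) + 3 * s.ε := by
  have h := s.value_one (s.X φ₀)
  obtain ⟨h0, h1, h2⟩ := s.hXo φ₀ hφ₀
  rw [s.a_other h0 h1 h2, s.E_X hφ₀] at h
  simp only [map_one, Units.val_one] at h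
  have : (D.S (s.X φ₀) : ℂ) = (((Fintype.card A : ℤ) * s.c (s.X φ₀) + 3 * s.ε : ℤ) : ℂ) := by
    push_cast
    linear_combination h
  exact_mod_cast this

theorem CharData.Sol.conj_E (s : D.Sol) (χ : ι) (u : A) : conj (s.E χ u) = s.E χ u⁻¹ := by
  unfold CharData.Sol.E
  rw [map_sum]
  apply Finset.sum_congr rfl
  intro φ _
  rw [map_mul, map_intCast, conj_dual_apply]

theorem sum_ev_complex (a : ι) : ∑ χ, (ev a χ : ℂ) = 1 := by
  simp [ev]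

end

end Cfsg.Agent.Lib.Helper30.Homo

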