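import Mathlib
import Cfsg.Agent.Lib.Helper30.BrmSol
import Cfsg.Agent.Lib.Helper30.HomoEval

/-!
# Brauer's theorem on abelian Sylow `p`-subgroups with cyclic semiregular `N/C`: values of the
characters of the principal block on `P` (helper30)
-/

set_option autoImplicit false
set_option linter.unusedSectionVars false

namespace Cfsg.Agent.Lib.Helper30.Brm

open scoped ComplexConjugate Classical
open Cfsg.Agent.Lib.Helper34 Cfsg.Agent.Lib.Helper30.Homo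

section

variable {A : Type*} [Group A] [Fintype A] {ι : Type*} [Fintype ι] {D : CData A ι}
  [Fintype (A →* ℂˣ)]

/-- the exceptional part of the values -/
noncomputable def CData.Sol.E (s : D.Sol) (χ : ι) (u : A) : ℂ :=
  ∑ φ ∈ (Finset.univ : Finset (A →* ℂˣ)).erase 1, (ev (s.X φ) χ : ℂ) * (φ u : ℂ)

/-- the non-exceptional part -/
noncomputable def CData.Sol.a (s : D.Sol) (χ : ι) : ℤ := D.mm χ 1 - s.c χ

theorem CData.Sol.value (s : D.Sol) (χ : ι) (u : A) :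
    D.F χ u = (D.mm χ 1 : ℂ)
      + (s.c χ : ℂ) * ((if u = 1 then (Fintype.card A : ℂ) else 0) - 1)
      + (s.ε : ℂ) * s.E χ u := by
  have h0 : D.F χ u = ∑ φ : A →* ℂˣ, (D.mm χ φ : ℂ) * (φ u : ℂ) := by
    rw [fourier_inversion D.hcomm (D.F χ) u]
    apply Finset.sum_congr rfl
    intro φ _
    rw [← D.mult_eq]
    rfl
  rw [h0, ← Finset.add_sum_erase _ _ (Finset.mem_univ (1 : A →* ℂˣ))]
  have h1 : ∑ φ ∈ (Finset.univ : Finset (A →* ℂˣ)).erase 1, (D.mm χ φ : ℂ) * (φ u : ℂ)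
      = (s.c χ : ℂ) * ∑ φ ∈ (Finset.univ : Finset (A →* ℂˣ)).erase 1, (φ u : ℂ)
        + (s.ε : ℂ) * s.E χ u := by
    unfold CData.Sol.E
    rw [Finset.mul_sum, Finset.mul_sum, ← Finset.sum_add_distrib]
    apply Finset.sum_congr rfl
    intro φ hφ
    rw [s.hmv φ (Finset.ne_of_mem_erase hφ) χ]
    push_cast
    ring
  rw [h1, sum_erase_one D.hcomm]
  simp only [MonoidHom.one_apply, Units.val_one, mul_one]
  ring

theorem CData.Sol.value_ne (s : D.Sol) (χ : ι) {u : A} (hu : u ≠ 1) :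
    D.F χ u = (s.a χ : ℂ) + (s.ε : ℂ) * s.E χ u := by
  rw [s.value χ u, if_neg hu]
  unfold CData.Sol.a
  push_cast
  ring

theorem CData.Sol.value_one (s : D.Sol) (χ : ι) :
    (D.S χ : ℂ) = (s.a χ : ℂ) + (Fintype.card A : ℂ) * (s.c χ : ℂ) + (s.ε : ℂ) * s.E χ 1 := by
  rw [← D.hF1, s.value χ 1, if_pos rfl]
  unfold CData.Sol.a
  push_cast
  ring

/-- the exceptional coordinates -/
noncomputable def CData.Sol.T (s : D.Sol) : Finset ι :=
  ((Finset.univ : Finset (A →* ℂˣ)).erase 1).image s.X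

theorem CData.Sol.mem_T (s : D.Sol) {χ : ι} :
    χ ∈ s.T ↔ ∃ φ : A →* ℂˣ, φ ≠ 1 ∧ s.X φ = χ := by
  unfold CData.Sol.T
  rw [Finset.mem_image]
  constructor
  · rintro ⟨φ, hφ, h⟩
    exact ⟨φ, Finset.ne_of_mem_erase hφ, h⟩
  · rintro ⟨φ, hφ, h⟩
    exact ⟨φ, Finset.mem_erase.mpr ⟨hφ, Finset.mem_univ _⟩, h⟩

theorem CData.Sol.X_mem_T (s : D.Sol) {φ : A →* ℂˣ} (hφ : φ ≠ 1) : s.X φ ∈ s.T :=
  s.mem_T.mpr ⟨φ, hφ, rfl⟩

theorem CData.Sol.o_notMem_T (s : D.Sol) : D.o ∉ s.T := by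
  intro h
  obtain ⟨φ, hφ, h1⟩ := s.mem_T.mp h
  exact s.hXo φ hφ h1

theorem CData.Sol.a_T (s : D.Sol) {χ : ι} (h : χ ∈ s.T) : s.a χ = s.d := by
  obtain ⟨φ, hφ, rfl⟩ := s.mem_T.mp h
  exact s.hd φ hφ

theorem CData.Sol.a_o (s : D.Sol) : s.a D.o = 1 := s.hao

theorem CData.Sol.E_eq_zero (s : D.Sol) {χ : ι} (h : χ ∉ s.T) (u : A) : s.E χ u = 0 := by
  unfold CData.Sol.E
  apply Finset.sum_eq_zero
  intro φ hφ
  have hne : χ ≠ s.X φ := by
    intro hh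
    apply h
    rw [hh]
    exact s.X_mem_T (Finset.ne_of_mem_erase hφ)
  rw [ev_ne hne]
  simp

theorem CData.Sol.sum_mul_E (s : D.Sol) (g : ι → ℂ) (u : A) :
    ∑ χ, g χ * s.E χ u
      = ∑ φ ∈ (Finset.univ : Finset (A →* ℂˣ)).erase 1, g (s.X φ) * (φ u : ℂ) := by
  unfold CData.Sol.E
  simp_rw [Finset.mul_sum]
  rw [Finset.sum_comm]
  apply Finset.sum_congr rfl
  intro φ _
  have h : ∀ χ, g χ * ((ev (s.X φ) χ : ℂ) * (φ u : ℂ)) = (g χ * (φ u : ℂ)) * (ev (s.X φ) χ : ℂ) := by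
    intro χ; ring
  rw [Finset.sum_congr rfl (fun χ _ => h χ), sum_mul_ev_complex (fun χ => g χ * (φ u : ℂ))]

theorem CData.Sol.fiber_eq (s : D.Sol) {φ₀ : A →* ℂˣ} (hφ₀ : φ₀ ≠ 1) :
    ((Finset.univ : Finset (A →* ℂˣ)).erase 1).filter (fun φ => s.X φ = s.X φ₀) = D.cls φ₀ := by
  ext φ
  rw [Finset.mem_filter, Finset.mem_erase, D.mem_cls_iff]
  constructor
  · rintro ⟨⟨hφ, _⟩, h⟩
    exact (s.hX φ φ₀ hφ hφ₀).mp h
  · intro h
    have hφ : φ ≠ 1 := D.ne_one_of_rel hφ₀ h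
    exact ⟨⟨hφ, Finset.mem_univ _⟩, (s.hX φ φ₀ hφ hφ₀).mpr h⟩

theorem CData.Sol.E_X (s : D.Sol) {φ₀ : A →* ℂˣ} (hφ₀ : φ₀ ≠ 1) (u : A) :
    s.E (s.X φ₀) u = ∑ φ ∈ D.cls φ₀, (φ u : ℂ) := by
  unfold CData.Sol.E
  rw [← s.fiber_eq hφ₀, Finset.sum_filter]
  apply Finset.sum_congr rfl
  intro φ _
  by_cases h : s.X φ = s.X φ₀
  · rw [if_pos h, h, ev_self]
    simp
  · rw [if_neg h, ev_ne (fun hh => h hh.symm)]
    simp

theorem CData.Sol.conj_E (s : D.Sol) (χ : ι) (u : A) : conj (s.E χ u) = s.E χ u⁻¹ := by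
  unfold CData.Sol.E
  rw [map_sum]
  apply Finset.sum_congr rfl
  intro φ _
  rw [map_mul, map_intCast, conj_dual_apply]

/-- the number of exceptional characters -/
theorem CData.Sol.card_T (s : D.Sol) : D.m * s.T.card + 1 = Fintype.card A := by
  have h1 : ((Finset.univ : Finset (A →* ℂˣ)).erase 1).card
      = ∑ b ∈ s.T, (((Finset.univ : Finset (A →* ℂˣ)).erase 1).filter
          (fun φ => s.X φ = b)).card := by
    apply Finset.card_eq_sum_card_fiberwise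
    intro φ hφ
    exact Finset.mem_image_of_mem _ hφ
  have h2 : ∀ b ∈ s.T, (((Finset.univ : Finset (A →* ℂˣ)).erase 1).filter
      (fun φ => s.X φ = b)).card = D.m := by
    intro b hb
    obtain ⟨φ₀, hφ₀, rfl⟩ := s.mem_T.mp hb
    rw [s.fiber_eq hφ₀, D.card_cls hφ₀]
  rw [Finset.sum_congr rfl h2, Finset.sum_const, smul_eq_mul,
    Finset.card_erase_of_mem (Finset.mem_univ _), Finset.card_univ, card_dual D.hcomm] at h1
  have hpos : 0 < Fintype.card A := Fintype.card_pos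
  rw [mul_comm]
  omega

theorem CData.Sol.two_le_card_T (s : D.Sol) : 2 ≤ s.T.card := by
  have h := s.card_T
  have hc := D.hcard
  by_contra hlt
  push Not at hlt
  have : D.m * s.T.card ≤ D.m * 1 := Nat.mul_le_mul_left _ (by omega)
  omega

/-- the non-exceptional characters -/
noncomputable def CData.Sol.XS (s : D.Sol) : Finset ι :=
  Finset.univ.filter (fun χ => χ ∉ s.T ∧ s.a χ ≠ 0)

theorem CData.Sol.mem_XS (s : D.Sol) {χ : ι} : χ ∈ s.XS ↔ χ ∉ s.T ∧ s.a χ ≠ 0 := by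
  unfold CData.Sol.XS
  simp

theorem CData.Sol.o_mem_XS (s : D.Sol) : D.o ∈ s.XS := by
  rw [s.mem_XS]
  refine ⟨s.o_notMem_T, ?_⟩
  rw [s.a_o]
  norm_num

/-- sums over all characters split into `T`, `XS` and characters with `a = 0` -/
theorem CData.Sol.sum_a_mul (s : D.Sol) (g : ι → ℂ) :
    ∑ χ, (s.a χ : ℂ) * g χ = (s.d : ℂ) * ∑ χ ∈ s.T, g χ + ∑ χ ∈ s.XS, (s.a χ : ℂ) * g χ := by
  rw [← Finset.sum_filter_add_sum_filter_not Finset.univ (fun χ => χ ∈ s.T)]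
  congr 1
  · rw [Finset.filter_mem_eq_inter, Finset.univ_inter, Finset.mul_sum]
    apply Finset.sum_congr rfl
    intro χ hχ
    rw [s.a_T hχ]
  · unfold CData.Sol.XS
    rw [← Finset.sum_filter_add_sum_filter_not (Finset.univ.filter (fun χ => χ ∉ s.T))
      (fun χ => s.a χ ≠ 0)]
    rw [Finset.filter_filter, Finset.filter_filter]
    have h0 : ∑ χ ∈ Finset.univ.filter (fun χ => χ ∉ s.T ∧ ¬ s.a χ ≠ 0), (s.a χ : ℂ) * g χ = 0 := by
      apply Finset.sum_eq_zero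
      intro χ hχ
      have := (Finset.mem_filter.mp hχ).2.2
      push Not at this
      rw [this]
      simp
    rw [h0, add_zero]

theorem CData.Sol.sum_a_sq (s : D.Sol) :
    ∑ χ ∈ s.XS, s.a χ * s.a χ = D.m + 2 * s.ε * s.d - s.T.card * (s.d * s.d) := by
  have h := s.hnorm
  have h1 : ∑ χ, (D.mm χ 1 - s.c χ) * (D.mm χ 1 - s.c χ) = ∑ χ, s.a χ * s.a χ := rfl
  rw [h1] at h
  have h2 : ((∑ χ, s.a χ * s.a χ : ℤ) : ℂ)
      = (s.d : ℂ) * ∑ χ ∈ s.T, (s.a χ : ℂ) + ∑ χ ∈ s.XS, (s.a χ : ℂ) * (s.a χ : ℂ) := by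
    push_cast
    exact s.sum_a_mul (fun χ => (s.a χ : ℂ))
  have h3 : ∑ χ ∈ s.T, (s.a χ : ℂ) = (s.T.card : ℂ) * (s.d : ℂ) := by
    rw [Finset.sum_congr rfl (fun χ hχ => by rw [s.a_T hχ]), Finset.sum_const, nsmul_eq_mul]
  rw [h3, h] at h2
  have h4 : ((∑ χ ∈ s.XS, s.a χ * s.a χ : ℤ) : ℂ)
      = ((D.m + 2 * s.ε * s.d - s.T.card * (s.d * s.d) : ℤ) : ℂ) := by
    push_cast
    push_cast at h2
    linear_combination -h2
  exact_mod_cast h4

/-- Brauer's norm identity -/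
theorem CData.Sol.norm_identity (s : D.Sol) :
    (s.d - s.ε) ^ 2 + ((s.T.card : ℤ) - 1) * s.d ^ 2 + ∑ χ ∈ s.XS, s.a χ ^ 2 = (D.m : ℤ) + 1 := by
  have h := s.sum_a_sq
  have hε2 : s.ε * s.ε = 1 := by rcases s.hε with h | h <;> rw [h] <;> norm_num
  have h1 : ∑ χ ∈ s.XS, s.a χ ^ 2 = ∑ χ ∈ s.XS, s.a χ * s.a χ :=
    Finset.sum_congr rfl (fun χ _ => by ring)
  rw [h1, h]
  linear_combination hε2

theorem CData.Sol.card_XS_le (s : D.Sol) : s.XS.card ≤ D.m := by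
  have h := s.sum_a_sq
  have h1 : (s.XS.card : ℤ) ≤ ∑ χ ∈ s.XS, s.a χ * s.a χ := by
    have : (s.XS.card : ℤ) = ∑ χ ∈ s.XS, (1 : ℤ) := by simp
    rw [this]
    apply Finset.sum_le_sum
    intro χ hχ
    have hne := (s.mem_XS.mp hχ).2
    have : 0 < s.a χ * s.a χ := mul_self_pos.mpr hne
    omega
  have h2 := s.two_le_card_T
  have h3 : 2 * s.ε * s.d ≤ (s.T.card : ℤ) * (s.d * s.d) := by
    have hT : (2 : ℤ) ≤ s.T.card := by exact_mod_cast h2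
    have h4 : 2 * s.ε * s.d ≤ 2 * (s.d * s.d) := by
      rcases s.hε with h | h <;> rw [h] <;> nlinarith [sq_nonneg (s.d - 1), sq_nonneg (s.d + 1),
        mul_self_nonneg s.d]
    have h5 : (2 : ℤ) * (s.d * s.d) ≤ (s.T.card : ℤ) * (s.d * s.d) :=
      mul_le_mul_of_nonneg_right hT (mul_self_nonneg _)
    linarith
  have : (s.XS.card : ℤ) ≤ D.m := by linarith
  exact_mod_cast this

end

end Cfsg.Agent.Lib.Helper30.Brm
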