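import Mathlib
import Cfsg.Agent.Lib.Helper30.BrmEval

/-!
# Brauer's theorem on abelian Sylow `p`-subgroups with cyclic semiregular `N/C`: relations on
`p`-regular elements (helper30)
-/

set_option autoImplicit false
set_option linter.unusedSectionVars false

namespace Cfsg.Agent.Lib.Helper30.Brm

open scoped ComplexConjugate Classical
open Cfsg.Agent.Lib.Helper34 Cfsg.Agent.Lib.Helper30.Homo

section

variable {A : Type*} [Group A] [Fintype A] {ι : Type*} [Fintype ι] {D : CData A ι}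
  [Fintype (A →* ℂˣ)]

/-- a function on the dual group whose Fourier transform is supported at the identity is
constant -/
theorem const_of_fourier_support (hcomm : ∀ a b : A, a * b = b * a) (H : (A →* ℂˣ) → ℂ)
    (h : ∀ u : A, u ≠ 1 → ∑ φ : A →* ℂˣ, H φ * (φ u : ℂ) = 0) (φ₀ : A →* ℂˣ) :
    (Fintype.card A : ℂ) * H φ₀ = ∑ φ : A →* ℂˣ, H φ := by
  have h1 : ∑ u : A, (∑ φ : A →* ℂˣ, H φ * (φ u : ℂ)) * conj (φ₀ u : ℂ)
      = ∑ φ : A →* ℂˣ, H φ := by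
    rw [Finset.sum_eq_single (1 : A)]
    · simp
    · intro u _ hu
      rw [h u hu, zero_mul]
    · intro h0
      exact absurd (Finset.mem_univ _) h0
  rw [← h1]
  simp_rw [Finset.sum_mul]
  rw [Finset.sum_comm]
  have h2 : ∀ φ : A →* ℂˣ, ∑ u : A, H φ * (φ u : ℂ) * conj (φ₀ u : ℂ)
      = H φ * (if φ₀ = φ then (Fintype.card A : ℂ) else 0) := by
    intro φ
    rw [← sum_conj_mul_dual φ₀ φ, Finset.mul_sum]
    apply Finset.sum_congr rfl
    intro u _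
    ring
  rw [Finset.sum_congr rfl (fun φ _ => h2 φ)]
  simp_rw [mul_ite, mul_zero]
  rw [Finset.sum_ite_eq Finset.univ φ₀]
  simp only [Finset.mem_univ, if_true]
  ring

/-- the relations on a column orthogonal to all columns at nontrivial elements of `A` -/
theorem CData.Sol.regular_relation (s : D.Sol) (Gv : ι → ℂ)
    (horth : ∀ u : A, u ≠ 1 → ∑ χ, Gv χ * conj (D.F χ u) = 0) :
    (∀ φ ψ : A →* ℂˣ, φ ≠ 1 → ψ ≠ 1 → Gv (s.X φ) = Gv (s.X ψ)) ∧
      ∀ φ : A →* ℂˣ, φ ≠ 1 →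
        ((s.T.card : ℂ) * (s.d : ℂ) - (s.ε : ℂ)) * Gv (s.X φ)
          + ∑ χ ∈ s.XS, (s.a χ : ℂ) * Gv χ = 0 := by
  set A₀ : ℂ := ∑ χ, (s.a χ : ℂ) * Gv χ with hA₀
  have hε2 : (s.ε : ℂ) * (s.ε : ℂ) = 1 := by
    rcases s.hε with h | h <;> rw [h] <;> norm_num
  -- the relation at `u ≠ 1`
  have hrel : ∀ u : A, u ≠ 1 →
      A₀ + (s.ε : ℂ) * ∑ φ ∈ (Finset.univ : Finset (A →* ℂˣ)).erase 1,
        Gv (s.X φ) * (φ u : ℂ) = 0 := by
    intro u hu
    have hu' : u⁻¹ ≠ 1 := inv_ne_one.mpr hu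
    have h := horth u⁻¹ hu'
    have h1 : ∀ χ, Gv χ * conj (D.F χ u⁻¹)
        = (s.a χ : ℂ) * Gv χ + (s.ε : ℂ) * (Gv χ * s.E χ u) := by
      intro χ
      rw [s.value_ne χ hu', map_add, map_mul, map_intCast, map_intCast, s.conj_E, inv_inv]
      ring
    rw [Finset.sum_congr rfl (fun χ _ => h1 χ), Finset.sum_add_distrib, ← Finset.mul_sum,
      s.sum_mul_E] at h
    exact h
  -- the function `H`
  set H : (A →* ℂˣ) → ℂ := fun φ => if φ = 1 then (s.ε : ℂ) * A₀ else Gv (s.X φ) with hH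
  have hHsum : ∀ u : A, u ≠ 1 → ∑ φ : A →* ℂˣ, H φ * (φ u : ℂ) = 0 := by
    intro u hu
    rw [← Finset.add_sum_erase _ _ (Finset.mem_univ (1 : A →* ℂˣ))]
    have h1 : ∑ φ ∈ (Finset.univ : Finset (A →* ℂˣ)).erase 1, H φ * (φ u : ℂ)
        = ∑ φ ∈ (Finset.univ : Finset (A →* ℂˣ)).erase 1, Gv (s.X φ) * (φ u : ℂ) := by
      apply Finset.sum_congr rfl
      intro φ hφ
      rw [hH]
      simp only
      rw [if_neg (Finset.ne_of_mem_erase hφ)]
    rw [h1, hH]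
    simp only [if_true, MonoidHom.one_apply, Units.val_one, mul_one]
    have := hrel u hu
    linear_combination (s.ε : ℂ) * this
      - (∑ φ ∈ (Finset.univ : Finset (A →* ℂˣ)).erase 1, Gv (s.X φ) * (φ u : ℂ)) * hε2
  have hconst := const_of_fourier_support D.hcomm H hHsum
  have hQ : (Fintype.card A : ℂ) ≠ 0 := by exact_mod_cast Fintype.card_ne_zero
  have hall : ∀ φ : A →* ℂˣ, φ ≠ 1 → Gv (s.X φ) = (s.ε : ℂ) * A₀ := by
    intro φ hφ
    have h1 := hconst φ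
    have h2 := hconst 1
    have h3 : H φ = H 1 := by
      apply mul_left_cancel₀ hQ
      rw [h1, h2]
    rw [hH] at h3
    simp only [if_true] at h3
    rw [if_neg hφ] at h3
    exact h3
  refine ⟨fun φ ψ hφ hψ => by rw [hall φ hφ, hall ψ hψ], ?_⟩
  intro φ hφ
  have h1 : A₀ = (s.d : ℂ) * ∑ χ ∈ s.T, Gv χ + ∑ χ ∈ s.XS, (s.a χ : ℂ) * Gv χ :=
    s.sum_a_mul Gv
  have h2 : ∑ χ ∈ s.T, Gv χ = (s.T.card : ℂ) * Gv (s.X φ) := by
    have : ∀ χ ∈ s.T, Gv χ = Gv (s.X φ) := by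
      intro χ hχ
      obtain ⟨ψ, hψ, rfl⟩ := s.mem_T.mp hχ
      rw [hall ψ hψ, hall φ hφ]
    rw [Finset.sum_congr rfl this, Finset.sum_const, nsmul_eq_mul]
  rw [h2] at h1
  have h3 := hall φ hφ
  linear_combination (-1 : ℂ) * h1 - (s.ε : ℂ) * h3 - A₀ * hε2

end

end Cfsg.Agent.Lib.Helper30.Brm
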