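import Mathlib
import Cfsg.Agent.Lib.Helper30.HomoEval

/-!
# Brauer's theorem on homocyclic Sylow 2-subgroups: the abstract main theorem (helper30)
-/

set_option autoImplicit false
set_option linter.unusedSectionVars false

namespace Cfsg.Agent.Lib.Helper30.Homo

open scoped ComplexConjugate Classical
open Cfsg.Agent.Lib.Helper34

section

variable {A : Type*} [Group A] [Fintype A] {ι : Type*} [Fintype ι] {D : CharData A ι}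
  [Fintype (A →* ℂˣ)]

theorem sq_int_pm {δ : ℤ} (h : δ = 1 ∨ δ = -1) : (δ : ℂ) * (δ : ℂ) = 1 := by
  rcases h with h | h <;> rw [h] <;> norm_num

/-- the shape of the terms in the second relation -/
theorem CharData.Sol.term (s : D.Sol) {φ₀ : A →* ℂˣ} (hφ₀ : φ₀ ≠ 1) (χ : ι) :
    D.F χ (D.w ^ 2) * D.F χ (D.w ^ 2) * conj (D.F χ D.w) / D.F χ 1
      = (ev D.o χ : ℂ) + (ev s.ψ₁ χ : ℂ) * ((s.δ₁ : ℂ) / (D.S s.ψ₁ : ℂ))
        + (ev s.ψ₂ χ : ℂ) * ((s.δ₂ : ℂ) / (D.S s.ψ₂ : ℂ))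
        + (s.ε : ℂ) / (D.S (s.X φ₀) : ℂ)
          * (s.E χ (D.w ^ 2) * s.E χ (D.w ^ 2) * conj (s.E χ D.w)) := by
  have hw1 := D.w_ne_one
  have hz1 := D.w_sq_ne_one
  by_cases ho : χ = D.o
  · rw [ho, D.hFo, D.hFo, D.hFo, ev_self, ev_ne s.h1o.symm, ev_ne s.h2o.symm,
      s.E_eq_zero D.o (fun φ hφ => (s.hXo φ hφ).1)]
    simp
  by_cases h1 : χ = s.ψ₁
  · rw [h1, s.value_ne s.ψ₁ hz1, s.value_ne s.ψ₁ hw1, D.hF1, s.a_psi1,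
      s.E_eq_zero s.ψ₁ (fun φ hφ => (s.hXo φ hφ).2.1),
      s.E_eq_zero s.ψ₁ (fun φ hφ => (s.hXo φ hφ).2.1),
      ev_ne s.h1o, ev_self, ev_ne s.h12]
    simp only [mul_zero, add_zero, map_intCast, Int.cast_zero, Int.cast_one, zero_mul, one_mul,
      zero_add, map_zero]
    rw [sq_int_pm s.hδ₁, one_mul]
  by_cases h2 : χ = s.ψ₂
  · rw [h2, s.value_ne s.ψ₂ hz1, s.value_ne s.ψ₂ hw1, D.hF1, s.a_psi2,
      s.E_eq_zero s.ψ₂ (fun φ hφ => (s.hXo φ hφ).2.2),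
      s.E_eq_zero s.ψ₂ (fun φ hφ => (s.hXo φ hφ).2.2),
      ev_ne s.h2o, ev_self, ev_ne s.h12.symm]
    simp only [mul_zero, add_zero, map_intCast, Int.cast_zero, Int.cast_one, zero_mul, one_mul,
      zero_add, map_zero]
    rw [sq_int_pm s.hδ₂, one_mul]
  rw [s.value_ne χ hz1, s.value_ne χ hw1, D.hF1, s.a_other ho h1 h2, ev_ne ho, ev_ne h1, ev_ne h2]
  simp only [Int.cast_zero, zero_add, zero_mul, map_mul, map_intCast]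
  by_cases hex : ∃ φ : A →* ℂˣ, φ ≠ 1 ∧ s.X φ = χ
  · obtain ⟨φ, hφ, hX⟩ := hex
    rw [← hX, s.hd φ φ₀ hφ hφ₀]
    have hε := sq_int_pm s.hε
    have e : (s.ε : ℂ) * s.E (s.X φ) (D.w ^ 2) * ((s.ε : ℂ) * s.E (s.X φ) (D.w ^ 2))
        * ((s.ε : ℂ) * conj (s.E (s.X φ) D.w))
        = ((s.ε : ℂ) * (s.ε : ℂ)) * ((s.ε : ℂ) * (s.E (s.X φ) (D.w ^ 2) * s.E (s.X φ) (D.w ^ 2)
          * conj (s.E (s.X φ) D.w))) := by ring
    rw [e, hε, one_mul]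
    ring
  · push Not at hex
    rw [s.E_eq_zero χ hex, s.E_eq_zero χ hex]
    simp

theorem CharData.Sol.T_sum (s : D.Sol) :
    ∑ χ, s.E χ (D.w ^ 2) * s.E χ (D.w ^ 2) * conj (s.E χ D.w) = -9 := by
  have hw1 := D.w_ne_one
  have hz1 := D.w_sq_ne_one
  simp_rw [s.conj_E]
  rw [s.sum_mul_E (fun χ => s.E χ (D.w ^ 2) * s.E χ (D.w ^ 2))]
  set z := D.w ^ 2 with hz
  have hzz : z * z = 1 := D.z_mul_z
  have hterm : ∀ φ ∈ (Finset.univ : Finset (A →* ℂˣ)).erase 1,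
      s.E (s.X φ) z * s.E (s.X φ) z * (φ D.w⁻¹ : ℂ)
        = 3 * (φ D.w⁻¹ : ℂ) + 2 * ((φ (z * D.w⁻¹) : ℂ) + (φ (D.σ z * D.w⁻¹) : ℂ)
          + (φ (D.σ (D.σ z) * D.w⁻¹) : ℂ)) := by
    intro φ hφ
    rw [s.E_X (Finset.ne_of_mem_erase hφ)]
    have ha : (φ z : ℂ) * (φ z : ℂ) = 1 := by
      rw [← Units.val_mul, ← map_mul, hzz, map_one, Units.val_one]
    have hb : (φ (D.σ z) : ℂ) * (φ (D.σ z) : ℂ) = 1 := by
      rw [← Units.val_mul, ← map_mul, ← map_mul, hzz, map_one, map_one, Units.val_one]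
    have hc : (φ (D.σ (D.σ z)) : ℂ) * (φ (D.σ (D.σ z)) : ℂ) = 1 := by
      rw [← Units.val_mul, ← map_mul, ← map_mul, ← map_mul, hzz, map_one, map_one, map_one,
        Units.val_one]
    have habc : (φ z : ℂ) * (φ (D.σ z) : ℂ) * (φ (D.σ (D.σ z)) : ℂ) = 1 := by
      rw [← Units.val_mul, ← Units.val_mul, ← map_mul, ← map_mul, D.orbit_prod, map_one,
        Units.val_one]
    rw [map_mul, map_mul, map_mul, Units.val_mul, Units.val_mul, Units.val_mul]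
    generalize (φ z : ℂ) = a at *
    generalize (φ (D.σ z) : ℂ) = b at *
    generalize (φ (D.σ (D.σ z)) : ℂ) = c at *
    generalize (φ D.w⁻¹ : ℂ) = t at *
    linear_combination (t) * ha + (t) * hb + (t) * hc
      + (2 * t * (c + a + b)) * habc - (2 * t * a * b) * hc - (2 * t * b * c) * ha
      - (2 * t * c * a) * hb
  rw [Finset.sum_congr rfl hterm, Finset.sum_add_distrib, ← Finset.mul_sum, ← Finset.mul_sum,
    Finset.sum_add_distrib, Finset.sum_add_distrib]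
  have n0 : D.w⁻¹ ≠ 1 := inv_ne_one.mpr hw1
  have n1 : z * D.w⁻¹ ≠ 1 := by
    intro h
    have : z = D.w := mul_inv_eq_one.mp h
    rw [hz, pow_two] at this
    exact hw1 (mul_eq_left.mp this)
  have n2 : D.σ z * D.w⁻¹ ≠ 1 := by
    intro h
    have h1 : D.σ z = D.w := mul_inv_eq_one.mp h
    apply hz1
    rw [hz, pow_two, ← h1, ← map_mul, hzz, map_one]
  have n3 : D.σ (D.σ z) * D.w⁻¹ ≠ 1 := by
    intro h
    have h1 : D.σ (D.σ z) = D.w := mul_inv_eq_one.mp h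
    apply hz1
    rw [hz, pow_two, ← h1, ← map_mul, ← map_mul, hzz, map_one, map_one]
  rw [sum_erase_one_ne D.hcomm n0, sum_erase_one_ne D.hcomm n1, sum_erase_one_ne D.hcomm n2,
    sum_erase_one_ne D.hcomm n3]
  norm_num

/-- the second relation -/
theorem CharData.Sol.E2 (s : D.Sol) {φ₀ : A →* ℂˣ} (hφ₀ : φ₀ ≠ 1) :
    1 + (s.δ₁ : ℂ) / (D.S s.ψ₁ : ℂ) + (s.δ₂ : ℂ) / (D.S s.ψ₂ : ℂ)
      + (s.ε : ℂ) / (D.S (s.X φ₀) : ℂ) * (-9) = 0 := by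
  have h := D.hE2
  rw [Finset.sum_congr rfl (fun χ _ => s.term hφ₀ χ), Finset.sum_add_distrib,
    Finset.sum_add_distrib, Finset.sum_add_distrib, ← Finset.mul_sum, ← Finset.sum_mul,
    ← Finset.sum_mul, sum_ev_complex, sum_ev_complex, sum_ev_complex, s.T_sum] at h
  rw [← h]
  ring


theorem sq_int_pm' {δ : ℤ} (h : δ = 1 ∨ δ = -1) : δ * δ = 1 := by
  rcases h with h | h <;> rw [h] <;> norm_num

/-- **the abstract main theorem**: there is a second "linear character" trivial on `A` -/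
theorem CharData.main (D : CharData A ι) :
    ∃ χ, χ ≠ D.o ∧ D.S χ = 1 ∧ ∀ u, D.F χ u = 1 := by
  obtain ⟨s⟩ := D.exists_sol
  obtain ⟨φ₀, _, _, hφ₀, _⟩ := D.exists_three
  obtain ⟨q, hq⟩ := D.h16
  have hQ : (Fintype.card A : ℤ) = 16 * q := by exact_mod_cast hq
  have hf₁ : 0 < D.S s.ψ₁ := D.hS _
  have hf₂ : 0 < D.S s.ψ₂ := D.hS _
  have hd : 0 < D.S (s.X φ₀) := D.hS _
  have e1 := s.E1 hφ₀
  have e2 := s.E2 hφ₀
  have c1 := s.S_psi1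
  have c2 := s.S_psi2
  have c3 := s.S_X hφ₀
  have hδ1sq := sq_int_pm' s.hδ₁
  have hδ2sq := sq_int_pm' s.hδ₂
  have hεsq := sq_int_pm' s.hε
  have e2' : D.S s.ψ₁ * D.S s.ψ₂ * D.S (s.X φ₀) + s.δ₁ * D.S s.ψ₂ * D.S (s.X φ₀)
      + s.δ₂ * D.S s.ψ₁ * D.S (s.X φ₀) - 9 * s.ε * D.S s.ψ₁ * D.S s.ψ₂ = 0 := by
    have hf₁c : (D.S s.ψ₁ : ℂ) ≠ 0 := by exact_mod_cast hf₁.ne'
    have hf₂c : (D.S s.ψ₂ : ℂ) ≠ 0 := by exact_mod_cast hf₂.ne'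
    have hdc : (D.S (s.X φ₀) : ℂ) ≠ 0 := by exact_mod_cast hd.ne'
    have : ((D.S s.ψ₁ * D.S s.ψ₂ * D.S (s.X φ₀) + s.δ₁ * D.S s.ψ₂ * D.S (s.X φ₀)
      + s.δ₂ * D.S s.ψ₁ * D.S (s.X φ₀) - 9 * s.ε * D.S s.ψ₁ * D.S s.ψ₂ : ℤ) : ℂ) = 0 := by
      push_cast
      field_simp at e2
      linear_combination e2
    exact_mod_cast this
  obtain ⟨hF₁, hF₂⟩ := homo_arith (s.δ₁ * D.S s.ψ₁) (s.δ₂ * D.S s.ψ₂) (s.ε * D.S (s.X φ₀))
    (q * s.δ₁ * s.c s.ψ₁) (q * s.δ₂ * s.c s.ψ₂) (q * s.ε * s.c (s.X φ₀))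
    (by linear_combination s.δ₁ * c1 + hδ1sq + (s.δ₁ * s.c s.ψ₁) * hQ)
    (by linear_combination s.δ₂ * c2 + hδ2sq + (s.δ₂ * s.c s.ψ₂) * hQ)
    (by linear_combination s.ε * c3 + 3 * hεsq + (s.ε * s.c (s.X φ₀)) * hQ)
    e1
    (by linear_combination (s.ε * s.δ₁ * s.δ₂) * e2'
      - (s.ε * s.δ₂ * D.S s.ψ₂ * D.S (s.X φ₀)) * hδ1sq
      - (s.ε * s.δ₁ * D.S s.ψ₁ * D.S (s.X φ₀)) * hδ2sq
      + (9 * s.δ₁ * s.δ₂ * D.S s.ψ₁ * D.S s.ψ₂) * hεsq)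
  have hδ₁ : s.δ₁ = 1 := by
    rcases s.hδ₁ with h | h
    · exact h
    · rw [h] at hF₁
      omega
  have hS1 : D.S s.ψ₁ = 1 := by
    rw [hδ₁] at hF₁
    omega
  refine ⟨s.ψ₁, s.h1o, hS1, ?_⟩
  intro u
  by_cases hu : u = 1
  · rw [hu, D.hF1, hS1]
    simp
  · rw [s.value_ne s.ψ₁ hu, s.a_psi1, s.E_eq_zero s.ψ₁ (fun φ hφ => (s.hXo φ hφ).2.1), hδ₁]
    simp

end

end Cfsg.Agent.Lib.Helper30.Homo
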