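import Mathlib
import Cfsg.Prelude.Def_Solvable
import Cfsg.Agent.Lib.Helper42.PPrimeCore

/-!
# Brauer's theorem on homocyclic Sylow 2-subgroups: group theory (helper30)
-/

set_option autoImplicit false

namespace Cfsg.Agent.Lib.Helper30.Homo

open Cfsg

/-- Burnside: if `N(R) ≤ C(R)` for a Sylow 2-subgroup `R`, there is a normal subgroup of odd
order containing all commutators, and `O(H)` has 2-power index. -/
theorem burnside_two {H : Type*} [Group H] [Finite H] (R : Sylow 2 H)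
    (hR : Subgroup.normalizer ((R : Subgroup H) : Set H) ≤
      Subgroup.centralizer ((R : Subgroup H) : Set H)) :
    (∃ k : ℕ, (pPrimeCore 2 H).index = 2 ^ k) ∧
      ∃ K : Subgroup H, K.Normal ∧ Odd (Nat.card K) ∧ (∀ h₁ h₂ : H, h₁ * h₂ * h₁⁻¹ * h₂⁻¹ ∈ K) ∧
        Subgroup.IsComplement' K (R : Subgroup H) := by
  haveI : Fact (Nat.Prime 2) := ⟨Nat.prime_two⟩
  set φ := MonoidHom.transferSylow R hR with hφ
  have hcompl := MonoidHom.ker_transferSylow_isComplement' R hR
  have hodd : Odd (Nat.card φ.ker) := by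
    have := MonoidHom.not_dvd_card_ker_transferSylow R hR
    rwa [← Nat.not_even_iff_odd, even_iff_two_dvd]
  have hRcomm : ∀ a b : (R : Subgroup H), a * b = b * a := by
    intro a b
    apply Subtype.ext
    exact hR (Subgroup.le_normalizer b.2) a a.2
  have hcommK : ∀ h₁ h₂ : H, h₁ * h₂ * h₁⁻¹ * h₂⁻¹ ∈ φ.ker := by
    intro h₁ h₂
    rw [MonoidHom.mem_ker, map_mul, map_mul, map_mul, map_inv, map_inv, hRcomm (φ h₁) (φ h₂)]
    group
  refine ⟨?_, φ.ker, inferInstance, hodd, hcommK, hcompl⟩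
  have hle : φ.ker ≤ pPrimeCore 2 H :=
    Cfsg.Agent.Lib.Helper42.le_pPrimeCore φ.ker
      (Nat.Coprime.symm ((Nat.Prime.coprime_iff_not_dvd Nat.prime_two).mpr hodd.not_two_dvd_nat))
  have h1 : (pPrimeCore 2 H).index ∣ φ.ker.index := Subgroup.index_dvd_of_le hle
  obtain ⟨n, hn⟩ := (R.isPGroup').exists_card_eq
  rw [hcompl.symm.index_eq_card, hn] at h1
  obtain ⟨k, -, hk⟩ := (Nat.dvd_prime_pow Nat.prime_two).mp h1
  exact ⟨k, hk⟩

/-- if `O(G) = 1` and `N(P) ≤ C(P)` then `G = P` -/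
theorem eq_top_of_normalizer_le_centralizer {G : Type*} [Group G] [Finite G] (P : Sylow 2 G)
    (hO : ∀ N : Subgroup G, N.Normal → Odd (Nat.card N) → N = ⊥)
    (hP : Subgroup.normalizer ((P : Subgroup G) : Set G) ≤
      Subgroup.centralizer ((P : Subgroup G) : Set G)) : (P : Subgroup G) = ⊤ := by
  obtain ⟨-, K, hKn, hKodd, -, hcompl⟩ := burnside_two P hP
  have hK : K = ⊥ := hO K hKn hKodd
  rw [hK] at hcompl
  exact Subgroup.isComplement'_bot_left.mp hcompl

section centralizer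

variable {G : Type*} [Group G] [Finite G] (P : Sylow 2 G)

/-- the centralizer of a nontrivial element of `P` is 2-nilpotent with abelian Sylow
2-subgroups, provided `C_G(u) ∩ N_G(P) = C_G(P)` -/
theorem centralizer_two_nilpotent
    (hcomm : ∀ a ∈ (P : Subgroup G), ∀ b ∈ (P : Subgroup G), a * b = b * a)
    (u : G) (hu : u ∈ (P : Subgroup G))
    (hfpf : Subgroup.centralizer ({u} : Set G) ⊓ Subgroup.normalizer ((P : Subgroup G) : Set G)
      = Subgroup.centralizer ((P : Subgroup G) : Set G)) :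
    (∃ k : ℕ, (pPrimeCore 2 (Subgroup.centralizer ({u} : Set G))).index = 2 ^ k) ∧
      ∃ K : Subgroup G, Odd (Nat.card K) ∧
        ∀ h₁ ∈ Subgroup.centralizer ({u} : Set G), ∀ h₂ ∈ Subgroup.centralizer ({u} : Set G),
          h₁ * h₂ * h₁⁻¹ * h₂⁻¹ ∈ K := by
  haveI : Fact (Nat.Prime 2) := ⟨Nat.prime_two⟩
  set H := Subgroup.centralizer ({u} : Set G) with hH
  have hPH : (P : Subgroup G) ≤ H := by
    intro a ha
    rw [hH, Subgroup.mem_centralizer_singleton_iff]
    exact hcomm a ha u hu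
  set R : Sylow 2 ↥H := P.subtype hPH with hR
  have hRcoe : (R : Subgroup ↥H) = (P : Subgroup G).subgroupOf H := Sylow.coe_subtype P hPH
  have hNC : Subgroup.normalizer ((R : Subgroup ↥H) : Set ↥H) ≤
      Subgroup.centralizer ((R : Subgroup ↥H) : Set ↥H) := by
    intro h hh
    have hmem : (h : G) ∈ Subgroup.normalizer ((P : Subgroup G) : Set G) := by
      rw [Subgroup.mem_normalizer_iff]
      intro a
      constructor
      · intro ha
        have h1 := (Subgroup.mem_normalizer_iff.mp hh ⟨a, hPH ha⟩).mp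
          (by rw [hRcoe, Subgroup.mem_subgroupOf]; exact ha)
        rw [hRcoe, Subgroup.mem_subgroupOf] at h1
        exact h1
      · intro ha
        have ha' : a ∈ H := by
          have h2 : a = (h : G)⁻¹ * ((h : G) * a * (h : G)⁻¹) * (h : G) := by group
          rw [h2]
          exact H.mul_mem (H.mul_mem (H.inv_mem h.2) (hPH ha)) h.2
        have h1 := (Subgroup.mem_normalizer_iff.mp hh ⟨a, ha'⟩).mpr
          (by rw [hRcoe, Subgroup.mem_subgroupOf]; exact ha)
        rw [hRcoe, Subgroup.mem_subgroupOf] at h1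
        exact h1
    have hcent : (h : G) ∈ Subgroup.centralizer ((P : Subgroup G) : Set G) := by
      rw [← hfpf]
      exact ⟨h.2, hmem⟩
    rw [Subgroup.mem_centralizer_iff]
    intro a ha
    rw [SetLike.mem_coe, hRcoe, Subgroup.mem_subgroupOf] at ha
    apply Subtype.ext
    exact (Subgroup.mem_centralizer_iff.mp hcent) (a : G) ha
  obtain ⟨hidx, K, -, hKodd, hKcomm, -⟩ := burnside_two R hNC
  refine ⟨hidx, K.map H.subtype, ?_, ?_⟩
  · rw [Subgroup.card_map_of_injective H.subtype_injective]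
    exact hKodd
  · intro h₁ hh₁ h₂ hh₂
    exact ⟨⟨h₁, hh₁⟩ * ⟨h₂, hh₂⟩ * ⟨h₁, hh₁⟩⁻¹ * ⟨h₂, hh₂⟩⁻¹, hKcomm _ _, rfl⟩

end centralizer

/-- an element whose 2-part `w` has order four is not a product of two involutions, if
the centralizer of `w ^ 2` is 2-nilpotent with abelian Sylow 2-subgroups -/
theorem not_prod_involutions {G : Type*} [Group G] [Finite G] (w : G) (hw : orderOf w = 4)
    (K : Subgroup G) (hKodd : Odd (Nat.card K))
    (hK : ∀ h₁ ∈ Subgroup.centralizer ({w ^ 2} : Set G),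
      ∀ h₂ ∈ Subgroup.centralizer ({w ^ 2} : Set G), h₁ * h₂ * h₁⁻¹ * h₂⁻¹ ∈ K)
    (s t y : G) (hs : orderOf s = 2) (ht : orderOf t = 2) (hy : Odd (orderOf y))
    (hwy : Commute w y) (hprod : s * t = w * y) : False := by
  have hs2 : s * s = 1 := by rw [← pow_two, ← hs]; exact pow_orderOf_eq_one s
  have ht2 : t * t = 1 := by rw [← pow_two, ← ht]; exact pow_orderOf_eq_one t
  have hsinv : s⁻¹ = s := inv_eq_of_mul_eq_one_left hs2
  have htinv : t⁻¹ = t := inv_eq_of_mul_eq_one_left ht2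
  have hw4 : w ^ 4 = 1 := by rw [← hw]; exact pow_orderOf_eq_one w
  -- `s` inverts `g = w y`
  have hinv : s * (w * y) * s⁻¹ = (w * y)⁻¹ := by
    rw [← hprod, mul_inv_rev, hsinv, htinv]
    calc s * (s * t) * s = (s * s) * t * s := by group
      _ = t * s := by rw [hs2, one_mul]
  set n := orderOf y with hn
  have hyn : y ^ n = 1 := pow_orderOf_eq_one y
  have hgn : (w * y) ^ n = w ^ n := by rw [hwy.mul_pow, hyn, mul_one]
  have hinvn : s * w ^ n * s⁻¹ = (w ^ n)⁻¹ := by
    rw [← hgn]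
    have h1 : s * (w * y) ^ n * s⁻¹ = (s * (w * y) * s⁻¹) ^ n := by
      rw [conj_pow]
    rw [h1, hinv, inv_pow]
  -- `w ^ n` is `w` or `w⁻¹`
  have hwn : w ^ n = w ∨ w ^ n = w⁻¹ := by
    obtain ⟨q, hq⟩ := hy
    rcases Nat.even_or_odd' q with ⟨r, hr | hr⟩
    · left
      have : n = 4 * r + 1 := by omega
      rw [this, pow_add, pow_mul, hw4, one_pow, one_mul, pow_one]
    · right
      have : n = 4 * r + 3 := by omega
      rw [this, pow_add, pow_mul, hw4, one_pow, one_mul]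
      have h3 : w ^ 3 * w = 1 := by rw [← pow_succ]; exact hw4
      exact eq_inv_of_mul_eq_one_left h3
  have hsw : s * w * s⁻¹ = w⁻¹ := by
    rcases hwn with h | h
    · rw [h] at hinvn; exact hinvn
    · rw [h, inv_inv] at hinvn
      have h1 : s * w * s⁻¹ = (s * w⁻¹ * s⁻¹)⁻¹ := by group
      rw [h1, hinvn]
  -- `s` and `w` centralize `r = w ^ 2`
  have hr2 : w ^ 2 * w ^ 2 = 1 := by rw [← pow_add]; exact hw4
  have hrinv : (w ^ 2)⁻¹ = w ^ 2 := inv_eq_of_mul_eq_one_left hr2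
  have hsr : s * w ^ 2 * s⁻¹ = w ^ 2 := by
    have h1 : s * w ^ 2 * s⁻¹ = (s * w * s⁻¹) ^ 2 := by rw [conj_pow]
    rw [h1, hsw, inv_pow, hrinv]
  have hsC : s ∈ Subgroup.centralizer ({w ^ 2} : Set G) := by
    rw [Subgroup.mem_centralizer_singleton_iff]
    calc s * w ^ 2 = (s * w ^ 2 * s⁻¹) * s := by group
      _ = w ^ 2 * s := by rw [hsr]
  have hwC : w ∈ Subgroup.centralizer ({w ^ 2} : Set G) := by
    rw [Subgroup.mem_centralizer_singleton_iff]
    rw [← pow_succ, ← pow_succ']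
  have hmem := hK s hsC w hwC
  have hcomm_eq : s * w * s⁻¹ * w⁻¹ = w ^ 2 := by
    rw [hsw, ← hrinv, pow_two, mul_inv_rev]
  rw [hcomm_eq] at hmem
  -- `w ^ 2` has order two but lies in a group of odd order
  have hord : orderOf (w ^ 2) = 2 := by
    rw [orderOf_pow' _ (by norm_num), hw]
    norm_num
  have hdvd : orderOf (⟨w ^ 2, hmem⟩ : K) ∣ Nat.card K := orderOf_dvd_natCard _
  rw [Subgroup.orderOf_mk, hord] at hdvd
  exact hKodd.not_two_dvd_nat hdvd

section sigma

variable {G : Type*} [Group G] [Finite G] (P : Sylow 2 G)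

/-- the automorphism of order three of `P` induced by `N_G(P)`, with the fusion it controls -/
theorem exists_sigma
    (hcomm : ∀ a ∈ (P : Subgroup G), ∀ b ∈ (P : Subgroup G), a * b = b * a)
    (h3 : (Subgroup.centralizer ((P : Subgroup G) : Set G)).relIndex
      (Subgroup.normalizer ((P : Subgroup G) : Set G)) = 3)
    (hfpf : ∀ z ∈ (P : Subgroup G), z ≠ 1 →
      Subgroup.centralizer ({z} : Set G) ⊓ Subgroup.normalizer ((P : Subgroup G) : Set G)
        = Subgroup.centralizer ((P : Subgroup G) : Set G)) :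
    ∃ σ : MulAut (P : Subgroup G), (∀ u, σ (σ (σ u)) = u) ∧ (∀ u, u ≠ 1 → σ u ≠ u) ∧
      (∀ u : (P : Subgroup G), ∃ g : G, ((σ u : (P : Subgroup G)) : G) = g * (u : G) * g⁻¹) ∧
      (∀ u v : (P : Subgroup G), IsConj (u : G) (v : G) → v = u ∨ v = σ u ∨ v = σ (σ u)) := by
  haveI : Fact (Nat.Prime 2) := ⟨Nat.prime_two⟩
  haveI : Fact (Nat.Prime 3) := ⟨Nat.prime_three⟩
  set f := (P : Subgroup G).normalizerMonoidHom with hf
  have hcard : Nat.card f.range = 3 := by
    rw [← h3, Subgroup.relIndex, ← Subgroup.normalizerMonoidHom_ker, Subgroup.index_ker]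
  obtain ⟨σ, hσr, hσ1⟩ : ∃ σ ∈ f.range, σ ≠ 1 := by
    by_contra hne
    push Not at hne
    have : f.range = ⊥ := (Subgroup.eq_bot_iff_forall _).mpr hne
    rw [this, Subgroup.card_bot] at hcard
    omega
  have hord : orderOf σ = 3 := by
    have h1 : orderOf (⟨σ, hσr⟩ : f.range) ∣ Nat.card f.range := orderOf_dvd_natCard _
    rw [hcard, Subgroup.orderOf_mk] at h1
    rcases (Nat.dvd_prime Nat.prime_three).mp h1 with h | h
    · exact absurd (orderOf_eq_one_iff.mp h) hσ1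
    · exact h
  obtain ⟨x, hx⟩ := hσr
  have hσ3 : σ ^ 3 = 1 := by rw [← hord]; exact pow_orderOf_eq_one σ
  have happ : ∀ u : (P : Subgroup G), ((σ u : (P : Subgroup G)) : G) = (x : G) * u * (x : G)⁻¹ := by
    intro u
    rw [← hx]
    rfl
  have hrange : f.range = Subgroup.zpowers σ := by
    symm
    apply Subgroup.eq_of_le_of_card_ge
    · rw [Subgroup.zpowers_le]; exact ⟨x, hx⟩
    · rw [hcard, Nat.card_zpowers, hord]
  refine ⟨σ, ?_, ?_, ?_, ?_⟩
  · intro u
    have := congrArg (fun τ : MulAut (P : Subgroup G) => τ u) hσ3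
    simpa [pow_succ, MulAut.mul_apply] using this
  · intro u hu hfix
    apply hσ1
    have hxc : (x : G) ∈ Subgroup.centralizer ({(u : G)} : Set G) := by
      rw [Subgroup.mem_centralizer_singleton_iff]
      have h1 := happ u
      rw [hfix] at h1
      calc (x : G) * u = ((x : G) * u * (x : G)⁻¹) * x := by group
        _ = u * x := by rw [← h1]
    have hu1 : (u : G) ≠ 1 := fun h => hu (Subtype.ext h)
    have hxC : (x : G) ∈ Subgroup.centralizer ((P : Subgroup G) : Set G) := by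
      rw [← hfpf (u : G) u.2 hu1]
      exact ⟨hxc, x.2⟩
    have hker : x ∈ f.ker := by
      rw [hf, Subgroup.normalizerMonoidHom_ker, Subgroup.mem_subgroupOf]
      exact hxC
    rw [← hx]
    exact hker
  · intro u
    exact ⟨x, happ u⟩
  · intro u v huv
    obtain ⟨g, hg⟩ := isConj_iff.mp huv
    haveI : IsMulCommutative (P : Subgroup G) :=
      ⟨⟨fun a b => Subtype.ext (hcomm a a.2 b b.2)⟩⟩
    obtain ⟨n, hn, hn2⟩ := P.conj_eq_normalizer_conj_of_mem (u : G) g⁻¹ u.2
      (by rw [inv_inv, hg]; exact v.2)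
    rw [inv_inv, hg] at hn2
    have hninv : n⁻¹ ∈ Subgroup.normalizer ((P : Subgroup G) : Set G) := Subgroup.inv_mem _ hn
    set τ := f ⟨n⁻¹, hninv⟩ with hτ
    have hτu : τ u = v := by
      apply Subtype.ext
      rw [hn2]
      show n⁻¹ * (u : G) * (n⁻¹)⁻¹ = _
      rw [inv_inv]
    have hτr : τ ∈ Subgroup.zpowers σ := by
      rw [← hrange]; exact ⟨_, rfl⟩
    obtain ⟨j, hj⟩ := Subgroup.mem_zpowers_iff.mp hτr
    have hj2 : σ ^ (j % 3) = τ := by
      rw [← hj]
      have := zpow_mod_orderOf σ j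
      rw [hord] at this
      exact_mod_cast this
    have hj3 : 0 ≤ j % 3 := Int.emod_nonneg j (by norm_num)
    have hj4 : j % 3 < 3 := Int.emod_lt_of_pos j (by norm_num)
    have hcases : j % 3 = 0 ∨ j % 3 = 1 ∨ j % 3 = 2 := by omega
    rcases hcases with h | h | h
    · left
      rw [h, zpow_zero] at hj2
      rw [← hτu, ← hj2]; rfl
    · right; left
      rw [h, zpow_one] at hj2
      rw [← hτu, ← hj2]
    · right; right
      rw [h] at hj2
      rw [← hτu, ← hj2]
      rfl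

end sigma

/-- the group-theoretic data used by the character-theoretic argument -/
structure HData (G : Type*) [Group G] where
  P : Subgroup G
  σ : MulAut P
  w : P
  hcomm : ∀ a b : P, a * b = b * a
  hσ3 : ∀ u : P, σ (σ (σ u)) = u
  hfree : ∀ u : P, u ≠ 1 → σ u ≠ u
  hconj : ∀ u : P, ∃ g : G, ((σ u : P) : G) = g * (u : G) * g⁻¹
  hfus : ∀ u v : P, IsConj (u : G) (v : G) → v = u ∨ v = σ u ∨ v = σ (σ u)
  hw : orderOf w = 4
  hidx : ∀ u : P, u ≠ 1 →
    ∃ k : ℕ, (pPrimeCore 2 (Subgroup.centralizer ({(u : G)} : Set G))).index = 2 ^ k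
  hK : ∃ K : Subgroup G, Odd (Nat.card K) ∧
    ∀ h₁ ∈ Subgroup.centralizer ({(w : G) ^ 2} : Set G),
      ∀ h₂ ∈ Subgroup.centralizer ({(w : G) ^ 2} : Set G), h₁ * h₂ * h₁⁻¹ * h₂⁻¹ ∈ K
  hsyl : ∀ u : P, 2 ^ (Nat.card (Subgroup.centralizer ({(u : G)} : Set G))).factorization 2
    = Nat.card P
  h16 : 16 ∣ Nat.card P

theorem exists_order_four {P : Type*} [Group P] (m : ℕ) (hm : 2 ≤ m)
    (e : P ≃* Multiplicative (ZMod (2 ^ m) × ZMod (2 ^ m))) : ∃ w : P, orderOf w = 4 := by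
  have hpos : 0 < 2 ^ m := pow_pos (by norm_num) m
  have : NeZero (2 ^ m) := ⟨hpos.ne'⟩
  set g₀ : Multiplicative (ZMod (2 ^ m) × ZMod (2 ^ m)) :=
    Multiplicative.ofAdd ((1 : ZMod (2 ^ m)), (0 : ZMod (2 ^ m))) with hg₀
  have h1 : orderOf g₀ = 2 ^ m := by
    rw [hg₀, orderOf_ofAdd_eq_addOrderOf, Prod.addOrderOf]
    simp [ZMod.addOrderOf_one]
  refine ⟨e.symm (g₀ ^ (2 ^ (m - 2))), ?_⟩
  rw [MulEquiv.orderOf_eq, orderOf_pow' _ (pow_pos (by norm_num) _).ne', h1]
  have h2 : 2 ^ m = 2 ^ (m - 2) * 4 := by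
    have : m = (m - 2) + 2 := by omega
    conv_lhs => rw [this, pow_add]
    norm_num
  rw [h2, Nat.gcd_mul_right_left, Nat.mul_div_cancel_left _ (pow_pos (by norm_num) _)]

theorem sixteen_dvd_card {P : Type*} [Group P] (m : ℕ) (hm : 2 ≤ m)
    (e : P ≃* Multiplicative (ZMod (2 ^ m) × ZMod (2 ^ m))) : 16 ∣ Nat.card P := by
  have hpos : 0 < 2 ^ m := pow_pos (by norm_num) m
  have : NeZero (2 ^ m) := ⟨hpos.ne'⟩
  rw [Nat.card_congr e.toEquiv]
  show 16 ∣ Nat.card (ZMod (2 ^ m) × ZMod (2 ^ m))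
  rw [Nat.card_prod, Nat.card_zmod]
  have : m = (m - 2) + 2 := by omega
  rw [this, pow_add]
  exact ⟨2 ^ (m - 2) * 2 ^ (m - 2), by ring⟩

theorem exists_hData {G : Type*} [Group G] [Finite G] (P : Sylow 2 G) (m : ℕ) (hm : 2 ≤ m)
    (e : (P : Subgroup G) ≃* Multiplicative (ZMod (2 ^ m) × ZMod (2 ^ m)))
    (h3 : (Subgroup.centralizer ((P : Subgroup G) : Set G)).relIndex
      (Subgroup.normalizer ((P : Subgroup G) : Set G)) = 3)
    (hfpf : ∀ z ∈ (P : Subgroup G), z ≠ 1 →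
      Subgroup.centralizer ({z} : Set G) ⊓ Subgroup.normalizer ((P : Subgroup G) : Set G)
        = Subgroup.centralizer ((P : Subgroup G) : Set G)) :
    ∃ D : HData G, D.P = (P : Subgroup G) := by
  haveI : Fact (Nat.Prime 2) := ⟨Nat.prime_two⟩
  have hcomm' : ∀ a b : (P : Subgroup G), a * b = b * a := by
    intro a b
    apply e.injective
    rw [map_mul, map_mul, mul_comm]
  have hcomm : ∀ a ∈ (P : Subgroup G), ∀ b ∈ (P : Subgroup G), a * b = b * a := by
    intro a ha b hb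
    exact congrArg Subtype.val (hcomm' ⟨a, ha⟩ ⟨b, hb⟩)
  obtain ⟨σ, hσ3, hfree, hconj, hfus⟩ := exists_sigma P hcomm h3 hfpf
  obtain ⟨w, hw⟩ := exists_order_four m hm e
  have hw1 : (w : G) ^ 2 ≠ 1 := by
    intro h
    have h1 : orderOf (w : G) ∣ 2 := orderOf_dvd_of_pow_eq_one h
    rw [Subgroup.orderOf_coe, hw] at h1
    omega
  have hw2 : (w : G) ^ 2 ∈ (P : Subgroup G) := Subgroup.pow_mem _ w.2 2
  refine ⟨⟨(P : Subgroup G), σ, w, hcomm', hσ3, hfree, hconj, hfus, hw, ?_, ?_, ?_,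
    sixteen_dvd_card m hm e⟩, rfl⟩
  · intro u hu
    have hu1 : (u : G) ≠ 1 := fun h => hu (Subtype.ext h)
    exact (centralizer_two_nilpotent P hcomm (u : G) u.2 (hfpf (u : G) u.2 hu1)).1
  · exact (centralizer_two_nilpotent P hcomm ((w : G) ^ 2) hw2 (hfpf _ hw2 hw1)).2
  · intro u
    set H := Subgroup.centralizer ({(u : G)} : Set G) with hH
    have hPH : (P : Subgroup G) ≤ H := by
      intro a ha
      rw [hH, Subgroup.mem_centralizer_singleton_iff]
      exact hcomm a ha u u.2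
    have hcardP := P.card_eq_multiplicity
    have h1 : Nat.card (P : Subgroup G) ∣ Nat.card H := Subgroup.card_dvd_of_le hPH
    have h2 : Nat.card H ∣ Nat.card G := Subgroup.card_subgroup_dvd_card H
    have hHpos : Nat.card H ≠ 0 := Nat.card_pos.ne'
    have hGpos : Nat.card G ≠ 0 := Nat.card_pos.ne'
    have h3' : (Nat.card H).factorization 2 ≤ (Nat.card G).factorization 2 :=
      (Nat.factorization_le_iff_dvd hHpos hGpos).mpr h2 2
    have h4 : (Nat.card G).factorization 2 ≤ (Nat.card H).factorization 2 := by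
      rw [hcardP] at h1
      exact (Nat.Prime.pow_dvd_iff_le_factorization Nat.prime_two hHpos).mp h1
    rw [hcardP, le_antisymm h3' h4]

end Cfsg.Agent.Lib.Helper30.Homo
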