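import Mathlib
import Cfsg.Agent.S0947
import Cfsg.Agent.Lib.Helper30.HomoGroup
import Cfsg.Agent.Lib.Helper30.HomoFinal
import Cfsg.Agent.Lib.Helper82.BlockOrthFull
import Cfsg.Agent.Lib.Helper82.Counting
import Cfsg.Agent.Lib.Helper82.DefectZero
import Cfsg.Agent.Lib.Helper82.CharSchur
import Cfsg.Agent.Lib.Helper83.CharBasic
import Cfsg.Agent.Lib.Helper83.Orthogonality
import Cfsg.Agent.Lib.Helper83.Linear
import Cfsg.Agent.Lib.Helper05.CharBasic

/-!
# Brauer's theorem on homocyclic Sylow 2-subgroups: the principal block relations (helper30)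
-/

set_option autoImplicit false
set_option linter.unusedSectionVars false

namespace Cfsg.Agent.Lib.Helper30.Homo

open Cfsg
open scoped ComplexConjugate Classical

universe u

variable {G : Type u} [Group G] [Finite G]

/-- the principal block as a type -/
abbrev PB (M : Ideal AlgInt) (G : Type u) [Group G] : Type u :=
  {χ : IrrCharacter G // χ ∈ principalBlock M G}

theorem finsum_mem_pb {R : Type*} [AddCommMonoid R] (M : Ideal AlgInt) [Fintype (PB M G)]
    (f : IrrCharacter G → R) :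
    ∑ᶠ χ ∈ principalBlock M G, f χ = ∑ χ : PB M G, f χ.1 := by
  rw [← finsum_set_coe_eq_finsum_mem, finsum_eq_sum_of_fintype]

/-- the trivial irreducible character -/
noncomputable def oneIrr (G : Type u) [Group G] : IrrCharacter G :=
  ⟨fun _ => 1, Cfsg.Agent.Lib.Helper05.isIrrCharacter_one⟩

theorem PB.isCharacter {M : Ideal AlgInt} (χ : PB M G) : IsCharacter G (χ.1 : G → ℂ) :=
  Cfsg.Agent.Lib.Helper82.IsIrrCharacter.isCharacter χ.1.2

variable (D : HData G)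

theorem HData.card_P : ∃ n : ℕ, Nat.card D.P = 2 ^ n := ⟨_, (D.hsyl 1).symm⟩

theorem HData.orderOf_coe (u : D.P) : ∃ k : ℕ, orderOf (u : G) = 2 ^ k := by
  obtain ⟨n, hn⟩ := D.card_P
  have h : orderOf u ∣ Nat.card D.P := orderOf_dvd_natCard u
  rw [hn] at h
  obtain ⟨k, _, hk⟩ := (Nat.dvd_prime_pow Nat.prime_two).mp h
  exact ⟨k, by rw [Subgroup.orderOf_coe, hk]⟩

theorem HData.isPPart_self (u : D.P) : IsPPart 2 (u : G) (u : G) :=
  ⟨1, mul_one _, Commute.one_right _, D.orderOf_coe u, by rw [orderOf_one]; norm_num⟩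

variable (M : Ideal AlgInt) (hM : IsPModular 2 M)

include hM

/-- the norm of a column of the principal block at a nontrivial element of `P` -/
theorem HData.sum_norm [Fintype (PB M G)] (u : D.P) (hu : u ≠ 1) :
    ∑ χ : PB M G, (χ.1 : G → ℂ) u * conj ((χ.1 : G → ℂ) u) = (Nat.card D.P : ℂ) := by
  haveI : Fact (Nat.Prime 2) := ⟨Nat.prime_two⟩
  have hu1 : (u : G) ≠ 1 := fun h => hu (Subtype.ext h)
  have h := (Cfsg.Agent.S0947.result 2 M hM (u : G) (D.orderOf_coe u) hu1 1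
    (by rw [orderOf_one]; norm_num)).2 (D.hidx u hu)
  rw [D.hsyl u, finsum_mem_pb] at h
  simp only [OneMemClass.coe_one, mul_one] at h
  have h2 : ∀ χ : PB M G, (χ.1 : G → ℂ) u * conj ((χ.1 : G → ℂ) u)
      = ((‖(χ.1 : G → ℂ) u‖ ^ 2 : ℝ) : ℂ) := by
    intro χ
    rw [Complex.mul_conj, Complex.normSq_eq_norm_sq]
  rw [Finset.sum_congr rfl (fun χ _ => h2 χ), ← Complex.ofReal_sum, h]
  simp

/-- columns of the principal block at non-conjugate elements of `P` are orthogonal -/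
theorem HData.sum_nonconj [Fintype (PB M G)] (u v : D.P) (h : ¬ IsConj (u : G) (v : G)) :
    ∑ χ : PB M G, (χ.1 : G → ℂ) u * conj ((χ.1 : G → ℂ) v) = 0 := by
  haveI := Fintype.ofFinite G
  have key : ∑ᶠ χ ∈ principalBlock M G, (χ : G → ℂ) u * (χ : G → ℂ) (v : G)⁻¹ = 0 :=
    Cfsg.Agent.Lib.Helper82.sum_block_mul_eq_zero_of_not_isConj hM (oneIrr G) (u : G) (v : G)⁻¹
      (u : G) (v : G) (D.isPPart_self u) (by rw [inv_inv]; exact D.isPPart_self v) h
  rw [finsum_mem_pb] at key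
  rw [← key]
  apply Finset.sum_congr rfl
  intro χ _
  rw [Cfsg.Agent.Lib.Helper83.char_inv χ.isCharacter]

omit hM

omit [Finite G] in
/-- multiplicities of linear characters of `P` in restrictions are integers -/
theorem HData.mult_int [Fintype D.P] (χ : G → ℂ) (hχ : IsCharacter G χ) (φ : D.P →* ℂˣ) :
    ∃ n : ℤ, (Fintype.card D.P : ℂ)⁻¹ * ∑ u : D.P, χ u * conj (φ u : ℂ) = n := by
  have h1 : IsCharacter D.P (fun u : D.P => χ u) :=
    Cfsg.Agent.Lib.Helper05.isCharacter_restrict D.P hχ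
  have h2 : IsCharacter D.P (fun u : D.P => ((φ⁻¹ u : ℂˣ) : ℂ)) :=
    Cfsg.Agent.Lib.Helper83.isCharacter_of_hom φ⁻¹
  have h3 := Cfsg.Agent.Lib.Helper05.isCharacter_mul h1 h2
  haveI : Fintype (⊤ : Subgroup D.P) := Fintype.ofFinite _
  obtain ⟨m, hm⟩ := Cfsg.Agent.Lib.Helper82.IsCharacter.sum_subgroup h3 (⊤ : Subgroup D.P)
  refine ⟨m, ?_⟩
  have e1 : ∑ u : D.P, χ u * conj (φ u : ℂ)
      = ∑ u : (⊤ : Subgroup D.P), ((fun u : D.P => χ u) * (fun u : D.P => ((φ⁻¹ u : ℂˣ) : ℂ))) u := by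
    symm
    apply Fintype.sum_equiv Subgroup.topEquiv.toEquiv
    intro x
    rw [Pi.mul_apply, Cfsg.Agent.Lib.Helper34.conj_linChar]
    rfl
  have e2 : Fintype.card (⊤ : Subgroup D.P) = Fintype.card D.P :=
    Fintype.card_congr Subgroup.topEquiv.toEquiv
  have hQ : (Fintype.card D.P : ℂ) ≠ 0 := by exact_mod_cast Fintype.card_ne_zero
  rw [e1, hm, e2]
  push_cast
  field_simp


theorem orderOf_conj_eq {H : Type*} [Group H] (c t : H) : orderOf (c * t * c⁻¹) = orderOf t := by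
  rw [← MulAut.conj_apply, MulEquiv.orderOf_eq]

include hM in
/-- the principal block part of the class function `g ↦ ∑ χ(g) conj χ(w)` vanishes at products of
two conjugates of the involution `w ^ 2` -/
theorem HData.vanish [Fintype (PB M G)] (a b : G) :
    ∑ χ : PB M G, (χ.1 : G → ℂ) (1 * (a * (D.w : G) ^ 2 * a⁻¹) * (b * (D.w : G) ^ 2 * b⁻¹))
      * conj ((χ.1 : G → ℂ) (D.w : G)) = 0 := by
  haveI := Fintype.ofFinite G
  set z : G := (D.w : G) ^ 2 with hz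
  set g : G := 1 * (a * z * a⁻¹) * (b * z * b⁻¹) with hg
  have hw4 : orderOf (D.w : G) = 4 := by rw [Subgroup.orderOf_coe, D.hw]
  have hz2 : orderOf z = 2 := by
    rw [hz, orderOf_pow' _ (by norm_num), hw4]
    norm_num
  obtain ⟨x, hx⟩ := Cfsg.Agent.Lib.Helper82.exists_isPPart Nat.prime_two g (orderOf_pos g)
  by_cases hc : IsConj x (D.w : G)
  · exfalso
    obtain ⟨c, hc⟩ := isConj_iff.mp hc
    obtain ⟨y, hxy, hcomm, -, hy⟩ := hx
    obtain ⟨K, hKodd, hK⟩ := D.hK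
    apply not_prod_involutions (D.w : G) hw4 K hKodd hK (c * (a * z * a⁻¹) * c⁻¹)
      (c * (b * z * b⁻¹) * c⁻¹) (c * y * c⁻¹)
    · rw [orderOf_conj_eq, orderOf_conj_eq, hz2]
    · rw [orderOf_conj_eq, orderOf_conj_eq, hz2]
    · rw [orderOf_conj_eq]
      rw [← Nat.not_even_iff_odd, even_iff_two_dvd]
      exact hy
    · rw [← hc]
      show c * x * c⁻¹ * (c * y * c⁻¹) = c * y * c⁻¹ * (c * x * c⁻¹)
      have : x * y = y * x := hcomm
      calc c * x * c⁻¹ * (c * y * c⁻¹) = c * (x * y) * c⁻¹ := by group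
        _ = c * (y * x) * c⁻¹ := by rw [this]
        _ = c * y * c⁻¹ * (c * x * c⁻¹) := by group
    · rw [← hc]
      have h1 : (a * z * a⁻¹) * (b * z * b⁻¹) = x * y := by
        rw [hxy, hg, one_mul]
      calc c * (a * z * a⁻¹) * c⁻¹ * (c * (b * z * b⁻¹) * c⁻¹)
          = c * ((a * z * a⁻¹) * (b * z * b⁻¹)) * c⁻¹ := by group
        _ = c * (x * y) * c⁻¹ := by rw [h1]
        _ = c * x * c⁻¹ * (c * y * c⁻¹) := by group
  · have key : ∑ᶠ χ ∈ principalBlock M G, (χ : G → ℂ) g * (χ : G → ℂ) (D.w : G)⁻¹ = 0 :=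
      Cfsg.Agent.Lib.Helper82.sum_block_mul_eq_zero_of_not_isConj hM (oneIrr G) g (D.w : G)⁻¹
        x (D.w : G) hx (by rw [inv_inv]; exact D.isPPart_self D.w) hc
    rw [finsum_mem_pb] at key
    rw [← key]
    apply Finset.sum_congr rfl
    intro χ _
    rw [Cfsg.Agent.Lib.Helper83.char_inv χ.isCharacter]

include hM in
/-- **the second relation** in the principal block -/
theorem HData.E2 [Fintype (PB M G)] :
    ∑ χ : PB M G, (χ.1 : G → ℂ) ((D.w : G) ^ 2) * (χ.1 : G → ℂ) ((D.w : G) ^ 2)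
      * conj ((χ.1 : G → ℂ) (D.w : G)) / (χ.1 : G → ℂ) 1 = 0 := by
  haveI := Fintype.ofFinite G
  set z : G := (D.w : G) ^ 2 with hz
  have h1 : ∑ a : G, ∑ b : G, ∑ χ : PB M G,
      (χ.1 : G → ℂ) (1 * (a * z * a⁻¹) * (b * z * b⁻¹)) * conj ((χ.1 : G → ℂ) (D.w : G)) = 0 := by
    apply Finset.sum_eq_zero
    intro a _
    apply Finset.sum_eq_zero
    intro b _
    exact D.vanish M hM a b
  have h2 : ∑ a : G, ∑ b : G, ∑ χ : PB M G,
      (χ.1 : G → ℂ) (1 * (a * z * a⁻¹) * (b * z * b⁻¹)) * conj ((χ.1 : G → ℂ) (D.w : G))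
      = (Fintype.card G : ℂ) ^ 2 * ∑ χ : PB M G, (χ.1 : G → ℂ) z * (χ.1 : G → ℂ) z
          * conj ((χ.1 : G → ℂ) (D.w : G)) / (χ.1 : G → ℂ) 1 := by
    have h3 : ∀ a : G, ∑ b : G, ∑ χ : PB M G,
        (χ.1 : G → ℂ) (1 * (a * z * a⁻¹) * (b * z * b⁻¹)) * conj ((χ.1 : G → ℂ) (D.w : G))
        = ∑ χ : PB M G, ∑ b : G,
        (χ.1 : G → ℂ) (1 * (a * z * a⁻¹) * (b * z * b⁻¹)) * conj ((χ.1 : G → ℂ) (D.w : G)) :=
      fun a => Finset.sum_comm
    rw [Finset.sum_congr rfl (fun a _ => h3 a), Finset.sum_comm, Finset.mul_sum]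
    apply Finset.sum_congr rfl
    intro χ _
    have h4 := Cfsg.Agent.Lib.Helper82.IsIrrCharacter.sum_sum_conj_mul χ.1.2 z z 1
    have h5 : (χ.1 : G → ℂ) 1 ≠ 0 := Cfsg.Agent.Lib.Helper82.IsIrrCharacter.apply_one_ne_zero χ.1.2
    simp_rw [← Finset.sum_mul]
    rw [h4]
    field_simp
  rw [h2] at h1
  have hG : (Fintype.card G : ℂ) ^ 2 ≠ 0 := by
    apply pow_ne_zero
    exact_mod_cast Fintype.card_ne_zero
  exact (mul_eq_zero.mp h1).resolve_left hG

end Cfsg.Agent.Lib.Helper30.Homo
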