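import Mathlib
import Cfsg.Agent.S0939
import Cfsg.Agent.S0947
import Cfsg.Agent.Lib.Helper30.BrmGroup
import Cfsg.Agent.Lib.Helper30.BrmRegular
import Cfsg.Agent.Lib.Helper30.HomoBlock
import Cfsg.Agent.Lib.Helper22.PrincipalSection
import Cfsg.Agent.Lib.Helper81.BlockPart

/-!
# Brauer's theorem on abelian Sylow `p`-subgroups with cyclic semiregular `N/C`: the principal
block relations (helper30)
-/

set_option autoImplicit false
set_option linter.unusedSectionVars false

namespace Cfsg.Agent.Lib.Helper30.Brm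

open Cfsg
open scoped ComplexConjugate Classical
open Cfsg.Agent.Lib.Helper30.Homo

universe u

variable {G : Type u} [Group G] [Finite G]

/-- in a `p`-nilpotent group the `p`-regular elements lie in `O_{p'}` -/
theorem mem_pPrimeCore_of_regular {H : Type*} [Group H] [Finite H] (p : ℕ) [Fact p.Prime]
    (hnc : ∃ k : ℕ, (Cfsg.pPrimeCore p H).index = p ^ k) (y : H) (hy : ¬ p ∣ orderOf y) :
    y ∈ Cfsg.pPrimeCore p H := by
  have hp : p.Prime := Fact.out
  haveI : (Cfsg.pPrimeCore p H).Normal := Cfsg.Agent.Lib.Helper42.pPrimeCore_normal p H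
  obtain ⟨k, hk⟩ := hnc
  rw [← QuotientGroup.eq_one_iff, ← orderOf_eq_one_iff]
  set q : H ⧸ Cfsg.pPrimeCore p H := (y : H ⧸ Cfsg.pPrimeCore p H) with hq
  have h1 : orderOf q ∣ orderOf y :=
    orderOf_map_dvd (QuotientGroup.mk' (Cfsg.pPrimeCore p H)) y
  have h2 : orderOf q ∣ p ^ k := by
    rw [← hk, Subgroup.index_eq_card]
    exact orderOf_dvd_natCard q
  obtain ⟨j, -, hj⟩ := (Nat.dvd_prime_pow hp).1 h2
  rcases Nat.eq_zero_or_pos j with h0 | hpos
  · rw [hj, h0, pow_zero]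
  · exfalso
    apply hy
    refine dvd_trans ?_ h1
    rw [hj]
    exact dvd_pow_self p hpos.ne'

/-- **values on `p`-sections**: a character of the principal block is constant on the
`p`-section of a `p`-element with `p`-nilpotent centralizer -/
theorem section_value (p : ℕ) [Fact p.Prime] (M : Ideal AlgInt) (hM : IsPModular p M) (y : G)
    (hy : ∃ k : ℕ, orderOf y = p ^ k)
    (hnil : ∃ k : ℕ, (pPrimeCore p (Subgroup.centralizer ({y} : Set G))).index = p ^ k)
    (ζ : IrrCharacter G) (hζ : ζ ∈ principalBlock M G) (z : G) (hz : IsPPart p z y) :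
    (ζ : G → ℂ) z = (ζ : G → ℂ) y := by
  have hp : p.Prime := Fact.out
  obtain ⟨s, hys, hcomm, -, hs⟩ := hz
  set H := Subgroup.centralizer ({y} : Set G) with hH
  have hsH : s ∈ H := by
    rw [hH, Subgroup.mem_centralizer_singleton_iff]
    exact hcomm.eq.symm
  haveI : Fintype H := Fintype.ofFinite _
  haveI : Fintype (IrrCharacter H) := Fintype.ofFinite _
  have hs' : ¬ p ∣ orderOf (⟨s, hsH⟩ : H) := by
    rw [Subgroup.orderOf_mk]; exact hs
  have h1' : ¬ p ∣ orderOf (1 : H) := by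
    rw [orderOf_one]; exact hp.not_dvd_one
  have h1 := Cfsg.Agent.Lib.Helper22.blockPart_principal_shift hM y hy ζ ⟨s, hsH⟩ hs'
  have h2 := Cfsg.Agent.Lib.Helper22.blockPart_principal_shift hM y hy ζ 1 h1'
  rw [if_pos hζ] at h1 h2
  rw [Cfsg.Agent.Lib.Helper81.blockPart_apply] at h1 h2
  have hB := Cfsg.Agent.S0939.result p M hM hnil
  have hmem := mem_pPrimeCore_of_regular p hnil (⟨s, hsH⟩ : H) hs'
  have h3 : ∑ᶠ χ ∈ principalBlock M H,
      classInner (fun c : H => (ζ : G → ℂ) (y * (c : G))) (χ : H → ℂ) * (χ : H → ℂ) ⟨s, hsH⟩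
      = ∑ᶠ χ ∈ principalBlock M H,
      classInner (fun c : H => (ζ : G → ℂ) (y * (c : G))) (χ : H → ℂ) * (χ : H → ℂ) 1 := by
    apply finsum_mem_congr rfl
    intro χ hχ
    rw [hB] at hχ
    rw [hχ _ hmem]
  rw [h3] at h1
  rw [h2] at h1
  simp only [OneMemClass.coe_one, mul_one] at h1
  rw [← hys, ← h1]

variable {p : ℕ} [Fact p.Prime] (D : MData G p)

theorem MData.card_P : ∃ n : ℕ, Nat.card D.P = p ^ n := ⟨_, (D.hsyl 1).symm⟩

theorem MData.orderOf_coe (u : D.P) : ∃ k : ℕ, orderOf (u : G) = p ^ k := by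
  have hp : p.Prime := Fact.out
  obtain ⟨n, hn⟩ := D.card_P
  have h : orderOf u ∣ Nat.card D.P := orderOf_dvd_natCard u
  rw [hn] at h
  obtain ⟨k, _, hk⟩ := (Nat.dvd_prime_pow hp).mp h
  exact ⟨k, by rw [Subgroup.orderOf_coe, hk]⟩

theorem MData.isPPart_self (u : D.P) : IsPPart p (u : G) (u : G) := by
  have hp : p.Prime := Fact.out
  exact ⟨1, mul_one _, Commute.one_right _, D.orderOf_coe u,
    by rw [orderOf_one]; exact hp.not_dvd_one⟩

theorem MData.coe_pow (k : ℕ) (u : D.P) :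
    (((D.σ ^ k) u : D.P) : G) = D.g ^ k * (u : G) * (D.g ^ k)⁻¹ := by
  induction k generalizing u with
  | zero => simp
  | succ k ih =>
    rw [pow_succ, MulAut.mul_apply, ih, D.hconj, pow_succ]
    group

theorem MData.isConj_pow (k : ℕ) (u : D.P) : IsConj (u : G) (((D.σ ^ k) u : D.P) : G) :=
  isConj_iff.mpr ⟨D.g ^ k, (D.coe_pow k u).symm⟩

theorem MData.pow_injOn {u : D.P} (hu : u ≠ 1) {k j : ℕ} (hk : k < D.m) (hj : j < D.m)
    (h : (D.σ ^ k) u = (D.σ ^ j) u) : k = j := by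
  by_contra hne
  rcases Nat.lt_or_gt_of_ne hne with hlt | hlt
  · have h1 : (D.σ ^ j) u = (D.σ ^ k) ((D.σ ^ (j - k)) u) := by
      rw [← MulAut.mul_apply, ← pow_add]
      congr 2
      omega
    rw [h1] at h
    exact D.hfree (j - k) (by omega) (by omega) u hu ((D.σ ^ k).injective h).symm
  · have h1 : (D.σ ^ k) u = (D.σ ^ j) ((D.σ ^ (k - j)) u) := by
      rw [← MulAut.mul_apply, ← pow_add]
      congr 2
      omega
    rw [h1] at h
    exact D.hfree (k - j) (by omega) (by omega) u hu ((D.σ ^ j).injective h)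

variable (M : Ideal AlgInt) (hM : IsPModular p M)

include hM

/-- the norm of a column of the principal block at a nontrivial element of `P` -/
theorem MData.sum_norm [Fintype (PB M G)] (u : D.P) (hu : u ≠ 1) :
    ∑ χ : PB M G, (χ.1 : G → ℂ) u * conj ((χ.1 : G → ℂ) u) = (Nat.card D.P : ℂ) := by
  have hp : p.Prime := Fact.out
  have hu1 : (u : G) ≠ 1 := fun h => hu (Subtype.ext h)
  have h := (Cfsg.Agent.S0947.result p M hM (u : G) (D.orderOf_coe u) hu1 1
    (by rw [orderOf_one]; exact hp.not_dvd_one)).2 (D.hidx u hu)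
  rw [D.hsyl u, finsum_mem_pb] at h
  simp only [OneMemClass.coe_one, mul_one] at h
  have h2 : ∀ χ : PB M G, (χ.1 : G → ℂ) u * conj ((χ.1 : G → ℂ) u)
      = ((‖(χ.1 : G → ℂ) u‖ ^ 2 : ℝ) : ℂ) := by
    intro χ
    rw [Complex.mul_conj, Complex.normSq_eq_norm_sq]
  rw [Finset.sum_congr rfl (fun χ _ => h2 χ), ← Complex.ofReal_sum, h]
  simp

/-- columns of the principal block at elements with non-conjugate `p`-parts are orthogonal -/
theorem sum_pb_mul_conj_eq_zero [Fintype (PB M G)] (g h x y : G) (hx : IsPPart p g x)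
    (hy : IsPPart p h y) (hxy : ¬ IsConj x y) :
    ∑ χ : PB M G, (χ.1 : G → ℂ) g * conj ((χ.1 : G → ℂ) h) = 0 := by
  haveI := Fintype.ofFinite G
  have key : ∑ᶠ χ ∈ principalBlock M G, (χ : G → ℂ) g * (χ : G → ℂ) h⁻¹ = 0 :=
    Cfsg.Agent.Lib.Helper82.sum_block_mul_eq_zero_of_not_isConj hM (oneIrr G) g h⁻¹
      x y hx (by rw [inv_inv]; exact hy) hxy
  rw [finsum_mem_pb] at key
  rw [← key]
  apply Finset.sum_congr rfl
  intro χ _
  rw [Cfsg.Agent.Lib.Helper83.char_inv χ.isCharacter]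

/-- the column orthogonality relations of the principal block on `P` -/
theorem MData.colOrth [Fintype (PB M G)] [Fintype D.P] (u v : D.P) (huv : u ≠ 1 ∨ v ≠ 1) :
    ∑ χ : PB M G, (χ.1 : G → ℂ) u * conj ((χ.1 : G → ℂ) v)
      = (Fintype.card D.P : ℂ) * RfunM D.σ D.m u v := by
  by_cases hc : IsConj (u : G) (v : G)
  · obtain ⟨k₀, hk₀, hv⟩ := D.hfus u v hc
    have hu : u ≠ 1 := by
      intro h
      rw [h, map_one] at hv
      rcases huv with h' | h'
      · exact h' h
      · exact h' hv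
    have hR : RfunM D.σ D.m u v = 1 := by
      unfold RfunM
      rw [Finset.sum_eq_single k₀]
      · rw [if_pos hv]
      · intro k hk hne
        rw [if_neg]
        intro h
        rw [hv] at h
        exact hne (D.pow_injOn hu (Finset.mem_range.mp hk) hk₀ h.symm)
      · intro h
        exact absurd (Finset.mem_range.mpr hk₀) h
    rw [hR, mul_one]
    obtain ⟨c, hc⟩ := isConj_iff.mp hc
    have h1 : ∀ χ : PB M G, (χ.1 : G → ℂ) u * conj ((χ.1 : G → ℂ) v)
        = (χ.1 : G → ℂ) u * conj ((χ.1 : G → ℂ) u) := by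
      intro χ
      rw [← hc, Cfsg.Agent.Lib.Helper82.IsCharacter.conj_apply χ.isCharacter]
    rw [Finset.sum_congr rfl (fun χ _ => h1 χ), D.sum_norm M hM u hu, Nat.card_eq_fintype_card]
  · rw [sum_pb_mul_conj_eq_zero M hM (u : G) (v : G) (u : G) (v : G) (D.isPPart_self u)
      (D.isPPart_self v) hc]
    unfold RfunM
    rw [Finset.sum_eq_zero, mul_zero]
    intro k _
    rw [if_neg]
    intro h
    apply hc
    rw [h]
    exact D.isConj_pow k u

omit hM

/-- multiplicities of linear characters of a subgroup in restrictions are integers -/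
theorem mult_int_subgroup {G : Type*} [Group G] (P : Subgroup G) [Fintype P] (χ : G → ℂ)
    (hχ : IsCharacter G χ) (φ : P →* ℂˣ) :
    ∃ n : ℤ, (Fintype.card P : ℂ)⁻¹ * ∑ u : P, χ u * conj (φ u : ℂ) = n := by
  have h1 : IsCharacter P (fun u : P => χ u) :=
    Cfsg.Agent.Lib.Helper05.isCharacter_restrict P hχ
  have h2 : IsCharacter P (fun u : P => ((φ⁻¹ u : ℂˣ) : ℂ)) :=
    Cfsg.Agent.Lib.Helper83.isCharacter_of_hom φ⁻¹
  have h3 := Cfsg.Agent.Lib.Helper05.isCharacter_mul h1 h2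
  haveI : Fintype (⊤ : Subgroup P) := Fintype.ofFinite _
  obtain ⟨m, hm⟩ := Cfsg.Agent.Lib.Helper82.IsCharacter.sum_subgroup h3 (⊤ : Subgroup P)
  refine ⟨m, ?_⟩
  have e1 : ∑ u : P, χ u * conj (φ u : ℂ)
      = ∑ u : (⊤ : Subgroup P), ((fun u : P => χ u) * (fun u : P => ((φ⁻¹ u : ℂˣ) : ℂ))) u := by
    symm
    apply Fintype.sum_equiv Subgroup.topEquiv.toEquiv
    intro x
    rw [Pi.mul_apply, Cfsg.Agent.Lib.Helper34.conj_linChar]
    rfl
  have e2 : Fintype.card (⊤ : Subgroup P) = Fintype.card P :=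
    Fintype.card_congr Subgroup.topEquiv.toEquiv
  have hQ : (Fintype.card P : ℂ) ≠ 0 := by exact_mod_cast Fintype.card_ne_zero
  rw [e1, hm, e2]
  push_cast
  field_simp

end Cfsg.Agent.Lib.Helper30.Brm
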