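import Mathlib
import Cfsg.Agent.Lib.Helper30.BrmBlock

/-!
# Brauer's theorem for `N/C` of order three: products of two involutions (helper30)
-/

set_option autoImplicit false
set_option linter.unusedSectionVars false

namespace Cfsg.Agent.Lib.Helper30.Brm

open Cfsg
open scoped Pointwise

universe u

/-- an element inverting `g` inverts the `p`-part of `g` -/
theorem inverts_ppart {G : Type*} [Group G] (p : ℕ) [Fact p.Prime] (s g x : G)
    (hx : IsPPart p g x) (h : s * g * s⁻¹ = g⁻¹) : s * x * s⁻¹ = x⁻¹ := by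
  have hp : p.Prime := Fact.out
  obtain ⟨y, hxy, hcomm, ⟨k, hk⟩, hy⟩ := hx
  set n := orderOf y with hn
  have hyn : y ^ n = 1 := pow_orderOf_eq_one y
  have hgn : g ^ n = x ^ n := by rw [← hxy, hcomm.mul_pow, hyn, mul_one]
  have hinvn : s * x ^ n * s⁻¹ = (x ^ n)⁻¹ := by
    rw [← hgn, ← conj_pow, h, inv_pow]
  have hcop : (orderOf x).Coprime n := by
    rw [hk]
    exact Nat.Coprime.pow_left k ((Nat.Prime.coprime_iff_not_dvd hp).mpr hy)
  obtain ⟨j, hj⟩ := exists_pow_eq_self_of_coprime (x := x) hcop.symm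
  calc s * x * s⁻¹ = s * (x ^ n) ^ j * s⁻¹ := by rw [hj]
    _ = (s * x ^ n * s⁻¹) ^ j := by rw [conj_pow]
    _ = ((x ^ n)⁻¹) ^ j := by rw [hinvn]
    _ = x⁻¹ := by rw [inv_pow, hj]

variable {G : Type u} [Group G] [Finite G] {p : ℕ} [Fact p.Prime] (D : MData G p)

/-- for `m = 3`, an element of `P` conjugate to its inverse is an involution -/
theorem MData.sq_eq_one_of_isConj_inv (hm : D.m = 3) (y : D.P)
    (h : IsConj (y : G) ((y : G)⁻¹)) : y * y = 1 := by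
  by_cases hy1 : y = 1
  · rw [hy1, one_mul]
  have h' : IsConj (y : G) ((y⁻¹ : D.P) : G) := by
    rw [Subgroup.coe_inv]
    exact h
  obtain ⟨k, hk, hyk⟩ := D.hfus y y⁻¹ h'
  have h2 : (D.σ ^ (k + k)) y = y := by
    rw [pow_add, MulAut.mul_apply, ← hyk, map_inv, ← hyk, inv_inv]
  rw [hm] at hk
  interval_cases k
  · rw [pow_zero, MulAut.one_apply] at hyk
    have h4 := inv_mul_cancel y
    rw [hyk] at h4
    exact h4
  · exact absurd h2 (D.hfree 2 (by norm_num) (by omega) y hy1)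
  · have h3 : D.σ ^ (2 + 2) = D.σ ^ 1 := by
      have : D.σ ^ (2 + 2) = D.σ ^ D.m * D.σ ^ 1 := by rw [hm, ← pow_add]
      rw [this, D.hσm, one_mul]
    rw [h3] at h2
    exact absurd h2 (D.hfree 1 (by norm_num) (by omega) y hy1)

/-- for `m = 3`, the product over an orbit is trivial -/
theorem MData.prod_orbit (hm : D.m = 3) (u : D.P) : u * D.σ u * (D.σ ^ 2) u = 1 := by
  by_contra hne
  apply D.hfree 1 (by norm_num) (by omega) _ hne
  have h3 : D.σ ((D.σ ^ 2) u) = u := by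
    have h4 : D.σ ((D.σ ^ 2) u) = (D.σ ^ D.m) u := by
      rw [hm, pow_succ' D.σ 2, MulAut.mul_apply]
    rw [h4, D.hσm, MulAut.one_apply]
  rw [pow_one, map_mul, map_mul, h3]
  have h5 : D.σ (D.σ u) = (D.σ ^ 2) u := by rw [pow_two, MulAut.mul_apply]
  rw [h5, D.hcomm (D.σ u * (D.σ ^ 2) u) u, mul_assoc]

/-- a `p`-element of the centralizer of `y ∈ P` is conjugate into `P` inside the centralizer -/
theorem MData.exists_conj_mem_centralizer (y : D.P) (s : G)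
    (hs : s ∈ Subgroup.centralizer ({(y : G)} : Set G)) (hs2 : ∃ k : ℕ, orderOf s = p ^ k) :
    ∃ h ∈ Subgroup.centralizer ({(y : G)} : Set G), h * s * h⁻¹ ∈ D.P := by
  have hp : p.Prime := Fact.out
  set H := Subgroup.centralizer ({(y : G)} : Set G) with hH
  have hPH : D.P ≤ H := by
    intro a ha
    rw [hH, Subgroup.mem_centralizer_singleton_iff]
    exact congrArg Subtype.val (D.hcomm ⟨a, ha⟩ y)
  have hcard : Nat.card (D.P.subgroupOf H) = p ^ (Nat.card H).factorization p := by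
    rw [D.hsyl y]
    exact Nat.card_congr (Subgroup.subgroupOfEquivOfLe hPH).toEquiv
  let R : Sylow p H := Sylow.ofCard (D.P.subgroupOf H) hcard
  have hRcoe : (R : Subgroup H) = D.P.subgroupOf H := rfl
  have hZ : IsPGroup p (Subgroup.zpowers (⟨s, hs⟩ : H)) := by
    obtain ⟨k, hk⟩ := hs2
    apply IsPGroup.of_card (n := k)
    rw [Nat.card_zpowers, Subgroup.orderOf_mk, hk]
  obtain ⟨Q, hQ⟩ := hZ.exists_le_sylow
  obtain ⟨h, hh⟩ := MulAction.exists_smul_eq H Q R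
  refine ⟨(h : G), h.2, ?_⟩
  have h1 : MulAut.conj h • (⟨s, hs⟩ : H) ∈ MulAut.conj h • (Q : Subgroup H) :=
    Subgroup.smul_mem_pointwise_smul _ _ _ (hQ (Subgroup.mem_zpowers _))
  rw [← Sylow.coe_subgroup_smul, hh, hRcoe, Subgroup.mem_subgroupOf, MulAut.smul_def,
    MulAut.conj_apply] at h1
  exact h1

/-- conjugates of an element of order two -/
theorem conj_mul_self_of_orderOf_two {H : Type*} [Group H] (t c : H) (ht : orderOf t = 2) :
    (c * t * c⁻¹) * (c * t * c⁻¹) = 1 := by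
  have ht2 : t * t = 1 := by rw [← pow_two, ← ht]; exact pow_orderOf_eq_one t
  calc (c * t * c⁻¹) * (c * t * c⁻¹) = c * (t * t) * c⁻¹ := by group
    _ = 1 := by rw [ht2]; group

/-- for `m = 3`: no product of two conjugates of an involution `t` has a `p`-part conjugate to
`y ∈ P`, `y ≠ 1`, unless `t` is conjugate to `y` -/
theorem MData.no_prod (hm : D.m = 3) (t : G) (ht : orderOf t = 2) (y : D.P) (hy : y ≠ 1)
    (hty : ¬ IsConj t (y : G)) (a b x : G)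
    (hx : IsPPart p ((a * t * a⁻¹) * (b * t * b⁻¹)) x) : ¬ IsConj x (y : G) := by
  have hp : p.Prime := Fact.out
  intro hc
  obtain ⟨c, hc⟩ := isConj_iff.mp hc
  obtain ⟨x', hxx', hcomm, hxk, hx'⟩ := hx
  have ht2 : t * t = 1 := by rw [← pow_two, ← ht]; exact pow_orderOf_eq_one t
  -- the conjugated configuration
  obtain ⟨s₁, hs₁⟩ : ∃ s₁ : G, s₁ = (c * a) * t * (c * a)⁻¹ := ⟨_, rfl⟩
  obtain ⟨s₂, hs₂⟩ : ∃ s₂ : G, s₂ = (c * b) * t * (c * b)⁻¹ := ⟨_, rfl⟩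
  obtain ⟨y', hy'⟩ : ∃ y' : G, y' = c * x' * c⁻¹ := ⟨_, rfl⟩
  have hs₁2 : s₁ * s₁ = 1 := by rw [hs₁]; exact conj_mul_self_of_orderOf_two t _ ht
  have hs₂2 : s₂ * s₂ = 1 := by rw [hs₂]; exact conj_mul_self_of_orderOf_two t _ ht
  have hts₁ : IsConj t s₁ := isConj_iff.mpr ⟨c * a, hs₁.symm⟩
  have hts₂ : IsConj t s₂ := isConj_iff.mpr ⟨c * b, hs₂.symm⟩
  have hprod : s₁ * s₂ = (y : G) * y' := by
    rw [← hc, hs₁, hs₂, hy']
    calc (c * a) * t * (c * a)⁻¹ * ((c * b) * t * (c * b)⁻¹)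
        = c * ((a * t * a⁻¹) * (b * t * b⁻¹)) * c⁻¹ := by group
      _ = c * (x * x') * c⁻¹ := by rw [hxx']
      _ = c * x * c⁻¹ * (c * x' * c⁻¹) := by group
  have hcomm' : (y : G) * y' = y' * (y : G) := by
    rw [← hc, hy']
    have h1 : x * x' = x' * x := hcomm
    calc c * x * c⁻¹ * (c * x' * c⁻¹) = c * (x * x') * c⁻¹ := by group
      _ = c * (x' * x) * c⁻¹ := by rw [h1]
      _ = c * x' * c⁻¹ * (c * x * c⁻¹) := by group
  have hy'ord : ¬ p ∣ orderOf y' := by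
    rw [hy', Cfsg.Agent.Lib.Helper30.Homo.orderOf_conj_eq]
    exact hx'
  have hpp : IsPPart p (s₁ * s₂) (y : G) := ⟨y', hprod.symm, hcomm', D.orderOf_coe y, hy'ord⟩
  have hs₁inv : s₁⁻¹ = s₁ := inv_eq_of_mul_eq_one_left hs₁2
  have hs₂inv : s₂⁻¹ = s₂ := inv_eq_of_mul_eq_one_left hs₂2
  have hinv : s₁ * (s₁ * s₂) * s₁⁻¹ = (s₁ * s₂)⁻¹ := by
    rw [mul_inv_rev, hs₁inv, hs₂inv]
    calc s₁ * (s₁ * s₂) * s₁ = (s₁ * s₁) * s₂ * s₁ := by group
      _ = s₂ * s₁ := by rw [hs₁2, one_mul]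
  have hyinv : s₁ * (y : G) * s₁⁻¹ = (y : G)⁻¹ := inverts_ppart p s₁ (s₁ * s₂) (y : G) hpp hinv
  have hyy := D.sq_eq_one_of_isConj_inv hm y (isConj_iff.mpr ⟨s₁, hyinv⟩)
  have hyy' : (y : G) * (y : G) = 1 := by
    have := congrArg Subtype.val hyy
    simpa using this
  have hyGinv : (y : G)⁻¹ = y := inv_eq_of_mul_eq_one_left hyy'
  have hyinv' : y⁻¹ = y := inv_eq_of_mul_eq_one_left hyy
  have hyG1 : (y : G) ≠ 1 := fun h => hy (Subtype.ext h)
  have hyord : orderOf (y : G) = 2 := orderOf_eq_prime (by rw [pow_two]; exact hyy') hyG1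
  -- `p = 2`
  have hp2 : p = 2 := by
    obtain ⟨j, hj⟩ := D.orderOf_coe y
    rw [hyord] at hj
    have hj0 : j ≠ 0 := by
      rintro rfl
      norm_num at hj
    have : p ∣ 2 := by
      rw [hj]
      exact dvd_pow_self p hj0
    exact (Nat.prime_dvd_prime_iff_eq hp Nat.prime_two).mp this
  -- `s₁` centralizes `y`
  have hs₁y : s₁ * (y : G) = (y : G) * s₁ := by
    rw [hyGinv] at hyinv
    calc s₁ * (y : G) = (s₁ * (y : G) * s₁⁻¹) * s₁ := by group
      _ = (y : G) * s₁ := by rw [hyinv]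
  -- `s₁` inverts `y'`
  have hy'eq : y' = (y : G) * (s₁ * s₂) := by
    rw [hprod, ← mul_assoc, hyy', one_mul]
  have hy'inv : s₁ * y' * s₁⁻¹ = y'⁻¹ := by
    have h1 : s₁ * y' * s₁⁻¹ = (s₁ * (y : G) * s₁⁻¹) * (s₁ * (s₁ * s₂) * s₁⁻¹) := by
      rw [hy'eq]; group
    have hc2 : (y : G) * y'⁻¹ = y'⁻¹ * (y : G) :=
      ((show Commute (y : G) y' from hcomm').inv_right).eq
    rw [h1, hyinv, hinv, hprod, hyGinv, mul_inv_rev, hyGinv, ← mul_assoc, hc2, mul_assoc, hyy',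
      mul_one]
  -- the square root `v` of `y'`
  obtain ⟨i, hi⟩ : ∃ i : ℕ, orderOf y' = 2 * i + 1 := by
    rw [hp2] at hy'ord
    exact ⟨orderOf y' / 2, by omega⟩
  obtain ⟨v, hv⟩ : ∃ v : G, v = y' ^ (i + 1) := ⟨_, rfl⟩
  have hvv : v * v = y' := by
    rw [hv, ← pow_add]
    have : i + 1 + (i + 1) = orderOf y' + 1 := by omega
    rw [this, pow_succ, pow_orderOf_eq_one, one_mul]
  have hvinv : s₁ * v * s₁⁻¹ = v⁻¹ := by
    rw [hv, ← conj_pow, hy'inv, inv_pow]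
  have hvy : v * (y : G) = (y : G) * v := by
    rw [hv]
    exact ((show Commute (y : G) y' from hcomm').pow_right (i + 1)).eq.symm
  -- `s₂` is conjugate to `s₁ * y`
  have hs₂eq : s₂ = s₁ * ((y : G) * y') := by
    rw [← hprod, ← mul_assoc, hs₁2, one_mul]
  have hconj2 : v * s₂ * v⁻¹ = s₁ * (y : G) := by
    have h1 : v * s₁ = s₁ * v⁻¹ := by
      have h2 : s₁ * v = v⁻¹ * s₁ := by
        calc s₁ * v = (s₁ * v * s₁⁻¹) * s₁ := by group
          _ = v⁻¹ * s₁ := by rw [hvinv]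
      calc v * s₁ = v * (s₁ * v) * v⁻¹ := by group
        _ = v * (v⁻¹ * s₁) * v⁻¹ := by rw [h2]
        _ = s₁ * v⁻¹ := by group
    have hvy' : v⁻¹ * (y : G) = (y : G) * v⁻¹ :=
      ((show Commute v (y : G) from hvy).inv_left).eq
    calc v * s₂ * v⁻¹ = v * s₁ * ((y : G) * y') * v⁻¹ := by rw [hs₂eq]; group
      _ = s₁ * v⁻¹ * ((y : G) * (v * v)) * v⁻¹ := by rw [h1, hvv]
      _ = s₁ * (v⁻¹ * (y : G)) * v := by group
      _ = s₁ * ((y : G) * v⁻¹) * v := by rw [hvy']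
      _ = s₁ * (y : G) := by group
  have hts₁y : IsConj t (s₁ * (y : G)) := hts₂.trans (isConj_iff.mpr ⟨v, hconj2⟩)
  -- move `s₁` into `P` inside the centralizer of `y`
  have hs₁H : s₁ ∈ Subgroup.centralizer ({(y : G)} : Set G) := by
    rw [Subgroup.mem_centralizer_singleton_iff]
    exact hs₁y
  have hs₁ord : ∃ k : ℕ, orderOf s₁ = p ^ k := by
    refine ⟨1, ?_⟩
    rw [hp2, pow_one]
    apply orderOf_eq_prime (by rw [pow_two]; exact hs₁2)
    intro h1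
    apply hty
    have h2 : IsConj t 1 := by rw [← h1]; exact hts₁
    have h3 : t = 1 := isConj_one_left.mp h2
    rw [h3, orderOf_one] at ht
    norm_num at ht
  obtain ⟨h, hhH, hτ⟩ := D.exists_conj_mem_centralizer y s₁ hs₁H hs₁ord
  rw [Subgroup.mem_centralizer_singleton_iff] at hhH
  obtain ⟨τ, hτdef⟩ : ∃ τ : D.P, τ = ⟨h * s₁ * h⁻¹, hτ⟩ := ⟨_, rfl⟩
  have hτcoe : (τ : G) = h * s₁ * h⁻¹ := by rw [hτdef]
  have hτ2 : τ * τ = 1 := by
    apply Subtype.ext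
    rw [Subgroup.coe_mul, hτcoe, Subgroup.coe_one]
    calc h * s₁ * h⁻¹ * (h * s₁ * h⁻¹) = h * (s₁ * s₁) * h⁻¹ := by group
      _ = 1 := by rw [hs₁2]; group
  have hτinv : τ⁻¹ = τ := inv_eq_of_mul_eq_one_left hτ2
  have htτ : IsConj t (τ : G) := hts₁.trans (isConj_iff.mpr ⟨h, hτcoe.symm⟩)
  have hτy : ((τ * y : D.P) : G) = h * (s₁ * (y : G)) * h⁻¹ := by
    rw [Subgroup.coe_mul, hτcoe]
    have h1 : h * (y : G) * h⁻¹ = (y : G) := by
      calc h * (y : G) * h⁻¹ = ((y : G) * h) * h⁻¹ := by rw [hhH]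
        _ = (y : G) := by group
    calc h * s₁ * h⁻¹ * (y : G) = h * s₁ * h⁻¹ * (h * (y : G) * h⁻¹) := by rw [h1]
      _ = h * (s₁ * (y : G)) * h⁻¹ := by group
  have hττy : IsConj (τ : G) ((τ * y : D.P) : G) :=
    htτ.symm.trans (hts₁y.trans (isConj_iff.mpr ⟨h, hτy.symm⟩))
  obtain ⟨k, hk, hkτ⟩ := D.hfus τ (τ * y) hττy
  have horb := D.prod_orbit hm τ
  rw [hm] at hk
  interval_cases k
  · rw [pow_zero, MulAut.one_apply] at hkτ
    exact hy (mul_left_cancel (hkτ.trans (mul_one τ).symm))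
  · -- `y = τ * σ τ = σ² τ`
    rw [pow_one] at hkτ
    apply hty
    have h1 : y = (D.σ ^ 2) τ := by
      have h2 : y = τ * D.σ τ := by
        rw [← hkτ, ← mul_assoc, hτ2, one_mul]
      have h3 : y * (D.σ ^ 2) τ = 1 := by rw [h2]; exact horb
      have h4 : y = ((D.σ ^ 2) τ)⁻¹ := eq_inv_of_mul_eq_one_left h3
      rw [← hyinv', h4, inv_inv]
    rw [h1]
    exact htτ.trans (D.isConj_pow 2 τ)
  · apply hty
    have h1 : y = D.σ τ := by
      have h2 : y = τ * (D.σ ^ 2) τ := by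
        rw [← hkτ, ← mul_assoc, hτ2, one_mul]
      have h3 : y * D.σ τ = 1 := by
        rw [h2, mul_assoc, D.hcomm ((D.σ ^ 2) τ) (D.σ τ), ← mul_assoc]
        exact horb
      have h4 : y = (D.σ τ)⁻¹ := eq_inv_of_mul_eq_one_left h3
      rw [← hyinv', h4, inv_inv]
    rw [h1]
    have := D.isConj_pow 1 τ
    rw [pow_one] at this
    exact htτ.trans this

end Cfsg.Agent.Lib.Helper30.Brm
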