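import Mathlib
import Cfsg.Agent.Lib.Helper30.BrmBlock
import Cfsg.Agent.Lib.Helper82.Subsection
import Cfsg.Agent.Lib.Helper82.DefectZero
import Cfsg.Agent.Lib.Helper82.CharSchur

/-!
# Brauer's theorem on abelian Sylow `p`-subgroups with cyclic semiregular `N/C`: the character
data of the principal block (helper30)
-/

set_option autoImplicit false
set_option linter.unusedSectionVars false

namespace Cfsg.Agent.Lib.Helper30.Brm

open Cfsg
open scoped ComplexConjugate Classical
open Cfsg.Agent.Lib.Helper30.Homo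

universe u

variable {G : Type u} [Group G] [Finite G] {p : ℕ} [Fact p.Prime] (D : MData G p)
  (M : Ideal AlgInt) (hM : IsPModular p M)

theorem oneIrr_mem (hM : IsPModular p M) : oneIrr G ∈ principalBlock M G :=
  Cfsg.Agent.Lib.Helper82.mem_blockOf_self hM.2.1.isPrime (oneIrr G)

/-- the character data of the principal block -/
noncomputable def MData.cData [Fintype D.P] [Fintype (PB M G)] : CData D.P (PB M G) :=
  { σ := D.σ
    m := D.m
    F := fun χ u => (χ.1 : G → ℂ) u
    S := fun χ => (charDegree (χ.1 : G → ℂ) : ℤ)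
    o := ⟨oneIrr G, oneIrr_mem M hM⟩
    hm := D.hm
    hcomm := D.hcomm
    hσm := D.hσm
    hfree := D.hfree
    hS := fun χ => by
      exact_mod_cast Cfsg.Agent.Lib.Helper82.IsIrrCharacter.charDegree_pos χ.1.2
    hF1 := fun χ => by
      have := Cfsg.Agent.Lib.Helper82.IsCharacter.charDegree_cast χ.isCharacter
      simp only [OneMemClass.coe_one, Int.cast_natCast]
      exact this.symm
    hFσ := fun χ u => by
      show (χ.1 : G → ℂ) ((D.σ u : D.P) : G) = (χ.1 : G → ℂ) (u : G)
      rw [D.hconj, Cfsg.Agent.Lib.Helper82.IsCharacter.conj_apply χ.isCharacter]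
    hFo := fun u => rfl
    hint := fun χ φ => mult_int_subgroup D.P _ χ.isCharacter φ
    hK := fun u v huv => by convert D.colOrth M hM u v huv
    hcard := by
      rw [← Nat.card_eq_fintype_card]
      exact D.hcard }

variable [Fintype D.P] [Fintype (PB M G)] [Fintype (D.P →* ℂˣ)]

include hM in
/-- a character of the principal block which vanishes on `P \ {1}` does not exist -/
theorem MData.not_vanish (χ : PB M G) (h : ∀ u : D.P, u ≠ 1 → (χ.1 : G → ℂ) u = 0) : False := by
  have hp : p.Prime := Fact.out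
  haveI : Fintype G := Fintype.ofFinite G
  -- `χ` vanishes on `p`-singular elements
  have hvan : ∀ y : G, p ∣ orderOf y → (χ.1 : G → ℂ) y = 0 := by
    intro y hy
    obtain ⟨x, hx⟩ := Cfsg.Agent.Lib.Helper82.exists_isPPart hp y (orderOf_pos y)
    have hx1 : x ≠ 1 := by
      intro h1
      obtain ⟨s, hxs, -, -, hs⟩ := hx
      rw [h1, one_mul] at hxs
      rw [hxs] at hs
      exact hs hy
    have hxord : ∃ k : ℕ, orderOf x = p ^ k := by
      obtain ⟨s, -, -, hk, -⟩ := hx
      exact hk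
    obtain ⟨c, hc⟩ := D.hconjP x hxord
    have hx' : IsPPart p (c * y * c⁻¹) (c * x * c⁻¹) :=
      Cfsg.Agent.Lib.Helper82.isPPart_conj hx c
    have hu1 : (⟨c * x * c⁻¹, hc⟩ : D.P) ≠ 1 := by
      intro h1
      apply hx1
      have h2 : c * x * c⁻¹ = 1 := congrArg Subtype.val h1
      have : x = c⁻¹ * (c * x * c⁻¹) * c := by group
      rw [this, h2]
      group
    have h3 := section_value p M hM (c * x * c⁻¹) (D.orderOf_coe ⟨c * x * c⁻¹, hc⟩)
      (D.hidx ⟨c * x * c⁻¹, hc⟩ hu1) χ.1 χ.2 (c * y * c⁻¹) hx'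
    rw [Cfsg.Agent.Lib.Helper82.IsCharacter.conj_apply χ.isCharacter] at h3
    rw [h3]
    exact h ⟨c * x * c⁻¹, hc⟩ hu1
  -- hence it is alone in its block
  obtain ⟨n, hn⟩ := D.card_P
  have hsyl := D.hsyl 1
  have hPsyl : Nat.card D.P = p ^ (Nat.card G).factorization p := by
    rw [← hsyl]
    congr 3
    have : Subgroup.centralizer ({((1 : D.P) : G)} : Set G) = ⊤ := by
      rw [OneMemClass.coe_one]
      ext g
      simp [Subgroup.mem_centralizer_singleton_iff]
    rw [this, Subgroup.card_top]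
  let Q : Sylow p G := Sylow.ofCard D.P hPsyl
  have hdvd : Nat.card D.P ∣ charDegree (χ.1 : G → ℂ) :=
    Cfsg.Agent.Lib.Helper82.card_sylow_dvd_charDegree χ.isCharacter hvan Q
  have hdeg : charDegree (χ.1 : G → ℂ) ∣ Nat.card G :=
    Cfsg.Agent.Lib.Helper82.IsIrrCharacter.charDegree_dvd_card χ.1.2
  have hfpos : 0 < charDegree (χ.1 : G → ℂ) :=
    Cfsg.Agent.Lib.Helper82.IsIrrCharacter.charDegree_pos χ.1.2
  have hnd : ¬ p ∣ Nat.card G / charDegree (χ.1 : G → ℂ) := by
    intro hdiv
    have h1 : p * charDegree (χ.1 : G → ℂ) ∣ Nat.card G := by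
      obtain ⟨k, hk⟩ := hdiv
      have h2 := Nat.div_mul_cancel hdeg
      rw [hk] at h2
      exact ⟨k, by rw [← h2]; ring⟩
    have h3 : p * Nat.card D.P ∣ Nat.card G := dvd_trans (Nat.mul_dvd_mul_left p hdvd) h1
    rw [hPsyl, ← pow_succ'] at h3
    exact Nat.pow_succ_factorization_not_dvd Nat.card_pos.ne' hp h3
  have hsingle := Cfsg.Agent.Lib.Helper82.blockOf_eq_singleton_of_not_dvd hM χ.1 hnd
  have hone : oneIrr G ∈ blockOf M (χ.1 : G → ℂ) :=
    Cfsg.Agent.Lib.Helper82.sameBlock_symm χ.2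
  rw [hsingle, Set.mem_singleton_iff] at hone
  -- a nontrivial element of `P`
  have hcard := D.hcard
  have hm := D.hm
  obtain ⟨u, hu⟩ : ∃ u : D.P, u ≠ 1 := by
    by_contra hne
    push Not at hne
    have : Nat.card D.P ≤ 1 := by
      rw [Nat.card_eq_fintype_card, Fintype.card_le_one_iff]
      intro a b
      rw [hne a, hne b]
    omega
  have h4 := h u hu
  rw [← hone] at h4
  have h5 : ((oneIrr G : IrrCharacter G) : G → ℂ) (u : G) = 1 := rfl
  rw [h5] at h4
  exact one_ne_zero h4

end Cfsg.Agent.Lib.Helper30.Brm
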