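import Mathlib
import Cfsg.Agent.Lib.Helper30.BrmData

/-!
# Brauer's theorem on abelian Sylow `p`-subgroups with cyclic semiregular `N/C`: the main theorem
(helper30)
-/

set_option autoImplicit false
set_option linter.unusedSectionVars false

namespace Cfsg.Agent.Lib.Helper30.Brm

open Cfsg
open scoped ComplexConjugate Classical
open Cfsg.Agent.Lib.Helper30.Homo

universe u

variable {G : Type u} [Group G] [Finite G] {p : ℕ} [Fact p.Prime] (D : MData G p)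
  (M : Ideal AlgInt) (hM : IsPModular p M)

/-- the `N`-orbit of a linear character of `P`, as in the statements -/
def MData.orb (ψ : D.P →* ℂˣ) : Set (D.P →* ℂˣ) :=
  {ψ' : D.P →* ℂˣ | ∃ n : G, n ∈ Subgroup.normalizer (D.P : Set G) ∧
    ∀ w w' : D.P, (w' : G) = n * w * n⁻¹ → ψ' w' = ψ w}

variable [Fintype D.P] [Fintype (PB M G)] [Fintype (D.P →* ℂˣ)]

theorem MData.rel_of_mem_orb {ψ ψ' : D.P →* ℂˣ} (h : ψ' ∈ D.orb ψ) :
    (D.cData M hM).rel ψ ψ' := by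
  obtain ⟨n, hn, hnw⟩ := h
  obtain ⟨k, -, hk⟩ := D.hNσ n hn
  refine ⟨k, ?_⟩
  ext w
  rw [twist_apply]
  have := hnw w ((D.σ ^ k) w) (hk w).symm
  show ((ψ w : ℂˣ) : ℂ) = ((ψ' ((D.σ ^ k) w) : ℂˣ) : ℂ)
  rw [this]

theorem MData.mem_orb_of_rel {ψ ψ' : D.P →* ℂˣ} (h : (D.cData M hM).rel ψ' ψ) :
    ψ' ∈ D.orb ψ := by
  obtain ⟨k, hk⟩ := h
  have hk' : ψ' = twist (D.σ ^ k) ψ := hk
  refine ⟨D.g ^ (k * (D.m - 1)), Subgroup.pow_mem _ D.hg _, ?_⟩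
  intro w w' hw
  have h1 : w' = (D.σ ^ (k * (D.m - 1))) w := by
    apply Subtype.ext
    rw [hw, D.coe_pow]
  rw [h1, hk', twist_apply, ← MulAut.mul_apply, ← pow_add]
  have h2 : k + k * (D.m - 1) = D.m * k := by
    have := D.hm
    obtain ⟨n, hn⟩ : ∃ n, D.m = n + 1 := ⟨D.m - 1, by omega⟩
    rw [hn]
    simp only [Nat.add_sub_cancel]
    ring
  rw [h2, pow_mul, D.hσm, one_pow, MulAut.one_apply]

theorem MData.orb_eq (ψ : D.P →* ℂˣ) : D.orb ψ = ((D.cData M hM).cls ψ : Set (D.P →* ℂˣ)) := by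
  ext ψ'
  rw [Finset.mem_coe, (D.cData M hM).mem_cls_iff]
  constructor
  · intro h
    exact (D.cData M hM).rel_symm (D.rel_of_mem_orb M hM h)
  · intro h
    exact D.mem_orb_of_rel M hM h


include hM in
omit [Fintype D.P] [Fintype (PB M G)] [Fintype (D.P →* ℂˣ)] in
/-- **Brauer's theorem** on groups with an abelian Sylow `p`-subgroup `P` such that `N(P)/C(P)` is
cyclic and acts semiregularly -/
theorem brauer_m :
    ∃ (s : ℕ) (X Y : Set (IrrCharacter G)), s ≤ D.m ∧ principalBlock M G = X ∪ Y ∧ Disjoint X Y ∧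
      Nat.card X = s ∧ Nat.card Y = (Nat.card D.P - 1) / D.m ∧
      (∃ χ₁ ∈ X, (χ₁ : G → ℂ) = fun _ => 1) ∧
      ∃ (a : IrrCharacter G → ℤ) (d δ : ℤ) (ζ : (D.P →* ℂˣ) → IrrCharacter G),
        (δ = 1 ∨ δ = -1) ∧
        (∀ χ ∈ X, a χ ≠ 0 ∧ ∀ z y : G, IsPPart p z y → y ∈ D.P → y ≠ 1 →
          (χ : G → ℂ) z = (a χ : ℂ)) ∧
        (∀ ψ : D.P →* ℂˣ, ψ ≠ 1 → ζ ψ ∈ Y) ∧
        (∀ η ∈ Y, ∃ ψ : D.P →* ℂˣ, ψ ≠ 1 ∧ ζ ψ = η) ∧
        (∀ ψ ψ' : D.P →* ℂˣ, ψ ≠ 1 → ψ' ∈ D.orb ψ → ζ ψ' = ζ ψ) ∧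
        (∀ ψ : D.P →* ℂˣ, ψ ≠ 1 → ∀ (z : G) (y : D.P), IsPPart p z (y : G) → (y : G) ≠ 1 →
          (ζ ψ : G → ℂ) z = (d : ℂ) + (δ : ℂ) * ∑ᶠ ψ' ∈ D.orb ψ, ((ψ' y : ℂˣ) : ℂ)) ∧
        ((d - δ) ^ 2 + (((Nat.card D.P : ℤ) - 1) / (D.m : ℤ) - 1) * d ^ 2 + ∑ᶠ χ ∈ X, a χ ^ 2
          = (D.m : ℤ) + 1) ∧
        (∀ η ∈ Y, ∀ η' ∈ Y, ∀ g : G, ¬ p ∣ orderOf g → (η : G → ℂ) g = (η' : G → ℂ) g) ∧
        (∀ η ∈ Y, ∀ g : G, ¬ p ∣ orderOf g →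
          ((((Nat.card D.P - 1) / D.m : ℕ) : ℂ) * d - δ) * (η : G → ℂ) g
            + ∑ᶠ χ ∈ X, (a χ : ℂ) * (χ : G → ℂ) g = 0) := by
  have hp : p.Prime := Fact.out
  haveI : Fintype D.P := Fintype.ofFinite _
  haveI : Fintype (PB M G) := Fintype.ofFinite _
  haveI : Finite (D.P →* ℂˣ) := finite_dual D.hcomm
  haveI : Fintype (D.P →* ℂˣ) := Fintype.ofFinite _
  set C := D.cData M hM with hC
  obtain ⟨s⟩ := C.exists_sol
  have hm0 : 0 < D.m := by have := D.hm; omega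
  have hcardT : D.m * s.T.card + 1 = Fintype.card D.P := s.card_T
  have hr : (Nat.card D.P - 1) / D.m = s.T.card := by
    rw [Nat.card_eq_fintype_card, ← hcardT, Nat.add_sub_cancel, Nat.mul_div_cancel_left _ hm0]
  have hrZ : ((Nat.card D.P : ℤ) - 1) / (D.m : ℤ) = (s.T.card : ℤ) := by
    rw [Nat.card_eq_fintype_card, ← hcardT]
    push_cast
    rw [add_sub_cancel_right, Int.mul_ediv_cancel_left]
    exact_mod_cast hm0.ne'
  let val : PB M G → IrrCharacter G := Subtype.val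
  have hinj : Function.Injective val := Subtype.val_injective
  let a : IrrCharacter G → ℤ := fun χ => if h : χ ∈ principalBlock M G then s.a ⟨χ, h⟩ else 0
  have ha : ∀ χ : PB M G, a χ.1 = s.a χ := by
    intro χ
    show (if h : χ.1 ∈ principalBlock M G then s.a ⟨χ.1, h⟩ else 0) = s.a χ
    rw [dif_pos χ.2]
  -- values on `P`
  have hval : ∀ (χ : PB M G) (u : D.P), u ≠ 1 →
      (χ.1 : G → ℂ) u = (s.a χ : ℂ) + (s.ε : ℂ) * s.E χ u := fun χ u hu => s.value_ne χ hu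
  -- values on sections
  have hsec : ∀ (χ : PB M G) (z : G) (y : D.P), IsPPart p z (y : G) → (y : G) ≠ 1 →
      (χ.1 : G → ℂ) z = (χ.1 : G → ℂ) y := by
    intro χ z y hz hy
    have hy1 : y ≠ 1 := fun h => hy (by rw [h]; rfl)
    exact section_value p M hM (y : G) (D.orderOf_coe y) (D.hidx y hy1) χ.1 χ.2 z hz
  -- the relations on `p`-regular elements
  have hreg : ∀ g : G, ¬ p ∣ orderOf g →
      (∀ φ ψ : D.P →* ℂˣ, φ ≠ 1 → ψ ≠ 1 →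
        ((s.X φ).1 : G → ℂ) g = ((s.X ψ).1 : G → ℂ) g) ∧
      ∀ φ : D.P →* ℂˣ, φ ≠ 1 →
        ((s.T.card : ℂ) * (s.d : ℂ) - (s.ε : ℂ)) * ((s.X φ).1 : G → ℂ) g
          + ∑ χ ∈ s.XS, (s.a χ : ℂ) * (χ.1 : G → ℂ) g = 0 := by
    intro g hg
    apply s.regular_relation (fun χ => (χ.1 : G → ℂ) g)
    intro u hu
    have hu1 : (u : G) ≠ 1 := fun h => hu (Subtype.ext h)
    apply sum_pb_mul_conj_eq_zero M hM g (u : G) 1 (u : G)
      ⟨g, one_mul g, Commute.one_left g, ⟨0, by rw [orderOf_one, pow_zero]⟩, hg⟩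
      (D.isPPart_self u)
    intro hc
    exact hu1 (isConj_one_right.mp hc)
  refine ⟨s.XS.card, val '' (s.XS : Set (PB M G)), val '' (s.T : Set (PB M G)), s.card_XS_le,
    ?_, ?_, ?_, ?_, ?_, a, s.d, s.ε, fun ψ => (s.X ψ).1, s.hε, ?_, ?_, ?_, ?_, ?_, ?_, ?_, ?_⟩
  · -- the principal block is `X ∪ Y`
    ext χ
    constructor
    · intro hχ
      by_cases hT : (⟨χ, hχ⟩ : PB M G) ∈ s.T
      · right
        exact ⟨⟨χ, hχ⟩, hT, rfl⟩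
      · left
        refine ⟨⟨χ, hχ⟩, ?_, rfl⟩
        rw [Finset.mem_coe, s.mem_XS]
        refine ⟨hT, ?_⟩
        intro h0
        apply D.not_vanish M hM ⟨χ, hχ⟩
        intro u hu
        rw [hval ⟨χ, hχ⟩ u hu, h0, s.E_eq_zero hT]
        simp
    · rintro (⟨χ', -, rfl⟩ | ⟨χ', -, rfl⟩)
      · exact χ'.2
      · exact χ'.2
  · -- disjointness
    rw [Set.disjoint_left]
    rintro χ ⟨χ₁, h1, rfl⟩ ⟨χ₂, h2, h12⟩
    have : χ₂ = χ₁ := hinj h12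
    rw [this] at h2
    exact (s.mem_XS.mp h1).1 h2
  · rw [Nat.card_image_of_injective hinj]
    simp
  · rw [Nat.card_image_of_injective hinj, hr]
    simp
  · refine ⟨oneIrr G, ⟨C.o, s.o_mem_XS, rfl⟩, rfl⟩
  · -- values of the non-exceptional characters
    rintro χ ⟨χ', hχ', rfl⟩
    have hX := s.mem_XS.mp hχ'
    refine ⟨by rw [ha]; exact hX.2, ?_⟩
    intro z y hz hy hy1
    have hy1' : (⟨y, hy⟩ : D.P) ≠ 1 := fun h => hy1 (congrArg Subtype.val h)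
    rw [hsec χ' z ⟨y, hy⟩ hz hy1, hval χ' ⟨y, hy⟩ hy1', s.E_eq_zero hX.1, ha]
    simp
  · intro ψ hψ
    exact ⟨s.X ψ, s.X_mem_T hψ, rfl⟩
  · rintro η ⟨η', hη', rfl⟩
    obtain ⟨ψ, hψ, hψX⟩ := s.mem_T.mp hη'
    refine ⟨ψ, hψ, ?_⟩
    show (s.X ψ).1 = η'.1
    rw [hψX]
  · intro ψ ψ' hψ hmem
    have hrel := D.rel_of_mem_orb M hM hmem
    have hψ' : ψ' ≠ 1 := C.ne_one_of_rel hψ (C.rel_symm hrel)
    have : s.X ψ = s.X ψ' := (s.hX ψ ψ' hψ hψ').mpr hrel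
    show (s.X ψ').1 = (s.X ψ).1
    rw [this]
  · intro ψ hψ z y hz hy
    have hy1 : y ≠ 1 := fun h => hy (by rw [h]; rfl)
    rw [hsec (s.X ψ) z y hz hy, hval (s.X ψ) y hy1, s.a_T (s.X_mem_T hψ), s.E_X hψ,
      D.orb_eq M hM ψ, finsum_mem_coe_finset]
  · -- the norm identity
    rw [hrZ, finsum_mem_image hinj.injOn, finsum_mem_coe_finset]
    have h1 : ∑ i ∈ s.XS, a (val i) ^ 2 = ∑ χ ∈ s.XS, s.a χ ^ 2 :=
      Finset.sum_congr rfl (fun χ _ => by rw [ha])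
    rw [h1]
    exact s.norm_identity
  · rintro η ⟨η₁, h1, rfl⟩ η' ⟨η₂, h2, rfl⟩ g hg
    obtain ⟨ψ₁, hψ₁, rfl⟩ := s.mem_T.mp h1
    obtain ⟨ψ₂, hψ₂, rfl⟩ := s.mem_T.mp h2
    exact (hreg g hg).1 ψ₁ ψ₂ hψ₁ hψ₂
  · rintro η ⟨η₁, h1, rfl⟩ g hg
    obtain ⟨ψ₁, hψ₁, rfl⟩ := s.mem_T.mp h1
    rw [hr, finsum_mem_image hinj.injOn, finsum_mem_coe_finset]
    have h1 : ∑ j ∈ s.XS, (a (val j) : ℂ) * ((val j : IrrCharacter G) : G → ℂ) g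
        = ∑ χ ∈ s.XS, (s.a χ : ℂ) * (χ.1 : G → ℂ) g :=
      Finset.sum_congr rfl (fun χ _ => by rw [ha])
    rw [h1]
    exact (hreg g hg).2 ψ₁ hψ₁

end Cfsg.Agent.Lib.Helper30.Brm
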