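import Mathlib
import Cfsg.Agent.Lib.Helper30.Brm3Group
import Cfsg.Agent.Lib.Helper30.BrmMain

/-!
# Brauer's theorem for `N/C` of order three: class multiplication in the principal block
(helper30)
-/

set_option autoImplicit false
set_option linter.unusedSectionVars false

namespace Cfsg.Agent.Lib.Helper30.Brm

open Cfsg
open scoped ComplexConjugate Classical
open Cfsg.Agent.Lib.Helper30.Homo

universe u

variable {G : Type u} [Group G] [Finite G] {p : ℕ} [Fact p.Prime]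
  (M : Ideal AlgInt) (hM : IsPModular p M)

include hM in
/-- if no product of two conjugates of `t` has a `p`-part conjugate to the `p`-element `y`, the
class multiplication coefficient vanishes block by block -/
theorem block_class_mult [Fintype (PB M G)] (t y : G) (hyy : IsPPart p y y)
    (hno : ∀ a b x : G, IsPPart p ((a * t * a⁻¹) * (b * t * b⁻¹)) x → ¬ IsConj x y) :
    ∑ χ : PB M G, (χ.1 : G → ℂ) t * (χ.1 : G → ℂ) t * conj ((χ.1 : G → ℂ) y)
      / (χ.1 : G → ℂ) 1 = 0 := by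
  haveI := Fintype.ofFinite G
  have hp : p.Prime := Fact.out
  have hvan : ∀ a b : G, ∑ χ : PB M G,
      (χ.1 : G → ℂ) (1 * (a * t * a⁻¹) * (b * t * b⁻¹)) * conj ((χ.1 : G → ℂ) y) = 0 := by
    intro a b
    obtain ⟨x, hx⟩ := Cfsg.Agent.Lib.Helper82.exists_isPPart hp
      (1 * (a * t * a⁻¹) * (b * t * b⁻¹)) (orderOf_pos _)
    apply sum_pb_mul_conj_eq_zero M hM _ y x y hx hyy
    apply hno a b x
    rwa [one_mul] at hx
  have h1 : ∑ a : G, ∑ b : G, ∑ χ : PB M G,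
      (χ.1 : G → ℂ) (1 * (a * t * a⁻¹) * (b * t * b⁻¹)) * conj ((χ.1 : G → ℂ) y) = 0 := by
    apply Finset.sum_eq_zero
    intro a _
    apply Finset.sum_eq_zero
    intro b _
    exact hvan a b
  have h2 : ∑ a : G, ∑ b : G, ∑ χ : PB M G,
      (χ.1 : G → ℂ) (1 * (a * t * a⁻¹) * (b * t * b⁻¹)) * conj ((χ.1 : G → ℂ) y)
      = (Fintype.card G : ℂ) ^ 2 * ∑ χ : PB M G, (χ.1 : G → ℂ) t * (χ.1 : G → ℂ) t
          * conj ((χ.1 : G → ℂ) y) / (χ.1 : G → ℂ) 1 := by
    have h3 : ∀ a : G, ∑ b : G, ∑ χ : PB M G,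
        (χ.1 : G → ℂ) (1 * (a * t * a⁻¹) * (b * t * b⁻¹)) * conj ((χ.1 : G → ℂ) y)
        = ∑ χ : PB M G, ∑ b : G,
        (χ.1 : G → ℂ) (1 * (a * t * a⁻¹) * (b * t * b⁻¹)) * conj ((χ.1 : G → ℂ) y) :=
      fun a => Finset.sum_comm
    rw [Finset.sum_congr rfl (fun a _ => h3 a), Finset.sum_comm, Finset.mul_sum]
    apply Finset.sum_congr rfl
    intro χ _
    have h4 := Cfsg.Agent.Lib.Helper82.IsIrrCharacter.sum_sum_conj_mul χ.1.2 t t 1
    have h5 : (χ.1 : G → ℂ) 1 ≠ 0 := Cfsg.Agent.Lib.Helper82.IsIrrCharacter.apply_one_ne_zero χ.1.2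
    simp_rw [← Finset.sum_mul]
    rw [h4]
    field_simp
  rw [h2] at h1
  have hG : (Fintype.card G : ℂ) ^ 2 ≠ 0 := by
    apply pow_ne_zero
    exact_mod_cast Fintype.card_ne_zero
  exact (mul_eq_zero.mp h1).resolve_left hG

end Cfsg.Agent.Lib.Helper30.Brm
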