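import Mathlib
import Cfsg.Agent.Lib.Helper30.BrmEval

/-!
# Brauer's theorem for `N/C` of order three: normalizing the solution of the Gram matrix
(helper30)
-/

set_option autoImplicit false
set_option linter.unusedSectionVars false

namespace Cfsg.Agent.Lib.Helper30.Brm

open scoped ComplexConjugate Classical
open Cfsg.Agent.Lib.Helper34 Cfsg.Agent.Lib.Helper30.Homo

section

variable {A : Type*} [Group A] [Fintype A] {ι : Type*} [Fintype ι] {D : CData A ι}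
  [Fintype (A →* ℂˣ)]

/-- the degree relation -/
theorem CData.Sol.degree_relation (s : D.Sol) {φ : A →* ℂˣ} (hφ : φ ≠ 1) :
    ((s.T.card : ℤ) * s.d - s.ε) * D.S (s.X φ) + ∑ χ ∈ s.XS, s.a χ * D.S χ = 0 := by
  have h := D.sum_sub_mul_S 1 φ
  have h1 : ∀ χ, (D.mm χ 1 - D.mm χ φ) * D.S χ
      = s.a χ * D.S χ - s.ε * (D.S χ * ev (s.X φ) χ) := by
    intro χ
    rw [s.hmv φ hφ χ]
    unfold CData.Sol.a
    ring
  rw [Finset.sum_congr rfl (fun χ _ => h1 χ), Finset.sum_sub_distrib, ← Finset.mul_sum,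
    sum_mul_ev] at h
  have h2 : ((∑ χ, s.a χ * D.S χ : ℤ) : ℂ)
      = (s.d : ℂ) * ∑ χ ∈ s.T, (D.S χ : ℂ) + ∑ χ ∈ s.XS, (s.a χ : ℂ) * (D.S χ : ℂ) := by
    push_cast
    exact s.sum_a_mul (fun χ => (D.S χ : ℂ))
  have h3 : ∑ χ ∈ s.T, (D.S χ : ℂ) = (s.T.card : ℂ) * (D.S (s.X φ) : ℂ) := by
    have : ∀ χ ∈ s.T, (D.S χ : ℂ) = (D.S (s.X φ) : ℂ) := by
      intro χ hχ
      obtain ⟨ψ, hψ, rfl⟩ := s.mem_T.mp hχ
      rw [s.hdeg ψ φ hψ hφ]
    rw [Finset.sum_congr rfl this, Finset.sum_const, nsmul_eq_mul]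
  rw [h3] at h2
  have h4 : ((((s.T.card : ℤ) * s.d - s.ε) * D.S (s.X φ) + ∑ χ ∈ s.XS, s.a χ * D.S χ : ℤ) : ℂ)
      = ((0 : ℤ) : ℂ) := by
    have h5 : ((∑ χ, s.a χ * D.S χ - s.ε * D.S (s.X φ) : ℤ) : ℂ) = ((0 : ℤ) : ℂ) := by
      rw [h]
    push_cast at h5 h2 ⊢
    rw [h2] at h5
    linear_combination h5
  exact_mod_cast h4


theorem twist_inv (τ : MulAut A) (φ : A →* ℂˣ) : twist τ φ⁻¹ = (twist τ φ)⁻¹ := by
  ext u
  simp only [twist_apply, MonoidHom.inv_apply]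

theorem CData.rel_inv_iff {φ ψ : A →* ℂˣ} : D.rel φ⁻¹ ψ⁻¹ ↔ D.rel φ ψ := by
  constructor
  · rintro ⟨k, hk⟩
    refine ⟨k, ?_⟩
    rw [twist_inv] at hk
    exact inv_injective hk
  · rintro ⟨k, hk⟩
    refine ⟨k, ?_⟩
    rw [twist_inv, hk]

/-- if `|A|` is odd and `m = 3`, a nontrivial linear character is not related to its inverse -/
theorem CData.not_rel_inv (hm : D.m = 3) (hodd : Odd (Fintype.card A)) {φ : A →* ℂˣ}
    (hφ : φ ≠ 1) : ¬ D.rel φ⁻¹ φ := by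
  intro h
  obtain ⟨k, hk, hrel⟩ := D.rel_lt h
  have h2 : twist (D.σ ^ (k + k)) φ = φ := by
    have h1 : φ = (twist (D.σ ^ k) φ)⁻¹ := by
      rw [← hrel]
      exact (inv_inv φ).symm
    rw [← twist_inv, hrel, twist_twist, ← pow_add] at h1
    exact h1.symm
  rw [hm] at hk
  interval_cases k
  · -- `φ⁻¹ = φ`
    rw [pow_zero, twist_one_aut] at hrel
    have h3 : φ ^ 2 = 1 := by
      rw [pow_two]
      nth_rewrite 1 [← hrel]
      exact inv_mul_cancel φ
    have h4 : orderOf φ ∣ 2 := orderOf_dvd_of_pow_eq_one h3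
    have h5 : orderOf φ ∣ Fintype.card (A →* ℂˣ) := orderOf_dvd_card
    rw [card_dual D.hcomm] at h5
    have h6 : orderOf φ = 1 := by
      rcases (Nat.dvd_prime Nat.prime_two).mp h4 with h | h
      · exact h
      · rw [h] at h5
        exact absurd h5 hodd.not_two_dvd_nat
    exact hφ (orderOf_eq_one_iff.mp h6)
  · exact D.twist_pow_ne_self (k := 2) (by norm_num) (by rw [hm]; norm_num) hφ h2
  · have h3 : D.σ ^ (2 + 2) = D.σ ^ 1 := by
      have : D.σ ^ (2 + 2) = D.σ ^ D.m * D.σ ^ 1 := by rw [hm, ← pow_add]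
      rw [this, D.hσm, one_mul]
    rw [h3] at h2
    exact D.twist_pow_ne_self (k := 1) (by norm_num) (by rw [hm]; norm_num) hφ h2

/-- renormalizing the solution when there are exactly two exceptional characters and `d = ε` -/
theorem CData.Sol.exists_swap (s : D.Sol) (hm : D.m = 3) (hT : s.T.card = 2) (hd : s.d = s.ε) :
    ∃ s' : D.Sol, s'.d = 0 := by
  have hcard : Fintype.card A = 7 := by
    have := s.card_T
    rw [hm, hT] at this
    omega
  have hodd : Odd (Fintype.card A) := by rw [hcard]; decide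
  have hε2 : s.ε * s.ε = 1 := by rcases s.hε with h | h <;> rw [h] <;> norm_num
  have F3 : ∀ φ : A →* ℂˣ, φ ≠ 1 → φ⁻¹ ≠ 1 := by
    intro φ hφ h
    apply hφ
    have h1 : φ = φ⁻¹⁻¹ := (inv_inv φ).symm
    rw [h1, h]
    ext u
    simp
  have F4 : ∀ φ : A →* ℂˣ, φ ≠ 1 → s.X φ⁻¹ ≠ s.X φ := by
    intro φ hφ h
    exact D.not_rel_inv hm hodd hφ ((s.hX φ⁻¹ φ (F3 φ hφ) hφ).mp h)
  have F5 : ∀ φ : A →* ℂˣ, φ ≠ 1 → ∀ χ,
      ev (s.X φ) χ + ev (s.X φ⁻¹) χ = if χ ∈ s.T then 1 else 0 := by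
    intro φ hφ χ
    have h1 : s.X φ ∈ s.T := s.X_mem_T hφ
    have h2 : s.X φ⁻¹ ∈ s.T := s.X_mem_T (F3 φ hφ)
    have h3 := F4 φ hφ
    by_cases hc1 : χ = s.X φ
    · rw [hc1, ev_self, ev_ne (fun h => h3 h.symm), if_pos h1]
      ring
    · by_cases hc2 : χ = s.X φ⁻¹
      · rw [hc2, ev_self, ev_ne h3, if_pos h2]
        ring
      · rw [ev_ne hc1, ev_ne hc2]
        have : χ ∉ s.T := by
          intro hχ
          obtain ⟨x, y, hxy, hTxy⟩ := Finset.card_eq_two.mp hT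
          rw [hTxy] at h1 h2 hχ
          simp only [Finset.mem_insert, Finset.mem_singleton] at h1 h2 hχ
          rcases h1 with h1 | h1 <;> rcases h2 with h2 | h2 <;> rcases hχ with hχ | hχ
          all_goals first
            | exact h3 (h2.trans h1.symm)
            | exact hc1 (hχ.trans h1.symm)
            | exact hc2 (hχ.trans h2.symm)
        rw [if_neg this]
        ring
  refine ⟨{ ε := -s.ε
            c := fun χ => s.c χ + s.ε * (if χ ∈ s.T then 1 else 0)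
            X := fun φ => s.X φ⁻¹
            d := 0
            hε := ?_
            hmv := ?_
            hX := ?_
            hd := ?_
            hXo := ?_
            hao := ?_
            hnorm := ?_
            hdeg := ?_ }, rfl⟩
  · rcases s.hε with h | h
    · right; rw [h]
    · left; rw [h]; norm_num
  · intro φ hφ χ
    rw [s.hmv φ hφ χ, ← F5 φ hφ χ]
    ring
  · intro φ ψ hφ hψ
    exact (s.hX φ⁻¹ ψ⁻¹ (F3 φ hφ) (F3 ψ hψ)).trans D.rel_inv_iff
  · intro φ hφ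
    have h1 := s.hd φ⁻¹ (F3 φ hφ)
    show D.mm (s.X φ⁻¹) 1 - (s.c (s.X φ⁻¹) + s.ε * (if s.X φ⁻¹ ∈ s.T then 1 else 0)) = 0
    rw [if_pos (s.X_mem_T (F3 φ hφ))]
    linarith
  · intro φ hφ
    exact s.hXo φ⁻¹ (F3 φ hφ)
  · have h1 := s.hao
    show D.mm D.o 1 - (s.c D.o + s.ε * (if D.o ∈ s.T then 1 else 0)) = 1
    rw [if_neg s.o_notMem_T]
    linarith
  · show ∑ χ, (D.mm χ 1 - (s.c χ + s.ε * (if χ ∈ s.T then 1 else 0)))
        * (D.mm χ 1 - (s.c χ + s.ε * (if χ ∈ s.T then 1 else 0))) = (D.m : ℤ) + 2 * -s.ε * 0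
    have h1 : ∀ χ, (D.mm χ 1 - (s.c χ + s.ε * (if χ ∈ s.T then 1 else 0)))
        * (D.mm χ 1 - (s.c χ + s.ε * (if χ ∈ s.T then 1 else 0)))
        = (D.mm χ 1 - s.c χ) * (D.mm χ 1 - s.c χ)
          + (if χ ∈ s.T then (1 - 2 * s.ε * s.a χ) else 0) := by
      intro χ
      by_cases hχ : χ ∈ s.T
      · rw [if_pos hχ, if_pos hχ]
        unfold CData.Sol.a
        linear_combination hε2
      · rw [if_neg hχ, if_neg hχ]
        ring
    rw [Finset.sum_congr rfl (fun χ _ => h1 χ), Finset.sum_add_distrib, s.hnorm,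
      Finset.sum_ite_mem, Finset.univ_inter]
    have h2 : ∑ χ ∈ s.T, (1 - 2 * s.ε * s.a χ) = ∑ χ ∈ s.T, (1 - 2 * s.ε * s.d) :=
      Finset.sum_congr rfl (fun χ hχ => by rw [s.a_T hχ])
    rw [h2, Finset.sum_const, hT, hd, hm, nsmul_eq_mul]
    push_cast
    linear_combination (-2 : ℤ) * hε2
  · intro φ ψ hφ hψ
    exact s.hdeg φ⁻¹ ψ⁻¹ (F3 φ hφ) (F3 ψ hψ)


theorem CData.S_o : D.S D.o = 1 := by
  have h1 := D.hF1 D.o
  rw [D.hFo] at h1
  exact_mod_cast h1.symm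

/-- for `m = 3` there is a solution of the Gram matrix with `d = 0` -/
theorem CData.exists_sol_zero (hm : D.m = 3) (h10 : Fintype.card A ≠ 10) :
    ∃ s : D.Sol, s.d = 0 := by
  obtain ⟨s⟩ := D.exists_sol
  by_cases hd0 : s.d = 0
  · exact ⟨s, hd0⟩
  have hnorm := s.norm_identity
  rw [hm] at hnorm
  have hr2 := s.two_le_card_T
  have hr2' : (2 : ℤ) ≤ (s.T.card : ℤ) := by exact_mod_cast hr2
  have hcT := s.card_T
  rw [hm] at hcT
  have hε2 : s.ε * s.ε = 1 := by rcases s.hε with h | h <;> rw [h] <;> norm_num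
  -- the sum over `XS` is at least one
  have hA1 : (1 : ℤ) ≤ ∑ χ ∈ s.XS, s.a χ ^ 2 := by
    have h1 : s.a D.o ^ 2 ≤ ∑ χ ∈ s.XS, s.a χ ^ 2 :=
      Finset.single_le_sum (f := fun χ => s.a χ ^ 2) (fun χ _ => sq_nonneg _) s.o_mem_XS
    rw [s.a_o] at h1
    linarith
  have hrd : s.d ^ 2 ≤ ((s.T.card : ℤ) - 1) * s.d ^ 2 := by
    nlinarith [sq_nonneg s.d]
  -- `d = ε`
  push_cast at hnorm
  have hdε : s.d = s.ε := by
    by_contra hne
    have key : 5 ≤ (s.d - s.ε) ^ 2 + s.d ^ 2 := by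
      rcases s.hε with h | h
      · rw [h] at hne ⊢
        have h3 : s.d ≤ -1 ∨ 2 ≤ s.d := by omega
        rcases h3 with h3 | h3 <;> nlinarith
      · rw [h] at hne ⊢
        have h3 : s.d ≤ -2 ∨ 1 ≤ s.d := by omega
        rcases h3 with h3 | h3 <;> nlinarith
    linarith
  have hd2 : s.d ^ 2 = 1 := by rw [hdε, pow_two, hε2]
  have hε2' : s.ε ^ 2 = 1 := by rw [pow_two, hε2]
  rw [hdε, sub_self, hε2'] at hnorm
  have hr4 : (s.T.card : ℤ) ≤ 4 := by linarith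
  have hr4' : s.T.card ≤ 4 := by exact_mod_cast hr4
  have hcases : s.T.card = 2 ∨ s.T.card = 3 ∨ s.T.card = 4 := by omega
  rcases hcases with hT | hT | hT
  · exact s.exists_swap hm hT hdε
  · exfalso
    rw [hT] at hcT
    exact h10 (by omega)
  · exfalso
    rw [hT] at hnorm
    have hA : ∑ χ ∈ s.XS, s.a χ ^ 2 = 1 := by
      push_cast at hnorm
      linarith
    have hXS : s.XS = {D.o} := by
      rw [Finset.eq_singleton_iff_unique_mem]
      refine ⟨s.o_mem_XS, ?_⟩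
      intro χ hχ
      by_contra hne
      have hsub : ({D.o, χ} : Finset ι) ⊆ s.XS := by
        intro x hx
        simp only [Finset.mem_insert, Finset.mem_singleton] at hx
        rcases hx with rfl | rfl
        · exact s.o_mem_XS
        · exact hχ
      have h1 : ∑ x ∈ ({D.o, χ} : Finset ι), s.a x ^ 2 ≤ ∑ x ∈ s.XS, s.a x ^ 2 :=
        Finset.sum_le_sum_of_subset_of_nonneg hsub (fun x _ _ => sq_nonneg _)
      rw [Finset.sum_pair (fun h => hne h.symm), s.a_o, hA] at h1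
      have h2 : 0 < s.a χ ^ 2 := by
        have := (s.mem_XS.mp hχ).2
        positivity
      linarith
    obtain ⟨φ, -, hφ, -, -⟩ := D.exists_two
    have hdeg := s.degree_relation hφ
    rw [hXS, Finset.sum_singleton, s.a_o, D.S_o, hT, hdε] at hdeg
    have hS := D.hS (s.X φ)
    rcases s.hε with h | h <;> rw [h] at hdeg <;> push_cast at hdeg <;> omega

end

end Cfsg.Agent.Lib.Helper30.Brm
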