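import Mathlib
import Cfsg.Agent.Lib.Helper30.Brm3Sol
import Cfsg.Agent.Lib.Helper30.BrmRegular

/-!
# Brauer's theorem for `N/C` of order three: the relations for a normalized solution (helper30)
-/

set_option autoImplicit false
set_option linter.unusedSectionVars false

namespace Cfsg.Agent.Lib.Helper30.Brm

open scoped ComplexConjugate Classical
open Cfsg.Agent.Lib.Helper34 Cfsg.Agent.Lib.Helper30.Homo

section

variable {A : Type*} [Group A] [Fintype A] {ι : Type*} [Fintype ι] {D : CData A ι}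
  [Fintype (A →* ℂˣ)]

/-- the relation given by a vector orthogonal to the column of `u ≠ 1` -/
theorem CData.Sol.column_relation (s : D.Sol) (g : ι → ℂ) {u : A} (hu : u ≠ 1)
    (h : ∑ χ, g χ * conj (D.F χ u) = 0) :
    ∑ χ, (s.a χ : ℂ) * g χ + (s.ε : ℂ) *
      ∑ φ ∈ (Finset.univ : Finset (A →* ℂˣ)).erase 1, g (s.X φ) * (φ u⁻¹ : ℂ) = 0 := by
  have h1 : ∀ χ, g χ * conj (D.F χ u)
      = (s.a χ : ℂ) * g χ + (s.ε : ℂ) * (g χ * s.E χ u⁻¹) := by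
    intro χ
    rw [s.value_ne χ hu, map_add, map_mul, map_intCast, map_intCast, s.conj_E]
    ring
  rw [Finset.sum_congr rfl (fun χ _ => h1 χ), Finset.sum_add_distrib, ← Finset.mul_sum,
    s.sum_mul_E] at h
  exact h

/-- with `d = 0`, sums against `a` run over `XS` only -/
theorem CData.Sol.sum_a_mul_zero (s : D.Sol) (hd : s.d = 0) (g : ι → ℂ) :
    ∑ χ, (s.a χ : ℂ) * g χ = ∑ χ ∈ s.XS, (s.a χ : ℂ) * g χ := by
  rw [s.sum_a_mul g, hd]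
  simp

theorem CData.Sol.a_mul_E (s : D.Sol) (hd : s.d = 0) (χ : ι) (u : A) :
    (s.a χ : ℂ) * s.E χ u = 0 := by
  by_cases h : χ ∈ s.T
  · rw [s.a_T h, hd]
    simp
  · rw [s.E_eq_zero h, mul_zero]

/-- the structure of `XS` for `m = 3`, `d = 0` -/
theorem CData.Sol.XS_three (s : D.Sol) (hm : D.m = 3) (hd : s.d = 0) :
    (∀ χ ∈ s.XS, s.a χ = 1 ∨ s.a χ = -1) ∧ s.XS.card = 3 := by
  have hnorm := s.norm_identity
  rw [hm, hd] at hnorm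
  have hε2 : s.ε ^ 2 = 1 := by rcases s.hε with h | h <;> rw [h] <;> norm_num
  have hsum : ∑ χ ∈ s.XS, s.a χ ^ 2 = 3 := by
    push_cast at hnorm
    have : (0 - s.ε) ^ 2 = 1 := by rw [zero_sub, neg_sq, hε2]
    rw [this] at hnorm
    linarith
  have hall : ∀ χ ∈ s.XS, s.a χ = 1 ∨ s.a χ = -1 := by
    intro χ hχ
    have h0 := (s.mem_XS.mp hχ).2
    have h1 : s.a χ ^ 2 ≤ ∑ χ ∈ s.XS, s.a χ ^ 2 :=
      Finset.single_le_sum (f := fun χ => s.a χ ^ 2) (fun χ _ => sq_nonneg _) hχ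
    rw [hsum] at h1
    have h2 : -1 ≤ s.a χ := by nlinarith
    have h3 : s.a χ ≤ 1 := by nlinarith
    omega
  refine ⟨hall, ?_⟩
  have h1 : ∑ χ ∈ s.XS, s.a χ ^ 2 = ∑ χ ∈ s.XS, (1 : ℤ) := by
    apply Finset.sum_congr rfl
    intro χ hχ
    rcases hall χ hχ with h | h <;> rw [h] <;> norm_num
  rw [hsum, Finset.sum_const, nsmul_eq_mul, mul_one] at h1
  exact_mod_cast h1.symm

theorem CData.Sol.XS_eq (s : D.Sol) (hm : D.m = 3) (hd : s.d = 0) :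
    ∃ χ₁ χ₂ : ι, χ₁ ≠ D.o ∧ χ₂ ≠ D.o ∧ χ₁ ≠ χ₂ ∧ (∀ χ, χ ∈ s.XS ↔ χ = D.o ∨ χ = χ₁ ∨ χ = χ₂) ∧
      (s.a χ₁ = 1 ∨ s.a χ₁ = -1) ∧ (s.a χ₂ = 1 ∨ s.a χ₂ = -1) := by
  obtain ⟨hall, hcard⟩ := s.XS_three hm hd
  have h2 : (s.XS.erase D.o).card = 2 := by
    rw [Finset.card_erase_of_mem s.o_mem_XS, hcard]
  obtain ⟨χ₁, χ₂, h12, he⟩ := Finset.card_eq_two.mp h2
  have hm1 : χ₁ ∈ s.XS.erase D.o := by rw [he]; simp
  have hm2 : χ₂ ∈ s.XS.erase D.o := by rw [he]; simp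
  refine ⟨χ₁, χ₂, (Finset.mem_erase.mp hm1).1, (Finset.mem_erase.mp hm2).1, h12, ?_,
    hall χ₁ (Finset.mem_erase.mp hm1).2, hall χ₂ (Finset.mem_erase.mp hm2).2⟩
  intro χ
  rw [← Finset.insert_erase s.o_mem_XS, he]
  simp

/-- sums over `XS` -/
theorem CData.Sol.sum_XS (s : D.Sol) {χ₁ χ₂ : ι} (h1 : χ₁ ≠ D.o) (h2 : χ₂ ≠ D.o) (h12 : χ₁ ≠ χ₂)
    (hXS : ∀ χ, χ ∈ s.XS ↔ χ = D.o ∨ χ = χ₁ ∨ χ = χ₂) {R : Type*} [AddCommMonoid R]
    (g : ι → R) :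
    ∑ χ ∈ s.XS, g χ = g D.o + (g χ₁ + g χ₂) := by
  have hXS' : s.XS = {D.o, χ₁, χ₂} := by
    ext χ
    rw [hXS χ]
    simp
  rw [hXS', Finset.sum_insert, Finset.sum_pair h12]
  simp only [Finset.mem_insert, Finset.mem_singleton, not_or]
  exact ⟨fun h => h1 h.symm, fun h => h2 h.symm⟩

/-- for `m = 3`, the product over an orbit is trivial -/
theorem CData.prod_orbit (hm : D.m = 3) (u : A) : u * D.σ u * (D.σ ^ 2) u = 1 := by
  by_contra hne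
  apply D.hfree 1 (by norm_num) (by have := D.hm; omega) _ hne
  have h3 : D.σ ((D.σ ^ 2) u) = u := by
    have h4 : D.σ ((D.σ ^ 2) u) = (D.σ ^ D.m) u := by
      rw [hm, pow_succ' D.σ 2, MulAut.mul_apply]
    rw [h4, D.hσm, MulAut.one_apply]
  rw [pow_one, map_mul, map_mul, h3]
  have h5 : D.σ (D.σ u) = (D.σ ^ 2) u := by rw [pow_two, MulAut.mul_apply]
  rw [h5, D.hcomm (D.σ u * (D.σ ^ 2) u) u, mul_assoc]

/-- sums over a class -/
theorem CData.sum_cls {φ : A →* ℂˣ} (hφ : φ ≠ 1) (g : (A →* ℂˣ) → ℂ) :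
    ∑ ψ ∈ D.cls φ, g ψ = ∑ k ∈ Finset.range D.m, g (twist (D.σ ^ k) φ) := by
  have hinj : Set.InjOn (fun k => twist (D.σ ^ k) φ) (Finset.range D.m : Set ℕ) := by
    apply Finset.card_image_iff.mp
    have := D.card_cls hφ
    unfold CData.cls at this
    rw [this, Finset.card_range]
  unfold CData.cls
  rw [Finset.sum_image hinj]

/-- the exceptional values at an involution of `A` -/
theorem CData.Sol.E_sq (s : D.Sol) (hm : D.m = 3) {φ₀ : A →* ℂˣ} (hφ₀ : φ₀ ≠ 1) (t : A)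
    (ht2 : t * t = 1) :
    s.E (s.X φ₀) t * s.E (s.X φ₀) t = 3 + 2 * s.E (s.X φ₀) t := by
  have hE : s.E (s.X φ₀) t = (φ₀ t : ℂ) + (φ₀ (D.σ t) : ℂ) + (φ₀ ((D.σ ^ 2) t) : ℂ) := by
    rw [s.E_X hφ₀, D.sum_cls hφ₀, hm, Finset.sum_range_succ, Finset.sum_range_succ,
      Finset.sum_range_one]
    simp only [twist_apply, pow_zero, pow_one, MulAut.one_apply]
  have horb := D.prod_orbit hm t
  have h1 : D.σ t * D.σ t = 1 := by rw [← map_mul, ht2, map_one]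
  have h2 : (D.σ ^ 2) t * (D.σ ^ 2) t = 1 := by rw [← map_mul, ht2, map_one]
  have e01 : t * D.σ t = (D.σ ^ 2) t := by
    have : t * D.σ t = ((D.σ ^ 2) t)⁻¹ := eq_inv_of_mul_eq_one_left horb
    rw [this]
    exact inv_eq_of_mul_eq_one_left h2
  have e02 : t * (D.σ ^ 2) t = D.σ t := by
    have h3 : t * (D.σ ^ 2) t * D.σ t = 1 := by
      rw [mul_assoc, D.hcomm ((D.σ ^ 2) t) (D.σ t), ← mul_assoc]
      exact horb
    have : t * (D.σ ^ 2) t = (D.σ t)⁻¹ := eq_inv_of_mul_eq_one_left h3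
    rw [this]
    exact inv_eq_of_mul_eq_one_left h1
  have e12 : D.σ t * (D.σ ^ 2) t = t := by
    have h3 : D.σ t * (D.σ ^ 2) t * t = 1 := by
      rw [D.hcomm (D.σ t * (D.σ ^ 2) t) t, ← mul_assoc]
      exact horb
    have : D.σ t * (D.σ ^ 2) t = t⁻¹ := eq_inv_of_mul_eq_one_left h3
    rw [this]
    exact inv_eq_of_mul_eq_one_left ht2
  have cast_mul : ∀ u v : A, (φ₀ u : ℂ) * (φ₀ v : ℂ) = (φ₀ (u * v) : ℂ) := by
    intro u v
    rw [map_mul, Units.val_mul]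
  have z00 := cast_mul t t
  have z11 := cast_mul (D.σ t) (D.σ t)
  have z22 := cast_mul ((D.σ ^ 2) t) ((D.σ ^ 2) t)
  have z01 := cast_mul t (D.σ t)
  have z02 := cast_mul t ((D.σ ^ 2) t)
  have z12 := cast_mul (D.σ t) ((D.σ ^ 2) t)
  rw [ht2, map_one, Units.val_one] at z00
  rw [h1, map_one, Units.val_one] at z11
  rw [h2, map_one, Units.val_one] at z22
  rw [e01] at z01
  rw [e02] at z02
  rw [e12] at z12
  rw [hE]
  linear_combination z00 + z11 + z22 + 2 * z01 + 2 * z02 + 2 * z12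

/-- the inner product of the exceptional parts at two non-conjugate elements -/
theorem CData.Sol.sum_E_mul_E (s : D.Sol) (hd : s.d = 0) {t y : A} (ht : t ≠ 1) (hy : y ≠ 1)
    (hty : ∀ k < D.m, y ≠ (D.σ ^ k) t) :
    ∑ χ, s.E χ t * s.E χ y⁻¹ = - ∑ χ ∈ s.XS, (s.a χ : ℂ) * (s.a χ : ℂ) := by
  have hK := D.hK t y (Or.inl ht)
  have hR : RfunM D.σ D.m t y = 0 := by
    unfold RfunM
    apply Finset.sum_eq_zero
    intro k hk
    rw [if_neg (hty k (Finset.mem_range.mp hk))]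
  rw [hR, mul_zero] at hK
  have hε2 : (s.ε : ℂ) * (s.ε : ℂ) = 1 := by
    rcases s.hε with h | h <;> rw [h] <;> norm_num
  have h1 : ∀ χ, D.F χ t * conj (D.F χ y)
      = (s.a χ : ℂ) * (s.a χ : ℂ) + s.E χ t * s.E χ y⁻¹ := by
    intro χ
    rw [s.value_ne χ ht, s.value_ne χ hy, map_add, map_mul, map_intCast, map_intCast, s.conj_E]
    have e1 := s.a_mul_E hd χ t
    have e2 := s.a_mul_E hd χ y⁻¹
    linear_combination (s.ε : ℂ) * e1 + (s.ε : ℂ) * e2 + s.E χ t * s.E χ y⁻¹ * hε2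
  rw [Finset.sum_congr rfl (fun χ _ => h1 χ), Finset.sum_add_distrib,
    s.sum_a_mul_zero hd (fun χ => (s.a χ : ℂ))] at hK
  linear_combination hK


/-- the relations given by the values at an involution which is `p`-regular -/
theorem CData.Sol.rel_odd (s : D.Sol) (hd : s.d = 0) (Gv : ι → ℂ)
    (horth : ∀ u : A, u ≠ 1 → ∑ χ, Gv χ * conj (D.F χ u) = 0)
    {y : A} (hy : y ≠ 1)
    (hsq : ∑ χ, Gv χ * Gv χ * conj (D.F χ y) / D.F χ 1 = 0)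
    {φ : A →* ℂˣ} (hφ : φ ≠ 1) :
    ∑ χ ∈ s.XS, (s.a χ : ℂ) * Gv χ = (s.ε : ℂ) * Gv (s.X φ) ∧
    ∑ χ ∈ s.XS, (s.a χ : ℂ) * (Gv χ * Gv χ / (D.S χ : ℂ))
      = (s.ε : ℂ) * (Gv (s.X φ) * Gv (s.X φ) / (D.S (s.X φ) : ℂ)) := by
  obtain ⟨hconst, hrel⟩ := s.regular_relation Gv horth
  constructor
  · have h1 := hrel φ hφ
    rw [hd] at h1
    push_cast at h1
    linear_combination h1
  · have hsq' : ∑ χ, (Gv χ * Gv χ / (D.S χ : ℂ)) * conj (D.F χ y) = 0 := by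
      rw [← hsq]
      apply Finset.sum_congr rfl
      intro χ _
      rw [D.hF1]
      ring
    have h1 := s.column_relation (fun χ => Gv χ * Gv χ / (D.S χ : ℂ)) hy hsq'
    rw [s.sum_a_mul_zero hd] at h1
    have h2 : ∑ φ' ∈ (Finset.univ : Finset (A →* ℂˣ)).erase 1,
        (Gv (s.X φ') * Gv (s.X φ') / (D.S (s.X φ') : ℂ)) * (φ' y⁻¹ : ℂ)
        = (Gv (s.X φ) * Gv (s.X φ) / (D.S (s.X φ) : ℂ)) * (-1) := by
      rw [← sum_erase_one_ne D.hcomm (inv_ne_one.mpr hy), Finset.mul_sum]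
      apply Finset.sum_congr rfl
      intro φ' hφ'
      have hφ'1 := Finset.ne_of_mem_erase hφ'
      rw [hconst φ' φ hφ'1 hφ, s.hdeg φ' φ hφ'1 hφ]
    rw [h2] at h1
    linear_combination h1

/-- the relation given by two non-conjugate elements `t`, `y` of `A`, where `t` is an
involution -/
theorem CData.Sol.rel_even (s : D.Sol) (hm : D.m = 3) (hd : s.d = 0) {t y : A} (ht : t ≠ 1)
    (ht2 : t * t = 1) (hy : y ≠ 1) (hty : ∀ k < D.m, y ≠ (D.σ ^ k) t)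
    (hsq : ∑ χ, D.F χ t * D.F χ t * conj (D.F χ y) / D.F χ 1 = 0)
    {φ : A →* ℂˣ} (hφ : φ ≠ 1) :
    ∑ χ ∈ s.XS, (s.a χ : ℂ) / (D.S χ : ℂ) = 9 * (s.ε : ℂ) / (D.S (s.X φ) : ℂ) := by
  obtain ⟨hall, hcard⟩ := s.XS_three hm hd
  have hε2 : (s.ε : ℂ) * (s.ε : ℂ) = 1 := by
    rcases s.hε with h | h <;> rw [h] <;> norm_num
  have hsq' : ∑ χ, (D.F χ t * D.F χ t / (D.S χ : ℂ)) * conj (D.F χ y) = 0 := by
    rw [← hsq]
    apply Finset.sum_congr rfl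
    intro χ _
    rw [D.hF1]
    ring
  have h1 := s.column_relation (fun χ => D.F χ t * D.F χ t / (D.S χ : ℂ)) hy hsq'
  rw [s.sum_a_mul_zero hd] at h1
  -- the sum over `XS`
  have h2 : ∑ χ ∈ s.XS, (s.a χ : ℂ) * (D.F χ t * D.F χ t / (D.S χ : ℂ))
      = ∑ χ ∈ s.XS, (s.a χ : ℂ) / (D.S χ : ℂ) := by
    apply Finset.sum_congr rfl
    intro χ hχ
    rw [s.value_ne χ ht, s.E_eq_zero (s.mem_XS.mp hχ).1]
    rcases hall χ hχ with h | h <;> rw [h] <;> push_cast <;> ring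
  -- the exceptional part
  set f : ℂ := (D.S (s.X φ) : ℂ) with hf
  have hf0 : f ≠ 0 := by
    rw [hf]
    have := D.hS (s.X φ)
    exact_mod_cast this.ne'
  have h3 : ∀ φ' ∈ (Finset.univ : Finset (A →* ℂˣ)).erase 1,
      (D.F (s.X φ') t * D.F (s.X φ') t / (D.S (s.X φ') : ℂ)) * (φ' y⁻¹ : ℂ)
      = (3 / f) * (φ' y⁻¹ : ℂ) + (2 / f) * (s.E (s.X φ') t * (φ' y⁻¹ : ℂ)) := by
    intro φ' hφ'
    have hφ'1 := Finset.ne_of_mem_erase hφ'
    rw [s.value_ne (s.X φ') ht, s.a_T (s.X_mem_T hφ'1), hd, s.hdeg φ' φ hφ'1 hφ, ← hf]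
    have hE := s.E_sq hm hφ'1 t ht2
    have hFF : (((0 : ℤ) : ℂ) + (s.ε : ℂ) * s.E (s.X φ') t)
        * (((0 : ℤ) : ℂ) + (s.ε : ℂ) * s.E (s.X φ') t) = 3 + 2 * s.E (s.X φ') t := by
      push_cast
      linear_combination (s.E (s.X φ') t * s.E (s.X φ') t) * hε2 + hE
    rw [hFF]
    field_simp
  rw [Finset.sum_congr rfl h3, Finset.sum_add_distrib, ← Finset.mul_sum, ← Finset.mul_sum,
    sum_erase_one_ne D.hcomm (inv_ne_one.mpr hy), ← s.sum_mul_E (fun χ => s.E χ t) y⁻¹,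
    s.sum_E_mul_E hd ht hy hty, h2] at h1
  have h4 : ∑ χ ∈ s.XS, (s.a χ : ℂ) * (s.a χ : ℂ) = 3 := by
    have : ∑ χ ∈ s.XS, (s.a χ : ℂ) * (s.a χ : ℂ) = ∑ χ ∈ s.XS, (1 : ℂ) := by
      apply Finset.sum_congr rfl
      intro χ hχ
      rcases hall χ hχ with h | h <;> rw [h] <;> push_cast <;> ring
    rw [this, Finset.sum_const, hcard]
    simp
  rw [h4] at h1
  field_simp
  field_simp at h1
  linear_combination h1

end

end Cfsg.Agent.Lib.Helper30.Brm
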