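import Mathlib
import Cfsg.Agent.Lib.Helper30.Brm3Block
import Cfsg.Agent.Lib.Helper30.Brm3Rel
import Cfsg.Agent.Lib.Helper30.Brm3Arith
import Cfsg.Agent.Lib.Helper22.KleinFourBlock
import Cfsg.Agent.Lib.Helper83.Quotient
import Cfsg.Agent.Lib.Helper83.Abelian

/-!
# Brauer's theorem for `N/C` of order three: the involution relations (helper30)
-/

set_option autoImplicit false
set_option linter.unusedSectionVars false

namespace Cfsg.Agent.Lib.Helper30.Brm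

open Cfsg
open scoped ComplexConjugate Classical
open Cfsg.Agent.Lib.Helper30.Homo

universe u

/-- an element lying in no proper normal subgroup is outside the kernel of every nonprincipal
irreducible character -/
theorem apply_ne_degree_of_not_mem_normal {G : Type u} [Group G] [Finite G] (t : G)
    (hnn : ∀ K : Subgroup G, K.Normal → t ∈ K → K = ⊤) (χ : IrrCharacter G)
    (hχ : (χ : G → ℂ) ≠ fun _ => 1) : (χ : G → ℂ) t ≠ (χ : G → ℂ) 1 := by
  haveI := Fintype.ofFinite G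
  intro h
  have hc : IsCharacter G (χ : G → ℂ) := Cfsg.Agent.Lib.Helper82.IsIrrCharacter.isCharacter χ.2
  have hK := hnn (Cfsg.Agent.Lib.Helper83.charKer hc) inferInstance
    ((Cfsg.Agent.Lib.Helper83.mem_charKer hc t).mpr h)
  have hall : ∀ g : G, (χ : G → ℂ) g = (χ : G → ℂ) 1 := by
    intro g
    have : g ∈ Cfsg.Agent.Lib.Helper83.charKer hc := by rw [hK]; exact Subgroup.mem_top g
    exact (Cfsg.Agent.Lib.Helper83.mem_charKer hc g).mp this
  have hdeg := Cfsg.Agent.Lib.Helper82.IsCharacter.charDegree_cast hc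
  have hpos := Cfsg.Agent.Lib.Helper82.IsIrrCharacter.charDegree_pos χ.2
  have hsum := Cfsg.Agent.Lib.Helper83.irr_sum_normSq χ
  have h1 : ∑ g : G, Complex.normSq ((χ : G → ℂ) g)
      = (Nat.card G : ℝ) * ((charDegree (χ : G → ℂ) : ℝ) * (charDegree (χ : G → ℂ) : ℝ)) := by
    have : ∀ g : G, Complex.normSq ((χ : G → ℂ) g)
        = (charDegree (χ : G → ℂ) : ℝ) * (charDegree (χ : G → ℂ) : ℝ) := by
      intro g
      rw [hall g, ← hdeg, Complex.normSq_natCast]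
    rw [Finset.sum_congr rfl (fun g _ => this g), Finset.sum_const, Finset.card_univ,
      Nat.card_eq_fintype_card, nsmul_eq_mul]
  rw [h1] at hsum
  have hG : (Nat.card G : ℝ) ≠ 0 := by
    have : Nat.card G ≠ 0 := Nat.card_pos.ne'
    exact_mod_cast this
  have h2 : (charDegree (χ : G → ℂ) : ℝ) * (charDegree (χ : G → ℂ) : ℝ) = 1 := by
    apply mul_left_cancel₀ hG
    rw [hsum, mul_one]
  have h3 : charDegree (χ : G → ℂ) * charDegree (χ : G → ℂ) = 1 := by exact_mod_cast h2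
  have h4 : charDegree (χ : G → ℂ) = 1 := by nlinarith
  apply hχ
  funext g
  rw [hall g, ← hdeg, h4]
  simp

section

variable {G : Type u} [Group G] [Finite G] {p : ℕ} [Fact p.Prime] (D : MData G p)
  (M : Ideal AlgInt) (hM : IsPModular p M)
  [Fintype D.P] [Fintype (PB M G)] [Fintype (D.P →* ℂˣ)]

theorem MData.ne_one_of_ne_o {χ : PB M G} (h : χ ≠ (D.cData M hM).o) :
    (χ.1 : G → ℂ) ≠ fun _ => 1 := by
  intro h1
  apply h
  apply Subtype.ext
  apply Subtype.ext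
  exact h1

include hM in
/-- the degree relation for three non-exceptional characters -/
theorem MData.rel_one (s : (D.cData M hM).Sol) (hd : s.d = 0)
    {χ₁ χ₂ : PB M G} (h1 : χ₁ ≠ (D.cData M hM).o) (h2 : χ₂ ≠ (D.cData M hM).o) (h12 : χ₁ ≠ χ₂)
    (hXS : ∀ χ, χ ∈ s.XS ↔ χ = (D.cData M hM).o ∨ χ = χ₁ ∨ χ = χ₂) {φ : D.P →* ℂˣ} (hφ : φ ≠ 1) :
    1 + s.a χ₁ * (D.cData M hM).S χ₁ + s.a χ₂ * (D.cData M hM).S χ₂
      = s.ε * (D.cData M hM).S (s.X φ) := by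
  have h := s.degree_relation hφ
  rw [hd, s.sum_XS h1 h2 h12 hXS, s.a_o, (D.cData M hM).S_o] at h
  linarith

include hM in
/-- the involution relations for odd `p` -/
theorem MData.involution_odd (hm : D.m = 3) (hp2 : p ≠ 2) (s : (D.cData M hM).Sol)
    (hd : s.d = 0) (t : G) (ht : orderOf t = 2)
    (hnn : ∀ K : Subgroup G, K.Normal → t ∈ K → K = ⊤)
    {χ₁ χ₂ : PB M G} (h1 : χ₁ ≠ (D.cData M hM).o) (h2 : χ₂ ≠ (D.cData M hM).o) (h12 : χ₁ ≠ χ₂)
    (hXS : ∀ χ, χ ∈ s.XS ↔ χ = (D.cData M hM).o ∨ χ = χ₁ ∨ χ = χ₂) (ha₁ : s.a χ₁ = 1 ∨ s.a χ₁ = -1)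
    (ha₂ : s.a χ₂ = 1 ∨ s.a χ₂ = -1) {φ : D.P →* ℂˣ} (hφ : φ ≠ 1) :
    ((s.a χ₁ = -1 ∧ s.a χ₂ = -1 ∧ s.ε = -1) ∨ (s.a χ₁ = -1 ∧ s.a χ₂ = 1 ∧ s.ε = 1) ∨
      (s.a χ₁ = 1 ∧ s.a χ₂ = -1 ∧ s.ε = 1)) ∧
      IsSquare ((D.cData M hM).S χ₁ * (D.cData M hM).S χ₂ * (D.cData M hM).S (s.X φ)) := by
  have hp : p.Prime := Fact.out
  have R1 := D.rel_one M hM s hd h1 h2 h12 hXS hφ
  -- `t` is `p`-regular
  have hreg : ¬ p ∣ orderOf t := by
    rw [ht]
    intro h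
    exact hp2 ((Nat.prime_dvd_prime_iff_eq hp Nat.prime_two).mp h)
  have horth : ∀ u : D.P, u ≠ 1 → ∑ χ : PB M G, (χ.1 : G → ℂ) t * conj ((D.cData M hM).F χ u) = 0 := by
    intro u hu
    have hu1 : (u : G) ≠ 1 := fun h => hu (Subtype.ext h)
    apply sum_pb_mul_conj_eq_zero M hM t (u : G) 1 (u : G)
      ⟨t, one_mul t, Commute.one_left t, ⟨0, by rw [orderOf_one, pow_zero]⟩, hreg⟩
      (D.isPPart_self u)
    intro hc
    exact hu1 (isConj_one_right.mp hc)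
  -- a nontrivial element of `P`
  obtain ⟨y, hy⟩ : ∃ y : D.P, y ≠ 1 := by
    have h1 : 1 < Fintype.card D.P := by
      have := (D.cData M hM).hcard
      omega
    haveI := Fintype.one_lt_card_iff_nontrivial.mp h1
    exact exists_ne 1
  have hty : ¬ IsConj t (y : G) := by
    intro hc
    obtain ⟨c, hc⟩ := isConj_iff.mp hc
    obtain ⟨k, hk⟩ := D.orderOf_coe y
    rw [← hc, orderOf_conj_eq, ht] at hk
    have hk0 : k ≠ 0 := by
      rintro rfl
      norm_num at hk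
    have : p ∣ 2 := by
      rw [hk]
      exact dvd_pow_self p hk0
    exact hp2 ((Nat.prime_dvd_prime_iff_eq hp Nat.prime_two).mp this)
  have hsq := block_class_mult M hM t (y : G) (D.isPPart_self y) (D.no_prod hm t ht y hy hty)
  have hsq' : ∑ χ : PB M G, (χ.1 : G → ℂ) t * (χ.1 : G → ℂ) t * conj ((D.cData M hM).F χ y) / (D.cData M hM).F χ 1 = 0 :=
    hsq
  obtain ⟨r2, r3⟩ := s.rel_odd hd (fun χ => (χ.1 : G → ℂ) t) horth hy hsq' hφ
  rw [s.sum_XS h1 h2 h12 hXS] at r2 r3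
  -- integrality
  obtain ⟨x₁, hx₁⟩ := Cfsg.Agent.Lib.Helper22.exists_int_char_of_orderOf_two χ₁.isCharacter t ht
  obtain ⟨x₂, hx₂⟩ := Cfsg.Agent.Lib.Helper22.exists_int_char_of_orderOf_two χ₂.isCharacter t ht
  obtain ⟨h, hh⟩ := Cfsg.Agent.Lib.Helper22.exists_int_char_of_orderOf_two
    (s.X φ).isCharacter t ht
  have ho : ((D.cData M hM).o.1 : G → ℂ) t = 1 := rfl
  simp only [hx₁, hx₂, hh, ho, s.a_o, (D.cData M hM).S_o] at r2 r3
  have hf₁ : 0 < (D.cData M hM).S χ₁ := (D.cData M hM).hS χ₁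
  have hf₂ : 0 < (D.cData M hM).S χ₂ := (D.cData M hM).hS χ₂
  have hf : 0 < (D.cData M hM).S (s.X φ) := (D.cData M hM).hS (s.X φ)
  have R2 : 1 + s.a χ₁ * x₁ + s.a χ₂ * x₂ = s.ε * h := by
    have : ((1 + s.a χ₁ * x₁ + s.a χ₂ * x₂ : ℤ) : ℂ) = ((s.ε * h : ℤ) : ℂ) := by
      push_cast
      push_cast at r2
      linear_combination r2
    exact_mod_cast this
  have R3 : (D.cData M hM).S χ₁ * (D.cData M hM).S χ₂ * (D.cData M hM).S (s.X φ) + s.a χ₁ * x₁ ^ 2 * (D.cData M hM).S χ₂ * (D.cData M hM).S (s.X φ)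
      + s.a χ₂ * x₂ ^ 2 * (D.cData M hM).S χ₁ * (D.cData M hM).S (s.X φ) = s.ε * h ^ 2 * (D.cData M hM).S χ₁ * (D.cData M hM).S χ₂ := by
    have e1 : ((D.cData M hM).S χ₁ : ℂ) ≠ 0 := by exact_mod_cast hf₁.ne'
    have e2 : ((D.cData M hM).S χ₂ : ℂ) ≠ 0 := by exact_mod_cast hf₂.ne'
    have e3 : ((D.cData M hM).S (s.X φ) : ℂ) ≠ 0 := by exact_mod_cast hf.ne'
    have : (((D.cData M hM).S χ₁ * (D.cData M hM).S χ₂ * (D.cData M hM).S (s.X φ) + s.a χ₁ * x₁ ^ 2 * (D.cData M hM).S χ₂ * (D.cData M hM).S (s.X φ)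
        + s.a χ₂ * x₂ ^ 2 * (D.cData M hM).S χ₁ * (D.cData M hM).S (s.X φ) : ℤ) : ℂ)
        = ((s.ε * h ^ 2 * (D.cData M hM).S χ₁ * (D.cData M hM).S χ₂ : ℤ) : ℂ) := by
      push_cast
      push_cast at r3
      field_simp at r3
      linear_combination r3
    exact_mod_cast this
  have hx₂ne : x₂ ≠ (D.cData M hM).S χ₂ := by
    intro he
    apply apply_ne_degree_of_not_mem_normal t hnn χ₂.1 (D.ne_one_of_ne_o M hM h2)
    have hS : ((D.cData M hM).S χ₂ : ℂ) = (χ₂.1 : G → ℂ) 1 := ((D.cData M hM).hF1 χ₂).symm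
    rw [hx₂, he, hS]
  exact three_arith (s.a χ₁) (s.a χ₂) s.ε ((D.cData M hM).S χ₁) ((D.cData M hM).S χ₂) ((D.cData M hM).S (s.X φ)) x₁ x₂ h ha₁ ha₂ s.hε
    hf₁ hf₂ hf R1 R2 R3 hx₂ne

include hM in
/-- for `p = 2` no involution lies outside all proper normal subgroups -/
theorem MData.involution_even (hm : D.m = 3) (hp2 : p = 2) (s : (D.cData M hM).Sol)
    (hd : s.d = 0) (t : G) (ht : orderOf t = 2)
    (hnn : ∀ K : Subgroup G, K.Normal → t ∈ K → K = ⊤)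
    {χ₁ χ₂ : PB M G} (h1 : χ₁ ≠ (D.cData M hM).o) (h2 : χ₂ ≠ (D.cData M hM).o) (h12 : χ₁ ≠ χ₂)
    (hXS : ∀ χ, χ ∈ s.XS ↔ χ = (D.cData M hM).o ∨ χ = χ₁ ∨ χ = χ₂)
    (ha₁ : s.a χ₁ = 1 ∨ s.a χ₁ = -1)
    (ha₂ : s.a χ₂ = 1 ∨ s.a χ₂ = -1) {φ : D.P →* ℂˣ} (hφ : φ ≠ 1) : False := by
  have hp : p.Prime := Fact.out
  have R1 := D.rel_one M hM s hd h1 h2 h12 hXS hφ
  -- move `t` into `P`
  obtain ⟨c, hc⟩ := D.hconjP t ⟨1, by rw [ht, hp2, pow_one]⟩
  obtain ⟨t', ht'def⟩ : ∃ t' : D.P, t' = ⟨c * t * c⁻¹, hc⟩ := ⟨_, rfl⟩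
  have ht'coe : (t' : G) = c * t * c⁻¹ := by rw [ht'def]
  have ht'ord : orderOf (t' : G) = 2 := by rw [ht'coe, orderOf_conj_eq, ht]
  have ht'1 : t' ≠ 1 := by
    intro h
    rw [h, OneMemClass.coe_one, orderOf_one] at ht'ord
    norm_num at ht'ord
  have ht'2 : t' * t' = 1 := by
    apply Subtype.ext
    rw [Subgroup.coe_mul, ht'coe, OneMemClass.coe_one]
    exact conj_mul_self_of_orderOf_two t c ht
  -- an element of `P` not conjugate to `t'`
  obtain ⟨y, hy1, hyt⟩ : ∃ y : D.P, y ≠ 1 ∧ ∀ k < (D.cData M hM).m, y ≠ ((D.cData M hM).σ ^ k) t' := by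
    set S₀ : Finset D.P := insert 1 ((Finset.range 3).image (fun k => (D.σ ^ k) t')) with hS₀
    have hS₀card : S₀.card ≤ 4 := by
      have h3 : ((Finset.range 3).image (fun k => (D.σ ^ k) t')).card ≤ 3 := by
        have := Finset.card_image_le (s := Finset.range 3) (f := fun k => (D.σ ^ k) t')
        rwa [Finset.card_range] at this
      exact (Finset.card_insert_le _ _).trans (by omega)
    have hex : ∃ y : D.P, y ∉ S₀ := by
      by_contra hall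
      push Not at hall
      have h4 : Fintype.card D.P ≤ S₀.card := by
        rw [← Finset.card_univ]
        exact Finset.card_le_card (fun y _ => hall y)
      have h5 := (D.cData M hM).hcard
      have h6 : (D.cData M hM).m = 3 := hm
      omega
    obtain ⟨y, hy⟩ := hex
    rw [hS₀, Finset.mem_insert, Finset.mem_image, not_or] at hy
    refine ⟨y, hy.1, ?_⟩
    intro k hk hyk
    apply hy.2
    have h6 : (D.cData M hM).m = 3 := hm
    exact ⟨k, Finset.mem_range.mpr (by omega), hyk.symm⟩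
  have hty : ¬ IsConj (t' : G) (y : G) := by
    intro hcj
    obtain ⟨k, hk, hyk⟩ := D.hfus t' y hcj
    exact hyt k hk hyk
  have hsq := block_class_mult M hM (t' : G) (y : G) (D.isPPart_self y)
    (D.no_prod hm (t' : G) ht'ord y hy1 hty)
  have hsq' : ∑ χ : PB M G, (D.cData M hM).F χ t' * (D.cData M hM).F χ t'
      * conj ((D.cData M hM).F χ y) / (D.cData M hM).F χ 1 = 0 := hsq
  have r3 := s.rel_even hm hd ht'1 ht'2 hy1 hyt hsq' hφ
  rw [s.sum_XS h1 h2 h12 hXS, s.a_o, (D.cData M hM).S_o] at r3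
  have hf₁ : 0 < (D.cData M hM).S χ₁ := (D.cData M hM).hS χ₁
  have hf₂ : 0 < (D.cData M hM).S χ₂ := (D.cData M hM).hS χ₂
  have hf : 0 < (D.cData M hM).S (s.X φ) := (D.cData M hM).hS (s.X φ)
  have R3 : (D.cData M hM).S χ₁ * (D.cData M hM).S χ₂ * (D.cData M hM).S (s.X φ)
      + s.a χ₁ * (D.cData M hM).S χ₂ * (D.cData M hM).S (s.X φ)
      + s.a χ₂ * (D.cData M hM).S χ₁ * (D.cData M hM).S (s.X φ)
      = 9 * s.ε * (D.cData M hM).S χ₁ * (D.cData M hM).S χ₂ := by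
    have e1 : ((D.cData M hM).S χ₁ : ℂ) ≠ 0 := by exact_mod_cast hf₁.ne'
    have e2 : ((D.cData M hM).S χ₂ : ℂ) ≠ 0 := by exact_mod_cast hf₂.ne'
    have e3 : ((D.cData M hM).S (s.X φ) : ℂ) ≠ 0 := by exact_mod_cast hf.ne'
    have : (((D.cData M hM).S χ₁ * (D.cData M hM).S χ₂ * (D.cData M hM).S (s.X φ)
        + s.a χ₁ * (D.cData M hM).S χ₂ * (D.cData M hM).S (s.X φ)
        + s.a χ₂ * (D.cData M hM).S χ₁ * (D.cData M hM).S (s.X φ) : ℤ) : ℂ)
        = ((9 * s.ε * (D.cData M hM).S χ₁ * (D.cData M hM).S χ₂ : ℤ) : ℂ) := by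
      push_cast
      push_cast at r3
      field_simp at r3
      linear_combination r3
    exact_mod_cast this
  -- the congruences
  have hχ₁XS : χ₁ ∈ s.XS := (hXS χ₁).mpr (Or.inr (Or.inl rfl))
  have hχ₂XS : χ₂ ∈ s.XS := (hXS χ₂).mpr (Or.inr (Or.inr rfl))
  have hc₁ : (D.cData M hM).S χ₁ = s.a χ₁ + (Fintype.card D.P : ℤ) * s.c χ₁ := by
    have h := s.value_one χ₁
    rw [s.E_eq_zero (s.mem_XS.mp hχ₁XS).1] at h
    have : (((D.cData M hM).S χ₁ : ℤ) : ℂ)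
        = ((s.a χ₁ + (Fintype.card D.P : ℤ) * s.c χ₁ : ℤ) : ℂ) := by
      push_cast
      rw [h]
      ring
    exact_mod_cast this
  have hc₂ : (D.cData M hM).S χ₂ = s.a χ₂ + (Fintype.card D.P : ℤ) * s.c χ₂ := by
    have h := s.value_one χ₂
    rw [s.E_eq_zero (s.mem_XS.mp hχ₂XS).1] at h
    have : (((D.cData M hM).S χ₂ : ℤ) : ℂ)
        = ((s.a χ₂ + (Fintype.card D.P : ℤ) * s.c χ₂ : ℤ) : ℂ) := by
      push_cast
      rw [h]
      ring
    exact_mod_cast this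
  have hc₃ : (D.cData M hM).S (s.X φ) = 3 * s.ε + (Fintype.card D.P : ℤ) * s.c (s.X φ) := by
    have h := s.value_one (s.X φ)
    have hE : s.E (s.X φ) 1 = 3 := by
      rw [s.E_X hφ]
      simp only [map_one, Units.val_one, Finset.sum_const, nsmul_eq_mul, mul_one]
      rw [(D.cData M hM).card_cls hφ]
      have h6 : (D.cData M hM).m = 3 := hm
      rw [h6]
      norm_num
    rw [hE, s.a_T (s.X_mem_T hφ), hd] at h
    have : (((D.cData M hM).S (s.X φ) : ℤ) : ℂ)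
        = ((3 * s.ε + (Fintype.card D.P : ℤ) * s.c (s.X φ) : ℤ) : ℂ) := by
      push_cast
      rw [h]
      push_cast
      ring
    exact_mod_cast this
  -- `16 ∣ |P|`
  have h16 : (16 : ℤ) ∣ (Fintype.card D.P : ℤ) := by
    obtain ⟨n, hn0⟩ := D.card_P
    rw [Nat.card_eq_fintype_card] at hn0
    have hn : Fintype.card D.P = 2 ^ n := hn0.trans (by rw [hp2])
    have hcT := s.card_T
    have h6 : (D.cData M hM).m = 3 := hm
    rw [h6] at hcT
    have hcard := (D.cData M hM).hcard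
    rw [h6] at hcard
    have hn4 : 4 ≤ n := by
      by_contra hlt
      push Not at hlt
      interval_cases n <;> omega
    have : (16 : ℕ) ∣ Fintype.card D.P := by
      rw [hn]
      exact pow_dvd_pow 2 hn4
    exact_mod_cast this
  obtain ⟨hS1, ha1⟩ := three_arith_even (s.a χ₁) (s.a χ₂) s.ε ((D.cData M hM).S χ₁)
    ((D.cData M hM).S χ₂) ((D.cData M hM).S (s.X φ)) (Fintype.card D.P : ℤ) (s.c χ₁) (s.c χ₂)
    (s.c (s.X φ)) ha₁ ha₂ s.hε hf₁ hf₂ h16 hc₁ hc₂ hc₃ R1 R3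
  -- `t` lies in the kernel of `χ₁`
  apply apply_ne_degree_of_not_mem_normal t hnn χ₁.1 (D.ne_one_of_ne_o M hM h1)
  have hv : (χ₁.1 : G → ℂ) t = (χ₁.1 : G → ℂ) (t' : G) := by
    rw [ht'coe, Cfsg.Agent.Lib.Helper82.IsCharacter.conj_apply χ₁.isCharacter]
  have hv2 : (D.cData M hM).F χ₁ t' = (s.a χ₁ : ℂ) := by
    rw [s.value_ne χ₁ ht'1, s.E_eq_zero (s.mem_XS.mp hχ₁XS).1]
    simp
  have hv3 : ((D.cData M hM).S χ₁ : ℂ) = (χ₁.1 : G → ℂ) 1 := ((D.cData M hM).hF1 χ₁).symm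
  rw [hv, ← hv3, hS1]
  have : (χ₁.1 : G → ℂ) (t' : G) = (s.a χ₁ : ℂ) := hv2
  rw [this, ha1]

end

end Cfsg.Agent.Lib.Helper30.Brm
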