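import Mathlib
import Cfsg.Agent.Lib.Helper30.Brm3Inv

/-!
# Brauer's theorem for `N/C` of order three: the main theorem (helper30)
-/

set_option autoImplicit false
set_option linter.unusedSectionVars false

namespace Cfsg.Agent.Lib.Helper30.Brm

open Cfsg
open scoped ComplexConjugate Classical
open Cfsg.Agent.Lib.Helper30.Homo

universe u

variable {G : Type u} [Group G] [Finite G] {p : ℕ} [Fact p.Prime] (D : MData G p)
  (M : Ideal AlgInt) (hM : IsPModular p M)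

theorem MData.card_ne_ten : Nat.card D.P ≠ 10 := by
  have hp : p.Prime := Fact.out
  obtain ⟨n, hn⟩ := D.card_P
  rw [hn]
  intro h
  have h2 : p = 2 := by
    have : 2 ∣ p ^ n := by rw [h]; norm_num
    exact ((Nat.prime_dvd_prime_iff_eq Nat.prime_two hp).mp
      (Nat.prime_two.dvd_of_dvd_pow this)).symm
  have h5 : p = 5 := by
    have : 5 ∣ p ^ n := by rw [h]; norm_num
    exact ((Nat.prime_dvd_prime_iff_eq (by norm_num) hp).mp
      (Nat.Prime.dvd_of_dvd_pow (by norm_num) this)).symm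
  omega

include hM in
/-- **Brauer's theorem** on groups with an abelian Sylow `p`-subgroup `P` such that `N(P)/C(P)` has
order three and acts semiregularly -/
theorem brauer_three (hm : D.m = 3) :
    ∃ (X Y : Set (IrrCharacter G)), principalBlock M G = X ∪ Y ∧ Disjoint X Y ∧
      Nat.card X = 3 ∧ Nat.card Y = (Nat.card D.P - 1) / 3 ∧
      (∃ χ₁ ∈ X, (χ₁ : G → ℂ) = fun _ => 1) ∧
      ∃ (a : IrrCharacter G → ℤ) (δ : ℤ) (ζ : (D.P →* ℂˣ) → IrrCharacter G),
        (δ = 1 ∨ δ = -1) ∧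
        (∀ χ ∈ X, (a χ = 1 ∨ a χ = -1) ∧ ∀ z y : G, IsPPart p z y → y ∈ D.P → y ≠ 1 →
          (χ : G → ℂ) z = (a χ : ℂ)) ∧
        (∀ ψ : D.P →* ℂˣ, ψ ≠ 1 → ζ ψ ∈ Y) ∧
        (∀ η ∈ Y, ∃ ψ : D.P →* ℂˣ, ψ ≠ 1 ∧ ζ ψ = η) ∧
        (∀ ψ ψ' : D.P →* ℂˣ, ψ ≠ 1 → ψ' ∈ D.orb ψ → ζ ψ' = ζ ψ) ∧
        (∀ ψ : D.P →* ℂˣ, ψ ≠ 1 → ∀ (z : G) (y : D.P), IsPPart p z (y : G) → (y : G) ≠ 1 →
          (ζ ψ : G → ℂ) z = (δ : ℂ) * ∑ᶠ ψ' ∈ D.orb ψ, ((ψ' y : ℂˣ) : ℂ)) ∧
        ((∃ t : G, orderOf t = 2 ∧ ∀ K : Subgroup G, K.Normal → t ∈ K → K = ⊤) →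
          Nat.card {χ : IrrCharacter G // χ ∈ X ∧ (χ : G → ℂ) ≠ (fun _ => 1) ∧ a χ = -1}
            + (if δ = 1 then 1 else 0) = 2 ∧
          ∀ η ∈ Y, IsSquare (charDegree (η : G → ℂ) *
            ∏ᶠ χ ∈ {χ : IrrCharacter G | χ ∈ X ∧ (χ : G → ℂ) ≠ fun _ => 1},
              charDegree (χ : G → ℂ))) := by
  have hp : p.Prime := Fact.out
  haveI : Fintype D.P := Fintype.ofFinite _
  haveI : Fintype (PB M G) := Fintype.ofFinite _
  haveI : Finite (D.P →* ℂˣ) := finite_dual D.hcomm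
  haveI : Fintype (D.P →* ℂˣ) := Fintype.ofFinite _
  have hmC : (D.cData M hM).m = 3 := hm
  have h10 : Fintype.card D.P ≠ 10 := by
    rw [← Nat.card_eq_fintype_card]
    exact D.card_ne_ten
  obtain ⟨s, hd⟩ := (D.cData M hM).exists_sol_zero hmC h10
  obtain ⟨hall, hXScard⟩ := s.XS_three hmC hd
  have hcardT : 3 * s.T.card + 1 = Fintype.card D.P := by
    have := s.card_T
    rwa [hmC] at this
  have hr : (Nat.card D.P - 1) / 3 = s.T.card := by
    rw [Nat.card_eq_fintype_card, ← hcardT, Nat.add_sub_cancel,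
      Nat.mul_div_cancel_left _ (by norm_num : 0 < 3)]
  let val : PB M G → IrrCharacter G := Subtype.val
  have hinj : Function.Injective val := Subtype.val_injective
  let a : IrrCharacter G → ℤ := fun χ => if h : χ ∈ principalBlock M G then s.a ⟨χ, h⟩ else 0
  have ha : ∀ χ : PB M G, a χ.1 = s.a χ := by
    intro χ
    show (if h : χ.1 ∈ principalBlock M G then s.a ⟨χ.1, h⟩ else 0) = s.a χ
    rw [dif_pos χ.2]
  -- values on `P`
  have hval : ∀ (χ : PB M G) (u : D.P), u ≠ 1 →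
      (χ.1 : G → ℂ) u = (s.a χ : ℂ) + (s.ε : ℂ) * s.E χ u := fun χ u hu => s.value_ne χ hu
  -- values on sections
  have hsec : ∀ (χ : PB M G) (z : G) (y : D.P), IsPPart p z (y : G) → (y : G) ≠ 1 →
      (χ.1 : G → ℂ) z = (χ.1 : G → ℂ) y := by
    intro χ z y hz hy
    have hy1 : y ≠ 1 := fun h => hy (by rw [h]; rfl)
    exact section_value p M hM (y : G) (D.orderOf_coe y) (D.hidx y hy1) χ.1 χ.2 z hz
  refine ⟨val '' (s.XS : Set (PB M G)), val '' (s.T : Set (PB M G)),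
    ?_, ?_, ?_, ?_, ?_, a, s.ε, fun ψ => (s.X ψ).1, s.hε, ?_, ?_, ?_, ?_, ?_, ?_⟩
  · -- the principal block is `X ∪ Y`
    ext χ
    constructor
    · intro hχ
      by_cases hT : (⟨χ, hχ⟩ : PB M G) ∈ s.T
      · right
        exact ⟨⟨χ, hχ⟩, hT, rfl⟩
      · left
        refine ⟨⟨χ, hχ⟩, ?_, rfl⟩
        rw [Finset.mem_coe, s.mem_XS]
        refine ⟨hT, ?_⟩
        intro h0
        apply D.not_vanish M hM ⟨χ, hχ⟩
        intro u hu
        rw [hval ⟨χ, hχ⟩ u hu, h0, s.E_eq_zero hT]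
        simp
    · rintro (⟨χ', -, rfl⟩ | ⟨χ', -, rfl⟩)
      · exact χ'.2
      · exact χ'.2
  · -- disjointness
    rw [Set.disjoint_left]
    rintro χ ⟨χ₁, h1, rfl⟩ ⟨χ₂, h2, h12⟩
    have : χ₂ = χ₁ := hinj h12
    rw [this] at h2
    exact (s.mem_XS.mp h1).1 h2
  · rw [Nat.card_image_of_injective hinj]
    simp [hXScard]
  · rw [Nat.card_image_of_injective hinj, hr]
    simp
  · refine ⟨oneIrr G, ⟨(D.cData M hM).o, s.o_mem_XS, rfl⟩, rfl⟩
  · -- values of the non-exceptional characters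
    rintro χ ⟨χ', hχ', rfl⟩
    have hX := s.mem_XS.mp hχ'
    refine ⟨by rw [ha]; exact hall χ' hχ', ?_⟩
    intro z y hz hy hy1
    have hy1' : (⟨y, hy⟩ : D.P) ≠ 1 := fun h => hy1 (congrArg Subtype.val h)
    rw [hsec χ' z ⟨y, hy⟩ hz hy1, hval χ' ⟨y, hy⟩ hy1', s.E_eq_zero hX.1, ha]
    simp
  · intro ψ hψ
    exact ⟨s.X ψ, s.X_mem_T hψ, rfl⟩
  · rintro η ⟨η', hη', rfl⟩
    obtain ⟨ψ, hψ, hψX⟩ := s.mem_T.mp hη'
    refine ⟨ψ, hψ, ?_⟩
    show (s.X ψ).1 = η'.1
    rw [hψX]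
  · intro ψ ψ' hψ hmem
    have hrel := D.rel_of_mem_orb M hM hmem
    have hψ' : ψ' ≠ 1 := (D.cData M hM).ne_one_of_rel hψ ((D.cData M hM).rel_symm hrel)
    have : s.X ψ = s.X ψ' := (s.hX ψ ψ' hψ hψ').mpr hrel
    show (s.X ψ').1 = (s.X ψ).1
    rw [this]
  · intro ψ hψ z y hz hy
    have hy1 : y ≠ 1 := fun h => hy (by rw [h]; rfl)
    rw [hsec (s.X ψ) z y hz hy, hval (s.X ψ) y hy1, s.a_T (s.X_mem_T hψ), s.E_X hψ,
      D.orb_eq M hM ψ, finsum_mem_coe_finset, hd]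
    simp
  · -- the involution part
    rintro ⟨t, ht, hnn⟩
    obtain ⟨χ₁, χ₂, h1, h2, h12, hXS, ha₁, ha₂⟩ := s.XS_eq hmC hd
    obtain ⟨φ₀, -, hφ₀, -, -⟩ := (D.cData M hM).exists_two
    by_cases hp2 : p = 2
    · exact (D.involution_even M hM hm hp2 s hd t ht hnn h1 h2 h12 hXS ha₁ ha₂ hφ₀).elim
    have hodd := fun (φ : D.P →* ℂˣ) (hφ : φ ≠ 1) =>
      D.involution_odd M hM hm hp2 s hd t ht hnn h1 h2 h12 hXS ha₁ ha₂ hφ
    have hsign := (hodd φ₀ hφ₀).1
    -- membership in `X`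
    have hne₁ : (χ₁.1 : G → ℂ) ≠ fun _ => 1 := D.ne_one_of_ne_o M hM h1
    have hne₂ : (χ₂.1 : G → ℂ) ≠ fun _ => 1 := D.ne_one_of_ne_o M hM h2
    have h12' : χ₁.1 ≠ χ₂.1 := fun h => h12 (Subtype.ext h)
    have hmemX : ∀ χ : IrrCharacter G, χ ∈ val '' (s.XS : Set (PB M G)) ∧
        (χ : G → ℂ) ≠ (fun _ => 1) ↔ χ = χ₁.1 ∨ χ = χ₂.1 := by
      intro χ
      constructor
      · rintro ⟨⟨χ', hχ', rfl⟩, hne⟩
        rcases (hXS χ').mp hχ' with h | h | h
        · exfalso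
          apply hne
          rw [h]
          rfl
        · left; rw [h]
        · right; rw [h]
      · rintro (rfl | rfl)
        · exact ⟨⟨χ₁, (hXS χ₁).mpr (Or.inr (Or.inl rfl)), rfl⟩, hne₁⟩
        · exact ⟨⟨χ₂, (hXS χ₂).mpr (Or.inr (Or.inr rfl)), rfl⟩, hne₂⟩
    constructor
    · -- the count of signs
      have hcard : Nat.card {χ : IrrCharacter G // χ ∈ val '' (s.XS : Set (PB M G)) ∧
          (χ : G → ℂ) ≠ (fun _ => 1) ∧ a χ = -1}
          = Set.ncard {χ : IrrCharacter G | χ ∈ val '' (s.XS : Set (PB M G)) ∧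
            (χ : G → ℂ) ≠ (fun _ => 1) ∧ a χ = -1} := Nat.card_coe_set_eq _
      rw [hcard]
      rcases hsign with ⟨e1, e2, e3⟩ | ⟨e1, e2, e3⟩ | ⟨e1, e2, e3⟩
      · have hset : {χ : IrrCharacter G | χ ∈ val '' (s.XS : Set (PB M G)) ∧
            (χ : G → ℂ) ≠ (fun _ => 1) ∧ a χ = -1} = {χ₁.1, χ₂.1} := by
          ext χ
          simp only [Set.mem_setOf_eq, Set.mem_insert_iff, Set.mem_singleton_iff]
          rw [← and_assoc, hmemX χ]
          constructor
          · exact fun h => h.1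
          · rintro (rfl | rfl)
            · exact ⟨Or.inl rfl, by rw [ha, e1]⟩
            · exact ⟨Or.inr rfl, by rw [ha, e2]⟩
        rw [hset, Set.ncard_pair h12', e3]
        simp
      · have hset : {χ : IrrCharacter G | χ ∈ val '' (s.XS : Set (PB M G)) ∧
            (χ : G → ℂ) ≠ (fun _ => 1) ∧ a χ = -1} = {χ₁.1} := by
          ext χ
          simp only [Set.mem_setOf_eq, Set.mem_singleton_iff]
          rw [← and_assoc, hmemX χ]
          constructor
          · rintro ⟨rfl | rfl, h⟩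
            · rfl
            · rw [ha, e2] at h
              norm_num at h
          · rintro rfl
            exact ⟨Or.inl rfl, by rw [ha, e1]⟩
        rw [hset, Set.ncard_singleton, e3]
        simp
      · have hset : {χ : IrrCharacter G | χ ∈ val '' (s.XS : Set (PB M G)) ∧
            (χ : G → ℂ) ≠ (fun _ => 1) ∧ a χ = -1} = {χ₂.1} := by
          ext χ
          simp only [Set.mem_setOf_eq, Set.mem_singleton_iff]
          rw [← and_assoc, hmemX χ]
          constructor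
          · rintro ⟨rfl | rfl, h⟩
            · rw [ha, e1] at h
              norm_num at h
            · rfl
          · rintro rfl
            exact ⟨Or.inr rfl, by rw [ha, e2]⟩
        rw [hset, Set.ncard_singleton, e3]
        simp
    · -- the perfect square
      rintro η ⟨η', hη', rfl⟩
      obtain ⟨ψ, hψ, rfl⟩ := s.mem_T.mp hη'
      have hsq := (hodd ψ hψ).2
      have hset : {χ : IrrCharacter G | χ ∈ val '' (s.XS : Set (PB M G)) ∧
          (χ : G → ℂ) ≠ fun _ => 1} = {χ₁.1, χ₂.1} := by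
        ext χ
        simp only [Set.mem_setOf_eq, Set.mem_insert_iff, Set.mem_singleton_iff]
        exact hmemX χ
      rw [hset, finprod_mem_pair h12']
      have hsq' : IsSquare (((charDegree (χ₁.1 : G → ℂ) * charDegree (χ₂.1 : G → ℂ)
          * charDegree ((s.X ψ).1 : G → ℂ) : ℕ) : ℤ)) := by
        push_cast
        exact hsq
      have hsq'' := Int.isSquare_natCast_iff.mp hsq'
      have e : charDegree ((val (s.X ψ) : IrrCharacter G) : G → ℂ)
          * (charDegree (χ₁.1 : G → ℂ) * charDegree (χ₂.1 : G → ℂ))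
          = charDegree (χ₁.1 : G → ℂ) * charDegree (χ₂.1 : G → ℂ)
            * charDegree ((s.X ψ).1 : G → ℂ) := by
        show charDegree ((s.X ψ).1 : G → ℂ)
          * (charDegree (χ₁.1 : G → ℂ) * charDegree (χ₂.1 : G → ℂ)) = _
        ring
      rw [e]
      exact hsq''

end Cfsg.Agent.Lib.Helper30.Brm
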