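import Mathlib
import Cfsg.Agent.Lib.Helper30.FrobDerived2

/-!
# S4460 pack K-CD3: pure-group bridge from a maximal normal subgroup `K` with nonabelian quotient to
the Frobenius section `N / K` (`N` = preimage of `(G/K)'`).
-/

set_option autoImplicit false

namespace Cfsg.Agent.Lib.Helper30.CD3

universe u

open Cfsg.Agent.Lib.Helper30.FrobDerived in
theorem exists_frobenius_section {G : Type u} [Group G] [Finite G] (K : Subgroup G) [K.Normal]
    (hsolv : Group.IsSolvable (G ⧸ K)) (hK : ¬ commutator G ≤ K)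
    (hmax : ∀ K' : Subgroup G, K'.Normal → K < K' → commutator G ≤ K')
    (hnp : ∀ p : ℕ, p.Prime → ¬ IsPGroup p (G ⧸ K)) :
    ∃ (r : ℕ) (N : Subgroup G), r.Prime ∧ N.Normal ∧ K ≤ N ∧
      (∀ x ∈ N, ∀ y ∈ N, x * y * x⁻¹ * y⁻¹ ∈ K) ∧ (∀ g h : G, g * h * g⁻¹ * h⁻¹ ∈ N) ∧
      (∀ g : G, g ∉ N → ∀ x ∈ N, g * x * g⁻¹ * x⁻¹ ∈ K → x ∈ K) ∧
      (∃ a : ℕ, 0 < a ∧ K.relIndex N = r ^ a) ∧ (N.index).Coprime r ∧ 1 < N.index ∧
      N = (commutator (G ⧸ K)).comap (QuotientGroup.mk' K) := by
  classical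
  have hsurj : Function.Surjective (QuotientGroup.mk' K) := QuotientGroup.mk'_surjective K
  have hker : ∀ g : G, QuotientGroup.mk' K g = 1 ↔ g ∈ K := fun g => QuotientGroup.eq_one_iff g
  -- commutators of `G` all in `K` would give `commutator G ≤ K`
  have hcommK : ∀ L : Subgroup G, (∀ g h : G, g * h * g⁻¹ * h⁻¹ ∈ L) → commutator G ≤ L := by
    intro L hL
    rw [commutator_def, Subgroup.commutator_le]
    intro g _ h _
    rw [commutatorElement_def]
    exact hL g h
  have hne : commutator (G ⧸ K) ≠ ⊥ := by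
    intro h
    apply hK
    apply hcommK
    intro g h'
    rw [← hker, map_mul, map_mul, map_mul, map_inv, map_inv]
    have := comm_mem (QuotientGroup.mk' K g) (QuotientGroup.mk' K h')
    rwa [h, Subgroup.mem_bot] at this
  have hmin : ∀ L : Subgroup (G ⧸ K), L.Normal → L ≠ ⊥ → commutator (G ⧸ K) ≤ L := by
    intro L hL hL1
    have hKL : K ≤ L.comap (QuotientGroup.mk' K) := by
      intro k hk
      rw [Subgroup.mem_comap, (hker k).mpr hk]
      exact L.one_mem
    have hKne : K ≠ L.comap (QuotientGroup.mk' K) := by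
      intro h
      apply hL1
      rw [eq_bot_iff]
      intro y hy
      obtain ⟨g, rfl⟩ := hsurj y
      have : g ∈ L.comap (QuotientGroup.mk' K) := hy
      rw [← h] at this
      rw [Subgroup.mem_bot]
      exact (hker g).mpr this
    have h1 := hmax _ (hL.comap _) (lt_of_le_of_ne hKL hKne)
    rw [commutator_def, Subgroup.commutator_le]
    intro a _ b _
    obtain ⟨g, rfl⟩ := hsurj a
    obtain ⟨h', rfl⟩ := hsurj b
    rw [commutatorElement_def]
    have h2 : g * h' * g⁻¹ * h'⁻¹ ∈ L.comap (QuotientGroup.mk' K) := h1 (comm_mem g h')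
    rw [Subgroup.mem_comap, map_mul, map_mul, map_mul, map_inv, map_inv] at h2
    exact h2
  obtain ⟨r, hr, hexp, hab, hcop, hfpf⟩ :=
    frobenius_of_commutator_minimal' hsolv hne hmin hnp
  haveI : Fact r.Prime := ⟨hr⟩
  have hVp : IsPGroup r (commutator (G ⧸ K)) := by
    intro v
    refine ⟨1, ?_⟩
    rw [pow_one]
    exact Subtype.ext (by simpa using hexp v v.2)
  obtain ⟨n, hn⟩ := IsPGroup.iff_card.mp hVp
  have hn0 : n ≠ 0 := by
    rintro rfl
    rw [pow_zero] at hn
    exact hne (Subgroup.card_eq_one.mp hn)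
  have hrdvd : r ∣ Nat.card (commutator (G ⧸ K)) := by rw [hn]; exact dvd_pow_self r hn0
  have hidx : ((commutator (G ⧸ K)).comap (QuotientGroup.mk' K)).index =
      (commutator (G ⧸ K)).index := Subgroup.index_comap_of_surjective _ hsurj
  refine ⟨r, (commutator (G ⧸ K)).comap (QuotientGroup.mk' K), hr,
    (inferInstance : (commutator (G ⧸ K)).Normal).comap _, ?_, ?_, ?_, ?_, ?_, ?_, ?_, rfl⟩
  · intro k hk
    rw [Subgroup.mem_comap, (hker k).mpr hk]
    exact Subgroup.one_mem _
  · intro x hx y hy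
    rw [← hker, map_mul, map_mul, map_mul, map_inv, map_inv]
    have h1 := hab _ hx _ hy
    rw [h1]
    group
  · intro g h'
    rw [Subgroup.mem_comap, map_mul, map_mul, map_mul, map_inv, map_inv]
    exact comm_mem _ _
  · intro g hg x hx hgx
    rw [← hker]
    refine hfpf (QuotientGroup.mk' K g) hg _ hx ?_
    have h1 := (hker _).mpr hgx
    rw [map_mul, map_mul, map_mul, map_inv, map_inv] at h1
    calc QuotientGroup.mk' K g * QuotientGroup.mk' K x
        = (QuotientGroup.mk' K g * QuotientGroup.mk' K x * (QuotientGroup.mk' K g)⁻¹ *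
            (QuotientGroup.mk' K x)⁻¹) * (QuotientGroup.mk' K x * QuotientGroup.mk' K g) := by group
      _ = QuotientGroup.mk' K x * QuotientGroup.mk' K g := by rw [h1, one_mul]
  · refine ⟨n, Nat.pos_of_ne_zero hn0, ?_⟩
    have hKc : (⊥ : Subgroup (G ⧸ K)).comap (QuotientGroup.mk' K) = K := by
      rw [MonoidHom.comap_bot, QuotientGroup.ker_mk']
    have h1 := Subgroup.relIndex_comap (⊥ : Subgroup (G ⧸ K)) (QuotientGroup.mk' K)
      ((commutator (G ⧸ K)).comap (QuotientGroup.mk' K))
    rw [hKc, Subgroup.map_comap_eq_self_of_surjective hsurj, Subgroup.relIndex_bot_left, hn] at h1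
    exact h1
  · rw [hidx]
    exact (Nat.Coprime.coprime_dvd_left hrdvd hcop).symm
  · rw [hidx]
    by_contra hle
    have hpos : 0 < (commutator (G ⧸ K)).index := Nat.pos_of_ne_zero Subgroup.index_ne_zero_of_finite
    have h1 : (commutator (G ⧸ K)).index = 1 := by omega
    have htop : commutator (G ⧸ K) = ⊤ := Subgroup.index_eq_one.mp h1
    apply hnp r hr
    intro x
    obtain ⟨k, hk⟩ := hVp ⟨x, by rw [htop]; exact Subgroup.mem_top x⟩
    exact ⟨k, by simpa using congrArg Subtype.val hk⟩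

end Cfsg.Agent.Lib.Helper30.CD3
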