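import Cfsg.Agent.Lib.Helper30.Layer

set_option autoImplicit false

namespace Cfsg.Agent.Lib.Helper30

open Subgroup
open scoped commutatorElement

variable {G : Type*} [Group G]

/-- transport of a relative component along an isomorphism -/
theorem isComponent_subgroupOf_map {G' : Type*} [Group G'] (e : G ≃* G') {H K : Subgroup G}
    (hKH : K ≤ H) (H' : Subgroup G') (hH' : H.map e.toMonoidHom = H')
    (hK : Cfsg.IsComponent (K.subgroupOf H)) :
    Cfsg.IsComponent ((K.map e.toMonoidHom).subgroupOf H') := by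
  subst hH'
  have h1 := isComponent_map_equiv (e.subgroupMap H) hK
  have h2 : (K.subgroupOf H).map (e.subgroupMap H).toMonoidHom
      = (K.map (e : G →* G')).subgroupOf (H.map (e : G →* G')) := by
    ext ⟨y, hy⟩
    constructor
    · rintro ⟨a, ha, hay⟩
      have ha' : (a : G) ∈ K := Subgroup.mem_subgroupOf.mp ha
      have : e (a : G) = y := congrArg Subtype.val hay
      exact Subgroup.mem_subgroupOf.mpr ⟨a, ha', this⟩
    · intro hy'
      obtain ⟨k, hk, hky⟩ := Subgroup.mem_subgroupOf.mp hy'
      refine ⟨⟨k, hKH hk⟩, Subgroup.mem_subgroupOf.mpr hk, ?_⟩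
      apply Subtype.ext
      exact hky
  rw [h2] at h1
  exact h1

theorem map_conj_centralizer_singleton (g k : G) :
    (Subgroup.centralizer ({k} : Set G)).map (MulAut.conj g).toMonoidHom
      = Subgroup.centralizer ({g * k * g⁻¹} : Set G) := by
  ext y
  rw [Subgroup.mem_map, Subgroup.mem_centralizer_singleton_iff]
  constructor
  · rintro ⟨a, ha, rfl⟩
    rw [Subgroup.mem_centralizer_singleton_iff] at ha
    simp only [MulEquiv.coe_toMonoidHom, MulAut.conj_apply]
    calc g * a * g⁻¹ * (g * k * g⁻¹) = g * (a * k) * g⁻¹ := by group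
      _ = g * (k * a) * g⁻¹ := by rw [ha]
      _ = g * k * g⁻¹ * (g * a * g⁻¹) := by group
  · intro h
    refine ⟨g⁻¹ * y * g, ?_, ?_⟩
    · rw [Subgroup.mem_centralizer_singleton_iff]
      calc g⁻¹ * y * g * k = g⁻¹ * (y * (g * k * g⁻¹)) * g := by group
        _ = g⁻¹ * ((g * k * g⁻¹) * y) * g := by rw [h]
        _ = k * (g⁻¹ * y * g) := by group
    · simp only [MulEquiv.coe_toMonoidHom, MulAut.conj_apply]
      group

/-- conjugating a component of `C(k)` gives a component of `C(gkg⁻¹)` -/
theorem isComponent_centralizer_conj (g k : G) {L : Subgroup G}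
    (hLk : L ≤ Subgroup.centralizer ({k} : Set G))
    (hL : Cfsg.IsComponent (L.subgroupOf (Subgroup.centralizer ({k} : Set G)))) :
    L.map (MulAut.conj g).toMonoidHom ≤ Subgroup.centralizer ({g * k * g⁻¹} : Set G) ∧
    Cfsg.IsComponent ((L.map (MulAut.conj g).toMonoidHom).subgroupOf
      (Subgroup.centralizer ({g * k * g⁻¹} : Set G))) := by
  constructor
  · rw [← map_conj_centralizer_singleton]
    exact Subgroup.map_mono hLk
  · exact isComponent_subgroupOf_map (MulAut.conj g) hLk _ (map_conj_centralizer_singleton g k) hL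

theorem map_conj_centralizer (g : G) (L : Subgroup G) :
    (Subgroup.centralizer (L : Set G)).map (MulAut.conj g).toMonoidHom
      = Subgroup.centralizer ((L.map (MulAut.conj g).toMonoidHom : Subgroup G) : Set G) := by
  ext y
  rw [Subgroup.mem_map, Subgroup.mem_centralizer_iff]
  constructor
  · rintro ⟨a, ha, rfl⟩
    rw [Subgroup.mem_centralizer_iff] at ha
    rintro _ ⟨l, hl, rfl⟩
    have := ha l hl
    simp only [MulEquiv.coe_toMonoidHom, MulAut.conj_apply]
    calc g * l * g⁻¹ * (g * a * g⁻¹) = g * (l * a) * g⁻¹ := by group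
      _ = g * (a * l) * g⁻¹ := by rw [this]
      _ = g * a * g⁻¹ * (g * l * g⁻¹) := by group
  · intro h
    refine ⟨g⁻¹ * y * g, ?_, ?_⟩
    · rw [Subgroup.mem_centralizer_iff]
      intro l hl
      have := h (g * l * g⁻¹) ⟨l, hl, by simp⟩
      calc l * (g⁻¹ * y * g) = g⁻¹ * ((g * l * g⁻¹) * y) * g := by group
        _ = g⁻¹ * (y * (g * l * g⁻¹)) * g := by rw [this]
        _ = g⁻¹ * y * g * l := by group
    · simp only [MulEquiv.coe_toMonoidHom, MulAut.conj_apply]
      group

theorem normalizer_le_normalizer_centralizer' (H : Subgroup G) :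
    Subgroup.normalizer (H : Set G) ≤
      Subgroup.normalizer ((Subgroup.centralizer (H : Set G) : Subgroup G) : Set G) := by
  have key : ∀ g ∈ Subgroup.normalizer (H : Set G), ∀ x ∈ Subgroup.centralizer (H : Set G),
      g * x * g⁻¹ ∈ Subgroup.centralizer (H : Set G) := by
    intro g hg x hx
    rw [Subgroup.mem_centralizer_iff] at hx ⊢
    intro h hh
    have h1 : g⁻¹ * h * g ∈ H := by
      have := (Subgroup.mem_normalizer_iff.mp (Subgroup.inv_mem _ hg) h).mp hh
      simpa using this
    have h3 := hx _ h1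
    calc h * (g * x * g⁻¹) = g * ((g⁻¹ * h * g) * x) * g⁻¹ := by group
      _ = g * (x * (g⁻¹ * h * g)) * g⁻¹ := by rw [h3]
      _ = g * x * g⁻¹ * h := by group
  intro g hg
  rw [Subgroup.mem_normalizer_iff]
  intro x
  constructor
  · exact key g hg x
  · intro hx
    have := key g⁻¹ (Subgroup.inv_mem _ hg) _ hx
    simpa [mul_assoc] using this

/-- two components of a subgroup `C`, given as subgroups of the ambient group, coincide or
commute -/
theorem relative_components_eq_or_commute {C L M : Subgroup G} (hLC : L ≤ C) (hMC : M ≤ C)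
    (hL : Cfsg.IsComponent (L.subgroupOf C)) (hM : Cfsg.IsComponent (M.subgroupOf C)) :
    L = M ∨ ⁅L, M⁆ = ⊥ := by
  by_cases h : L.subgroupOf C = M.subgroupOf C
  · left
    have h1 := congrArg (Subgroup.map C.subtype) h
    rwa [Subgroup.map_subgroupOf_eq_of_le hLC, Subgroup.map_subgroupOf_eq_of_le hMC] at h1
  · right
    have h1 := component_commute hL hM h
    rw [Subgroup.commutator_eq_bot_iff_le_centralizer] at h1 ⊢
    intro l hl
    rw [Subgroup.mem_centralizer_iff]
    intro m hm
    have h2 := Subgroup.mem_centralizer_iff.mp (h1 (Subgroup.mem_subgroupOf.mpr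
      (show ((⟨l, hLC hl⟩ : C) : G) ∈ L from hl))) ⟨m, hMC hm⟩ (Subgroup.mem_subgroupOf.mpr hm)
    exact congrArg Subtype.val h2

end Cfsg.Agent.Lib.Helper30
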