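import Mathlib
import Cfsg.Prelude.Def_Local
import Cfsg.Agent.Lib.Helper29.LocalCore
import Cfsg.Agent.Lib.Helper29.CompCore
import Cfsg.Agent.Lib.Helper28.FStar
import Cfsg.Agent.Lib.Helper30.Layer
import Cfsg.Agent.Lib.Helper30.FStar

set_option autoImplicit false

namespace Cfsg.Agent.Lib.Helper30

open Cfsg Subgroup
open scoped commutatorElement

section core

variable {X : Type*} [Group X] [Finite X]

/-- The normalizer of the group generated by an involution centralizes it. -/
theorem normalizer_zpowers_le_centralizer_of_orderOf_two {t : X} (ht : orderOf t = 2) :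
    normalizer ((zpowers t : Subgroup X) : Set X) ≤ centralizer ({t} : Set X) := by
  classical
  intro g hg
  rw [mem_centralizer_singleton_iff]
  have h1 : g * t * g⁻¹ ∈ zpowers t :=
    (mem_normalizer_iff.mp hg t).mp (mem_zpowers t)
  rw [mem_zpowers_iff_mem_range_orderOf, ht] at h1
  simp only [Finset.mem_image, Finset.mem_range] at h1
  obtain ⟨i, hi, hi'⟩ := h1
  have hi2 : i = 0 ∨ i = 1 := by omega
  rcases hi2 with rfl | rfl
  · exfalso
    rw [pow_zero] at hi'
    have h2 : t = 1 := by
      have : g * t * g⁻¹ = 1 := hi'.symm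
      have h3 : t = g⁻¹ * (g * t * g⁻¹) * g := by group
      rw [h3, this]; group
    rw [h2, orderOf_one] at ht
    omega
  · rw [pow_one] at hi'
    calc g * t = (g * t * g⁻¹) * g := by group
      _ = t * g := by rw [← hi']

/-- Core form: in a finite group `X` with `O(X) = 1`, for an involution `t` and a nontrivial subgroup
`Y ≤ O(C_X(t))` there is a component `L` of `X` normalized by `t` and `Y` and centralized by
neither. -/
theorem exists_component_core (hO : pPrimeCore 2 X = ⊥) (t : X) (ht : orderOf t = 2)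
    (Y : Subgroup X) (hY1 : Y ≠ ⊥) (hY : Y ≤ centralizerPPrimeCore 2 t) :
    ∃ L : Subgroup X, IsComponent L ∧ t ∈ normalizer (L : Set X) ∧
      Y ≤ normalizer (L : Set X) ∧ ¬ (t ∈ centralizer (L : Set X)) ∧
      ¬ (Y ≤ centralizer (L : Set X)) := by
  have : Fact (Nat.Prime 2) := ⟨Nat.prime_two⟩
  set W : Subgroup X := centralizerPPrimeCore 2 t with hW
  set R : Subgroup X := zpowers t with hR
  have hRp : IsPGroup 2 R := by
    rw [hR]
    apply Cfsg.Agent.Lib.Helper29.isPGroup_zpowers_of_pow_pow_eq_one (p := 2) (j := 1)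
    rw [pow_one, ← ht]; exact pow_orderOf_eq_one t
  have hWC : W ≤ centralizer ({t} : Set X) :=
    Cfsg.Agent.Lib.Helper29.centralizerCore_le_centralizer 2 t
  have hWR : W ≤ normalizer (R : Set X) := by
    intro w hw
    have h1 := hWC hw
    rw [mem_centralizer_singleton_iff] at h1
    rw [hR, mem_normalizer_iff]
    have hconj : ∀ x, x ∈ zpowers t → w * x * w⁻¹ = x := by
      intro x hx
      obtain ⟨k, rfl⟩ := mem_zpowers_iff.mp hx
      have hc : Commute w t := h1
      have := hc.zpow_right k
      calc w * t ^ k * w⁻¹ = (w * t ^ k) * w⁻¹ := rfl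
        _ = (t ^ k * w) * w⁻¹ := by rw [this.eq]
        _ = t ^ k := by group
    intro x
    constructor
    · intro hx; rw [hconj x hx]; exact hx
    · intro hx
      have h2 : w⁻¹ * (w * x * w⁻¹) * w⁻¹⁻¹ = x := by group
      have hcinv : ∀ x, x ∈ zpowers t → w⁻¹ * x * w⁻¹⁻¹ = x := by
        intro x hx
        have := hconj x hx
        calc w⁻¹ * x * w⁻¹⁻¹ = w⁻¹ * (w * x * w⁻¹) * w⁻¹⁻¹ := by rw [this]
          _ = x := by group
      rw [← h2, hcinv _ hx]; exact hx
  have hRW : normalizer (R : Set X) ≤ normalizer (W : Set X) :=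
    (normalizer_zpowers_le_centralizer_of_orderOf_two ht).trans
      (Cfsg.Agent.Lib.Helper29.centralizer_le_normalizer_centralizerCore 2 t)
  have hWc : (Nat.card W).Coprime 2 := Cfsg.Agent.Lib.Helper29.card_centralizerCore_coprime 2 t
  -- some component is not centralized by `Y`
  have hex : ∃ L : Subgroup X, IsComponent L ∧ ⁅L, Y⁆ ≠ ⊥ := by
    by_contra hcon
    push Not at hcon
    have h1 : ⁅layer X, Y⁆ = ⊥ := layer_commute hcon
    have h2 : ⁅W, pCore 2 X⁆ = ⊥ :=
      Cfsg.Agent.Lib.Helper29.localCore_centralizes_pCore R W hRp hWR hRW hWc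
    have hF : fittingSubgroup X ≤ pCore 2 X :=
      Cfsg.Agent.Lib.Helper29.fitting_le_pCore_of_pPrimeCore_eq_bot 2 hO
    have h3 : Y ≤ centralizer (generalizedFittingSubgroup X : Set X) := by
      rw [le_centralizer_iff]
      unfold generalizedFittingSubgroup
      apply sup_le
      · exact commutator_eq_bot_iff_le_centralizer.mp h1
      · refine hF.trans ?_
        rw [← le_centralizer_iff]
        refine hY.trans ?_
        exact commutator_eq_bot_iff_le_centralizer.mp h2
    have h4 : Y ≤ generalizedFittingSubgroup X :=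
      h3.trans Cfsg.Agent.Lib.Helper28.centralizer_genFitting_le
    set Z : Subgroup X := generalizedFittingSubgroup X ⊓
      centralizer (generalizedFittingSubgroup X : Set X) with hZ
    have hYZ : Y ≤ Z := le_inf h4 h3
    have hFn : (generalizedFittingSubgroup X).Normal := genFitting_normal
    have hZn : Z.Normal := by
      rw [hZ]; exact inferInstance
    have hZc : IsMulCommutative ↥Z := by
      refine ⟨⟨?_⟩⟩
      intro a b
      have ha : (a : X) ∈ centralizer (generalizedFittingSubgroup X : Set X) := a.2.2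
      have hb : (b : X) ∈ generalizedFittingSubgroup X := b.2.1
      exact Subtype.ext ((mem_centralizer_iff.mp ha (b : X) hb).symm)
    have h5 : Z ≤ fittingSubgroup X := le_fitting_of_normal_comm hZn hZc
    have h6 : Y ≤ pCore 2 X ⊓ W := le_inf ((hYZ.trans h5).trans hF) hY
    have h7 : pCore 2 X ⊓ W = ⊥ :=
      Cfsg.Agent.Lib.Helper15.isPGroup_inf_coprime_eq_bot
        (Cfsg.Agent.Lib.Helper76.pCore_isPGroup 2) hWc
    rw [h7] at h6
    exact hY1 (le_bot_iff.mp h6)
  obtain ⟨L, hL, hLY⟩ := hex
  have hLW : ⁅L, W⁆ ≠ ⊥ := by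
    intro h
    apply hLY
    rw [eq_bot_iff, ← h]
    exact commutator_mono le_rfl hY
  have hLt : ⁅L, zpowers t⁆ = L := by
    by_contra hne
    exact hLW (Cfsg.Agent.Lib.Helper29.component_commutes_core 2 hO t ht L hL hne)
  have htL : t ∈ normalizer (L : Set X) := by
    have h1 : zpowers t ≤ normalizer ((⁅zpowers t, L⁆ : Subgroup X) : Set X) :=
      Cfsg.Agent.Lib.Helper29.le_normalizer_commutator_left (zpowers t) L
    rw [commutator_comm, hLt] at h1
    exact h1 (mem_zpowers t)
  refine ⟨L, hL, htL, ?_, ?_, ?_⟩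
  · exact hY.trans
      (Cfsg.Agent.Lib.Helper29.localCore_le_normalizer_component hO R W hRp hWR hRW hWc L hL)
  · intro htc
    have h1 : ⁅L, zpowers t⁆ = ⊥ := by
      rw [commutator_eq_bot_iff_le_centralizer, le_centralizer_iff, zpowers_le]
      exact htc
    rw [hLt] at h1
    exact component_ne_bot hL h1
  · intro hYc
    apply hLY
    rw [commutator_eq_bot_iff_le_centralizer, le_centralizer_iff]
    exact hYc

end core

end Cfsg.Agent.Lib.Helper30
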