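import Mathlib
import Cfsg.Prelude.Def_Local
import Cfsg.Agent.Lib.Helper30.CoreComp

set_option autoImplicit false

namespace Cfsg.Agent.Lib.Helper30

open Cfsg Subgroup
open scoped commutatorElement

section transfer

variable {G : Type*} [Group G]

/-- The image in `G` of the normalizer (inside `X`) of `L ≤ X` normalizes the image of `L`. -/
theorem coe_mem_normalizer_map_subtype {X : Subgroup G} {L : Subgroup ↥X} {x : ↥X}
    (hx : x ∈ normalizer (L : Set ↥X)) :
    (x : G) ∈ normalizer ((L.map X.subtype : Subgroup G) : Set G) := by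
  have key : ∀ z : ↥X, z ∈ normalizer (L : Set ↥X) → ∀ g ∈ L.map X.subtype,
      (z : G) * g * (z : G)⁻¹ ∈ L.map X.subtype := by
    intro z hz g hg
    obtain ⟨l, hl, rfl⟩ := hg
    exact ⟨z * l * z⁻¹, (mem_normalizer_iff.mp hz l).mp hl, rfl⟩
  rw [mem_normalizer_iff]
  intro g
  constructor
  · exact key x hx g
  · intro hg
    have := key x⁻¹ (inv_mem hx) _ hg
    have e : ((x⁻¹ : ↥X) : G) * ((x : G) * g * (x : G)⁻¹) * ((x⁻¹ : ↥X) : G)⁻¹ = g := by
      simp only [InvMemClass.coe_inv]; group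
    rwa [e] at this

/-- conjugation invariance of the image of `O_{p'}(C)` under `C`. -/
theorem conj_mem_map_pPrimeCore (p : ℕ) (C : Subgroup G) {g x : G} (hg : g ∈ C)
    (hx : x ∈ (pPrimeCore p ↥C).map C.subtype) :
    g * x * g⁻¹ ∈ (pPrimeCore p ↥C).map C.subtype := by
  obtain ⟨x', hx', rfl⟩ := hx
  have hn : (pPrimeCore p ↥C).Normal := inferInstance
  exact ⟨⟨g, hg⟩ * x' * ⟨g, hg⟩⁻¹, hn.conj_mem _ hx' _, rfl⟩

variable [Finite G]

theorem exists_component_transfer (H : Subgroup G) (hO : pPrimeCore 2 ↥H = ⊥) (t : G)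
    (ht : orderOf t = 2) (htH : t ∈ normalizer (H : Set G)) (Y : Subgroup G) (hY1 : Y ≠ ⊥)
    (hY : Y ≤ (pPrimeCore 2 ↥(H ⊓ centralizer ({t} : Set G))).map
      (H ⊓ centralizer ({t} : Set G)).subtype) :
    ∃ E : Subgroup ↥H, IsComponent E ∧
      (E.map H.subtype).map (MulAut.conj t).toMonoidHom = E.map H.subtype ∧
      Y ≤ normalizer ((E.map H.subtype : Subgroup G) : Set G) ∧
      ¬ (t ∈ centralizer ((E.map H.subtype : Subgroup G) : Set G)) ∧
      ¬ (Y ≤ centralizer ((E.map H.subtype : Subgroup G) : Set G)) := by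
  classical
  have : Fact (Nat.Prime 2) := ⟨Nat.prime_two⟩
  set X : Subgroup G := H ⊔ zpowers t with hX
  have hHX : H ≤ X := le_sup_left
  have htX : t ∈ X := (le_sup_right : zpowers t ≤ X) (mem_zpowers t)
  have htt : t * t = 1 := by rw [← pow_two, ← ht]; exact pow_orderOf_eq_one t
  have htinv : t⁻¹ = t := inv_eq_of_mul_eq_one_left htt
  have hzt : zpowers t ≤ normalizer (H : Set G) := by rw [zpowers_le]; exact htH
  have hXN : X ≤ normalizer (H : Set G) := sup_le le_normalizer hzt
  have hconj : ∀ g ∈ X, ∀ h ∈ H, g * h * g⁻¹ ∈ H := fun g hg h hh =>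
    (mem_normalizer_iff.mp (hXN hg) h).mp hh
  -- decomposition of elements of `X`
  have hdec : ∀ x ∈ X, ∃ h ∈ H, x = h ∨ x = t * h := by
    intro x hx
    rw [hX, sup_comm, mem_sup_of_le_normalizer hzt] at hx
    obtain ⟨a, ha, b, hb, rfl⟩ := hx
    refine ⟨b, hb, ?_⟩
    rw [mem_zpowers_iff_mem_range_orderOf, ht] at ha
    simp only [Finset.mem_image, Finset.mem_range] at ha
    obtain ⟨i, hi, rfl⟩ := ha
    have hi2 : i = 0 ∨ i = 1 := by omega
    rcases hi2 with rfl | rfl
    · left; simp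
    · right; simp
  have hsq : ∀ x ∈ X, x * x ∈ H := by
    intro x hx
    obtain ⟨h, hh, rfl | rfl⟩ := hdec x hx
    · exact H.mul_mem hh hh
    · have e : t * h * (t * h) = (t * h * t⁻¹) * h := by rw [htinv]; group
      rw [e]
      exact H.mul_mem (hconj t htX h hh) hh
  -- (a) `O(X) = 1`
  have hOX : pPrimeCore 2 ↥X = ⊥ := by
    set N : Subgroup ↥X := pPrimeCore 2 ↥X with hN
    have hNn : N.Normal := inferInstance
    have hNc : (Nat.card N).Coprime 2 := Cfsg.Agent.Lib.Helper29.pPrimeCore_coprime 2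
    set NH : Subgroup ↥H := N.comap (Subgroup.inclusion hHX) with hNH
    have hNHn : NH.Normal := hNn.comap _
    have hNHc : (Nat.card NH).Coprime 2 :=
      Nat.Coprime.coprime_dvd_left
        (Subgroup.card_comap_dvd_of_injective N _ (Subgroup.inclusion_injective hHX)) hNc
    have hNH0 : NH = ⊥ := by
      have := Cfsg.Agent.Lib.Helper29.normal_le_pPrimeCore 2 NH hNHc
      rw [hO] at this
      exact le_bot_iff.mp this
    have h1 : ∀ x : ↥X, x ∈ N → (x : G) ∈ H → x = 1 := by
      intro x hxN hxH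
      have h2 : (⟨(x : G), hxH⟩ : ↥H) ∈ NH := by
        rw [hNH, mem_comap]
        have : Subgroup.inclusion hHX ⟨(x : G), hxH⟩ = x := Subtype.ext rfl
        rw [this]; exact hxN
      rw [hNH0, mem_bot] at h2
      have := congrArg (fun z : ↥H => (z : G)) h2
      exact Subtype.ext this
    rw [eq_bot_iff]
    intro x hx
    rw [mem_bot]
    have h2 : x * x = 1 := h1 (x * x) (N.mul_mem hx hx) (hsq _ x.2)
    exact Cfsg.Agent.Lib.Helper29.eq_one_of_pow_eq_one_of_mem_coprime (p := 2) (k := 1) hNc hx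
      (by rw [pow_one, pow_two]; exact h2)
  -- (b) the data in `X`
  set t' : ↥X := ⟨t, htX⟩ with ht'
  have ht'o : orderOf t' = 2 := by rw [ht', Subgroup.orderOf_mk]; exact ht
  set C : Subgroup G := H ⊓ centralizer ({t} : Set G) with hC
  set D : Subgroup G := (pPrimeCore 2 ↥C).map C.subtype with hD
  have hDC : D ≤ C := map_subtype_le _
  have hYX : Y ≤ X := fun y hy => hHX (hDC (hY hy)).1
  set Y' : Subgroup ↥X := Y.subgroupOf X with hY'
  have hY'1 : Y' ≠ ⊥ := by
    intro h
    apply hY1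
    rw [eq_bot_iff]
    intro y hy
    have h2 : (⟨y, hYX hy⟩ : ↥X) ∈ Y' := by rw [hY', mem_subgroupOf]; exact hy
    rw [h, mem_bot] at h2
    have := congrArg (fun z : ↥X => (z : G)) h2
    exact this
  have hY'W : Y' ≤ centralizerPPrimeCore 2 t' := by
    unfold centralizerPPrimeCore
    set C' : Subgroup ↥X := centralizer ({t'} : Set ↥X) with hC'
    set D' : Subgroup ↥C' := D.comap (X.subtype.comp C'.subtype) with hD'
    have hinj : Function.Injective (X.subtype.comp C'.subtype) := by
      intro a b hab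
      exact Subtype.ext (Subtype.ext hab)
    have hD'c : (Nat.card D').Coprime 2 := by
      have h1 : Nat.card D' ∣ Nat.card D := Subgroup.card_comap_dvd_of_injective D _ hinj
      have h2 : Nat.card D = Nat.card (pPrimeCore 2 ↥C) := by
        rw [hD, Subgroup.card_map_of_injective (Subgroup.subtype_injective _)]
      rw [h2] at h1
      exact Nat.Coprime.coprime_dvd_left h1 (Cfsg.Agent.Lib.Helper29.pPrimeCore_coprime 2)
    have hD'n : D'.Normal := by
      refine ⟨?_⟩
      intro n hn g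
      rw [hD', mem_comap] at hn ⊢
      have hgc : ((g : ↥X) : G) * t = t * ((g : ↥X) : G) := by
        have h1 : (g : ↥X) ∈ centralizer ({t'} : Set ↥X) := g.2
        rw [mem_centralizer_singleton_iff] at h1
        have := congrArg (fun z : ↥X => (z : G)) h1
        exact this
      have hgoal : (X.subtype.comp C'.subtype) (g * n * g⁻¹) =
          ((g : ↥X) : G) * ((n : ↥X) : G) * ((g : ↥X) : G)⁻¹ := by
        simp
      rw [hgoal]
      have hn' : ((n : ↥X) : G) ∈ D := hn
      have hnt : ((n : ↥X) : G) ∈ C := hDC hn'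
      obtain ⟨h, hh, hg | hg⟩ := hdec _ (g : ↥X).2
      · have hhC : h ∈ C := by
          rw [hC, mem_inf, mem_centralizer_singleton_iff]
          refine ⟨hh, ?_⟩
          rw [← hg]; exact hgc
        rw [hg]
        exact conj_mem_map_pPrimeCore 2 C hhC hn'
      · have hhC : h ∈ C := by
          rw [hC, mem_inf, mem_centralizer_singleton_iff]
          refine ⟨hh, ?_⟩
          rw [hg] at hgc
          have : t * (h * t) = t * (t * h) := by
            calc t * (h * t) = t * h * t := by group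
              _ = t * (t * h) := hgc
          exact mul_left_cancel this
        have h3 : h * ((n : ↥X) : G) * h⁻¹ ∈ D := conj_mem_map_pPrimeCore 2 C hhC hn'
        have h4 : h * ((n : ↥X) : G) * h⁻¹ ∈ centralizer ({t} : Set G) := (hDC h3).2
        rw [mem_centralizer_singleton_iff] at h4
        have e : t * h * ((n : ↥X) : G) * (t * h)⁻¹ = h * ((n : ↥X) : G) * h⁻¹ := by
          calc t * h * ((n : ↥X) : G) * (t * h)⁻¹
              = t * (h * ((n : ↥X) : G) * h⁻¹) * t⁻¹ := by group
            _ = (h * ((n : ↥X) : G) * h⁻¹) * t * t⁻¹ := by rw [h4]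
            _ = h * ((n : ↥X) : G) * h⁻¹ := by group
        rw [hg, e]
        exact h3
    have hD'le : D' ≤ pPrimeCore 2 ↥C' := Cfsg.Agent.Lib.Helper29.normal_le_pPrimeCore 2 D' hD'c
    intro y hy
    have hyD : (y : G) ∈ D := hY (mem_subgroupOf.mp hy)
    have hyt : (y : G) ∈ centralizer ({t} : Set G) := (hDC hyD).2
    rw [mem_centralizer_singleton_iff] at hyt
    have hyC' : y ∈ C' := by
      rw [hC', mem_centralizer_singleton_iff]
      exact Subtype.ext hyt
    refine ⟨⟨y, hyC'⟩, hD'le ?_, rfl⟩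
    rw [hD', mem_comap]
    exact hyD
  obtain ⟨L, hL, htL, hYL, htc, hYc⟩ := exists_component_core hOX t' ht'o Y' hY'1 hY'W
  -- (c) `L ≤ H`
  have hcomm : commutator ↥X ≤ H.subgroupOf X := by
    rw [_root_.commutator_def, Subgroup.commutator_le]
    intro x _ y _
    rw [mem_subgroupOf]
    have e : ((⁅x, y⁆ : ↥X) : G) = ((x : G) * y) * ((x : G) * y) *
        ((y : G)⁻¹ * ((x : G)⁻¹ * (x : G)⁻¹) * (y : G)⁻¹⁻¹) * ((y : G)⁻¹ * (y : G)⁻¹) := by
      simp only [commutatorElement_def, Subgroup.coe_mul, InvMemClass.coe_inv]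
      group
    rw [e]
    refine H.mul_mem (H.mul_mem (hsq _ (X.mul_mem x.2 y.2)) ?_) (hsq _ (X.inv_mem y.2))
    exact hconj _ (X.inv_mem y.2) _ (hsq _ (X.inv_mem x.2))
  have hLH' : L ≤ H.subgroupOf X := by
    have h1 : ⁅L, L⁆ = L := component_perfect hL
    rw [← h1]
    exact (commutator_mono le_top le_top).trans (by rw [← _root_.commutator_def]; exact hcomm)
  have hLH : ∀ l : ↥X, l ∈ L → (l : G) ∈ H := fun l hl => mem_subgroupOf.mp (hLH' hl)
  set E : Subgroup ↥H := L.comap (Subgroup.inclusion hHX) with hE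
  have hEsn : E.IsSubnormal := hL.1.comap _
  have hEq : IsQuasisimple ↥E := by
    let f : ↥E →* ↥L := (Subgroup.inclusion hHX).subgroupComap L
    have hf : Function.Bijective f := by
      constructor
      · intro a b hab
        have h1 := congrArg (fun z : ↥L => ((z : ↥X) : G)) hab
        exact Subtype.ext (Subtype.ext h1)
      · intro l
        refine ⟨⟨⟨((l : ↥X) : G), hLH _ l.2⟩, ?_⟩, ?_⟩
        · rw [hE, mem_comap]
          have : Subgroup.inclusion hHX ⟨((l : ↥X) : G), hLH _ l.2⟩ = (l : ↥X) := Subtype.ext rfl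
          rw [this]; exact l.2
        · exact Subtype.ext (Subtype.ext rfl)
    exact isQuasisimple_of_mulEquiv (MulEquiv.ofBijective f hf).symm hL.2
  have hEmap : E.map H.subtype = L.map X.subtype := by
    ext g
    constructor
    · rintro ⟨h, hhE, rfl⟩
      exact ⟨Subgroup.inclusion hHX h, hhE, rfl⟩
    · rintro ⟨l, hl, rfl⟩
      refine ⟨⟨(l : G), hLH l hl⟩, ?_, rfl⟩
      rw [hE, SetLike.mem_coe, mem_comap]
      have : Subgroup.inclusion hHX ⟨(l : G), hLH l hl⟩ = l := Subtype.ext rfl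
      rw [this]; exact hl
  refine ⟨E, ⟨hEsn, hEq⟩, ?_, ?_, ?_, ?_⟩
  · rw [hEmap]
    exact Cfsg.Agent.Lib.Helper29.map_conj_eq_of_mem_normalizer _ t
      (coe_mem_normalizer_map_subtype (x := t') htL)
  · rw [hEmap]
    intro y hy
    have h1 : (⟨y, hYX hy⟩ : ↥X) ∈ Y' := by rw [hY', mem_subgroupOf]; exact hy
    exact coe_mem_normalizer_map_subtype (hYL h1)
  · rw [hEmap]
    intro h
    apply htc
    rw [mem_centralizer_iff]
    intro l hl
    have h1 := mem_centralizer_iff.mp h (l : G) ⟨l, hl, rfl⟩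
    exact Subtype.ext h1
  · rw [hEmap]
    intro h
    apply hYc
    intro y hy
    rw [mem_centralizer_iff]
    intro l hl
    have h1 := mem_centralizer_iff.mp (h (mem_subgroupOf.mp hy)) (l : G) ⟨l, hl, rfl⟩
    exact Subtype.ext h1

end transfer

end Cfsg.Agent.Lib.Helper30
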