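import Mathlib
import Cfsg.Prelude.Def_DegreeGraph
import Cfsg.Agent.Lib.Helper01.CD3Defs
import Cfsg.Agent.Lib.Helper30.CD3GRP
import Cfsg.Agent.Lib.Helper32.CD3Tors
import Cfsg.Agent.Lib.Helper45.CD3IND
import Cfsg.Agent.Lib.Helper98.CD3VAN
import Cfsg.Agent.Lib.Helper10.CD3DEG
import Cfsg.Agent.Lib.Helper77.CD3MAXK
import Cfsg.Agent.Lib.Helper84.CD3C2
import Cfsg.Agent.Lib.Helper84.CD3C2b
import Cfsg.Agent.Lib.Helper83.Quotient
import Cfsg.Agent.Lib.Helper83.Abelian
import Cfsg.Agent.Lib.Helper83.CharMisc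
import Cfsg.Agent.Lib.Helper83.Decompose
import Cfsg.Agent.Lib.Helper85.CliffordAbelian
import Cfsg.Agent.S0887

/-!
# S4811: the degree graph of a finite solvable group has at most two connected components
(glue over the K-CD3 leaves of the S4460 pack).
-/

set_option autoImplicit false

namespace Cfsg.Agent.Lib.Helper30.DegGraph2

open Cfsg

universe u

/-- A graph in which every vertex is reachable from one of two given vertices has at most two
connected components. -/
theorem card_cc_le_two {V : Type*} (Γ : SimpleGraph V)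
    (h : IsEmpty V ∨ ∃ a b : V, ∀ w : V, Γ.Reachable a w ∨ Γ.Reachable b w) :
    Nat.card Γ.ConnectedComponent ≤ 2 := by
  rcases h with h | ⟨a, b, hab⟩
  · haveI : IsEmpty Γ.ConnectedComponent := ⟨fun c => c.ind (fun v => h.false v)⟩
    simp
  · let f : Fin 2 → Γ.ConnectedComponent :=
      fun i => if i = 0 then Γ.connectedComponentMk a else Γ.connectedComponentMk b
    have hf : Function.Surjective f := by
      intro c
      refine c.ind (fun w => ?_)
      rcases hab w with h | h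
      · exact ⟨0, by simpa [f] using SimpleGraph.ConnectedComponent.sound h⟩
      · exact ⟨1, by simpa [f] using SimpleGraph.ConnectedComponent.sound h⟩
    have := Nat.card_le_card_of_surjective f hf
    simpa using this

theorem charDegree_inflate {G : Type u} [Group G] (K : Subgroup G) [K.Normal] (ψ : G ⧸ K → ℂ) :
    charDegree (fun g : G => ψ (QuotientGroup.mk g)) = charDegree ψ := by
  unfold charDegree
  simp

/-- membership in `charDegrees` -/
theorem mem_charDegrees {G : Type u} [Group G] {χ : G → ℂ} (hχ : IsIrrCharacter G χ) {d : ℕ}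
    (hd : charDegree χ = d) : d ∈ charDegrees G := ⟨⟨χ, hχ⟩, hd⟩

/-- two distinct primes dividing a common degree are joined in the induced degree graph -/
theorem reach_of_dvd {G : Type u} [Group G] (a w : ↥(degreePrimes G)) {d : ℕ}
    (hd : d ∈ charDegrees G) (ha : a.1 ∣ d) (hw : w.1 ∣ d) :
    ((degreeGraph G).induce (degreePrimes G)).Reachable a w := by
  by_cases h : a = w
  · rw [h]
  · have hne : a.1 ≠ w.1 := fun h' => h (Subtype.ext h')
    have hadj : ((degreeGraph G).induce (degreePrimes G)).Adj a w := by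
      show (degreeGraph G).Adj a.1 w.1
      refine ⟨hne, a.2.1, w.2.1, d, hd, ?_⟩
      exact Nat.Coprime.mul_dvd_of_dvd_of_dvd ((Nat.coprime_primes a.2.1 w.2.1).mpr hne) ha hw
    exact hadj.reachable


/-- an abelian group has no vertices -/
theorem isEmpty_of_comm {G : Type u} [Group G] (hcomm : ∀ a b : G, a * b = b * a) :
    IsEmpty ↥(degreePrimes G) := by
  refine ⟨fun w => ?_⟩
  obtain ⟨hp, d, ⟨χ, hd⟩, hpd⟩ := w.2
  have h1 := Cfsg.Agent.Lib.Helper83.irr_degree_one_of_comm hcomm χ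
  have h2 : charDegree (χ : G → ℂ) = 1 := by
    unfold charDegree
    rw [h1]
    simp
  rw [← hd, h2] at hpd
  exact hp.one_lt.ne' (Nat.dvd_one.mp hpd)

/-- the `p`-group quotient case: every vertex is joined to `p` -/
theorem reach_pgroup {G : Type u} [Group G] [Finite G] (K : Subgroup G) [K.Normal] (p : ℕ)
    [Fact p.Prime] (hp : IsPGroup p (G ⧸ K)) (hnc : ¬ ∀ a b : G ⧸ K, a * b = b * a) :
    ∃ a : ↥(degreePrimes G), ∀ w : ↥(degreePrimes G),
      ((degreeGraph G).induce (degreePrimes G)).Reachable a w := by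
  classical
  letI : Fintype G := Fintype.ofFinite G
  have hpp : p.Prime := Fact.out
  obtain ⟨β₀, hβ₀⟩ := Cfsg.Agent.Lib.Helper83.exists_nonlinear_of_not_comm hnc
  obtain ⟨a, ha⟩ := IsPGroup.iff_card.mp hp
  have hdvd : charDegree (β₀ : G ⧸ K → ℂ) ∣ p ^ a := by
    rw [← ha]
    exact Cfsg.Agent.Lib.Helper83.irr_charDegree_dvd_card β₀
  obtain ⟨e, -, he⟩ := (Nat.dvd_prime_pow hpp).mp hdvd
  set β : G → ℂ := fun g => (β₀ : G ⧸ K → ℂ) (QuotientGroup.mk g) with hβdef
  have hβ : IsIrrCharacter G β := Cfsg.Agent.Lib.Helper83.isIrrCharacter_inflate K β₀.2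
  have hβ1 : β 1 = (β₀ : G ⧸ K → ℂ) 1 := by
    rw [hβdef]
    simp only [QuotientGroup.mk_one]
  have hβK : ∀ k ∈ K, β k = β 1 := by
    intro k hk
    rw [hβ1, hβdef]
    simp only
    rw [(QuotientGroup.eq_one_iff k).mpr hk]
  have hβdeg : charDegree β = p ^ e := by
    rw [← he]
    unfold charDegree
    rw [hβ1]
  have hβc := Cfsg.Agent.Lib.Helper83.isCharacter_of_irr hβ
  have hβcast := Cfsg.Agent.Lib.Helper83.charDegree_cast hβc
  have he0 : e ≠ 0 := by
    rintro rfl
    rw [pow_zero] at hβdeg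
    apply hβ₀
    rw [← hβ1, ← hβcast, hβdeg, Nat.cast_one]
  have hpdvd : p ∣ charDegree β := by
    rw [hβdeg]
    exact dvd_pow_self p he0
  have hidx : ∃ a : ℕ, K.index = p ^ a := ⟨a, by rw [Subgroup.index_eq_card, ha]⟩
  have hβmem : charDegree β ∈ charDegrees G := mem_charDegrees hβ rfl
  refine ⟨⟨p, hpp, charDegree β, hβmem, hpdvd⟩, fun w => ?_⟩
  obtain ⟨hq, d, ⟨χ, hd⟩, hqd⟩ := w.2
  by_cases hpd : p ∣ d
  · exact reach_of_dvd _ w ⟨χ, hd⟩ hpd hqd
  · have hχc := Cfsg.Agent.Lib.Helper83.isCharacter_of_irr χ.2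
    have hc : (χ : G → ℂ) 1 = (d : ℂ) := by
      rw [← Cfsg.Agent.Lib.Helper83.charDegree_cast hχc, hd]
    have hirr := Cfsg.Agent.Lib.Helper84.CD3.mul_irr_of_pPower_index K p hidx χ.2 hβ hβK d hc hpd
    have hdeg := Cfsg.Agent.Lib.Helper84.CD3.charDegree_mul_of_isCharacter hχc hβc
    refine reach_of_dvd _ w (mem_charDegrees hirr hdeg) ?_ ?_
    · exact Dvd.dvd.mul_right hpdvd _
    · rw [hd]
      exact Dvd.dvd.mul_left hqd _


/-- the Frobenius case: every vertex is joined to a prime divisor of `f = |G : N|` or to `r` -/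
theorem reach_frobenius {G : Type u} [Group G] [Finite G] (K : Subgroup G) [hKn : K.Normal]
    (hsolv : Group.IsSolvable (G ⧸ K)) (hKnot : ¬ commutator G ≤ K)
    (hKmax : ∀ K' : Subgroup G, K'.Normal → K < K' → commutator G ≤ K')
    (hXnp : ∀ p : ℕ, p.Prime → ¬ IsPGroup p (G ⧸ K)) :
    ∃ a b : ↥(degreePrimes G), ∀ w : ↥(degreePrimes G),
      ((degreeGraph G).induce (degreePrimes G)).Reachable a w ∨
        ((degreeGraph G).induce (degreePrimes G)).Reachable b w := by
  classical
  letI : Fintype G := Fintype.ofFinite G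
  have hmk_surj : Function.Surjective (QuotientGroup.mk' K) := QuotientGroup.mk'_surjective K
  have hXnab : ∃ a b : G ⧸ K, a * b ≠ b * a := by
    by_contra hall
    push_neg at hall
    apply hKnot
    rw [commutator_def, Subgroup.commutator_le]
    intro g _ h _
    rw [commutatorElement_def, ← QuotientGroup.eq_one_iff]
    have := hall (g : G ⧸ K) (h : G ⧸ K)
    rw [QuotientGroup.mk_mul, QuotientGroup.mk_mul, QuotientGroup.mk_mul, QuotientGroup.mk_inv,
      QuotientGroup.mk_inv, this]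
    group
  have hcomm_map : commutator (G ⧸ K) = (commutator G).map (QuotientGroup.mk' K) := by
    rw [commutator_def, commutator_def, Subgroup.map_commutator,
      ← MonoidHom.range_eq_map, MonoidHom.range_eq_top.2 hmk_surj]
  have hXmin : ∀ L : Subgroup (G ⧸ K), L.Normal → L ≠ ⊥ → commutator (G ⧸ K) ≤ L := by
    intro L hL hLne
    have hLn : (L.comap (QuotientGroup.mk' K)).Normal := hL.comap _
    have hKle : K ≤ L.comap (QuotientGroup.mk' K) := by
      intro k hk
      rw [Subgroup.mem_comap]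
      have : (QuotientGroup.mk' K) k = 1 := (QuotientGroup.eq_one_iff k).2 hk
      rw [this]; exact L.one_mem
    have hKlt : K < L.comap (QuotientGroup.mk' K) := by
      refine lt_of_le_of_ne hKle ?_
      intro heq
      apply hLne
      rw [eq_bot_iff]
      intro x hx
      obtain ⟨g, rfl⟩ := hmk_surj x
      have hg : g ∈ L.comap (QuotientGroup.mk' K) := hx
      rw [← heq] at hg
      rw [Subgroup.mem_bot]
      exact (QuotientGroup.eq_one_iff g).2 hg
    have := hKmax _ hLn hKlt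
    rw [hcomm_map]
    calc (commutator G).map (QuotientGroup.mk' K)
        ≤ (L.comap (QuotientGroup.mk' K)).map (QuotientGroup.mk' K) := Subgroup.map_mono this
      _ ≤ L := Subgroup.map_comap_le _ _
  obtain ⟨r, Q, hr, hVp, hVab, hQab, hVQ, hsup, hcop, hfpfQ, hfpfX, hindex, hQ1, a, ha, hVcard⟩ :=
    Cfsg.Agent.Lib.Helper30.CD3.frobenius_structure hsolv hXnab hXmin hXnp
  have hVne : commutator (G ⧸ K) ≠ ⊥ := by
    intro h0
    have : Nat.card (commutator (G ⧸ K)) = 1 := by rw [h0]; simp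
    rw [hVcard] at this
    have h2 : 2 ≤ r ^ a := by
      calc 2 ≤ r := hr.two_le
        _ = r ^ 1 := (pow_one r).symm
        _ ≤ r ^ a := Nat.pow_le_pow_right hr.pos ha
    omega
  obtain ⟨χb, hχb, hχbd⟩ :=
    Cfsg.Agent.Lib.Helper10.CD3.exists_irr_of_frobenius (commutator (G ⧸ K)) Q hVab hVne hVQ hsup
      hfpfQ
  have hχ : IsIrrCharacter G (fun g : G => χb (QuotientGroup.mk g)) :=
    Cfsg.Agent.Lib.Helper83.isIrrCharacter_inflate K hχb
  have hχd : charDegree (fun g : G => χb (QuotientGroup.mk g)) = Nat.card Q := by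
    rw [charDegree_inflate, hχbd]
  -- the subgroup N
  set N : Subgroup G := (commutator (G ⧸ K)).comap (QuotientGroup.mk' K) with hNdef
  haveI hNn : N.Normal := Subgroup.Normal.comap inferInstance _
  letI : Fintype N := Fintype.ofFinite N
  have hKN : K ≤ N := by
    intro k hk
    rw [hNdef, Subgroup.mem_comap]
    have : (QuotientGroup.mk' K) k = 1 := (QuotientGroup.eq_one_iff k).2 hk
    rw [this]; exact Subgroup.one_mem _
  have hNK : ∀ x ∈ N, ∀ y ∈ N, x * y * x⁻¹ * y⁻¹ ∈ K := by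
    intro x hx y hy
    rw [← QuotientGroup.eq_one_iff]
    have := hVab _ hx _ hy
    simp only [QuotientGroup.mk'_apply] at this
    rw [QuotientGroup.mk_mul, QuotientGroup.mk_mul, QuotientGroup.mk_mul, QuotientGroup.mk_inv,
      QuotientGroup.mk_inv, this]
    group
  have hGN : ∀ g h : G, g * h * g⁻¹ * h⁻¹ ∈ N := by
    intro g h
    rw [hNdef, Subgroup.mem_comap, map_mul, map_mul, map_mul, map_inv, map_inv]
    exact Cfsg.Agent.Lib.Helper30.FrobDerived.comm_mem _ _
  have hfpf : ∀ g : G, g ∉ N → ∀ x ∈ N, g * x * g⁻¹ * x⁻¹ ∈ K → x ∈ K := by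
    intro g hg x hx hgx
    rw [← QuotientGroup.eq_one_iff] at hgx ⊢
    apply hfpfX ((QuotientGroup.mk' K) g) hg ((QuotientGroup.mk' K) x) hx
    simp only [QuotientGroup.mk'_apply]
    rw [QuotientGroup.mk_mul, QuotientGroup.mk_mul, QuotientGroup.mk_mul, QuotientGroup.mk_inv,
      QuotientGroup.mk_inv] at hgx
    calc (g : G ⧸ K) * (x : G ⧸ K)
        = ((g : G ⧸ K) * (x : G ⧸ K) * (g : G ⧸ K)⁻¹ * (x : G ⧸ K)⁻¹) *
            ((x : G ⧸ K) * (g : G ⧸ K)) := by group
      _ = (x : G ⧸ K) * (g : G ⧸ K) := by rw [hgx, one_mul]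
  have hNidx : N.index = Nat.card Q := by
    rw [hNdef, Subgroup.index_comap_of_surjective _ hmk_surj, hindex]
  have hidx : ∃ a : ℕ, 0 < a ∧ K.relIndex N = r ^ a := by
    refine ⟨a, ha, ?_⟩
    have hKc : (⊥ : Subgroup (G ⧸ K)).comap (QuotientGroup.mk' K) = K := by
      rw [MonoidHom.comap_bot, QuotientGroup.ker_mk']
    have h1 := Subgroup.relIndex_comap (⊥ : Subgroup (G ⧸ K)) (QuotientGroup.mk' K) N
    rw [hKc, hNdef, Subgroup.map_comap_eq_self_of_surjective hmk_surj, Subgroup.relIndex_bot_left,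
      hVcard] at h1
    exact h1
  -- the hub prime `p0 ∣ f`
  set f : ℕ := Nat.card Q with hfdef
  have hf1 : f ≠ 1 := by omega
  have hp0 : (Nat.minFac f).Prime := Nat.minFac_prime hf1
  have hp0f : Nat.minFac f ∣ f := Nat.minFac_dvd f
  have hfmem : f ∈ charDegrees G := mem_charDegrees hχ hχd
  set va : ↥(degreePrimes G) := ⟨Nat.minFac f, hp0, f, hfmem, hp0f⟩ with hva
  -- main claim
  have claim : ∀ w : ↥(degreePrimes G),
      ((degreeGraph G).induce (degreePrimes G)).Reachable va w ∨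
        ∃ hrv : r ∈ degreePrimes G,
          ((degreeGraph G).induce (degreePrimes G)).Reachable ⟨r, hrv⟩ w := by
    intro w
    obtain ⟨hq, d, ⟨χ, hd⟩, hqd⟩ := w.2
    by_cases hqf : w.1 ∣ f
    · exact Or.inl (reach_of_dvd va w hfmem hp0f hqf)
    · -- a constituent of the restriction of χ to N
      have hχc := Cfsg.Agent.Lib.Helper83.isCharacter_of_irr χ.2
      have hχN : IsCharacter N (fun n : N => (χ : G → ℂ) n) :=
        Cfsg.Agent.Lib.Helper83.isCharacter_restrict N hχc
      have hχ1 : (fun n : N => (χ : G → ℂ) n) 1 ≠ 0 :=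
        Cfsg.Agent.Lib.Helper83.irr_degree_ne_zero χ
      obtain ⟨ψ, hψ, hcon⟩ := Cfsg.Agent.Lib.Helper85.exists_irr_constituent hχN hχ1
      have hψc := Cfsg.Agent.Lib.Helper83.isCharacter_of_irr hψ
      have hc : (χ : G → ℂ) 1 = ((d : ℕ) : ℂ) := by
        rw [← Cfsg.Agent.Lib.Helper83.charDegree_cast hχc, hd]
      have hdψ : ψ 1 = ((charDegree ψ : ℕ) : ℂ) :=
        (Cfsg.Agent.Lib.Helper83.charDegree_cast hψc).symm
      obtain ⟨h1, h2⟩ := Cfsg.Agent.S0887.result N (χ : G → ℂ) χ.2 ψ hψ hcon d (charDegree ψ) hc hdψ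
      rw [hNidx] at h2
      -- `q ∣ ψ 1`
      have hqψ : w.1 ∣ charDegree ψ := by
        have hdecomp : d = d / charDegree ψ * charDegree ψ := (Nat.div_mul_cancel h1).symm
        rw [hdecomp] at hqd
        rcases (Nat.Prime.dvd_mul hq).mp hqd with h | h
        · exact absurd (h.trans h2) hqf
        · exact h
      by_cases hmove : ∃ μ : N → ℂ, IsIrrCharacter N μ ∧ μ 1 = 1 ∧
          (∀ k : N, (k : G) ∈ K → μ k = 1) ∧ ψ * μ ≠ ψ
      · obtain ⟨ξ, hξ, hdeg, hin⟩ :=
          Cfsg.Agent.Lib.Helper32.CD3.exists_twist_inertia K N hKN hNK hGN hfpf hψ hmove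
        obtain ⟨χ', hχ', hχ'd⟩ := Cfsg.Agent.Lib.Helper45.CD3.exists_irr_index_mul N hξ hin
        rw [hNidx, hdeg] at hχ'd
        refine Or.inl (reach_of_dvd va w (mem_charDegrees hχ' hχ'd) ?_ ?_)
        · exact Dvd.dvd.mul_right hp0f _
        · exact Dvd.dvd.mul_left hqψ _
      · have hinv : ∀ μ : N → ℂ, IsIrrCharacter N μ → μ 1 = 1 →
            (∀ k : N, (k : G) ∈ K → μ k = 1) → ψ * μ = ψ := by
          intro μ h1' h2' h3'
          by_contra h4
          exact hmove ⟨μ, h1', h2', h3', h4⟩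
        have hrd := Cfsg.Agent.Lib.Helper98.CD3.dvd_degree_of_twist_invariant K N hKN hNK hr hidx
          hψ hinv
        have hrd' : r ∣ d := hrd.trans h1
        have hdmem : d ∈ charDegrees G := ⟨χ, hd⟩
        have hrv : r ∈ degreePrimes G := ⟨hr, d, hdmem, hrd'⟩
        exact Or.inr ⟨hrv, reach_of_dvd ⟨r, hrv⟩ w hdmem hrd' (hqψ.trans h1)⟩
  by_cases hrv : r ∈ degreePrimes G
  · refine ⟨va, ⟨r, hrv⟩, fun w => ?_⟩
    rcases claim w with h | ⟨_, h⟩
    · exact Or.inl h
    · exact Or.inr h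
  · refine ⟨va, va, fun w => ?_⟩
    rcases claim w with h | ⟨hrv', _⟩
    · exact Or.inl h
    · exact absurd hrv' hrv


/-- **S4811.**  The degree graph of a finite solvable group has at most two connected components. -/
theorem card_components_le_two {G : Type u} [Group G] [Finite G] [hsolvG : Group.IsSolvable G] :
    Nat.card ((degreeGraph G).induce (degreePrimes G)).ConnectedComponent ≤ 2 := by
  classical
  apply card_cc_le_two
  by_cases hnab : ∃ a b : G, a * b ≠ b * a
  · right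
    obtain ⟨K, hKn, hKnot, hKmax⟩ := Cfsg.Agent.Lib.Helper77.CD3.exists_max_normal_nonabelian hnab
    haveI := hKn
    have hsolv : Group.IsSolvable (G ⧸ K) := inferInstance
    by_cases hXp : ∃ p : ℕ, p.Prime ∧ IsPGroup p (G ⧸ K)
    · obtain ⟨p, hp, hpg⟩ := hXp
      haveI : Fact p.Prime := ⟨hp⟩
      have hnc : ¬ ∀ a b : G ⧸ K, a * b = b * a := by
        intro hall
        apply hKnot
        rw [commutator_def, Subgroup.commutator_le]
        intro g _ h _
        rw [commutatorElement_def, ← QuotientGroup.eq_one_iff]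
        have := hall (g : G ⧸ K) (h : G ⧸ K)
        rw [QuotientGroup.mk_mul, QuotientGroup.mk_mul, QuotientGroup.mk_mul, QuotientGroup.mk_inv,
          QuotientGroup.mk_inv, this]
        group
      obtain ⟨a, ha⟩ := reach_pgroup K p hpg hnc
      exact ⟨a, a, fun w => Or.inl (ha w)⟩
    · have hXnp : ∀ p : ℕ, p.Prime → ¬ IsPGroup p (G ⧸ K) := fun p hp hpg => hXp ⟨p, hp, hpg⟩
      exact reach_frobenius K hsolv hKnot hKmax hXnp
  · left
    push_neg at hnab
    exact isEmpty_of_comm hnab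

end Cfsg.Agent.Lib.Helper30.DegGraph2
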