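import Mathlib
import Cfsg.Agent.Lib.Helper96.FC91Defs
import Cfsg.Agent.Lib.Helper01.FCStructA

/-!
Keystone K-S4291-TWOGEN (helper30): a finite group with at most one involution has no quotient of exponent 2
and order more than 4.
-/

set_option autoImplicit false

namespace Cfsg.Agent.Lib.Helper30.FC91

open Cfsg.Agent.Lib.Helper96.FC91

universe u

/-- a cyclic group of exponent two has at most two elements -/
theorem card_le_two_of_cyclic_exp_two {C : Type*} [Group C] [Finite C] [IsCyclic C]
    (h : ∀ x : C, x ^ 2 = 1) : Nat.card C ≤ 2 := by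
  obtain ⟨g, hg⟩ := IsCyclic.exists_generator (α := C)
  rw [← orderOf_eq_card_of_forall_mem_zpowers hg]
  exact Nat.le_of_dvd (by norm_num) (orderOf_dvd_of_pow_eq_one (h g))

theorem index_le_four_of_sq_mem {G : Type u} [Group G] [Finite G] (hinv : OneInv G) (K : Subgroup G) [K.Normal]
    (hsq : ∀ x : G, x ^ 2 ∈ K) : K.index ≤ 4 := by
  haveI : Fact (Nat.Prime 2) := ⟨Nat.prime_two⟩
  let P : Sylow 2 G := default
  have hP2 : IsPGroup 2 ↥(P : Subgroup G) := P.isPGroup'
  have hinvP : ∀ s t : ↥(P : Subgroup G), orderOf s = 2 → orderOf t = 2 → s = t := by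
    intro s t hs ht
    apply Subtype.ext
    apply hinv
    · rw [Subgroup.orderOf_coe]; exact hs
    · rw [Subgroup.orderOf_coe]; exact ht
  obtain ⟨D, hDn, -, hDc, hidx⟩ := Cfsg.Agent.Lib.Helper01.two_group_case hP2 hinvP
  -- the quotient has exponent two
  have hQ2 : ∀ q : G ⧸ K, q ^ 2 = 1 := by
    intro q
    induction q using QuotientGroup.induction_on with
    | H g =>
      rw [← QuotientGroup.mk_pow, QuotientGroup.eq_one_iff]
      exact hsq g
  have hQp : IsPGroup 2 (G ⧸ K) := fun q => ⟨1, by rw [pow_one]; exact hQ2 q⟩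
  obtain ⟨k, hk⟩ := hQp.exists_card_eq
  set f : ↥(P : Subgroup G) →* G ⧸ K := (QuotientGroup.mk' K).comp (P : Subgroup G).subtype with hf
  -- the Sylow subgroup covers the quotient
  have htop : (P : Subgroup G).map (QuotientGroup.mk' K) = ⊤ := by
    rw [← Subgroup.index_eq_one]
    have h1 : ((P : Subgroup G).map (QuotientGroup.mk' K)).index ∣ (P : Subgroup G).index :=
      Subgroup.index_map_dvd _ (QuotientGroup.mk'_surjective K)
    have h2 : ((P : Subgroup G).map (QuotientGroup.mk' K)).index ∣ 2 ^ k := by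
      rw [← hk]
      exact Subgroup.index_dvd_card _
    obtain ⟨j, -, hj⟩ := (Nat.dvd_prime_pow Nat.prime_two).mp h2
    rw [hj] at h1 ⊢
    have h3 : ¬ 2 ∣ (P : Subgroup G).index := P.not_dvd_index
    rcases Nat.eq_zero_or_pos j with h0 | hpos
    · rw [h0, pow_zero]
    · exfalso
      exact h3 ((dvd_pow_self 2 hpos.ne').trans h1)
  have hfsurj : Function.Surjective f := by
    intro q
    have hq : q ∈ (P : Subgroup G).map (QuotientGroup.mk' K) := by rw [htop]; trivial
    obtain ⟨g, hg, rfl⟩ := Subgroup.mem_map.mp hq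
    exact ⟨⟨g, hg⟩, rfl⟩
  have hidx2 : (D.map f).index ≤ 2 := by
    have h1 : (D.map f).index ∣ D.index := Subgroup.index_map_dvd D hfsurj
    have h0 : D.index ≠ 0 := Subgroup.index_ne_zero_of_finite
    exact (Nat.le_of_dvd (Nat.pos_of_ne_zero h0) h1).trans hidx
  have hcard2 : Nat.card (D.map f) ≤ 2 := by
    haveI : IsCyclic D := hDc
    haveI : IsCyclic (D.map f) :=
      isCyclic_of_surjective (f.subgroupMap D) (f.subgroupMap_surjective D)
    apply card_le_two_of_cyclic_exp_two
    intro x
    apply Subtype.ext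
    rw [Subgroup.coe_pow, hQ2]
    rfl
  rw [Subgroup.index_eq_card, ← Subgroup.card_mul_index (D.map f)]
  calc Nat.card (D.map f) * (D.map f).index ≤ 2 * 2 := Nat.mul_le_mul hcard2 hidx2
    _ = 4 := by norm_num

end Cfsg.Agent.Lib.Helper30.FC91
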