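import Mathlib

set_option autoImplicit false

/-!
# Flavell generation: transfer step

If `M ≤ G` has finite index, `ϕ : M →* A` (A commutative), `x ∈ M`, and every conjugate
`t⁻¹ x^k t ∈ M` with `t ∉ M` is killed by `ϕ`, then `transfer ϕ x = ϕ x`.
-/

namespace Cfsg.Agent.Lib.Helper30.FlavellGen

open MulAction Subgroup

variable {G : Type*} [Group G]

theorem transfer_eq_self {A : Type*} [CommGroup A] (M : Subgroup G) [M.FiniteIndex]
    (ϕ : M →* A) (x : G) (hx : x ∈ M)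
    (hkill : ∀ (t : G) (k : ℕ) (hy : t⁻¹ * x ^ k * t ∈ M), t ∉ M → ϕ ⟨t⁻¹ * x ^ k * t, hy⟩ = 1) :
    MonoidHom.transfer ϕ x = ϕ ⟨x, hx⟩ := by
  classical
  haveI : Fintype (Quotient (orbitRel (zpowers x) (G ⧸ M))) := Fintype.ofFinite _
  rw [MonoidHom.transfer_eq_prod_quotient_orbitRel_zpowers_quot]
  set q₀ : Quotient (orbitRel (zpowers x) (G ⧸ M)) := Quotient.mk'' ((1 : G) : G ⧸ M) with hq₀
  have hone : ∀ g : G, ((g : G) : G ⧸ M) = ((1 : G) : G ⧸ M) ↔ g ∈ M := by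
    intro g
    rw [QuotientGroup.eq]
    constructor
    · intro h
      have := M.inv_mem h
      simpa using this
    · intro h
      simpa using M.inv_mem h
  -- the coset `M` is fixed by powers of x
  have hfixx : x • (((1 : G) : G ⧸ M)) = ((1 : G) : G ⧸ M) := by
    show (((x * 1 : G)) : G ⧸ M) = _
    rw [mul_one]; exact (hone x).2 hx
  have hfix : ∀ z : zpowers x, z • (((1 : G) : G ⧸ M)) = ((1 : G) : G ⧸ M) := by
    rintro ⟨z, hz⟩
    show (((z * 1 : G)) : G ⧸ M) = _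
    rw [mul_one]
    refine (hone z).2 ?_
    obtain ⟨n, rfl⟩ := hz
    exact M.zpow_mem hx n
  have hq₀out : q₀.out = ((1 : G) : G ⧸ M) := by
    have h1 : (Quotient.mk'' q₀.out : Quotient (orbitRel (zpowers x) (G ⧸ M))) = Quotient.mk'' ((1 : G) : G ⧸ M) :=
      Quotient.out_eq' q₀
    have h2 := Quotient.exact' h1
    obtain ⟨z, hz⟩ := h2
    rw [← hz]
    exact hfix z
  -- conjugation-invariant factor
  have key : ∀ (t : G) (k : ℕ) (hy : t⁻¹ * x ^ k * t ∈ M), t ∈ M → k = 1 →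
      ϕ ⟨t⁻¹ * x ^ k * t, hy⟩ = ϕ ⟨x, hx⟩ := by
    intro t k hy ht hk
    subst hk
    have : (⟨t⁻¹ * x ^ 1 * t, hy⟩ : M) = (⟨t, ht⟩ : M)⁻¹ * ⟨x, hx⟩ * ⟨t, ht⟩ := by
      apply Subtype.ext
      simp
    rw [this, map_mul, map_mul, map_inv]
    rw [mul_comm (ϕ ⟨t, ht⟩)⁻¹, mul_assoc, inv_mul_cancel, mul_one]
  rw [Finset.prod_eq_single q₀]
  · apply key
    · rw [← hone, QuotientGroup.out_eq', hq₀out]
    · rw [Function.minimalPeriod_eq_one_iff_isFixedPt, hq₀out]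
      exact hfixx
  · intro q _ hq
    apply hkill
    intro hmem
    apply hq
    have h3 : q.out = ((1 : G) : G ⧸ M) := by
      rw [← (hone _).2 hmem, QuotientGroup.out_eq']
    rw [hq₀, ← h3, Quotient.out_eq']
  · intro h
    exact absurd (Finset.mem_univ _) h

end Cfsg.Agent.Lib.Helper30.FlavellGen
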