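import Mathlib
import Cfsg.Agent.Lib.Helper30.FlavellGenA

set_option autoImplicit false

/-!
# Flavell generation theorem

`G` finite non-abelian simple, `M` maximal, `H ⊴ M` of prime index: `G = ⟨H, H^g⟩` for some `g`.
-/

namespace Cfsg.Agent.Lib.Helper30.FlavellGen

open Subgroup

variable {G : Type*} [Group G]

/-- conjugate subgroup `g K g⁻¹` in the form used by the statement. -/
abbrev cj (g : G) (K : Subgroup G) : Subgroup G := K.map (MulAut.conj g).toMonoidHom

theorem mem_cj {g x : G} {K : Subgroup G} : x ∈ cj g K ↔ g⁻¹ * x * g ∈ K := by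
  constructor
  · rintro ⟨k, hk, rfl⟩
    simpa [MulAut.conj_apply, mul_assoc] using hk
  · intro h
    refine ⟨g⁻¹ * x * g, h, ?_⟩
    simp [MulAut.conj_apply, mul_assoc]

theorem conj_mem_cj {g k : G} {K : Subgroup G} (hk : k ∈ K) : g * k * g⁻¹ ∈ cj g K := by
  rw [mem_cj]; simpa [mul_assoc] using hk

section

variable (M H : Subgroup G) (hHM : H ≤ M) (hn : (H.subgroupOf M).Normal)
  (hidx : (H.relIndex M).Prime)

include hHM hn in
theorem conj_mem_H {m h : G} (hm : m ∈ M) (hh : h ∈ H) : m * h * m⁻¹ ∈ H := by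
  have := hn.conj_mem ⟨h, hHM hh⟩ (by simpa [mem_subgroupOf] using hh) ⟨m, hm⟩
  simpa [mem_subgroupOf] using this

include hHM hn in
theorem conj_mem_H' {m h : G} (hm : m ∈ M) (hh : h ∈ H) : m⁻¹ * h * m ∈ H := by
  have := conj_mem_H M H hHM hn (M.inv_mem hm) hh
  simpa using this

include hHM hn hidx in
/-- splitting: if `D ≤ M`, `D ⊄ H` then `M = H D`. -/
theorem split {D : Subgroup G} (hDM : D ≤ M) (hDH : ¬ D ≤ H) {m : G} (hm : m ∈ M) :
    ∃ h ∈ H, ∃ d ∈ D, m = h * d := by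
  haveI := hn
  set H' := H.subgroupOf M
  set D' := D.subgroupOf M
  have hK : H' ⊔ D' = ⊤ := by
    have hle : H' ≤ H' ⊔ D' := le_sup_left
    have h1 := Subgroup.relIndex_mul_index hle
    have hp : (H'.index).Prime := by
      simpa [H', Subgroup.relIndex] using hidx
    rw [← h1] at hp
    rcases Nat.prime_mul_iff.1 hp with ⟨_, h2⟩ | ⟨_, h2⟩
    · exact Subgroup.index_eq_one.1 h2
    · exfalso
      have h3 : H' ⊔ D' ≤ H' := Subgroup.relIndex_eq_one.1 h2
      apply hDH
      intro d hd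
      have : (⟨d, hDM hd⟩ : M) ∈ H' := h3 (le_sup_right (a := H') (show (⟨d, hDM hd⟩ : M) ∈ D' from hd))
      exact this
  have hm' : (⟨m, hm⟩ : M) ∈ (↑(H' ⊔ D') : Set M) := by rw [hK]; trivial
  rw [Subgroup.normal_mul] at hm'
  obtain ⟨a, ha, b, hb, hab⟩ := hm'
  refine ⟨a, ha, b, hb, ?_⟩
  have := congrArg Subtype.val hab
  simpa using this.symm

include hHM hn hidx in
theorem sup_eq {D : Subgroup G} (hDM : D ≤ M) (hDH : ¬ D ≤ H) : M ≤ H ⊔ D := by
  intro m hm
  obtain ⟨h, hh, d, hd, rfl⟩ := split M H hHM hn hidx hDM hDH hm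
  exact mul_mem (mem_sup_left hh) (mem_sup_right hd)

end

section Main

variable [Finite G] [IsSimpleGroup G] (hG : ¬ IsMulCommutative G)
  (M H : Subgroup G) (hmax : IsCoatom M) (hHM : H ≤ M) (hn : (H.subgroupOf M).Normal)
  (hidx : (H.relIndex M).Prime)

include hmax hHM hidx in
/-- `N_G(M) = M` in elementwise form. -/
theorem exists_conj_not_mem {g : G} (hg : g ∉ M) : ∃ m ∈ M, g * m * g⁻¹ ∉ M := by
  by_contra hcon
  push_neg at hcon
  have h1 : g ∈ normalizer (M : Set G) := mem_normalizer_fintype (fun n hn => hcon n hn)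
  have h2 : M ≤ normalizer (M : Set G) := le_normalizer
  have h3 : normalizer (M : Set G) = ⊤ := by
    rcases hmax.le_iff.1 h2 with h | h
    · exact h
    · exfalso; rw [h] at h1; exact hg h1
  have h4 : M.Normal := normalizer_eq_top_iff.1 h3
  rcases h4.eq_bot_or_eq_top with h | h
  · have hH : H = ⊥ := by rw [h] at hHM; exact le_bot_iff.1 hHM
    have : H.relIndex M = 1 := by rw [relIndex_eq_one, h]; exact bot_le
    rw [this] at hidx
    exact Nat.not_prime_one hidx
  · exact hmax.1 h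

include hG hmax hHM hn hidx in
/-- Step 1 (transfer): some `g ∉ M` has `M ∩ gMg⁻¹ ⊄ H`. -/
theorem exists_good : ∃ g : G, g ∉ M ∧ ¬ (M ⊓ cj g M ≤ H) := by
  by_contra hcon
  push_neg at hcon
  haveI := hn
  set H' := H.subgroupOf M with hH'
  have hcard : (Nat.card (M ⧸ H')).Prime := by
    have : Nat.card (M ⧸ H') = H.relIndex M := by
      rw [Subgroup.relIndex, Subgroup.index]
    rw [this]; exact hidx
  haveI : Fact (Nat.card (M ⧸ H')).Prime := ⟨hcard⟩
  haveI : IsCyclic (M ⧸ H') := isCyclic_of_prime_card rfl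
  letI : CommGroup (M ⧸ H') := IsCyclic.commGroup
  let ϕ : M →* (M ⧸ H') := QuotientGroup.mk' H'
  -- the transfer is trivial
  have htriv : ∀ x : G, MonoidHom.transfer ϕ x = 1 := by
    intro x
    have hk := (MonoidHom.normal_ker (MonoidHom.transfer ϕ)).eq_bot_or_eq_top
    rcases hk with hk | hk
    · exfalso
      apply hG
      rw [isMulCommutative_iff]
      intro a b
      have hinj : Function.Injective (MonoidHom.transfer ϕ) :=
        (MonoidHom.ker_eq_bot_iff _).1 hk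
      apply hinj
      rw [map_mul, map_mul, mul_comm]
    · have : x ∈ (MonoidHom.transfer ϕ).ker := by rw [hk]; trivial
      exact this
  -- pick x ∈ M \ H
  have hex : ∃ x ∈ M, x ∉ H := by
    by_contra h
    push_neg at h
    have : H.relIndex M = 1 := relIndex_eq_one.2 h
    rw [this] at hidx
    exact Nat.not_prime_one hidx
  obtain ⟨x, hx, hxH⟩ := hex
  have h1 := transfer_eq_self M ϕ x hx (by
    intro t k hy ht
    have hy2 : t⁻¹ * x ^ k * t ∈ M ⊓ cj t⁻¹ M := by
      refine Subgroup.mem_inf.2 ⟨hy, mem_cj.2 ?_⟩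
      simpa [mul_assoc] using M.pow_mem hx k
    have ht' : t⁻¹ ∉ M := fun h => ht (by simpa using M.inv_mem h)
    have hyH : t⁻¹ * x ^ k * t ∈ H := hcon t⁻¹ ht' hy2
    show (QuotientGroup.mk' H') ⟨t⁻¹ * x ^ k * t, hy⟩ = 1
    rw [QuotientGroup.mk'_apply, QuotientGroup.eq_one_iff]
    exact hyH)
  rw [htriv x] at h1
  have h2 : (⟨x, hx⟩ : M) ∈ H' := by
    have := h1.symm
    rwa [show ϕ ⟨x, hx⟩ = ((⟨x, hx⟩ : M) : M ⧸ H') from rfl, QuotientGroup.eq_one_iff] at this
  exact hxH h2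

include hG hmax hHM hn hidx in
theorem H_ne_bot : H ≠ ⊥ := by
  intro hbot
  obtain ⟨g, hg, hgood⟩ := exists_good hG M H hmax hHM hn hidx
  have hle : M ≤ cj g M := by
    intro m hm
    obtain ⟨h, hh, d, hd, rfl⟩ := split M H hHM hn hidx inf_le_left hgood hm
    rw [hbot, Subgroup.mem_bot] at hh
    subst hh
    rw [one_mul]
    exact (Subgroup.mem_inf.1 hd).2
  have hg' : g⁻¹ ∉ M := fun h => hg (by simpa using M.inv_mem h)
  obtain ⟨m, hm, hk⟩ := exists_conj_not_mem M H hmax hHM hidx hg'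
  apply hk
  have := mem_cj.1 (hle hm)
  simpa using this

include hmax hHM hn hidx in
/-- Step 3: good and cogood give generation. -/
theorem sup_eq_top_of_good_cogood {g : G} (hg : g ∉ M) (hgood : ¬ (M ⊓ cj g M ≤ H))
    (hcogood : ¬ (M ⊓ cj g M ≤ cj g H)) (hHne : H ≠ ⊥) : H ⊔ cj g H = ⊤ := by
  set L := H ⊔ cj g H with hL
  have hD' : ¬ (M ⊓ cj g⁻¹ M ≤ H) := by
    intro hle
    apply hcogood
    intro e he
    obtain ⟨heM, heg⟩ := Subgroup.mem_inf.1 he
    rw [mem_cj]
    apply hle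
    refine Subgroup.mem_inf.2 ⟨mem_cj.1 heg, mem_cj.2 ?_⟩
    simpa [mul_assoc] using heM
  let T : Set G := {x | ∃ l ∈ L, ∃ m ∈ M, x = l * m}
  have hTM : ∀ x ∈ T, ∀ y ∈ M, x * y ∈ T := by
    rintro x ⟨l, hl, m, hm, rfl⟩ y hy
    exact ⟨l, hl, m * y, M.mul_mem hm hy, by rw [mul_assoc]⟩
  have hTg : ∀ x ∈ T, ∀ m' ∈ M, x * (g * m' * g⁻¹) ∈ T := by
    rintro x ⟨l, hl, m₀, hm₀, rfl⟩ m' hm'
    obtain ⟨h, hh, d, hd, rfl⟩ := split M H hHM hn hidx inf_le_left hgood hm₀
    obtain ⟨hdM, hdg⟩ := Subgroup.mem_inf.1 hd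
    have hdg' : g⁻¹ * d * g ∈ M := mem_cj.1 hdg
    have hm₁ : g⁻¹ * d * g * m' ∈ M := M.mul_mem hdg' hm'
    obtain ⟨h', hh', d', hd', hm₁eq⟩ := split M H hHM hn hidx inf_le_left hD' hm₁
    obtain ⟨hd'M, hd'g⟩ := Subgroup.mem_inf.1 hd'
    have hd'g' : g * d' * g⁻¹ ∈ M := by simpa using mem_cj.1 hd'g
    refine ⟨l * h * (g * h' * g⁻¹), ?_, g * d' * g⁻¹, hd'g', ?_⟩
    · exact L.mul_mem (L.mul_mem hl (mem_sup_left hh)) (mem_sup_right (conj_mem_cj hh'))
    · have h5 : d * g * m' = g * (h' * d') := by rw [← hm₁eq]; group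
      calc l * (h * d) * (g * m' * g⁻¹) = l * h * (d * g * m') * g⁻¹ := by group
        _ = l * h * (g * (h' * d')) * g⁻¹ := by rw [h5]
        _ = l * h * (g * h' * g⁻¹) * (g * d' * g⁻¹) := by group
  let S : Subgroup G :=
    { carrier := {y | ∀ x, x ∈ T ↔ x * y ∈ T}
      one_mem' := by intro x; simp
      mul_mem' := by
        intro a b ha hb x
        rw [ha x, hb (x * a), mul_assoc]
      inv_mem' := by
        intro a ha x
        have := ha (x * a⁻¹)
        rw [inv_mul_cancel_right] at this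
        exact this.symm }
  have hMS : M ≤ S := by
    intro y hy x
    constructor
    · intro hx; exact hTM x hx y hy
    · intro hx
      have := hTM _ hx y⁻¹ (M.inv_mem hy)
      rwa [mul_inv_cancel_right] at this
  have hgMS : cj g M ≤ S := by
    intro y hy x
    have hy' : g⁻¹ * y * g ∈ M := mem_cj.1 hy
    have e1 : y = g * (g⁻¹ * y * g) * g⁻¹ := by group
    have e2 : y⁻¹ = g * (g⁻¹ * y * g)⁻¹ * g⁻¹ := by group
    constructor
    · intro hx
      rw [e1]; exact hTg x hx _ hy'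
    · intro hx
      have := hTg _ hx _ (M.inv_mem hy')
      rw [← e2, mul_inv_cancel_right] at this
      exact this
  have hsup : M ⊔ cj g M = ⊤ := by
    rcases hmax.le_iff.1 (le_sup_left : M ≤ M ⊔ cj g M) with h | h
    · exact h
    · exfalso
      obtain ⟨m, hm, hk⟩ := exists_conj_not_mem M H hmax hHM hidx hg
      apply hk
      rw [← h]
      exact mem_sup_right (conj_mem_cj hm)
  have hStop : S = ⊤ := top_le_iff.1 (hsup ▸ sup_le hMS hgMS)
  have hT : ∀ y : G, y ∈ T := by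
    intro y
    have hy : y ∈ S := by rw [hStop]; trivial
    have h1 : (1 : G) ∈ T := ⟨1, L.one_mem, 1, M.one_mem, by simp⟩
    have := (hy 1).1 h1
    simpa using this
  -- normal closure
  have hnc : Subgroup.normalClosure (H : Set G) ≤ L := by
    rw [Subgroup.normalClosure]
    rw [Subgroup.closure_le]
    intro a ha
    rw [Group.mem_conjugatesOfSet_iff] at ha
    obtain ⟨b, hb, hab⟩ := ha
    rw [isConj_iff] at hab
    obtain ⟨c, rfl⟩ := hab
    obtain ⟨l, hl, m, hm, rfl⟩ := hT c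
    have h1 : m * b * m⁻¹ ∈ H := conj_mem_H M H hHM hn hm hb
    have e : l * m * b * (l * m)⁻¹ = l * (m * b * m⁻¹) * l⁻¹ := by group
    show l * m * b * (l * m)⁻¹ ∈ L
    rw [e]
    exact L.mul_mem (L.mul_mem hl (mem_sup_left h1)) (L.inv_mem hl)
  have hntop : Subgroup.normalClosure (H : Set G) = ⊤ := by
    rcases (Subgroup.normalClosure_normal (s := (H : Set G))).eq_bot_or_eq_top with h | h
    · exfalso
      apply hHne
      have : H ≤ Subgroup.normalClosure (H : Set G) := Subgroup.le_normalClosure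
      rw [h] at this
      exact le_bot_iff.1 this
    · exact h
  rw [hntop] at hnc
  exact top_le_iff.1 hnc

include hG hmax hHM hn hidx in
/-- Flavell: a finite non-abelian simple group is generated by two conjugates of a normal
subgroup of prime index of a maximal subgroup. -/
theorem flavell_generation : ∃ g : G, H ⊔ cj g H = ⊤ := by
  by_contra hcon
  push_neg at hcon
  obtain ⟨g, hg, hgood⟩ := exists_good hG M H hmax hHM hn hidx
  have hHne := H_ne_bot hG M H hmax hHM hn hidx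
  have hnc : M ⊓ cj g M ≤ cj g H := by
    by_contra h
    exact hcon g (sup_eq_top_of_good_cogood M H hmax hHM hn hidx hg hgood h hHne)
  have hM_le : M ≤ H ⊔ cj g H :=
    (sup_eq M H hHM hn hidx inf_le_left hgood).trans (sup_le_sup_left hnc H)
  have hLM : H ⊔ cj g H = M := by
    rcases hmax.le_iff.1 hM_le with h | h
    · exact absurd h (hcon g)
    · exact h
  have hgH_M : cj g H ≤ M := by
    rw [← hLM]; exact le_sup_right
  obtain ⟨m, hm, hk⟩ := exists_conj_not_mem M H hmax hHM hidx hg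
  set k := g * m * g⁻¹ with hkdef
  have hsub : cj g H ≤ M ⊓ cj k M := by
    intro y hy
    refine Subgroup.mem_inf.2 ⟨hgH_M hy, mem_cj.2 ?_⟩
    have h1 : g⁻¹ * y * g ∈ H := mem_cj.1 hy
    have h2 : m⁻¹ * (g⁻¹ * y * g) * m ∈ H := conj_mem_H' M H hHM hn hm h1
    have h3 : g * (m⁻¹ * (g⁻¹ * y * g) * m) * g⁻¹ ∈ cj g H := conj_mem_cj h2
    have e : k⁻¹ * y * k = g * (m⁻¹ * (g⁻¹ * y * g) * m) * g⁻¹ := by
      rw [hkdef]; group
    rw [e]; exact hgH_M h3
  have hnot : ¬ (cj g H ≤ H) := fun h => hgood (hnc.trans h)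
  have hgoodk : ¬ (M ⊓ cj k M ≤ H) := fun h => hnot (hsub.trans h)
  have hcogoodk : ¬ (M ⊓ cj k M ≤ cj k H) := by
    intro h
    apply hnot
    intro y hy
    have h1 : g⁻¹ * y * g ∈ H := mem_cj.1 hy
    have h2 : m * (g⁻¹ * y * g) * m⁻¹ ∈ H := conj_mem_H M H hHM hn hm h1
    have h3 : g * (m * (g⁻¹ * y * g) * m⁻¹) * g⁻¹ ∈ cj g H := conj_mem_cj h2
    have h4 := mem_cj.1 (h (hsub h3))
    have e : k⁻¹ * (g * (m * (g⁻¹ * y * g) * m⁻¹) * g⁻¹) * k = y := by
      rw [hkdef]; group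
    rwa [e] at h4
  exact hcon k (sup_eq_top_of_good_cogood M H hmax hHM hn hidx hk hgoodk hcogoodk hHne)

end Main

end Cfsg.Agent.Lib.Helper30.FlavellGen
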