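import Mathlib
import Cfsg.Prelude.Def_CaseTheorems
import Cfsg.Agent.Lib.Helper07.PSLSimple
import Cfsg.Agent.Lib.Helper29.Quasisimple
import Cfsg.Agent.Lib.Helper79.SelfCentSimple

set_option autoImplicit false

namespace Cfsg.Agent.Lib.Helper30.GLBlock

open Matrix

variable {F : Type*} [Field F] {m : ℕ}

/-- the block diagonal matrix `diag(a, A)` -/
def bd (a : F) (A : Matrix (Fin m) (Fin m) F) : Matrix (Fin (m + 1)) (Fin (m + 1)) F :=
  Matrix.of fun i j =>
    Fin.cases (Fin.cases a (fun _ => 0) j) (fun i' => Fin.cases 0 (fun j' => A i' j') j) i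

@[simp] theorem bd_zero_zero (a : F) (A : Matrix (Fin m) (Fin m) F) : bd a A 0 0 = a := by
  simp [bd]

@[simp] theorem bd_zero_succ (a : F) (A : Matrix (Fin m) (Fin m) F) (j : Fin m) :
    bd a A 0 j.succ = 0 := by
  simp [bd]

@[simp] theorem bd_succ_zero (a : F) (A : Matrix (Fin m) (Fin m) F) (i : Fin m) :
    bd a A i.succ 0 = 0 := by
  simp [bd]

@[simp] theorem bd_succ_succ (a : F) (A : Matrix (Fin m) (Fin m) F) (i j : Fin m) :
    bd a A i.succ j.succ = A i j := by
  simp [bd]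

theorem bd_mul (a b : F) (A B : Matrix (Fin m) (Fin m) F) :
    bd a A * bd b B = bd (a * b) (A * B) := by
  ext i j
  refine Fin.cases ?_ (fun i' => ?_) i <;> refine Fin.cases ?_ (fun j' => ?_) j <;>
    simp [Matrix.mul_apply, Fin.sum_univ_succ]

theorem bd_one : bd (1 : F) (1 : Matrix (Fin m) (Fin m) F) = 1 := by
  ext i j
  refine Fin.cases ?_ (fun i' => ?_) i <;> refine Fin.cases ?_ (fun j' => ?_) j <;>
    simp [Matrix.one_apply, Fin.succ_ne_zero, (Fin.succ_ne_zero _).symm]

theorem det_bd (a : F) (A : Matrix (Fin m) (Fin m) F) : (bd a A).det = a * A.det := by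
  rw [Matrix.det_succ_row_zero, Fin.sum_univ_succ]
  have h1 : (bd a A).submatrix Fin.succ Fin.succ = A := by
    ext i j
    simp
  simp [h1]

theorem bd_injective {a b : F} {A B : Matrix (Fin m) (Fin m) F} (h : bd a A = bd b B) :
    a = b ∧ A = B := by
  constructor
  · have := congrFun (congrFun h 0) 0
    simpa using this
  · ext i j
    have := congrFun (congrFun h i.succ) j.succ
    simpa using this

theorem eq_bd_of_zero (M : Matrix (Fin (m + 1)) (Fin (m + 1)) F)
    (h1 : ∀ j : Fin m, M 0 j.succ = 0) (h2 : ∀ i : Fin m, M i.succ 0 = 0) :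
    M = bd (M 0 0) (M.submatrix Fin.succ Fin.succ) := by
  ext i j
  refine Fin.cases ?_ (fun i' => ?_) i <;> refine Fin.cases ?_ (fun j' => ?_) j <;>
    simp [h1, h2]


theorem bd_mul_apply_zero (a : F) (A : Matrix (Fin m) (Fin m) F)
    (M : Matrix (Fin (m + 1)) (Fin (m + 1)) F) (j : Fin (m + 1)) :
    (bd a A * M) 0 j = a * M 0 j := by
  simp [Matrix.mul_apply, Fin.sum_univ_succ]

theorem mul_bd_apply_zero (a : F) (A : Matrix (Fin m) (Fin m) F)
    (M : Matrix (Fin (m + 1)) (Fin (m + 1)) F) (i : Fin (m + 1)) :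
    (M * bd a A) i 0 = M i 0 * a := by
  simp [Matrix.mul_apply, Fin.sum_univ_succ]

theorem bd_one_mul_apply_succ (a : F)
    (M : Matrix (Fin (m + 1)) (Fin (m + 1)) F) (i : Fin m) (j : Fin (m + 1)) :
    (bd a (1 : Matrix (Fin m) (Fin m) F) * M) i.succ j = M i.succ j := by
  simp [Matrix.mul_apply, Fin.sum_univ_succ, Matrix.one_apply]

theorem mul_bd_one_apply_succ (a : F)
    (M : Matrix (Fin (m + 1)) (Fin (m + 1)) F) (i : Fin (m + 1)) (j : Fin m) :
    (M * bd a (1 : Matrix (Fin m) (Fin m) F)) i j.succ = M i j.succ := by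
  simp [Matrix.mul_apply, Fin.sum_univ_succ, Matrix.one_apply]

variable (F m)

/-- the involution `diag(-1, 1, ..., 1)` -/
def tinv : GL (Fin (m + 1)) F :=
  ⟨bd (-1) 1, bd (-1) 1, by rw [bd_mul]; simp [bd_one], by rw [bd_mul]; simp [bd_one]⟩

theorem tinv_val : ((tinv F m : GL (Fin (m + 1)) F) : Matrix (Fin (m + 1)) (Fin (m + 1)) F)
    = bd (-1) 1 := rfl

/-- block embedding `SL_m → SL_{m+1}` -/
def upSL : SpecialLinearGroup (Fin m) F →* SpecialLinearGroup (Fin (m + 1)) F where
  toFun A := ⟨bd 1 A.1, by rw [det_bd, A.2, mul_one]⟩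
  map_one' := Subtype.ext bd_one
  map_mul' A B := Subtype.ext (by
    show bd 1 (A.1 * B.1) = bd 1 A.1 * bd 1 B.1
    rw [bd_mul, mul_one])

/-- block embedding `SL_m → GL_{m+1}` -/
def upGL : SpecialLinearGroup (Fin m) F →* GL (Fin (m + 1)) F :=
  SpecialLinearGroup.toGL.comp (upSL F m)

variable {F m}

theorem upGL_val (A : SpecialLinearGroup (Fin m) F) :
    ((upGL F m A : GL (Fin (m + 1)) F) : Matrix (Fin (m + 1)) (Fin (m + 1)) F) = bd 1 A.1 := rfl

theorem upGL_injective : Function.Injective (upGL F m) := by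
  intro A B h
  have h1 : bd 1 A.1 = bd 1 B.1 := by
    rw [← upGL_val, ← upGL_val, h]
  exact Subtype.ext (bd_injective h1).2

theorem upGL_mem (A : SpecialLinearGroup (Fin m) F) :
    upGL F m A ∈ Subgroup.centralizer ({tinv F m} : Set (GL (Fin (m + 1)) F)) := by
  rw [Subgroup.mem_centralizer_singleton_iff]
  apply Units.ext
  rw [Units.val_mul, Units.val_mul, upGL_val, tinv_val, bd_mul, bd_mul]
  simp

variable (F m)

/-- block embedding `SL_m → C(t)` -/
def upC : SpecialLinearGroup (Fin m) F →*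
    Subgroup.centralizer ({tinv F m} : Set (GL (Fin (m + 1)) F)) :=
  (upGL F m).codRestrict _ upGL_mem

variable {F m}

theorem upC_injective : Function.Injective (upC F m) := by
  intro A B h
  apply upGL_injective
  exact congrArg Subtype.val h

theorem cent_form (hchar : (-1 : F) ≠ 1) (g : GL (Fin (m + 1)) F)
    (hg : g ∈ Subgroup.centralizer ({tinv F m} : Set (GL (Fin (m + 1)) F))) :
    ∃ (a : F) (X : Matrix (Fin m) (Fin m) F),
      (g : Matrix (Fin (m + 1)) (Fin (m + 1)) F) = bd a X := by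
  rw [Subgroup.mem_centralizer_singleton_iff] at hg
  have h0 : bd (-1) 1 * (g : Matrix (Fin (m + 1)) (Fin (m + 1)) F)
      = (g : Matrix (Fin (m + 1)) (Fin (m + 1)) F) * bd (-1) 1 := by
    rw [← tinv_val, ← Units.val_mul, ← Units.val_mul, hg]
  have h2 : (2 : F) ≠ 0 := by
    intro h
    apply hchar
    have : (1 : F) + 1 = 0 := by rw [one_add_one_eq_two]; exact h
    exact (eq_neg_of_add_eq_zero_left this).symm
  have key : ∀ x : F, -1 * x = x → x = 0 := by
    intro x hx
    have : 2 * x = 0 := by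
      have : x + x = 0 := by
        nth_rewrite 1 [← hx]
        ring
      rw [two_mul]; exact this
    rcases mul_eq_zero.mp this with h | h
    · exact absurd h h2
    · exact h
  refine ⟨_, _, eq_bd_of_zero _ ?_ ?_⟩
  · intro j
    have := congrFun (congrFun h0 0) j.succ
    rw [bd_mul_apply_zero, mul_bd_one_apply_succ] at this
    exact key _ this
  · intro i
    have := congrFun (congrFun h0 i.succ) 0
    rw [bd_one_mul_apply_succ, mul_bd_apply_zero] at this
    apply key
    rw [mul_comm]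
    exact this.symm

theorem upC_range_normal (hchar : (-1 : F) ≠ 1) : ((upC F m).range).Normal := by
  constructor
  rintro _ ⟨A, rfl⟩ c
  obtain ⟨a, X, hX⟩ := cent_form hchar c.1 c.2
  obtain ⟨a', X', hX'⟩ := cent_form hchar (c⁻¹).1 (c⁻¹).2
  have h1 : bd a X * bd a' X' = 1 := by
    rw [← hX, ← hX', ← Units.val_mul]
    have : (c : GL (Fin (m + 1)) F) * ((c⁻¹ :
        Subgroup.centralizer ({tinv F m} : Set (GL (Fin (m + 1)) F))) : GL (Fin (m + 1)) F) = 1 := by
      rw [← Subgroup.coe_mul, mul_inv_cancel]; rfl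
    rw [this]; rfl
  rw [bd_mul, ← bd_one] at h1
  obtain ⟨haa, hXX⟩ := bd_injective h1
  have hdet : (X * A.1 * X').det = 1 := by
    rw [Matrix.det_mul, Matrix.det_mul, A.2, mul_one, ← Matrix.det_mul, hXX, Matrix.det_one]
  refine ⟨⟨X * A.1 * X', hdet⟩, ?_⟩
  apply Subtype.ext
  apply Units.ext
  show bd 1 (X * A.1 * X') = _
  rw [Subgroup.coe_mul, Subgroup.coe_mul, Units.val_mul, Units.val_mul, hX, hX']
  show _ = bd a X * bd 1 A.1 * bd a' X'
  rw [bd_mul, bd_mul, mul_one, haa]


theorem tinv_order (hchar : (-1 : F) ≠ 1) : orderOf (tinv F m) = 2 := by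
  apply orderOf_eq_prime
  · apply Units.ext
    rw [sq, Units.val_mul, tinv_val, bd_mul]
    simp [bd_one]
  · intro h
    have h1 := congrArg (fun g : GL (Fin (m + 1)) F =>
      (g : Matrix (Fin (m + 1)) (Fin (m + 1)) F) 0 0) h
    simp only [tinv_val, bd_zero_zero, Units.val_one, Matrix.one_apply_eq] at h1
    exact hchar h1

theorem tinv_not_center (hchar : (-1 : F) ≠ 1) (hm : 1 ≤ m) :
    tinv F m ∉ Subgroup.center (GL (Fin (m + 1)) F) := by
  obtain ⟨k, rfl⟩ : ∃ k, m = k + 1 := ⟨m - 1, by omega⟩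
  rw [Matrix.GeneralLinearGroup.mem_center_iff_val_mem_range_scalar]
  rintro ⟨a, ha⟩
  rw [tinv_val] at ha
  have h1 := congrFun (congrFun ha 0) 0
  have h2 := congrFun (congrFun ha (Fin.succ 0)) (Fin.succ 0)
  simp only [bd_zero_zero, bd_succ_succ, Matrix.scalar_apply, Matrix.diagonal_apply_eq,
    Matrix.one_apply_eq] at h1 h2
  exact hchar (h1.symm.trans h2)

variable (F m)

/-- an involution of `SL_{m+2}` -/
def sinv : SpecialLinearGroup (Fin (m + 2)) F :=
  ⟨bd (-1) (bd (-1) 1), by rw [det_bd, det_bd]; simp⟩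

variable {F m}

theorem sinv_order (hchar : (-1 : F) ≠ 1) : orderOf (sinv F m) = 2 := by
  apply orderOf_eq_prime
  · apply Subtype.ext
    rw [sq]
    show bd (-1) (bd (-1) 1) * bd (-1) (bd (-1) 1) = 1
    rw [bd_mul, bd_mul]
    simp [bd_one]
  · intro h
    have h1 := congrArg (fun g : SpecialLinearGroup (Fin (m + 2)) F => g.1 0 0) h
    have h2 : (sinv F m).1 0 0 = -1 := bd_zero_zero _ _
    simp only [h2] at h1
    exact hchar (h1.trans (by simp))

theorem exists_sq_ne_one [Finite F] (hF : 4 ≤ Nat.card F) : ∃ a : F, a ≠ 0 ∧ a ^ 2 ≠ 1 := by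
  obtain ⟨x, hx⟩ : IsCyclic Fˣ := by infer_instance
  refine ⟨x, Units.ne_zero x, fun h ↦ ?_⟩
  grw [Nat.card_eq_card_units_add_one F, ← orderOf_eq_card_of_forall_mem_zpowers hx,
    orderOf_le_of_pow_eq_one zero_lt_two (Units.ext <| by simpa using h)] at hF
  omega

theorem sl_quasisimple [Finite F] (hm : 2 ≤ m) (h : m = 2 → 4 ≤ Nat.card F) :
    Cfsg.IsQuasisimple (SpecialLinearGroup (Fin m) F) := by
  rcases Nat.lt_or_ge m 3 with h3 | h3
  · have hm2 : m = 2 := by omega
    subst hm2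
    have hF := h rfl
    obtain ⟨a, ha, ha2⟩ := exists_sq_ne_one hF
    exact ⟨⟨Matrix.SL2.commutator_eq_top ha ha2⟩,
      Matrix.ProjectiveSpecialLinearGroup.rank_two_simple hF⟩
  · exact ⟨⟨Cfsg.Agent.Lib.Helper07.commutator_sl_eq_top (by simpa using h3)⟩,
      Cfsg.Agent.Lib.Helper07.psl_isSimpleGroup (by simpa using h3)⟩

theorem main [Finite F] (hchar : (-1 : F) ≠ 1) (hm : 2 ≤ m)
    (hq : Cfsg.IsQuasisimple (SpecialLinearGroup (Fin m) F)) :
    ∃ t : GL (Fin (m + 1)) F, orderOf t = 2 ∧ t ∉ Subgroup.center (GL (Fin (m + 1)) F) ∧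
      Cfsg.HasComponent (↥(Subgroup.centralizer ({t} : Set (GL (Fin (m + 1)) F))) ⧸
        Cfsg.oddCore ↥(Subgroup.centralizer ({t} : Set (GL (Fin (m + 1)) F)))) := by
  refine ⟨tinv F m, tinv_order hchar, tinv_not_center hchar (by omega), ?_⟩
  set C := Subgroup.centralizer ({tinv F m} : Set (GL (Fin (m + 1)) F)) with hC
  set O := Cfsg.oddCore ↥C with hO
  set ψ : SpecialLinearGroup (Fin m) F →* ↥C ⧸ O := (QuotientGroup.mk' O).comp (upC F m) with hψ
  refine ⟨ψ.range, ?_, ?_⟩
  · have hn : ((upC F m).range.map (QuotientGroup.mk' O)).Normal :=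
      Subgroup.Normal.map (upC_range_normal hchar) _ (QuotientGroup.mk'_surjective O)
    rw [MonoidHom.map_range] at hn
    exact hn.isSubnormal
  · have hker : ψ.ker ≤ Subgroup.center (SpecialLinearGroup (Fin m) F) := by
      rcases Cfsg.Agent.Lib.Helper29.qs_normal_le_center_or_eq_top hq ψ.ker with h | h
      · exact h
      · exfalso
        obtain ⟨k, rfl⟩ : ∃ k, m = k + 2 := ⟨m - 2, by omega⟩
        have h1 : sinv F k ∈ ψ.ker := by rw [h]; trivial
        rw [MonoidHom.mem_ker, hψ, MonoidHom.comp_apply, QuotientGroup.mk'_apply,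
          QuotientGroup.eq_one_iff] at h1
        have h2 : orderOf (upC F (k + 2) (sinv F k)) = 2 := by
          rw [orderOf_injective _ upC_injective, sinv_order hchar]
        exact Cfsg.Agent.Lib.Helper79.not_mem_pPrimeCore Nat.prime_two h2 h1
    have hq2 := Cfsg.Agent.Lib.Helper29.qs_quotient_central hq ψ.ker hker
    exact Cfsg.Agent.Lib.Helper29.qs_of_mulEquiv (QuotientGroup.quotientKerEquivRange ψ) hq2

end Cfsg.Agent.Lib.Helper30.GLBlock
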