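import Mathlib
import Cfsg.Prelude.Def_HallClasses
import Cfsg.Agent.Lib.Helper38.HallAlt.Defs

/-!
# K-HA-Y (253801, architect helper38): the alternating version of `young_hall`
-/

set_option autoImplicit false
open Cfsg
open scoped Pointwise

namespace Cfsg.Agent.Lib.Helper30.HallAlt

open Cfsg.Agent.Lib.Helper38.HallAlt

theorem padicValNat_le_of_dvd'' {p a b : ℕ} [Fact p.Prime] (hb : b ≠ 0) (h : a ∣ b) :
    padicValNat p a ≤ padicValNat p b :=
  (padicValNat_dvd_iff_le hb).1 (pow_padicValNat_dvd.trans h)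

theorem padicValNat_two_eq (p : ℕ) [Fact p.Prime] : padicValNat p 2 = if p = 2 then 1 else 0 := by
  split_ifs with h
  · subst h; exact padicValNat_self
  · haveI : Fact (Nat.Prime 2) := ⟨Nat.prime_two⟩
    exact padicValNat_primes h

/-- the image of `f₁` is a Hall `π`-subgroup as soon as the kernel is small enough -/
theorem isPiHall_range_of_ker_dvd (π : Set ℕ) {K G₁ : Type*} [Group K] [Group G₁]
    [Finite K] [Finite G₁] (f₁ : K →* G₁) (m : ℕ) (hm : m ≠ 0) (hker : Nat.card f₁.ker ∣ m)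
    (hπ : ∀ p : ℕ, p.Prime → p ∣ Nat.card K → p ∈ π)
    (hval : ∀ p : ℕ, p.Prime → p ∈ π →
      padicValNat p (Nat.card G₁ * m) ≤ padicValNat p (Nat.card K)) :
    IsPiHall π f₁.range := by
  have h1 : Nat.card f₁.ker * Nat.card f₁.range = Nat.card K := by
    rw [← Subgroup.index_ker]
    exact Subgroup.card_mul_index _
  have hK0 : Nat.card K ≠ 0 := Nat.card_pos.ne'
  have hG1 : Nat.card G₁ ≠ 0 := Nat.card_pos.ne'
  have hker0 : Nat.card f₁.ker ≠ 0 := Nat.card_pos.ne'
  have hran0 : Nat.card f₁.range ≠ 0 := Nat.card_pos.ne'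
  refine ⟨?_, ?_⟩
  · intro p hp hpd
    apply hπ p hp
    exact hpd.trans (Dvd.intro_left _ h1)
  · intro p hp hpπ hpd
    haveI : Fact p.Prime := ⟨hp⟩
    have hv := hval p hp hpπ
    rw [padicValNat.mul hG1 hm, ← h1, padicValNat.mul hker0 hran0] at hv
    have hv2 : padicValNat p (Nat.card f₁.ker) ≤ padicValNat p m := padicValNat_le_of_dvd'' hm hker
    have hidx : Nat.card f₁.range * f₁.range.index = Nat.card G₁ := Subgroup.card_mul_index _
    have hidx0 : f₁.range.index ≠ 0 := by
      intro h0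
      rw [h0, mul_zero] at hidx
      exact hG1 hidx.symm
    have hv3 : padicValNat p (Nat.card G₁) =
        padicValNat p (Nat.card f₁.range) + padicValNat p f₁.range.index := by
      rw [← hidx, padicValNat.mul hran0 hidx0]
    have hv4 : padicValNat p f₁.range.index ≠ 0 := (dvd_iff_padicValNat_ne_zero hidx0).1 hpd
    omega

theorem two_mul_card_altSub (B : Type) [Finite B] (hB : 2 ≤ Nat.card B) :
    2 * Nat.card (altSub B) = (Nat.card B).factorial := by
  classical
  letI := Fintype.ofFinite B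
  haveI : Nontrivial B := by
    rw [← Finite.one_lt_card_iff_nontrivial]
    omega
  rw [altSub_eq, two_mul_nat_card_alternatingGroup, Nat.card_perm]

theorem card_altSub_of_le_one (B : Type) [Finite B] (hB : Nat.card B ≤ 1) :
    Nat.card (altSub B) = 1 := by
  haveI : Subsingleton B := (Finite.card_le_one_iff_subsingleton).1 hB
  haveI : Subsingleton (Equiv.Perm B) := inferInstance
  exact Nat.card_unique

/-- abstract core: two jointly injective permutation representations whose signs agree -/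
theorem alt_young_core (π : Set ℕ) {K : Type*} [Group K] [Finite K] {A B : Type} [Finite A] [Finite B]
    (f₁ : K →* Equiv.Perm A) (f₂ : K →* Equiv.Perm B)
    (hinj : ∀ k, f₁ k = 1 → f₂ k = 1 → k = 1)
    (hsign : ∀ k, f₁ k ∈ altSub A ↔ f₂ k ∈ altSub B)
    (hπ : ∀ p : ℕ, p.Prime → p ∣ Nat.card K → p ∈ π)
    (hval : ∀ p : ℕ, p.Prime → p ∈ π →
      padicValNat p ((Nat.card A).factorial * (Nat.card B).factorial) ≤
        padicValNat p (Nat.card K) + (if p = 2 then 1 else 0)) :
    (2 ≤ Nat.card B → IsPiHall π f₁.range) ∧ (Nat.card B ≤ 1 → AltHall π f₁.range) := by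
  have hA0 : (Nat.card A).factorial ≠ 0 := Nat.factorial_ne_zero _
  have hB0 : (Nat.card B).factorial ≠ 0 := Nat.factorial_ne_zero _
  constructor
  · intro hB
    have h2m := two_mul_card_altSub B hB
    have hm0 : Nat.card (altSub B) ≠ 0 := Nat.card_pos.ne'
    apply isPiHall_range_of_ker_dvd π f₁ (Nat.card (altSub B)) hm0 ?_ hπ
    · intro p hp hpπ
      haveI : Fact p.Prime := ⟨hp⟩
      have hv := hval p hp hpπ
      rw [← h2m, padicValNat.mul hA0 (by omega), padicValNat.mul (by norm_num) hm0,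
        padicValNat_two_eq] at hv
      rw [Nat.card_perm, padicValNat.mul hA0 hm0]
      omega
    · -- the kernel embeds into `altSub B`
      have hmem : ∀ k : f₁.ker, f₂ (k : K) ∈ altSub B := by
        intro k
        rw [← hsign, (MonoidHom.mem_ker).1 k.2]
        exact Subgroup.one_mem _
      let φ : f₁.ker →* altSub B :=
        { toFun := fun k => ⟨f₂ (k : K), hmem k⟩
          map_one' := by
            apply Subtype.ext
            simp
          map_mul' := fun a b => by
            apply Subtype.ext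
            simp }
      apply Subgroup.card_dvd_of_injective φ
      intro a b hab
      have hab' : f₂ (a : K) = f₂ (b : K) := congrArg Subtype.val hab
      have h3 : (a : K) * (b : K)⁻¹ = 1 := by
        apply hinj
        · rw [map_mul, map_inv, (MonoidHom.mem_ker).1 a.2, (MonoidHom.mem_ker).1 b.2, inv_one, mul_one]
        · rw [map_mul, map_inv, hab', mul_inv_cancel]
      exact Subtype.ext (mul_inv_eq_one.1 h3)
  · intro hB
    haveI : Subsingleton B := (Finite.card_le_one_iff_subsingleton).1 hB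
    have hf2 : ∀ k, f₂ k = 1 := fun k => Subsingleton.elim _ _
    have hinj1 : Function.Injective f₁ := by
      rw [injective_iff_map_eq_one]
      intro k hk
      exact hinj k hk (hf2 k)
    have hle : f₁.range ≤ altSub A := by
      rintro _ ⟨k, rfl⟩
      rw [hsign, hf2]
      exact Subgroup.one_mem _
    have hcard : Nat.card f₁.range = Nat.card K :=
      (Nat.card_congr (Equiv.ofInjective f₁ hinj1)).symm
    refine ⟨hle, ?_, ?_⟩
    · intro p hp hpd
      rw [hcard] at hpd
      exact hπ p hp hpd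
    · intro p hp hpπ hpd
      haveI : Fact p.Prime := ⟨hp⟩
      have hmul := Subgroup.relIndex_mul_relIndex ⊥ f₁.range (altSub A) bot_le hle
      rw [Subgroup.relIndex_bot_left, Subgroup.relIndex_bot_left, hcard] at hmul
      have hK0 : Nat.card K ≠ 0 := Nat.card_pos.ne'
      have hr0 : f₁.range.relIndex (altSub A) ≠ 0 := by
        intro h0
        rw [h0, mul_zero] at hmul
        exact (Nat.card_pos (α := altSub A)).ne' hmul.symm
      have hv4 : padicValNat p (f₁.range.relIndex (altSub A)) ≠ 0 :=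
        (dvd_iff_padicValNat_ne_zero hr0).1 hpd
      have hv5 : padicValNat p (Nat.card (altSub A)) =
          padicValNat p (Nat.card K) + padicValNat p (f₁.range.relIndex (altSub A)) := by
        rw [← hmul, padicValNat.mul hK0 hr0]
      rcases Nat.lt_or_ge (Nat.card A) 2 with hA | hA
      · rw [card_altSub_of_le_one A (by omega)] at hv5
        simp at hv5
        omega
      · have h2m := two_mul_card_altSub A hA
        have hm0 : Nat.card (altSub A) ≠ 0 := Nat.card_pos.ne'
        have hv := hval p hp hpπ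
        have hB1 : (Nat.card B).factorial = 1 := by
          interval_cases (Nat.card B) <;> rfl
        rw [hB1, mul_one, ← h2m, padicValNat.mul (by norm_num) hm0, padicValNat_two_eq] at hv
        omega

/-- **K-HA-Y** (253801). -/
theorem alt_young_hall (π : Set ℕ) (h2 : 2 ∈ π) {α : Type} [Finite α] (K : Subgroup (Equiv.Perm α)) (Δ : Set α)
    (hK : K ≤ MulAction.stabilizer (Equiv.Perm α) Δ) (hKA : K ≤ altSub α)
    (hπ : ∀ p : ℕ, p.Prime → p ∣ Nat.card K → p ∈ π)
    (hval : ∀ p : ℕ, p.Prime → p ∈ π →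
      padicValNat p ((Δ.ncard).factorial * (Nat.card α - Δ.ncard).factorial) ≤
        padicValNat p (Nat.card K) + (if p = 2 then 1 else 0)) :
    (2 ≤ Nat.card α - Δ.ncard → IsEPiGroup π (Equiv.Perm ↥Δ)) ∧
    (2 ≤ Δ.ncard → IsEPiGroup π (Equiv.Perm ↥(Δᶜ : Set α))) ∧
    (Nat.card α - Δ.ncard ≤ 1 → AltE π ↥Δ) ∧
    (Δ.ncard ≤ 1 → AltE π ↥(Δᶜ : Set α)) := by
  classical
  letI := Fintype.ofFinite α
  have hmem : ∀ k : K, ∀ x : α, (k : Equiv.Perm α) x ∈ Δ ↔ x ∈ Δ := fun k x =>
    (MulAction.mem_stabilizer_set.1 (hK k.2)) x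
  have hmemc : ∀ k : K, ∀ x : α, (k : Equiv.Perm α) x ∈ (Δᶜ : Set α) ↔ x ∈ (Δᶜ : Set α) := fun k x => by
    rw [Set.mem_compl_iff, Set.mem_compl_iff, hmem k x]
  let f₁ : K →* Equiv.Perm ↥Δ :=
    { toFun := fun k => (k : Equiv.Perm α).subtypePerm (hmem k)
      map_one' := by
        ext x
        simp
      map_mul' := fun a b => by
        ext x
        rfl }
  let f₂ : K →* Equiv.Perm ↥(Δᶜ : Set α) :=
    { toFun := fun k => (k : Equiv.Perm α).subtypePerm (hmemc k)
      map_one' := by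
        ext x
        simp
      map_mul' := fun a b => by
        ext x
        rfl }
  have hinj : ∀ k : K, f₁ k = 1 → f₂ k = 1 → k = 1 := by
    intro k h1 h2
    apply Subtype.ext
    ext x
    by_cases hx : x ∈ Δ
    · have := congrArg (fun σ : Equiv.Perm ↥Δ => ((σ ⟨x, hx⟩ : ↥Δ) : α)) h1
      simpa [f₁] using this
    · have := congrArg (fun σ : Equiv.Perm ↥(Δᶜ : Set α) => ((σ ⟨x, hx⟩ : ↥(Δᶜ : Set α)) : α)) h2
      simpa [f₂] using this
  have hprod : ∀ k : K, (k : Equiv.Perm α) =
      Equiv.Perm.ofSubtype (f₁ k) * Equiv.Perm.ofSubtype (f₂ k) := by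
    intro k
    ext x
    rw [Equiv.Perm.mul_apply]
    by_cases hx : x ∈ Δ
    · have hxc : ¬ x ∈ (Δᶜ : Set α) := fun h => h hx
      rw [Equiv.Perm.ofSubtype_apply_of_not_mem (f₂ k) hxc,
        Equiv.Perm.ofSubtype_apply_of_mem (f₁ k) hx]
      rfl
    · have hxc : x ∈ (Δᶜ : Set α) := hx
      rw [Equiv.Perm.ofSubtype_apply_of_mem (f₂ k) hxc]
      have hkx : ¬ ((k : Equiv.Perm α) x ∈ Δ) := fun h => hx ((hmem k x).1 h)
      have e : ((f₂ k) ⟨x, hxc⟩ : α) = (k : Equiv.Perm α) x := rfl
      rw [e, Equiv.Perm.ofSubtype_apply_of_not_mem (f₁ k) hkx]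
  have hsign : ∀ k : K, f₁ k ∈ altSub ↥Δ ↔ f₂ k ∈ altSub ↥(Δᶜ : Set α) := by
    intro k
    have hk : Equiv.Perm.sign (k : Equiv.Perm α) = 1 := (mem_altSub_iff _).1 (hKA k.2)
    rw [hprod k, Equiv.Perm.sign_mul, Equiv.Perm.sign_ofSubtype, Equiv.Perm.sign_ofSubtype] at hk
    rw [mem_altSub_iff, mem_altSub_iff]
    constructor
    · intro h
      rw [h, one_mul] at hk
      exact hk
    · intro h
      rw [h, mul_one] at hk
      exact hk
  have hc1 : Nat.card ↥Δ = Δ.ncard := rfl
  have hc2 : Nat.card ↥(Δᶜ : Set α) = Nat.card α - Δ.ncard := by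
    rw [← Set.ncard_compl Δ (Set.toFinite _) (Set.toFinite _)]
    rfl
  have hvalK : ∀ p : ℕ, p.Prime → p ∈ π →
      padicValNat p ((Nat.card ↥Δ).factorial * (Nat.card ↥(Δᶜ : Set α)).factorial) ≤
        padicValNat p (Nat.card K) + (if p = 2 then 1 else 0) := by
    intro p hp hpπ
    rw [hc1, hc2]
    exact hval p hp hpπ
  have hvalK' : ∀ p : ℕ, p.Prime → p ∈ π →
      padicValNat p ((Nat.card ↥(Δᶜ : Set α)).factorial * (Nat.card ↥Δ).factorial) ≤
        padicValNat p (Nat.card K) + (if p = 2 then 1 else 0) := by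
    intro p hp hpπ
    rw [mul_comm]
    exact hvalK p hp hpπ
  obtain ⟨hA1, hA2⟩ := alt_young_core π f₁ f₂ hinj hsign hπ hvalK
  obtain ⟨hB1, hB2⟩ := alt_young_core π f₂ f₁ (fun k h2 h1 => hinj k h1 h2)
    (fun k => (hsign k).symm) hπ hvalK'
  refine ⟨fun h => ⟨f₁.range, hA1 (by rw [hc2]; exact h)⟩,
    fun h => ⟨f₂.range, hB1 (by rw [hc1]; exact h)⟩,
    fun h => ⟨f₁.range, hA2 (by rw [hc2]; exact h)⟩,
    fun h => ⟨f₂.range, hB2 (by rw [hc1]; exact h)⟩⟩

end Cfsg.Agent.Lib.Helper30.HallAlt
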