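import Mathlib
import Cfsg.Agent.Lib.Helper30.HomoBlock

/-!
# Brauer's theorem on homocyclic Sylow 2-subgroups: a linear character trivial on `P` (helper30)
-/

set_option autoImplicit false
set_option linter.unusedSectionVars false

namespace Cfsg.Agent.Lib.Helper30.Homo

open Cfsg
open scoped ComplexConjugate Classical

universe u

variable {G : Type u} [Group G] [Finite G] (D : HData G)

theorem HData.sigma_ne (u : D.P) (hu : u ≠ 1) :
    D.σ u ≠ u ∧ D.σ (D.σ u) ≠ D.σ u ∧ D.σ (D.σ u) ≠ u := by
  have h1 : D.σ u ≠ u := D.hfree u hu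
  have hσu : D.σ u ≠ 1 := by
    intro h
    apply hu
    have : D.σ u = D.σ 1 := by rw [map_one]; exact h
    exact D.σ.injective this
  refine ⟨h1, D.hfree _ hσu, ?_⟩
  intro h
  apply h1
  have := congrArg D.σ h
  rw [D.hσ3] at this
  exact this.symm

theorem HData.isConj_sigma (u : D.P) : IsConj (u : G) ((D.σ u : D.P) : G) := by
  obtain ⟨g, hg⟩ := D.hconj u
  exact isConj_iff.mpr ⟨g, hg.symm⟩

/-- the column orthogonality relations of the principal block on `P` -/
theorem HData.colOrth (M : Ideal AlgInt) (hM : IsPModular 2 M) [Fintype (PB M G)] [Fintype D.P]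
    (u v : D.P) (huv : u ≠ 1 ∨ v ≠ 1) :
    ∑ χ : PB M G, (χ.1 : G → ℂ) u * conj ((χ.1 : G → ℂ) v)
      = (Fintype.card D.P : ℂ) * Rfun D.σ u v := by
  by_cases hc : IsConj (u : G) (v : G)
  · have hv := D.hfus u v hc
    have hu : u ≠ 1 := by
      intro h
      rw [h, map_one, map_one] at hv
      rcases huv with h' | h'
      · exact h' h
      · rcases hv with h'' | h'' | h'' <;> exact h' h''
    obtain ⟨n1, n2, n3⟩ := D.sigma_ne u hu
    have hR : Rfun D.σ u v = 1 := by
      unfold Rfun
      rcases hv with h | h | h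
      · rw [h, if_pos rfl, if_neg n1.symm, if_neg n3.symm]; ring
      · rw [h, if_neg n1, if_pos rfl, if_neg n2.symm]; ring
      · rw [h, if_neg n3, if_neg n2, if_pos rfl]; ring
    rw [hR, mul_one]
    obtain ⟨c, hc⟩ := isConj_iff.mp hc
    have h1 : ∀ χ : PB M G, (χ.1 : G → ℂ) u * conj ((χ.1 : G → ℂ) v)
        = (χ.1 : G → ℂ) u * conj ((χ.1 : G → ℂ) u) := by
      intro χ
      rw [← hc, Cfsg.Agent.Lib.Helper82.IsCharacter.conj_apply χ.isCharacter]
    rw [Finset.sum_congr rfl (fun χ _ => h1 χ), D.sum_norm M hM u hu, Nat.card_eq_fintype_card]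
  · rw [D.sum_nonconj M hM u v hc]
    have n1 : v ≠ u := by
      intro h
      apply hc
      rw [h]
    have n2 : v ≠ D.σ u := by
      intro h
      apply hc
      rw [h]
      exact D.isConj_sigma u
    have n3 : v ≠ D.σ (D.σ u) := by
      intro h
      apply hc
      rw [h]
      exact (D.isConj_sigma u).trans (D.isConj_sigma (D.σ u))
    unfold Rfun
    rw [if_neg n1, if_neg n2, if_neg n3]
    ring

/-- **there is a nontrivial linear character in the principal block which is trivial on `P`** -/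
theorem HData.exists_linear :
    ∃ χ : IrrCharacter G, (χ : G → ℂ) ≠ (fun _ => 1) ∧ (χ : G → ℂ) 1 = 1 ∧
      ∀ u : D.P, (χ : G → ℂ) u = 1 := by
  obtain ⟨M, hM⟩ := Cfsg.Agent.Lib.Helper82.exists_isPModular 2 Nat.prime_two
  haveI : Fintype D.P := Fintype.ofFinite _
  haveI : Fintype (PB M G) := Fintype.ofFinite _
  haveI : Finite (D.P →* ℂˣ) := finite_dual D.hcomm
  haveI : Fintype (D.P →* ℂˣ) := Fintype.ofFinite _
  have hM' : M.IsPrime := hM.2.1.isPrime
  have hone : oneIrr G ∈ principalBlock M G :=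
    Cfsg.Agent.Lib.Helper82.mem_blockOf_self hM' (oneIrr G)
  let C : CharData D.P (PB M G) :=
    { σ := D.σ
      F := fun χ u => (χ.1 : G → ℂ) u
      S := fun χ => (charDegree (χ.1 : G → ℂ) : ℤ)
      o := ⟨oneIrr G, hone⟩
      w := D.w
      hcomm := D.hcomm
      hσ3 := D.hσ3
      hfree := D.hfree
      hS := fun χ => by
        exact_mod_cast Cfsg.Agent.Lib.Helper82.IsIrrCharacter.charDegree_pos χ.1.2
      hF1 := fun χ => by
        have := Cfsg.Agent.Lib.Helper82.IsCharacter.charDegree_cast χ.isCharacter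
        simp only [OneMemClass.coe_one, Int.cast_natCast]
        exact this.symm
      hFσ := fun χ u => by
        obtain ⟨g, hg⟩ := D.hconj u
        show (χ.1 : G → ℂ) ((D.σ u : D.P) : G) = (χ.1 : G → ℂ) (u : G)
        rw [hg, Cfsg.Agent.Lib.Helper82.IsCharacter.conj_apply χ.isCharacter]
      hFo := fun u => rfl
      hint := fun χ φ => D.mult_int _ χ.isCharacter φ
      hK := fun u v huv => by convert D.colOrth M hM u v huv
      hw := D.hw
      hE2 := by
        have := D.E2 M hM
        simpa only [Subgroup.coe_pow, OneMemClass.coe_one] using this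
      h16 := by
        rw [← Nat.card_eq_fintype_card]
        exact D.h16 }
  obtain ⟨χ, hχo, hS, hF⟩ := C.main
  refine ⟨χ.1, ?_, ?_, hF⟩
  · intro h
    apply hχo
    apply Subtype.ext
    apply Subtype.ext
    exact h
  · have h1 := Cfsg.Agent.Lib.Helper82.IsCharacter.charDegree_cast χ.isCharacter
    have h2 : (charDegree (χ.1 : G → ℂ) : ℤ) = 1 := hS
    rw [← h1]
    exact_mod_cast h2

end Cfsg.Agent.Lib.Helper30.Homo
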