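import Mathlib
import Cfsg.Agent.S0945
import Cfsg.Agent.Lib.Helper30.HomoAssemble
import Cfsg.Agent.Lib.Helper20.LinExt
import Cfsg.Agent.Lib.Helper40.Cores

/-!
# Brauer's theorem on homocyclic Sylow 2-subgroups: the main theorem (helper30)
-/

set_option autoImplicit false

namespace Cfsg.Agent.Lib.Helper30.Homo

open Cfsg

universe u

/-- the hypothesis `O(G) = 1` passes to normal subgroups -/
theorem odd_core_trivial_of_normal {G : Type u} [Group G] [Finite G]
    (hO : ∀ N : Subgroup G, N.Normal → Odd (Nat.card N) → N = ⊥) (H : Subgroup G) [H.Normal] :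
    ∀ N : Subgroup H, N.Normal → Odd (Nat.card N) → N = ⊥ := by
  intro N hN hodd
  haveI := hN
  have hcop : (Nat.card N).Coprime 2 := Nat.coprime_two_right.mpr hodd
  have hle : N ≤ pPrimeCore 2 H := Cfsg.Agent.Lib.Helper42.le_pPrimeCore N hcop
  haveI : (pPrimeCore 2 H).Characteristic :=
    Cfsg.Agent.Lib.Helper40.pPrimeCore_characteristic 2 H
  have hnorm : ((pPrimeCore 2 H).map H.subtype).Normal :=
    ConjAct.normal_of_characteristic_of_normal
  have hodd2 : Odd (Nat.card ((pPrimeCore 2 H).map H.subtype)) := by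
    rw [Subgroup.card_map_of_injective H.subtype_injective]
    exact Nat.coprime_two_right.mp (Cfsg.Agent.Lib.Helper42.pPrimeCore_card_coprime 2 H)
  have h1 := hO _ hnorm hodd2
  have h2 : pPrimeCore 2 H = ⊥ :=
    (Subgroup.map_eq_bot_iff_of_injective _ H.subtype_injective).mp h1
  rw [h2] at hle
  exact le_bot_iff.mp hle

/-- **Brauer**: a homocyclic Sylow 2-subgroup of exponent at least four is normal if `O(G) = 1` -/
theorem brauer_normal : ∀ (n : ℕ) (G : Type u) [Group G] [Finite G], Nat.card G = n →
    ∀ (P : Sylow 2 G) (m : ℕ), 2 ≤ m →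
      ((P : Subgroup G) ≃* Multiplicative (ZMod (2 ^ m) × ZMod (2 ^ m))) →
      (∀ N : Subgroup G, N.Normal → Odd (Nat.card N) → N = ⊥) → (P : Subgroup G).Normal := by
  intro n
  induction n using Nat.strong_induction_on with
  | _ n ih =>
    intro G _ _ hn P m hm e hO
    haveI : Fact (Nat.Prime 2) := ⟨Nat.prime_two⟩
    obtain ⟨h13, hfpf⟩ := Cfsg.Agent.S0945.result P m (by omega) e
    rcases h13 with h1 | h3
    · have hle := Subgroup.relIndex_eq_one.mp h1
      have htop := eq_top_of_normalizer_le_centralizer P hO hle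
      rw [htop]
      infer_instance
    · obtain ⟨D, hD⟩ := exists_hData P m hm e h3 (hfpf (by rw [h3]; norm_num))
      obtain ⟨χ, hne, hχ1, hχP⟩ := D.exists_linear
      obtain ⟨φ, hφ⟩ := Cfsg.Agent.Lib.Helper20.exists_hom_of_linear
        (Cfsg.Agent.Lib.Helper82.IsIrrCharacter.isCharacter χ.2) hχ1
      have hPK : (P : Subgroup G) ≤ φ.ker := by
        intro u hu
        rw [MonoidHom.mem_ker]
        have h1 : (χ : G → ℂ) u = 1 := hχP ⟨u, by rw [hD]; exact hu⟩
        rw [← hφ, Cfsg.Agent.Lib.Helper20.homFun_apply] at h1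
        exact Units.ext h1
      have hKne : φ.ker ≠ ⊤ := by
        intro h
        apply hne
        rw [← hφ]
        funext g
        rw [Cfsg.Agent.Lib.Helper20.homFun_apply]
        have : g ∈ φ.ker := by rw [h]; exact Subgroup.mem_top g
        rw [MonoidHom.mem_ker.mp this]
        rfl
      have hcard : Nat.card φ.ker < n := by
        rw [← hn]
        apply lt_of_le_of_ne (Subgroup.card_le_card_group _)
        intro h
        exact hKne (Subgroup.eq_top_of_card_eq _ h)
      have e' : ((P.subtype hPK : Sylow 2 φ.ker) : Subgroup φ.ker)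
          ≃* Multiplicative (ZMod (2 ^ m) × ZMod (2 ^ m)) :=
        (Subgroup.subgroupOfEquivOfLe hPK).trans e
      have hPn : ((P.subtype hPK : Sylow 2 φ.ker) : Subgroup φ.ker).Normal :=
        ih (Nat.card φ.ker) hcard φ.ker rfl (P.subtype hPK) m hm e'
          (odd_core_trivial_of_normal hO φ.ker)
      haveI : ((P.subtype hPK : Sylow 2 φ.ker) : Subgroup φ.ker).Characteristic :=
        Sylow.characteristic_of_normal _ hPn
      have hnorm : (((P.subtype hPK : Sylow 2 φ.ker) : Subgroup φ.ker).map φ.ker.subtype).Normal :=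
        ConjAct.normal_of_characteristic_of_normal
      have hmap : ((P.subtype hPK : Sylow 2 φ.ker) : Subgroup φ.ker).map φ.ker.subtype
          = (P : Subgroup G) := by
        rw [Sylow.coe_subtype, Subgroup.subgroupOf_map_subtype, inf_eq_left.mpr hPK]
      rw [hmap] at hnorm
      exact hnorm

/-- **Brauer's theorem on homocyclic Sylow 2-subgroups** -/
theorem brauer_homocyclic {G : Type u} [Group G] [Finite G] (P : Sylow 2 G) (m : ℕ) (hm : 2 ≤ m)
    (e : (P : Subgroup G) ≃* Multiplicative (ZMod (2 ^ m) × ZMod (2 ^ m)))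
    (hO : ∀ N : Subgroup G, N.Normal → Odd (Nat.card N) → N = ⊥) :
    (P : Subgroup G).Normal ∧ Subgroup.centralizer (P : Set G) = (P : Subgroup G) ∧
      ((P : Subgroup G).index = 1 ∨ (P : Subgroup G).index = 3) := by
  haveI : Fact (Nat.Prime 2) := ⟨Nat.prime_two⟩
  have hN : (P : Subgroup G).Normal := brauer_normal _ G rfl P m hm e hO
  haveI := hN
  have hcomm : ∀ a b : (P : Subgroup G), a * b = b * a := by
    intro a b
    apply e.injective
    rw [map_mul, map_mul, mul_comm]
  have hPC : (P : Subgroup G) ≤ Subgroup.centralizer ((P : Subgroup G) : Set G) := by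
    intro a ha
    rw [Subgroup.mem_centralizer_iff]
    intro b hb
    exact congrArg Subtype.val (hcomm ⟨b, hb⟩ ⟨a, ha⟩)
  haveI hCn : (Subgroup.centralizer ((P : Subgroup G) : Set G)).Normal :=
    Subgroup.normal_centralizer
  have hCeq : Subgroup.centralizer ((P : Subgroup G) : Set G) = (P : Subgroup G) := by
    apply le_antisymm _ hPC
    have hOC := odd_core_trivial_of_normal hO (Subgroup.centralizer ((P : Subgroup G) : Set G))
    have hle : Subgroup.normalizer
        (((P.subtype hPC : Sylow 2 (Subgroup.centralizer ((P : Subgroup G) : Set G))) :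
          Subgroup (Subgroup.centralizer ((P : Subgroup G) : Set G))) :
          Set (Subgroup.centralizer ((P : Subgroup G) : Set G)))
        ≤ Subgroup.centralizer
        (((P.subtype hPC : Sylow 2 (Subgroup.centralizer ((P : Subgroup G) : Set G))) :
          Subgroup (Subgroup.centralizer ((P : Subgroup G) : Set G))) :
          Set (Subgroup.centralizer ((P : Subgroup G) : Set G))) := by
      intro x _
      rw [Subgroup.mem_centralizer_iff]
      intro y hy
      have hy' : (y : G) ∈ (P : Subgroup G) := by
        rw [Sylow.coe_subtype] at hy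
        exact Subgroup.mem_subgroupOf.mp hy
      apply Subtype.ext
      have := Subgroup.mem_centralizer_iff.mp x.2 (y : G) hy'
      exact this
    have htop := eq_top_of_normalizer_le_centralizer (P.subtype hPC) hOC hle
    rw [Sylow.coe_subtype, Subgroup.subgroupOf_eq_top] at htop
    exact htop
  refine ⟨hN, hCeq, ?_⟩
  have h13 : (Subgroup.centralizer ((P : Subgroup G) : Set G)).relIndex
        (Subgroup.normalizer ((P : Subgroup G) : Set G)) = 1 ∨
      (Subgroup.centralizer ((P : Subgroup G) : Set G)).relIndex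
        (Subgroup.normalizer ((P : Subgroup G) : Set G)) = 3 :=
    (Cfsg.Agent.S0945.result P m (by omega) e).1
  rw [Subgroup.normalizer_eq_top, Subgroup.relIndex_top_right, hCeq] at h13
  exact h13

end Cfsg.Agent.Lib.Helper30.Homo
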