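import Mathlib
import Cfsg.Agent.Lib.Helper94.LCDefs
import Cfsg.Agent.S1587
import Cfsg.Agent.S1588

/-!
# S0406 pack K-LC, keystone 640601 (K-LC-B1): `exists_frame`

A coordinate frame of 24 pairwise orthogonal vectors of norm 8, pairwise congruent modulo 2, from
S1587 + S1588.
-/

set_option autoImplicit false
open Matrix

namespace Cfsg.Agent.Lib.Helper30.LC

open Cfsg.Agent.Lib.Helper94.LC

/-- positivity in the lexicographic order -/
def lexPos (y : Fin 24 → ℤ) : Prop := 0 < toLex y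

theorem lexPos_or_neg {y : Fin 24 → ℤ} (hy : y ≠ 0) : lexPos y ∨ lexPos (-y) := by
  unfold lexPos
  rcases lt_trichotomy (toLex y) 0 with h | h | h
  · right
    have h1 : toLex (-y) = -toLex y := rfl
    rw [h1]; exact neg_pos.mpr h
  · exact absurd (by simpa using h) hy
  · left; exact h

theorem not_lexPos_and_neg {y : Fin 24 → ℤ} (h1 : lexPos y) (h2 : lexPos (-y)) : False := by
  unfold lexPos at h1 h2
  have h3 : toLex (-y) = -toLex y := rfl
  rw [h3] at h2
  exact lt_asymm h1 (neg_pos.mp h2)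

/-- **KEYSTONE 640601  K-LC-B1**. -/
theorem exists_frame (B : Matrix (Fin 24) (Fin 24) ℤ) (h : Hyp B) :
    ∃ e : Fin 24 → (Fin 24 → ℤ), IsFrame B e := by
  classical
  -- a vector of norm 8
  have hne : {x : Fin 24 → ℤ | x ⬝ᵥ (B *ᵥ x) = 8}.Nonempty := by
    rw [← Set.ncard_pos (Set.finite_of_ncard_ne_zero (by rw [h.h8]; norm_num)), h.h8]
    norm_num
  obtain ⟨x₀, hx₀⟩ := hne
  have hx₀8 : x₀ ⬝ᵥ (B *ᵥ x₀) = 8 := hx₀
  -- its class
  set F : Set (Fin 24 → ℤ) := {y | y ⬝ᵥ (B *ᵥ y) = 8 ∧ ∀ i, (2 : ℤ) ∣ (x₀ - y) i} with hF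
  have hF48 : F.ncard = 48 :=
    Cfsg.Agent.S1588.result B h.hsymm h.hpos h.heven h.h2 h.h4 h.h6 h.h8 x₀ hx₀8
  have hFfin : F.Finite := Set.finite_of_ncard_ne_zero (by rw [hF48]; norm_num)
  have hFneg : ∀ y ∈ F, -y ∈ F := by
    intro y hy
    refine ⟨?_, ?_⟩
    · have : (-y) ⬝ᵥ (B *ᵥ (-y)) = y ⬝ᵥ (B *ᵥ y) := by
        rw [Matrix.mulVec_neg, neg_dotProduct, dotProduct_neg, neg_neg]
      rw [this]; exact hy.1
    · intro i
      have h1 := hy.2 i
      have h2 : (x₀ - -y) i = (x₀ - y) i + 2 * y i := by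
        simp only [Pi.sub_apply, Pi.neg_apply]; ring
      rw [h2]
      exact dvd_add h1 (dvd_mul_right 2 (y i))
  have hF0 : ∀ y ∈ F, y ≠ 0 := by
    intro y hy h0
    have := hy.1
    rw [h0] at this
    simp at this
  -- the positive half
  set T : Finset (Fin 24 → ℤ) := hFfin.toFinset with hT
  have hTmem : ∀ y, y ∈ T ↔ y ∈ F := fun y => hFfin.mem_toFinset
  have hTcard : T.card = 48 := by
    rw [← hF48, Set.ncard_eq_toFinset_card F hFfin]
  set P : Finset (Fin 24 → ℤ) := T.filter lexPos with hP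
  set N : Finset (Fin 24 → ℤ) := P.image (fun y => -y) with hN
  have hNcard : N.card = P.card :=
    Finset.card_image_of_injective _ neg_injective
  have hdisj : Disjoint P N := by
    rw [Finset.disjoint_left]
    intro y hyP hyN
    obtain ⟨z, hzP, hzy⟩ := Finset.mem_image.mp hyN
    have h1 : lexPos y := (Finset.mem_filter.mp hyP).2
    have h2 : lexPos z := (Finset.mem_filter.mp hzP).2
    have h3 : z = -y := by rw [← hzy, neg_neg]
    rw [h3] at h2
    exact not_lexPos_and_neg h1 h2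
  have hunion : T = P ∪ N := by
    ext y
    constructor
    · intro hy
      have hyF : y ∈ F := (hTmem y).mp hy
      rcases lexPos_or_neg (hF0 y hyF) with hp | hp
      · exact Finset.mem_union_left _ (Finset.mem_filter.mpr ⟨hy, hp⟩)
      · refine Finset.mem_union_right _ (Finset.mem_image.mpr ⟨-y, ?_, neg_neg y⟩)
        exact Finset.mem_filter.mpr ⟨(hTmem _).mpr (hFneg y hyF), hp⟩
    · intro hy
      rcases Finset.mem_union.mp hy with hy | hy
      · exact (Finset.mem_filter.mp hy).1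
      · obtain ⟨z, hzP, hzy⟩ := Finset.mem_image.mp hy
        rw [← hzy]
        exact (hTmem _).mpr (hFneg z ((hTmem z).mp (Finset.mem_filter.mp hzP).1))
  have hPcard : P.card = 24 := by
    have h1 : T.card = P.card + N.card := by
      rw [hunion, Finset.card_union_of_disjoint hdisj]
    rw [hTcard, hNcard] at h1
    omega
  -- enumerate
  let φ : Fin 24 ≃ P := (P.equivFinOfCardEq hPcard).symm
  refine ⟨fun i => ((φ i : P) : Fin 24 → ℤ), ?_, ?_, ?_⟩
  · intro i
    have h1 : ((φ i : P) : Fin 24 → ℤ) ∈ F :=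
      (hTmem _).mp (Finset.mem_filter.mp (φ i).2).1
    exact h1.1
  · intro i j hij
    have hi : ((φ i : P) : Fin 24 → ℤ) ∈ F :=
      (hTmem _).mp (Finset.mem_filter.mp (φ i).2).1
    have hj : ((φ j : P) : Fin 24 → ℤ) ∈ F :=
      (hTmem _).mp (Finset.mem_filter.mp (φ j).2).1
    have hpi : lexPos ((φ i : P) : Fin 24 → ℤ) := (Finset.mem_filter.mp (φ i).2).2
    have hpj : lexPos ((φ j : P) : Fin 24 → ℤ) := (Finset.mem_filter.mp (φ j).2).2
    have hc : ∀ k, (2 : ℤ) ∣ (((φ i : P) : Fin 24 → ℤ) - ((φ j : P) : Fin 24 → ℤ)) k := by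
      intro k
      have h1 := hi.2 k
      have h2 := hj.2 k
      have h3 : (((φ i : P) : Fin 24 → ℤ) - ((φ j : P) : Fin 24 → ℤ)) k =
          (x₀ - ((φ j : P) : Fin 24 → ℤ)) k - (x₀ - ((φ i : P) : Fin 24 → ℤ)) k := by
        simp only [Pi.sub_apply]; ring
      rw [h3]
      exact dvd_sub h2 h1
    rcases Cfsg.Agent.S1587.result B h.hsymm h.hpos h.heven h.h2 _ _ hi.1 hj.1 hc with h1 | h1 | h1
    · exfalso
      apply hij
      have : φ j = φ i := Subtype.ext h1
      exact (φ.injective this).symm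
    · exfalso
      rw [h1] at hpj
      exact not_lexPos_and_neg hpi hpj
    · exact h1
  · intro i j k
    have hi : ((φ i : P) : Fin 24 → ℤ) ∈ F :=
      (hTmem _).mp (Finset.mem_filter.mp (φ i).2).1
    have hj : ((φ j : P) : Fin 24 → ℤ) ∈ F :=
      (hTmem _).mp (Finset.mem_filter.mp (φ j).2).1
    have h1 := hi.2 k
    have h2 := hj.2 k
    have h3 : (((φ i : P) : Fin 24 → ℤ) - ((φ j : P) : Fin 24 → ℤ)) k =
        (x₀ - ((φ j : P) : Fin 24 → ℤ)) k - (x₀ - ((φ i : P) : Fin 24 → ℤ)) k := by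
      simp only [Pi.sub_apply]; ring
    rw [h3]
    exact dvd_sub h2 h1

end Cfsg.Agent.Lib.Helper30.LC
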