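import Mathlib

/-!
# Keystone K-S2140-K2 (helper30): a 2-transitive action of larger degree forces transitivity

If `G = P ∪ P g P` (i.e. `G` is 2-transitive on `G ⧸ P`) and `|G : H| < |G : P|` then `G = P H`.
Proof: incidence matrix of the `G`-translates of an `H`-orbit on `G ⧸ P` (Fisher's inequality).
-/

set_option autoImplicit false

namespace Cfsg.Agent.Lib.Helper30.MinIdx

/-- 2-transitivity on cosets from the double coset hypothesis. -/
theorem two_trans {G : Type*} [Group G] (P : Subgroup G)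
    (h2 : ∀ g x : G, g ∉ P → x ∉ P → ∃ a ∈ P, ∃ b ∈ P, x = a * g * b)
    (y0 y z0 z : G ⧸ P) (hy : y0 ≠ y) (hz : z0 ≠ z) : ∃ k : G, k • y0 = z0 ∧ k • y = z := by
  obtain ⟨u, rfl⟩ := QuotientGroup.mk_surjective y0
  obtain ⟨w, rfl⟩ := QuotientGroup.mk_surjective y
  obtain ⟨u', rfl⟩ := QuotientGroup.mk_surjective z0
  obtain ⟨w', rfl⟩ := QuotientGroup.mk_surjective z
  have h1 : u⁻¹ * w ∉ P := fun h => hy (QuotientGroup.eq.mpr h)
  have h1' : u'⁻¹ * w' ∉ P := fun h => hz (QuotientGroup.eq.mpr h)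
  obtain ⟨a, ha, b, hb, hab⟩ := h2 (u⁻¹ * w) (u'⁻¹ * w') h1 h1'
  refine ⟨u' * a * u⁻¹, ?_, ?_⟩
  · rw [MulAction.Quotient.smul_mk, smul_eq_mul]
    apply QuotientGroup.eq.mpr
    have : (u' * a * u⁻¹ * u)⁻¹ * u' = a⁻¹ := by group
    rw [this]; exact P.inv_mem ha
  · rw [MulAction.Quotient.smul_mk, smul_eq_mul]
    apply QuotientGroup.eq.mpr
    have : (u' * a * u⁻¹ * w)⁻¹ * w' = (a * (u⁻¹ * w))⁻¹ * (u'⁻¹ * w') := by group
    rw [this, hab]
    have : (a * (u⁻¹ * w))⁻¹ * (a * (u⁻¹ * w) * b) = b := by group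
    rw [this]; exact hb

/-- K2 (a 2-transitive action of larger degree forces transitivity). -/
theorem K2_transitive {G : Type*} [Group G] [Finite G] (P H : Subgroup G)
    (h2 : ∀ g x : G, g ∉ P → x ∉ P → ∃ a ∈ P, ∃ b ∈ P, x = a * g * b)
    (hlt : H.index < P.index) : ∀ g : G, ∃ a ∈ P, ∃ h ∈ H, g = a * h := by
  classical
  haveI : Fintype G := Fintype.ofFinite G
  haveI : Fintype (G ⧸ P) := Fintype.ofFinite _
  haveI : Fintype (G ⧸ H) := Fintype.ofFinite _
  set O : Set (G ⧸ P) := {y | ∃ h ∈ H, y = (QuotientGroup.mk h : G ⧸ P)} with hO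
  have hOinv : ∀ h ∈ H, ∀ y, h • y ∈ O ↔ y ∈ O := by
    intro h hh y
    obtain ⟨w, rfl⟩ := QuotientGroup.mk_surjective y
    rw [MulAction.Quotient.smul_mk, smul_eq_mul]
    constructor
    · rintro ⟨h', hh', he⟩
      refine ⟨h⁻¹ * h', H.mul_mem (H.inv_mem hh) hh', ?_⟩
      have e := QuotientGroup.eq.mp he
      apply QuotientGroup.eq.mpr
      have : w⁻¹ * (h⁻¹ * h') = (h * w)⁻¹ * h' := by group
      rw [this]; exact e
    · rintro ⟨h', hh', he⟩
      refine ⟨h * h', H.mul_mem hh hh', ?_⟩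
      have e := QuotientGroup.eq.mp he
      apply QuotientGroup.eq.mpr
      have : (h * w)⁻¹ * (h * h') = w⁻¹ * h' := by group
      rw [this]; exact e
  suffices hOuniv : ∀ y, y ∈ O by
    intro g
    obtain ⟨h, hh, he⟩ := hOuniv (QuotientGroup.mk g⁻¹)
    have h3 : (g⁻¹)⁻¹ * h ∈ P := QuotientGroup.eq.mp he
    rw [inv_inv] at h3
    exact ⟨g * h, h3, h⁻¹, H.inv_mem hh, by group⟩
  by_contra hne
  push Not at hne
  obtain ⟨z, hz⟩ := hne
  have hbase : (QuotientGroup.mk (1 : G) : G ⧸ P) ∈ O := ⟨1, H.one_mem, rfl⟩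
  have hzne : (QuotientGroup.mk (1 : G) : G ⧸ P) ≠ z := fun h => hz (h ▸ hbase)
  -- incidence
  let J : G → G ⧸ P → Prop := fun g y => g⁻¹ • y ∈ O
  have hJH : ∀ g, ∀ h ∈ H, ∀ y, J (g * h) y ↔ J g y := by
    intro g h hh y
    show (g * h)⁻¹ • y ∈ O ↔ g⁻¹ • y ∈ O
    rw [mul_inv_rev, mul_smul]
    exact hOinv h⁻¹ (H.inv_mem hh) _
  let M : G ⧸ P → G ⧸ P → ℕ :=
    fun y0 y => (Finset.univ.filter (fun g : G => J g y0 ∧ J g y)).card
  have hMtrans : ∀ (k : G) y0 y, M (k • y0) (k • y) = M y0 y := by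
    intro k y0 y
    symm
    refine Finset.card_bij (fun g _ => k * g) ?_ ?_ ?_
    · intro g hg
      simp only [Finset.mem_filter, Finset.mem_univ, true_and] at hg ⊢
      have e : ∀ y' : G ⧸ P, (k * g)⁻¹ • k • y' = g⁻¹ • y' := by
        intro y'; rw [mul_inv_rev, mul_smul, inv_smul_smul]
      show (k * g)⁻¹ • k • y0 ∈ O ∧ (k * g)⁻¹ • k • y ∈ O
      rw [e, e]; exact hg
    · intro a _ b _ hab; exact mul_left_cancel hab
    · intro g hg
      simp only [Finset.mem_filter, Finset.mem_univ, true_and] at hg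
      refine ⟨k⁻¹ * g, ?_, by group⟩
      simp only [Finset.mem_filter, Finset.mem_univ, true_and]
      have e : ∀ y' : G ⧸ P, (k⁻¹ * g)⁻¹ • y' = g⁻¹ • k • y' := by
        intro y'; rw [mul_inv_rev, inv_inv, mul_smul]
      show (k⁻¹ * g)⁻¹ • y0 ∈ O ∧ (k⁻¹ * g)⁻¹ • y ∈ O
      rw [e, e]; exact hg
  have hc : ∃ c : ℕ, ∀ y0 y, y0 ≠ y → M y0 y = c := by
    refine ⟨M (QuotientGroup.mk (1 : G)) z, fun y0 y hy => ?_⟩
    obtain ⟨k, hk0, hk1⟩ := two_trans P h2 _ z y0 y hzne hy
    rw [← hk0, ← hk1, hMtrans]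
  obtain ⟨c, hc⟩ := hc
  have hstrict : ∀ y0 y, y0 ≠ y → M y0 y < M y0 y0 := by
    intro y0 y hy
    obtain ⟨k, hk0, hk1⟩ := two_trans P h2 y0 y _ z hy hzne
    apply Finset.card_lt_card
    rw [Finset.ssubset_iff_of_subset]
    · refine ⟨k⁻¹, ?_, ?_⟩
      · simp only [Finset.mem_filter, Finset.mem_univ, true_and, and_self]
        show (k⁻¹)⁻¹ • y0 ∈ O
        rw [inv_inv, hk0]; exact hbase
      · simp only [Finset.mem_filter, Finset.mem_univ, true_and, not_and]
        intro _
        show ¬ ((k⁻¹)⁻¹ • y ∈ O)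
        rw [inv_inv, hk1]; exact hz
    · intro g hg
      simp only [Finset.mem_filter, Finset.mem_univ, true_and] at hg ⊢
      exact ⟨hg.1, hg.1⟩
  have hbc : ∀ y0, c < M y0 y0 := by
    intro y0
    by_cases h0 : y0 = z
    · have hne : y0 ≠ (QuotientGroup.mk (1 : G) : G ⧸ P) := by rw [h0]; exact hzne.symm
      have := hstrict y0 _ hne
      rwa [hc y0 _ hne] at this
    · have := hstrict y0 z h0
      rwa [hc y0 z h0] at this
  let Amat : Matrix (G ⧸ H) (G ⧸ P) ℚ := fun x y => if J x.out y then 1 else 0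
  have hinj : Function.Injective Amat.mulVecLin := by
    rw [← LinearMap.ker_eq_bot, LinearMap.ker_eq_bot']
    intro φ hφ
    have hT : ∀ g : G, ∑ y, (if J g y then φ y else 0) = 0 := by
      intro g
      have hx := congrFun hφ (QuotientGroup.mk g : G ⧸ H)
      simp only [Matrix.mulVecLin_apply, Matrix.mulVec, dotProduct, Pi.zero_apply] at hx
      obtain ⟨h, hh⟩ : ∃ h : H, (QuotientGroup.mk g : G ⧸ H).out = g * h :=
        QuotientGroup.mk_out_eq_mul H g
      refine Eq.trans ?_ hx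
      apply Finset.sum_congr rfl
      intro y _
      have hA : Amat (QuotientGroup.mk g : G ⧸ H) y = if J (g * h) y then 1 else 0 := by
        show (if J (QuotientGroup.mk g : G ⧸ H).out y then (1 : ℚ) else 0) = _
        rw [hh]
      rw [hA]
      by_cases hJ : J g y
      · have hJ' : J (g * h) y := (hJH g h h.2 y).mpr hJ
        simp [hJ, hJ']
      · have hJ' : ¬ J (g * h) y := fun h' => hJ ((hJH g h h.2 y).mp h')
        simp [hJ, hJ']
    have hsum : ∀ y0, ∑ y, φ y * (M y0 y : ℚ) = 0 := by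
      intro y0
      have h1 : ∑ g : G, (if J g y0 then (∑ y, (if J g y then φ y else 0)) else 0) = 0 := by
        apply Finset.sum_eq_zero; intro g _; rw [hT g]; simp
      rw [← h1]
      symm
      calc ∑ g : G, (if J g y0 then (∑ y, (if J g y then φ y else 0)) else 0)
          = ∑ g : G, ∑ y, (if J g y0 ∧ J g y then φ y else 0) := by
            apply Finset.sum_congr rfl; intro g _
            by_cases h : J g y0 <;> simp [h]
        _ = ∑ y, ∑ g : G, (if J g y0 ∧ J g y then φ y else 0) := Finset.sum_comm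
        _ = ∑ y, φ y * (M y0 y : ℚ) := by
            apply Finset.sum_congr rfl; intro y _
            rw [← Finset.sum_filter, Finset.sum_const, nsmul_eq_mul, mul_comm]
    set S : ℚ := ∑ y, φ y with hS
    have hkey : ∀ y0, φ y0 * ((M y0 y0 : ℚ) - c) = - (c : ℚ) * S := by
      intro y0
      have h1 := hsum y0
      have h3 : ∀ y, φ y * (M y0 y : ℚ)
          = φ y * (c : ℚ) + (if y = y0 then φ y0 * ((M y0 y0 : ℚ) - c) else 0) := by
        intro y
        by_cases hy : y = y0
        · subst hy; simp; ring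
        · have : M y0 y = c := hc y0 y (Ne.symm hy)
          simp [hy, this]
      rw [Finset.sum_congr rfl (fun y _ => h3 y), Finset.sum_add_distrib,
        Finset.sum_ite_eq' Finset.univ y0, ← Finset.sum_mul] at h1
      simp only [Finset.mem_univ, if_true] at h1
      linarith
    have hpos : ∀ y0, (0 : ℚ) < (M y0 y0 : ℚ) - c := by
      intro y0
      have : (c : ℚ) < (M y0 y0 : ℚ) := by exact_mod_cast hbc y0
      linarith
    have hc0 : (0 : ℚ) ≤ (c : ℚ) := by positivity
    have hS0 : S = 0 := by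
      rcases lt_trichotomy S 0 with hneg | h0 | hpos'
      · exfalso
        have : ∀ y0 ∈ (Finset.univ : Finset (G ⧸ P)), 0 ≤ φ y0 := by
          intro y0 _
          by_contra hlt0
          push Not at hlt0
          have h4 := hkey y0
          have h5 : φ y0 * ((M y0 y0 : ℚ) - c) < 0 := mul_neg_of_neg_of_pos hlt0 (hpos y0)
          have h6 : 0 ≤ - (c : ℚ) * S := by nlinarith
          linarith
        have := Finset.sum_nonneg this
        linarith
      · exact h0
      · exfalso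
        have : ∀ y0 ∈ (Finset.univ : Finset (G ⧸ P)), φ y0 ≤ 0 := by
          intro y0 _
          by_contra hlt0
          push Not at hlt0
          have h4 := hkey y0
          have h5 : 0 < φ y0 * ((M y0 y0 : ℚ) - c) := mul_pos hlt0 (hpos y0)
          have h6 : - (c : ℚ) * S ≤ 0 := by nlinarith
          linarith
        have := Finset.sum_nonpos this
        linarith
    funext y0
    have h4 := hkey y0
    rw [hS0, mul_zero] at h4
    rcases mul_eq_zero.mp h4 with h5 | h5
    · exact h5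
    · exact absurd h5 (ne_of_gt (hpos y0))
  have hle := LinearMap.finrank_le_finrank_of_injective hinj
  rw [Module.finrank_fintype_fun_eq_card, Module.finrank_fintype_fun_eq_card] at hle
  rw [Subgroup.index_eq_card, Subgroup.index_eq_card, Nat.card_eq_fintype_card,
    Nat.card_eq_fintype_card] at hlt
  omega

end Cfsg.Agent.Lib.Helper30.MinIdx
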