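import Mathlib
import Cfsg.Agent.Lib.Helper05.N3Defs

/-! Pack K-N3 (S4004), leaf C3 `exponent_sylow` (keystone 400410).
NOTE: the spec's statement is false without primality of `p`, `q` (`C_4`, `p = 2`, `q = 4`);
two hypotheses `hp`, `hq` are appended at the end of the signature. -/

set_option autoImplicit false

namespace Cfsg.Agent.Lib.Helper30.N3

open Cfsg.Agent.Lib.Helper05.N3 Cfsg.Agent.Lib.Helper22.Nse

/-- LEAF C3 (EASY), with `p`, `q` prime (appended hypotheses). -/
theorem exponent_sylow {G : Type*} [Group G] [Finite G] (p q : ℕ) (hpq : p ≠ q)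
    (hord : ∀ g : G, orderOf g = 1 ∨ orderOf g = p ∨ orderOf g = q)
    (r : ℕ) [Fact r.Prime] (P : Sylow r G) (hr : r ∣ Nat.card G) (hrpq : r = p ∨ r = q)
    (hp : p.Prime) (hq : q.Prime) :
    Monoid.exponent ↥(P : Subgroup G) = r := by
  have hrp : r.Prime := Fact.out
  have key : ∀ g : G, g ∈ (P : Subgroup G) → g ^ r = 1 := by
    intro g hg
    obtain ⟨k, hk⟩ := P.2 ⟨g, hg⟩
    have hdvd : orderOf g ∣ r ^ k := by
      apply orderOf_dvd_of_pow_eq_one
      have := congrArg Subtype.val hk
      simpa using this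
    have h1 : orderOf g = 1 ∨ orderOf g = r := by
      rcases hord g with h | h | h
      · exact Or.inl h
      · right
        rw [h] at hdvd ⊢
        exact (Nat.prime_dvd_prime_iff_eq hp hrp).1 (hp.dvd_of_dvd_pow hdvd)
      · right
        rw [h] at hdvd ⊢
        exact (Nat.prime_dvd_prime_iff_eq hq hrp).1 (hq.dvd_of_dvd_pow hdvd)
    rcases h1 with h | h
    · rw [orderOf_eq_one_iff] at h
      rw [h, one_pow]
    · rw [← h]
      exact pow_orderOf_eq_one g
  have hexp : Monoid.exponent ↥(P : Subgroup G) ∣ r := by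
    apply Monoid.exponent_dvd_of_forall_pow_eq_one
    intro g
    apply Subtype.ext
    simpa using key g.1 g.2
  rcases (Nat.dvd_prime hrp).1 hexp with h | h
  · exfalso
    have hne : (P : Subgroup G) ≠ ⊥ := Sylow.ne_bot_of_dvd_card P hr
    apply hne
    rw [Subgroup.eq_bot_iff_forall]
    intro g hg
    have h2 := Monoid.pow_exponent_eq_one (⟨g, hg⟩ : ↥(P : Subgroup G))
    rw [h, pow_one] at h2
    exact congrArg Subtype.val h2
  · exact h

end Cfsg.Agent.Lib.Helper30.N3
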