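import Mathlib
import Cfsg.Prelude.Def_GeometricClasses
import Cfsg.Agent.Lib.Helper50.GeoBridge
import Cfsg.Agent.Lib.Helper27.OEvenXX1

set_option autoImplicit false

/-! K-O10m-Y1 (585001): `D = ![W, W^⊥]` for a non-degenerate `W` of half dimension. -/

namespace Cfsg.Agent.Lib.Helper30.O10m

open Cfsg Cfsg.Geo
open scoped Matrix MatrixGroups

variable {F : Type*} [Field F] [Fintype F] {n : ℕ}

/-- K-O10m-Y1 (585001). -/
theorem pair_of_half_dim (Q : (Fin n → F) → F) (hQ : IsNondegenerateQuadraticForm Q)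
    (W : Submodule F (Fin n → F)) (hW0 : W ≠ ⊥) (hW : IsNondegenerateOn (QuadraticMap.polar Q) W)
    (hdim : 2 * Module.finrank F W = n) :
    ∃ D : Fin 2 → Submodule F (Fin n → F), D 0 = W ∧
      IsNondegenerateMDecomposition (QuadraticMap.polar Q) (Module.finrank F W) D ∧
      subspaceStabilizer W ⊓ isometryGroup F Q ≤ decompositionStabilizer D := by
  obtain ⟨W', h1, h2, h3, h4⟩ :=
    Cfsg.Agent.Lib.Helper27.OEvenX.exists_perp_of_isNondegenerateOn' Q hQ W hW
  rw [Fintype.card_fin] at h2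
  have hfW' : Module.finrank F W' = Module.finrank F W := by omega
  have hdisj : W ⊓ W' = ⊥ := by
    rw [eq_bot_iff]
    intro v hv
    rw [Submodule.mem_bot]
    by_contra hv0
    obtain ⟨⟨x, hx, hxv⟩, -⟩ := hW v hv.1 hv0
    exact hxv ((h4 v).mp hv.2 x hx)
  have hsup : W ⊔ W' = ⊤ := by
    apply Submodule.eq_top_of_finrank_eq
    have := Submodule.finrank_sup_add_finrank_inf_eq W W'
    rw [hdisj, finrank_bot] at this
    rw [Module.finrank_fintype_fun_eq_card, Fintype.card_fin]
    omega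
  refine ⟨![W, W'], rfl, ⟨⟨le_refl _, ?_, ?_, ?_, ?_⟩, ?_, ?_⟩, ?_⟩
  · exact Module.finrank_pos_iff.mpr (Submodule.nontrivial_iff_ne_bot.mpr hW0)
  · intro i
    fin_cases i
    · rfl
    · exact hfW'
  · rw [iSupIndep_pair (i := (0 : Fin 2)) (j := 1) (by decide) (by decide)]
    exact disjoint_iff.mpr hdisj
  · rw [eq_top_iff, ← hsup]
    apply sup_le
    · exact le_iSup ![W, W'] 0
    · exact le_iSup ![W, W'] 1
  · intro i
    fin_cases i
    · exact hW
    · exact h1
  · intro i j hij
    fin_cases i <;> fin_cases j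
    · exact absurd rfl hij
    · intro u hu v hv
      exact (h4 v).mp hv u hu
    · intro u hu v hv
      show QuadraticMap.polar Q u v = 0
      rw [QuadraticMap.polar_comm]
      exact (h4 u).mp hu v hv
    · exact absurd rfl hij
  · intro g hg
    have hg' : g ∈ subspaceStabilizer W' ⊓ isometryGroup F Q := h3 ▸ hg
    refine ⟨1, fun i => ?_⟩
    rw [Matrix.toLin'_apply']
    fin_cases i
    · exact (Cfsg.Agent.Lib.Helper50.mem_subspaceStabilizer_iff_map W g).mp hg.1
    · exact (Cfsg.Agent.Lib.Helper50.mem_subspaceStabilizer_iff_map W' g).mp hg'.1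

end Cfsg.Agent.Lib.Helper30.O10m
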