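import Cfsg.Agent.Lib.Helper98.Sy1

/-!
# K-OsEl-E0 (keystone 597205, architect helper8, row S5972)

Restriction of a symmetric form `B` and an isometry `y` to an invariant nondegenerate subspace
`M ≤ V1 r y` (as a subtype), with the transfer of invariant totally singular subspaces back to `V`.
-/

set_option autoImplicit false

namespace Cfsg.Agent.Lib.Helper30.OsEl

open Module Cfsg.Agent.Lib.Helper98.Elus Cfsg.Agent.Lib.Helper98.Sy

universe u
variable {F : Type u} [Field F] {V : Type u} [AddCommGroup V] [Module F V]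

theorem restrict_pow_coe (y : V →ₗ[F] V) (M : Submodule F V) (hM : ∀ v ∈ M, y v ∈ M) (k : ℕ)
    (u : ↥M) : ((((y.restrict hM) ^ k) u : ↥M) : V) = (y ^ k) (u : V) := by
  induction k generalizing u with
  | zero => simp
  | succ k ih =>
    rw [pow_succ, Module.End.mul_apply, ih, pow_succ, Module.End.mul_apply]
    rfl

theorem restrict_props [FiniteDimensional F V] {B : LinearMap.BilinForm F V}
    (hS : ∀ x y, B x y = B y x) (r : ℕ) (y : V →ₗ[F] V) (hy : y ^ r = 1) (hiso : Iso B y)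
    (M : Submodule F V) (hM : Inv y M) (hMnd : NonDeg B M) (hMV1 : M ≤ V1 r y) :
    ∃ (B' : LinearMap.BilinForm F ↥M) (y' : ↥M →ₗ[F] ↥M),
      (∀ u v : ↥M, B' u v = B (u : V) (v : V)) ∧ (∀ u : ↥M, ((y' u : ↥M) : V) = y (u : V)) ∧
      (∀ u v : ↥M, B' u v = B' v u) ∧ NonDeg B' ⊤ ∧ Iso B' y' ∧ y' ^ r = 1 ∧
      (∀ v : ↥M, gsum r y' v = 0) ∧
      ∀ Z' : Submodule F ↥M, Inv y' Z' → Ort B' Z' Z' →
        (Inv y (Z'.map M.subtype) ∧ Ort B (Z'.map M.subtype) (Z'.map M.subtype) ∧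
          Z'.map M.subtype ≤ M ∧ finrank F ↥(Z'.map M.subtype) = finrank F ↥Z') := by
  have hM' : ∀ v ∈ M, y v ∈ M := hM
  obtain ⟨B', hB'⟩ : ∃ B' : LinearMap.BilinForm F ↥M, ∀ u v : ↥M, B' u v = B (u : V) (v : V) :=
    ⟨B.compl₁₂ M.subtype M.subtype, fun u v => rfl⟩
  obtain ⟨y', hy'⟩ : ∃ y' : ↥M →ₗ[F] ↥M, y' = y.restrict hM' := ⟨_, rfl⟩
  have hy'c : ∀ u : ↥M, ((y' u : ↥M) : V) = y (u : V) := by
    intro u; rw [hy']; rfl
  have hpow : ∀ (k : ℕ) (u : ↥M), (((y' ^ k) u : ↥M) : V) = (y ^ k) (u : V) := by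
    intro k u; rw [hy']; exact restrict_pow_coe y M hM' k u
  refine ⟨B', y', hB', hy'c, ?_, ?_, ?_, ?_, ?_, ?_⟩
  · intro u v
    rw [hB', hB', hS]
  · intro u _ h
    apply Subtype.ext
    rw [ZeroMemClass.coe_zero]
    apply hMnd (u : V) u.2
    intro v hv
    have := h ⟨v, hv⟩ Submodule.mem_top
    rw [hB'] at this
    exact this
  · intro u v
    rw [hB', hB', hy'c, hy'c]
    exact hiso _ _
  · apply LinearMap.ext
    intro u
    apply Subtype.ext
    rw [hpow, hy]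
    rfl
  · intro v
    apply Subtype.ext
    rw [ZeroMemClass.coe_zero, gsum_apply, Submodule.coe_sum]
    have h1 : ∑ k ∈ Finset.range r, (((y' ^ k) v : ↥M) : V) = gsum r y (v : V) := by
      rw [gsum_apply]
      exact Finset.sum_congr rfl (fun k _ => hpow k v)
    rw [h1]
    exact (mem_V1 r y _).mp (hMV1 v.2)
  · intro Z' hZ'inv hZ'ort
    refine ⟨?_, ?_, ?_, ?_⟩
    · intro v hv
      obtain ⟨z, hz, rfl⟩ := Submodule.mem_map.mp hv
      refine Submodule.mem_map.mpr ⟨y' z, hZ'inv z hz, ?_⟩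
      exact hy'c z
    · intro u hu v hv
      obtain ⟨z1, hz1, rfl⟩ := Submodule.mem_map.mp hu
      obtain ⟨z2, hz2, rfl⟩ := Submodule.mem_map.mp hv
      have := hZ'ort z1 hz1 z2 hz2
      rw [hB'] at this
      exact this
    · intro v hv
      obtain ⟨z, _, rfl⟩ := Submodule.mem_map.mp hv
      exact z.2
    · exact (LinearEquiv.finrank_eq
        (Submodule.equivMapOfInjective M.subtype M.injective_subtype Z')).symm

end Cfsg.Agent.Lib.Helper30.OsEl
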