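import Mathlib
import Cfsg.Agent.Lib.Helper73.RUHub

set_option autoImplicit false
set_option linter.unusedVariables false

/-!
# K-RU2 leaf G (S2278): the fields with `2` and `4` elements
-/

namespace Cfsg.Agent.Lib.Helper30.RU2

theorem card_two_facts {F : Type*} [Field F] [Fintype F] (h : Fintype.card F = 2) :
    (2 : F) = 0 ∧ ∀ x : F, x ≠ 0 → ∃ k : ℕ, x = (1 : F) ^ (k + 1) := by
  have h2 : (2 : F) = 0 := by
    have := FiniteField.cast_card_eq_zero F
    rw [h] at this
    exact_mod_cast this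
  refine ⟨h2, fun x hx => ⟨0, ?_⟩⟩
  have := FiniteField.pow_card_sub_one_eq_one x hx
  rw [h] at this
  simpa using this

theorem card_four_facts {F : Type*} [Field F] [Fintype F] (h : Fintype.card F = 4) :
    (2 : F) = 0 ∧ ∃ ω : F, ω ^ 2 = ω + 1 ∧ ω ≠ 0 ∧ ∀ x : F, x ≠ 0 → ∃ k : ℕ, x = ω ^ (k + 1) := by
  have h4 : ((4 : ℕ) : F) = 0 := by
    have := FiniteField.cast_card_eq_zero F
    rw [h] at this
    exact this
  have h2 : (2 : F) = 0 := by
    have h22 : (2 : F) * 2 = 0 := by
      have : ((4 : ℕ) : F) = (2 : F) * 2 := by push_cast; norm_num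
      rw [← this]; exact h4
    exact mul_self_eq_zero.mp h22
  refine ⟨h2, ?_⟩
  obtain ⟨l, hl0, hl⟩ := Cfsg.Agent.Lib.Helper73.RUSpec.exists_gen F
  have hl3 : l ^ 3 = 1 := by
    have := FiniteField.pow_card_sub_one_eq_one l hl0
    rw [h] at this
    simpa using this
  have hl1 : l ≠ 1 := by
    classical
    intro h1
    have hall : ∀ x : F, x = 0 ∨ x = 1 := by
      intro x
      by_cases hx : x = 0
      · exact Or.inl hx
      · obtain ⟨k, hk⟩ := hl x hx
        right; rw [hk, h1, one_pow]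
    have hsub : (Finset.univ : Finset F) ⊆ {0, 1} := by
      intro x _
      rcases hall x with hx | hx <;> simp [hx]
    have hc := Finset.card_le_card hsub
    have hc2 : ({0, 1} : Finset F).card ≤ 2 := Finset.card_le_two
    have : Fintype.card F ≤ 2 := by
      rw [← Finset.card_univ]; exact le_trans hc hc2
    omega
  have hq : l ^ 2 + l + 1 = 0 := by
    have hfac : (l - 1) * (l ^ 2 + l + 1) = 0 := by
      have : (l - 1) * (l ^ 2 + l + 1) = l ^ 3 - 1 := by ring
      rw [this, hl3, sub_self]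
    rcases mul_eq_zero.mp hfac with h' | h'
    · exact absurd (sub_eq_zero.mp h') hl1
    · exact h'
  refine ⟨l, ?_, hl0, hl⟩
  linear_combination hq - (l + 1) * h2

end Cfsg.Agent.Lib.Helper30.RU2
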