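import Mathlib
import Cfsg.Agent.Lib.Helper40.NilCovDefs

set_option autoImplicit false

/-! K-S3894-R1 (389401): a matrix commuting with the Jordan block `1 + shift` has a scalar `p`-power. -/

namespace Cfsg.Agent.Lib.Helper30.S3894R1

open Matrix Cfsg.Agent.Lib.Helper40.NilCov

variable {F : Type*} [Field F]

theorem mul_shift_apply (n : ℕ) (g : Matrix (Fin n) (Fin n) F) (i : Fin n) (j : ℕ) (hj : j + 1 < n) :
    (g * shift n F) i ⟨j + 1, hj⟩ = g i ⟨j, by omega⟩ := by
  rw [Matrix.mul_apply, Finset.sum_eq_single (⟨j, by omega⟩ : Fin n)]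
  · simp [shift]
  · intro k _ hk
    have : ¬ ((k : ℕ) = j) := by
      intro h
      apply hk
      ext
      simpa using h
    simp [shift, this]
  · intro h; exact absurd (Finset.mem_univ _) h

theorem mul_shift_apply_zero (n : ℕ) (g : Matrix (Fin n) (Fin n) F) (i : Fin n) (hn : 0 < n) :
    (g * shift n F) i ⟨0, hn⟩ = 0 := by
  rw [Matrix.mul_apply]
  apply Finset.sum_eq_zero
  intro k _
  simp [shift]

theorem shift_mul_apply (n : ℕ) (g : Matrix (Fin n) (Fin n) F) (i : ℕ) (hi : i + 1 < n) (j : Fin n) :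
    (shift n F * g) ⟨i, by omega⟩ j = g ⟨i + 1, hi⟩ j := by
  rw [Matrix.mul_apply, Finset.sum_eq_single (⟨i + 1, hi⟩ : Fin n)]
  · simp [shift]
  · intro k _ hk
    have : ¬ (i + 1 = (k : ℕ)) := by
      intro h
      apply hk
      ext
      simpa using h.symm
    simp [shift, this]
  · intro h; exact absurd (Finset.mem_univ _) h

/-- K-S3894-R1. -/
theorem shift_commute_pow {p : ℕ} [Fact p.Prime] [CharP F p] (n : ℕ) (g : Matrix (Fin n) (Fin n) F)
    (hg : g * (1 + shift n F) = (1 + shift n F) * g) :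
    ∃ (α : F) (k : ℕ), g ^ (p ^ k) = α • (1 : Matrix (Fin n) (Fin n) F) := by
  rcases Nat.eq_zero_or_pos n with rfl | hn
  · exact ⟨0, 0, Subsingleton.elim _ _⟩
  have hgN : g * shift n F = shift n F * g := by
    rw [mul_add, add_mul, mul_one, one_mul] at hg
    exact add_left_cancel hg
  -- Toeplitz
  have hT : ∀ (i j : ℕ) (hi : i + 1 < n) (hj : j + 1 < n),
      g ⟨i + 1, hi⟩ ⟨j + 1, hj⟩ = g ⟨i, by omega⟩ ⟨j, by omega⟩ := by
    intro i j hi hj
    rw [← shift_mul_apply n g i hi, ← hgN, mul_shift_apply n g _ j hj]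
  have hcol : ∀ (i : ℕ) (hi : i + 1 < n), g ⟨i + 1, hi⟩ ⟨0, hn⟩ = 0 := by
    intro i hi
    rw [← shift_mul_apply n g i hi, ← hgN, mul_shift_apply_zero n g _ hn]
  have hlow : ∀ (j i : ℕ) (hi : i < n) (hj : j < i), g ⟨i, hi⟩ ⟨j, by omega⟩ = 0 := by
    intro j
    induction j with
    | zero =>
      intro i hi hj
      obtain ⟨i', rfl⟩ : ∃ i', i = i' + 1 := ⟨i - 1, by omega⟩
      exact hcol i' hi
    | succ j ih =>
      intro i hi hj
      obtain ⟨i', rfl⟩ : ∃ i', i = i' + 1 := ⟨i - 1, by omega⟩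
      rw [hT i' j hi (by omega)]
      exact ih i' (by omega) (by omega)
  have hdiag : ∀ (i : ℕ) (hi : i < n), g ⟨i, hi⟩ ⟨i, hi⟩ = g ⟨0, hn⟩ ⟨0, hn⟩ := by
    intro i
    induction i with
    | zero => intro _; rfl
    | succ i ih =>
      intro hi
      rw [hT i i hi hi]
      exact ih (by omega)
  set α : F := g ⟨0, hn⟩ ⟨0, hn⟩ with hα
  set M : Matrix (Fin n) (Fin n) F := g - α • (1 : Matrix (Fin n) (Fin n) F) with hM
  have hMtri : M.IsUpperTriangular := by
    intro i j hij
    have hij' : (j : ℕ) < (i : ℕ) := hij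
    have hne : i ≠ j := by
      intro h; rw [h] at hij'; omega
    rw [hM, Matrix.sub_apply, Matrix.smul_apply, Matrix.one_apply_ne hne]
    have := hlow (j : ℕ) (i : ℕ) i.2 hij'
    simp only [Fin.eta] at this
    rw [this]
    simp
  have hMdiag : ∀ i, M i i = 0 := by
    intro i
    rw [hM, Matrix.sub_apply, Matrix.smul_apply, Matrix.one_apply_eq]
    have := hdiag (i : ℕ) i.2
    simp only [Fin.eta] at this
    rw [this]
    simp
  have hMn : M ^ n = 0 := by
    have h1 := Matrix.aeval_self_charpoly M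
    rw [Matrix.charpoly_of_isUpperTriangular M hMtri] at h1
    simp only [hMdiag, map_zero, sub_zero, Finset.prod_const, Finset.card_univ, Fintype.card_fin,
      map_pow, Polynomial.aeval_X] at h1
    exact h1
  have hMp : M ^ (p ^ n) = 0 := by
    have hp : 2 ≤ p := (Fact.out : p.Prime).two_le
    have hle : n ≤ p ^ n := (Nat.lt_pow_self hp).le
    obtain ⟨c, hc⟩ := Nat.exists_eq_add_of_le hle
    rw [hc, pow_add, hMn, zero_mul]
  haveI : Nonempty (Fin n) := ⟨⟨0, hn⟩⟩
  refine ⟨α ^ (p ^ n), n, ?_⟩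
  have hg' : g = α • (1 : Matrix (Fin n) (Fin n) F) + M := by rw [hM]; abel
  have hcomm : Commute (α • (1 : Matrix (Fin n) (Fin n) F)) M := by
    apply Commute.smul_left
    exact Commute.one_left _
  rw [hg', add_pow_char_pow_of_commute _ _ hcomm, hMp, add_zero, smul_pow, one_pow]

end Cfsg.Agent.Lib.Helper30.S3894R1
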