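import Mathlib
import Cfsg.Prelude.Def_OddOrderLocal
import Cfsg.Prelude.Def_Solvable
import Cfsg.Agent.Lib.Helper01.CoprimeSylow
import Cfsg.Agent.Lib.Helper06.SylowAux
import Cfsg.Agent.Lib.Helper93.TIHallK6

/-!
# K-S4151-A : a `P`-invariant section `M/Q₀` of a Sylow subgroup of `O` with `C_M(x) ≤ Q₀`, `P` a `p`-group
(no solvability of `O`: the acting group `P` is solvable).
-/

set_option autoImplicit false

namespace Cfsg.Agent.Lib.Helper30.S4151K

open Cfsg.Agent.Lib.Helper01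

/-- K-S4151-A (generic form: the acting group is solvable). -/
theorem exists_q_section_of_solvable_left {G : Type*} [Group G] [Finite G] (H O : Subgroup G) [O.Normal]
    (hcop : (Nat.card H).Coprime (Nat.card O)) (hsolv : Group.IsSolvable H)
    (hfix : ∀ x ∈ H, x ≠ 1 → ∀ m ∈ O, x * m = m * x → ∀ y ∈ H, y * m = m * y)
    (hne : ¬ O ≤ Subgroup.centralizer (H : Set G)) :
    ∃ M Q₀ : Subgroup G, Q₀ ≤ M ∧ Q₀ ≠ M ∧ M ≤ O ∧
      H ≤ Subgroup.normalizer (M : Set G) ∧ H ≤ Subgroup.normalizer (Q₀ : Set G) ∧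
      M ≤ Subgroup.normalizer (Q₀ : Set G) ∧
      ∀ x ∈ H, x ≠ 1 → ∀ m ∈ M, x * m = m * x → m ∈ Q₀ := by
  set C : Subgroup G := Subgroup.centralizer (H : Set G) with hC
  have hHO : H ≤ Subgroup.normalizer (O : Set G) := by
    rw [Subgroup.normalizer_eq_top]; exact le_top
  have hex : ∃ (q : ℕ) (_ : Fact q.Prime) (Q : Subgroup G), IsSylowIn q Q O ∧
      H ≤ Subgroup.normalizer (Q : Set G) ∧ ¬ Q ≤ C := by
    by_contra hall
    apply hne
    have key : (O ⊓ C).relIndex O = 1 := by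
      by_contra h1
      obtain ⟨q, hq, hqd⟩ := Nat.exists_prime_and_dvd h1
      have := Fact.mk hq
      obtain ⟨Q, hQ, hHQ⟩ := exists_invariant_isSylowIn (A := H) (K := O) q hHO hcop (Or.inl hsolv)
      have hQC : Q ≤ C := by
        by_contra hQC
        exact hall ⟨q, ⟨hq⟩, Q, hQ, hHQ, hQC⟩
      exact hQ.2.2 (dvd_trans hqd (Subgroup.relIndex_dvd_of_le_left O (le_inf hQ.1 hQC)))
    have := Subgroup.relIndex_eq_one.mp key
    exact this.trans inf_le_right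
  obtain ⟨q, hqF, Q, hQ, hHQ, hQC⟩ := hex
  set Q₀ : Subgroup G := Q ⊓ C with hQ₀
  set M : Subgroup G := Q ⊓ Subgroup.normalizer (Q₀ : Set G) with hM
  have hQ₀lt : Q₀ < Q := by
    refine lt_of_le_of_ne inf_le_left ?_
    intro h
    apply hQC
    rw [← h]
    exact inf_le_right
  have hHQ₀ : H ≤ Subgroup.normalizer (Q₀ : Set G) := by
    refine le_trans ?_ (Subgroup.centralizer_le_normalizer _)
    rw [Subgroup.le_centralizer_iff]
    exact inf_le_right
  refine ⟨M, Q₀, le_inf inf_le_left Subgroup.le_normalizer, ?_, inf_le_left.trans hQ.1, ?_, hHQ₀,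
    inf_le_right, ?_⟩
  · obtain ⟨y, hyQ, hyQ₀, hyN⟩ :=
      Cfsg.Agent.Lib.Helper06.exists_mem_normalizer_not_mem_of_lt hQ.2.1 hQ₀lt
    intro h
    apply hyQ₀
    rw [h]
    exact Subgroup.mem_inf.mpr ⟨hyQ, hyN⟩
  · refine le_trans ?_ (Cfsg.Agent.Lib.Helper93.TIHall.normalizer_inf_le' Q (Subgroup.normalizer (Q₀ : Set G)))
    exact le_inf hHQ (hHQ₀.trans Subgroup.le_normalizer)
  · intro x hx hx1 m hm hxm
    have hmQ : m ∈ Q := (Subgroup.mem_inf.mp hm).1
    have hmO : m ∈ O := hQ.1 hmQ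
    have hall := hfix x hx hx1 m hmO hxm
    refine Subgroup.mem_inf.mpr ⟨hmQ, ?_⟩
    rw [hC, Subgroup.mem_centralizer_iff]
    intro y hy
    exact hall y hy

/-- K-S4151-A (keystone 415101). -/
theorem exists_q_section_pgroup {G : Type*} [Group G] [Finite G] (p : ℕ) [Fact p.Prime] (P O : Subgroup G) [O.Normal]
    (hP : IsPGroup p P) (hcop : (Nat.card P).Coprime (Nat.card O))
    (hfix : ∀ x ∈ P, x ≠ 1 → ∀ m ∈ O, x * m = m * x → ∀ y ∈ P, y * m = m * y)
    (hne : ¬ O ≤ Subgroup.centralizer (P : Set G)) :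
    ∃ M Q₀ : Subgroup G, Q₀ ≤ M ∧ Q₀ ≠ M ∧ M ≤ O ∧
      P ≤ Subgroup.normalizer (M : Set G) ∧ P ≤ Subgroup.normalizer (Q₀ : Set G) ∧
      M ≤ Subgroup.normalizer (Q₀ : Set G) ∧
      ∀ x ∈ P, x ≠ 1 → ∀ m ∈ M, x * m = m * x → m ∈ Q₀ := by
  have hnil : Group.IsNilpotent P := hP.isNilpotent
  have hsolv : Group.IsSolvable P := inferInstance
  exact exists_q_section_of_solvable_left P O hcop hsolv hfix hne

end Cfsg.Agent.Lib.Helper30.S4151K
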