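import Mathlib
import Cfsg.Prelude.Def_Characters
import Cfsg.Agent.Lib.Helper84.Clifford
import Cfsg.Agent.Lib.Helper83.Quotient
import Cfsg.Agent.Lib.Helper79.ItoSolvable

/-!
Keystone K-S4751-D (helper30): an abelian normal `p`-subgroup `N` of `G` such that `G` is transitive on the
nontrivial irreducible characters of `N` has exponent `p`.
-/

set_option autoImplicit false

namespace Cfsg.Agent.Lib.Helper30.S4751

open Cfsg

universe u

/-- the subgroup of `p`-th powers of a group with commuting elements -/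
def powSub {N : Type u} [Group N] (hcomm : ∀ a b : N, a * b = b * a) (p : ℕ) : Subgroup N where
  carrier := {y | ∃ x : N, x ^ p = y}
  mul_mem' := by
    rintro _ _ ⟨a, rfl⟩ ⟨b, rfl⟩
    exact ⟨a * b, (show Commute a b from hcomm a b).mul_pow p⟩
  one_mem' := ⟨1, one_pow p⟩
  inv_mem' := by
    rintro _ ⟨a, rfl⟩
    exact ⟨a⁻¹, inv_pow a p⟩

theorem powSub_normal {N : Type u} [Group N] (hcomm : ∀ a b : N, a * b = b * a) (p : ℕ) :
    (powSub hcomm p).Normal := by
  constructor
  intro m hm n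
  have : n * m * n⁻¹ = m := by rw [hcomm n m, mul_inv_cancel_right]
  rw [this]; exact hm

theorem pow_eq_one_of_transitive {G : Type u} [Group G] [Finite G] (p : ℕ) [Fact p.Prime]
    (N : Subgroup G) [N.Normal] (hNp : IsPGroup p N) (hcomm : ∀ a b : N, a * b = b * a)
    (htrans : ∀ θ θ' : N → ℂ, IsIrrCharacter N θ → IsIrrCharacter N θ' → θ ≠ (fun _ => 1) →
      θ' ≠ (fun _ => 1) → ∃ g : G, Cfsg.Agent.Lib.Helper84.conjFun N g θ = θ') :
    ∀ x ∈ N, x ^ p = 1 := by
  intro x hx
  by_cases htriv : ∀ n : N, n = 1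
  · have := htriv ⟨x, hx⟩
    have hx1 : x = 1 := congrArg Subtype.val this
    rw [hx1, one_pow]
  push_neg at htriv
  obtain ⟨n1, hn1⟩ := htriv
  -- an element of order p
  obtain ⟨k, hk⟩ := hNp.exists_card_eq
  have hk0 : k ≠ 0 := by
    intro h0
    rw [h0, pow_zero] at hk
    have hsub : Subsingleton N := (Nat.card_eq_one_iff_unique.mp hk).1
    exact hn1 (Subsingleton.elim _ _)
  have hdvd : p ∣ Nat.card N := by rw [hk]; exact dvd_pow_self p hk0
  obtain ⟨y, hy⟩ := exists_prime_orderOf_dvd_card' p hdvd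
  have hy1 : y ≠ 1 := by
    intro h
    rw [h, orderOf_one] at hy
    exact (Fact.out : p.Prime).one_lt.ne hy
  have hyp : y ^ p = 1 := by rw [← hy]; exact pow_orderOf_eq_one y
  -- the p-power map is not surjective
  have hnsurj : ¬ Function.Surjective (fun n : N => n ^ p) := by
    rw [← Finite.injective_iff_surjective]
    intro hinj
    apply hy1
    apply hinj
    show y ^ p = 1 ^ p
    rw [hyp, one_pow]
  rw [Function.Surjective] at hnsurj
  push_neg at hnsurj
  obtain ⟨n0, hn0⟩ := hnsurj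
  set M : Subgroup N := powSub hcomm p with hM
  haveI : M.Normal := powSub_normal hcomm p
  have hn0M : n0 ∉ M := by
    rintro ⟨a, ha⟩
    exact hn0 a ha
  -- a nontrivial irreducible character of the quotient
  have hQcomm : ∀ a b : N ⧸ M, a * b = b * a := by
    intro a b
    induction a using QuotientGroup.induction_on with
    | H a =>
      induction b using QuotientGroup.induction_on with
      | H b => rw [← QuotientGroup.mk_mul, ← QuotientGroup.mk_mul, hcomm]
  have hq1 : (QuotientGroup.mk n0 : N ⧸ M) ≠ 1 := by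
    rw [Ne, QuotientGroup.eq_one_iff]
    exact hn0M
  obtain ⟨ψ, hψ⟩ : ∃ ψ : IrrCharacter (N ⧸ M),
      (ψ : N ⧸ M → ℂ) (QuotientGroup.mk n0) ≠ (ψ : N ⧸ M → ℂ) 1 := by
    by_contra hcon
    push_neg at hcon
    exact hq1 (Cfsg.Agent.Lib.Helper79.eq_of_forall_irr_eq hQcomm _ _ hcon)
  set lam : N → ℂ := fun n => (ψ : N ⧸ M → ℂ) (QuotientGroup.mk n) with hlam
  have hlamirr : IsIrrCharacter N lam := Cfsg.Agent.Lib.Helper83.isIrrCharacter_inflate M ψ.2
  have hlam1 : lam ≠ (fun _ => 1) := by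
    intro h
    apply hψ
    have h1 : lam n0 = 1 := by rw [h]
    have h2 : lam 1 = 1 := by rw [h]
    rw [hlam] at h1 h2
    simp only at h1 h2
    rw [h1]
    rw [QuotientGroup.mk_one] at h2
    rw [h2]
  have hlamM : ∀ m ∈ M, lam m = lam 1 := by
    intro m hm
    rw [hlam]
    simp only
    rw [(QuotientGroup.eq_one_iff m).mpr hm, QuotientGroup.mk_one]
  -- all irreducible characters of `N` are trivial on p-th powers
  have hall : ∀ θ : IrrCharacter N, (θ : N → ℂ) (⟨x, hx⟩ ^ p) = (θ : N → ℂ) 1 := by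
    intro θ
    by_cases hθ : (θ : N → ℂ) = fun _ => 1
    · rw [hθ]
    · obtain ⟨g, hg⟩ := htrans lam θ hlamirr θ.2 hlam1 hθ
      rw [← hg, Cfsg.Agent.Lib.Helper84.conjFun_apply, Cfsg.Agent.Lib.Helper84.conjFun_apply]
      have e1 : (⟨g * ((1 : N) : G) * g⁻¹, Subgroup.Normal.conj_mem inferInstance _ (1 : N).2 g⟩ : N) = 1 := by
        apply Subtype.ext
        simp
      have e2 : (⟨g * ((⟨x, hx⟩ ^ p : N) : G) * g⁻¹,
          Subgroup.Normal.conj_mem inferInstance _ (⟨x, hx⟩ ^ p : N).2 g⟩ : N) ∈ M := by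
        refine ⟨⟨g * x * g⁻¹, Subgroup.Normal.conj_mem inferInstance _ hx g⟩, ?_⟩
        apply Subtype.ext
        simp [conj_pow]
      rw [e1]
      exact hlamM _ e2
  have hfin := Cfsg.Agent.Lib.Helper79.eq_of_forall_irr_eq hcomm (⟨x, hx⟩ ^ p) 1 hall
  have := congrArg Subtype.val hfin
  simpa using this

end Cfsg.Agent.Lib.Helper30.S4751
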