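import Cfsg.Agent.Lib.Helper30.SL2GenC3

set_option autoImplicit false

/-!
# S5060, keystone C: `euclid_generic`

Over an infinite field `k`, with `α` algebraic and nonzero: any set of pairs closed under the
elementary moves contains, for every nonzero `lam ∈ k(α)`, a pair `v` together with `lam • v`.
-/

namespace Cfsg.Agent.Lib.Helper30.SL2Gen

open Polynomial

section TopExplicit

variable {k : Type*} [Field k]

/-- the explicit top-level pair. -/
noncomputable def Pt (m : ℕ) : k[X] := (PQe (R := k) m).1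

/-- second component of the explicit top-level pair. -/
noncomputable def Qt (m : ℕ) (f : k[X]) : k[X] :=
  (PQe (R := k) m).2 + (X * (PQe (R := k) m).1 - f)

lemma Pt_natDegree (m : ℕ) : (Pt (k := k) m).natDegree ≤ m := (PQe_natDegree m).1

lemma Qt_natDegree {f : k[X]} {m : ℕ} (hf : f.Monic) (hfd : f.natDegree = m+1) :
    (Qt m f).natDegree ≤ m := by
  unfold Qt
  refine (natDegree_add_le _ _).trans (max_le (PQe_natDegree m).2 ?_)
  have := wrap_natDegree hf hfd (PQe (R := k) m).1 (PQe_natDegree m).1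
  rwa [(PQe_coeff_top m).1, C_1, one_mul] at this

lemma pivTop_explicit {f : k[X]} {m : ℕ} (hf0 : f.coeff 0 ≠ 0) :
    pivTop m f (-f.coeff 0)⁻¹ (Pt m) (Qt m f) = 1 := by
  have h0 : -f.coeff 0 ≠ 0 := neg_ne_zero.mpr hf0
  have hq0 : (Qt m f).coeff 0 = -f.coeff 0 := by
    simp [Qt, PQe_snd_coeff_zero]
  have htop : topQ m f (-f.coeff 0)⁻¹ (Pt m) (Qt m f) = (PQe (R := k) m).2 := by
    unfold topQ
    rw [hq0, mul_inv_cancel₀ h0]
    unfold Pt Qt
    rw [(PQe_coeff_top m).1, C_1, one_mul, one_mul, one_mul]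
    ring
  unfold pivTop
  rw [htop]
  unfold Pt
  rw [(PQe_coeff_top m).1, PQe_piv, mul_one]

end TopExplicit

section Curves

variable {k : Type*} [Field k]

/-- the line through `P0` (at `t = 0`) and `P1` (at `t = 1`), as a polynomial over `k[t]`. -/
noncomputable def cur (P0 P1 : k[X]) : (k[X])[X] :=
  C (1 - X) * P0.map C + C X * P1.map C

lemma map_C_map_eval (t0 : k) (P : k[X]) : (P.map C).map (evalRingHom t0) = P := by
  rw [Polynomial.map_map]
  have : (evalRingHom t0).comp C = RingHom.id k := by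
    ext x; simp
  rw [this, Polynomial.map_id]

lemma cur_map (t0 : k) (P0 P1 : k[X]) :
    (cur P0 P1).map (evalRingHom t0) = C (1 - t0) * P0 + C t0 * P1 := by
  unfold cur
  rw [Polynomial.map_add, Polynomial.map_mul, Polynomial.map_mul, map_C_map_eval, map_C_map_eval,
    Polynomial.map_C, Polynomial.map_C]
  simp

lemma eval_pivTop_cur (t0 : k) (m : ℕ) (f : k[X]) (u : k) (P0 P1 Q0 Q1 : k[X]) :
    eval t0 (pivTop m (f.map C) (C u) (cur P0 P1) (cur Q0 Q1)) =
      pivTop m f u (C (1 - t0) * P0 + C t0 * P1) (C (1 - t0) * Q0 + C t0 * Q1) := by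
  have := pivTop_map (evalRingHom t0) m (f.map C) (C u) (cur P0 P1) (cur Q0 Q1)
  rw [cur_map, cur_map, map_C_map_eval] at this
  simpa using this

end Curves

section Main

variable {k K : Type*} [Field k] [Field K] [Algebra k K]

lemma exists_rep {α : K} (hint : IsIntegral k α) {m : ℕ}
    (hfd : (minpoly k α).natDegree = m+1) (x : K)
    (hx : x ∈ IntermediateField.adjoin k ({α} : Set K)) :
    ∃ P : k[X], P.natDegree ≤ m ∧ aeval α P = x := by
  have h1 : x ∈ (IntermediateField.adjoin k ({α} : Set K)).toSubalgebra := hx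
  rw [IntermediateField.adjoin_simple_toSubalgebra_of_isAlgebraic hint.isAlgebraic,
    Algebra.adjoin_singleton_eq_range_aeval] at h1
  obtain ⟨P0, hP0⟩ := h1
  have hmon := minpoly.monic hint
  have hne1 : minpoly k α ≠ 1 := by
    intro h; rw [h, natDegree_one] at hfd; omega
  refine ⟨P0 %ₘ minpoly k α, ?_, ?_⟩
  · have := natDegree_modByMonic_lt P0 hmon hne1
    omega
  · rw [aeval_modByMonic_eq_self_of_root (minpoly.aeval k α)]
    exact hP0

lemma aeval_mem_adjoin (α : K) (P : k[X]) :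
    aeval α P ∈ IntermediateField.adjoin k ({α} : Set K) :=
  IntermediateField.algebra_adjoin_le_adjoin k _ (aeval_mem_adjoin_singleton k α)

/-- **K-S5060-C.** -/
theorem euclid_generic {k K : Type*} [Field k] [Infinite k] [Field K] [Algebra k K]
    (α : K) (hα : IsAlgebraic k α) (hα0 : α ≠ 0) (O : Set (K × K))
    (h1 : ((1 : K), (0 : K)) ∈ O)
    (hA : ∀ p r : K, (p, r) ∈ O → ∀ c : k, (p + algebraMap k K c * r, r) ∈ O)
    (hB : ∀ p r : K, (p, r) ∈ O → ∀ c : k, (p, r + algebraMap k K c * α * p) ∈ O)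
    (hS : ∀ p r : K, (p, r) ∈ O → ∀ c c' : k, c ≠ 0 → c' ≠ 0 →
      (algebraMap k K c * p, algebraMap k K c' * r) ∈ O)
    (lam : K) (hlam : lam ∈ IntermediateField.adjoin k ({α} : Set K)) (hlam0 : lam ≠ 0) :
    ∃ p r : K, (p, r) ∈ O ∧ (lam * p, lam * r) ∈ O := by
  have hmc : MoveClosed k α O := ⟨h1, hA, hB, hS⟩
  have hint : IsIntegral k α := hα.isIntegral
  set f := minpoly k α with hfdef
  have hf : f.Monic := minpoly.monic hint
  have hfα : aeval α f = 0 := minpoly.aeval k α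
  have hf0 : f.coeff 0 ≠ 0 := minpoly.coeff_zero_ne_zero hint hα0
  obtain ⟨m, hfd⟩ : ∃ m, f.natDegree = m + 1 :=
    Nat.exists_eq_succ_of_ne_zero (minpoly.natDegree_pos hint).ne'
  set u : k := (-f.coeff 0)⁻¹ with hu
  set L := IntermediateField.adjoin k ({α} : Set K) with hL
  -- representatives
  have hpe : aeval α (Pt (k := k) m) ∈ L := aeval_mem_adjoin α _
  have hqe : aeval α (Qt m f) ∈ L := aeval_mem_adjoin α _
  obtain ⟨P1, hP1d, hP1⟩ := exists_rep hint hfd (lam⁻¹ * aeval α (Pt (k := k) m))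
    (L.mul_mem (L.inv_mem hlam) hpe)
  obtain ⟨Q1, hQ1d, hQ1⟩ := exists_rep hint hfd (lam⁻¹ * aeval α (Qt m f))
    (L.mul_mem (L.inv_mem hlam) hqe)
  obtain ⟨P2, hP2d, hP2⟩ := exists_rep hint hfd (lam * aeval α (Pt (k := k) m))
    (L.mul_mem hlam hpe)
  obtain ⟨Q2, hQ2d, hQ2⟩ := exists_rep hint hfd (lam * aeval α (Qt m f))
    (L.mul_mem hlam hqe)
  -- the two pivot polynomials
  set Δ1 : k[X] := pivTop m (f.map C) (C u) (cur (Pt m) P1) (cur (Qt m f) Q1) with hΔ1
  set Δ2 : k[X] := pivTop m (f.map C) (C u) (cur P2 (Pt m)) (cur Q2 (Qt m f)) with hΔ2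
  have hΔ1ne : Δ1 ≠ 0 := by
    intro h0
    have : eval 0 Δ1 = 1 := by
      rw [hΔ1, eval_pivTop_cur]
      simp only [sub_zero, C_1, one_mul, C_0, zero_mul, add_zero]
      exact pivTop_explicit hf0
    rw [h0, eval_zero] at this
    exact zero_ne_one this
  have hΔ2ne : Δ2 ≠ 0 := by
    intro h0
    have : eval 1 Δ2 = 1 := by
      rw [hΔ2, eval_pivTop_cur]
      simp only [sub_self, C_1, one_mul, C_0, zero_mul, zero_add]
      exact pivTop_explicit hf0
    rw [h0, eval_zero] at this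
    exact zero_ne_one this
  obtain ⟨t0, ht0⟩ : ∃ t0 : k, eval t0 (Δ1 * Δ2) ≠ 0 := by
    by_contra hcon
    push_neg at hcon
    have : Δ1 * Δ2 = 0 := Polynomial.funext (fun r => by rw [hcon r, eval_zero])
    exact (mul_ne_zero hΔ1ne hΔ2ne) this
  rw [eval_mul] at ht0
  have ht1 : eval t0 Δ1 ≠ 0 := left_ne_zero_of_mul ht0
  have ht2 : eval t0 Δ2 ≠ 0 := right_ne_zero_of_mul ht0
  rw [hΔ1, eval_pivTop_cur] at ht1
  rw [hΔ2, eval_pivTop_cur] at ht2
  have hdeg : ∀ (A B : k[X]), A.natDegree ≤ m → B.natDegree ≤ m →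
      (C (1 - t0) * A + C t0 * B).natDegree ≤ m := fun A B hA hB =>
    (natDegree_add_le _ _).trans (max_le ((natDegree_C_mul_le _ _).trans hA)
      ((natDegree_C_mul_le _ _).trans hB))
  have hPtd := Pt_natDegree (k := k) m
  have hQtd := Qt_natDegree hf hfd
  have hO1 := Ot_of_pivTop hmc hf hfd hfα hf0 _ _ (hdeg _ _ hPtd hP1d) (hdeg _ _ hQtd hQ1d) ht1
  have hO2 := Ot_of_pivTop hmc hf hfd hfα hf0 _ _ (hdeg _ _ hP2d hPtd) (hdeg _ _ hQ2d hQtd) ht2
  refine ⟨_, _, hO1, ?_⟩
  unfold Ot at hO2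
  have e1 : lam * aeval α (C (1 - t0) * Pt m + C t0 * P1) =
      aeval α (C (1 - t0) * P2 + C t0 * Pt m) := by
    simp only [map_add, map_mul, aeval_C, hP1, hP2]
    field_simp
  have e2 : lam * aeval α (C (1 - t0) * Qt m f + C t0 * Q1) =
      aeval α (C (1 - t0) * Q2 + C t0 * Qt m f) := by
    simp only [map_add, map_mul, aeval_C, hQ1, hQ2]
    field_simp
  rw [e1, e2]
  exact hO2

end Main

end Cfsg.Agent.Lib.Helper30.SL2Gen
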