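import Mathlib

set_option autoImplicit false

/-!
# S5060, keystone C, part 1: the alternating pseudo-Euclid pivots over a commutative ring

`piv j P Q` is the product of the pivots of the alternating pseudo-Euclidean descent on a pair of
polynomials of degree `≤ j` (the second one with zero constant term); `pivTop` adds the
wrap-around step modulo a monic polynomial `F` of degree `m+1`.
-/

namespace Cfsg.Agent.Lib.Helper30.SL2Gen

open Polynomial

section Pivots

variable {R : Type*} [CommRing R]

/-- first half-step: kill the coefficient `j+1` of `P` using `Q`. -/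
noncomputable def stA (j : ℕ) (P Q : R[X]) : R[X] :=
  C (Q.coeff (j+1)) * P - C (P.coeff (j+1)) * Q

/-- second half-step: kill the coefficient `j+1` of `Q` using `X * P'`. -/
noncomputable def stB (j : ℕ) (P' Q : R[X]) : R[X] :=
  C (P'.coeff j) * Q - C (Q.coeff (j+1)) * (X * P')

/-- product of the pivots. -/
noncomputable def piv : ℕ → R[X] → R[X] → R
  | 0, P, _ => P.coeff 0
  | (j+1), P, Q =>
      Q.coeff (j+1) * (stA j P Q).coeff j * piv j (stA j P Q) (stB j (stA j P Q) Q)

/-- the wrap-around step. -/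
noncomputable def topQ (m : ℕ) (F : R[X]) (u : R) (P Q : R[X]) : R[X] :=
  C (P.coeff m) * Q - C (Q.coeff 0 * u) * (X * P - C (P.coeff m) * F)

/-- product of all the pivots including the wrap-around one. -/
noncomputable def pivTop (m : ℕ) (F : R[X]) (u : R) (P Q : R[X]) : R :=
  P.coeff m * piv m P (topQ m F u P Q)

variable {S : Type*} [CommRing S] (φ : R →+* S)

lemma stA_map (j : ℕ) (P Q : R[X]) : (stA j P Q).map φ = stA j (P.map φ) (Q.map φ) := by
  simp [stA, Polynomial.map_sub, Polynomial.map_mul, coeff_map]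

lemma stB_map (j : ℕ) (P Q : R[X]) : (stB j P Q).map φ = stB j (P.map φ) (Q.map φ) := by
  simp [stB, Polynomial.map_sub, Polynomial.map_mul, coeff_map]

lemma piv_map : ∀ (j : ℕ) (P Q : R[X]), φ (piv j P Q) = piv j (P.map φ) (Q.map φ)
  | 0, P, Q => by simp [piv, coeff_map]
  | j+1, P, Q => by
      simp only [piv, map_mul, ← coeff_map, stA_map, stB_map, piv_map j]

lemma topQ_map (m : ℕ) (F : R[X]) (u : R) (P Q : R[X]) :
    (topQ m F u P Q).map φ = topQ m (F.map φ) (φ u) (P.map φ) (Q.map φ) := by
  simp [topQ, Polynomial.map_sub, Polynomial.map_mul, coeff_map]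

lemma pivTop_map (m : ℕ) (F : R[X]) (u : R) (P Q : R[X]) :
    φ (pivTop m F u P Q) = pivTop m (F.map φ) (φ u) (P.map φ) (Q.map φ) := by
  simp only [pivTop, map_mul, ← coeff_map, piv_map, topQ_map]

lemma natDegree_le_of_succ {p : R[X]} {j : ℕ} (h : p.natDegree ≤ j+1) (h0 : p.coeff (j+1) = 0) :
    p.natDegree ≤ j := by
  rw [natDegree_le_iff_coeff_eq_zero]
  intro N hN
  rcases Nat.lt_or_ge (j+1) N with h1 | h1
  · exact coeff_eq_zero_of_natDegree_lt (lt_of_le_of_lt h h1)
  · have : N = j+1 := by omega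
    rw [this]; exact h0

lemma stA_natDegree {j : ℕ} {P Q : R[X]} (hP : P.natDegree ≤ j+1) (hQ : Q.natDegree ≤ j+1) :
    (stA j P Q).natDegree ≤ j := by
  apply natDegree_le_of_succ
  · unfold stA
    exact (natDegree_sub_le _ _).trans (max_le ((natDegree_C_mul_le _ _).trans hP)
      ((natDegree_C_mul_le _ _).trans hQ))
  · simp [stA, coeff_C_mul]; ring

lemma stB_natDegree {j : ℕ} {P' Q : R[X]} (hP : P'.natDegree ≤ j) (hQ : Q.natDegree ≤ j+1) :
    (stB j P' Q).natDegree ≤ j := by
  apply natDegree_le_of_succ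
  · unfold stB
    refine (natDegree_sub_le _ _).trans (max_le ((natDegree_C_mul_le _ _).trans hQ)
      ((natDegree_C_mul_le _ _).trans ?_))
    refine (natDegree_mul_le).trans ?_
    have := natDegree_X_le (R := R)
    omega
  · simp [stB, coeff_C_mul, coeff_X_mul]; ring

lemma stB_coeff_zero {j : ℕ} {P' Q : R[X]} (hQ : Q.coeff 0 = 0) : (stB j P' Q).coeff 0 = 0 := by
  simp [stB, coeff_C_mul, hQ]

end Pivots

end Cfsg.Agent.Lib.Helper30.SL2Gen
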