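import Cfsg.Agent.Lib.Helper30.SL2GenC1

set_option autoImplicit false

/-!
# S5060, keystone C, part 2: the descent lemma (nonzero pivots ⇒ the pair lies in the orbit set)
-/

namespace Cfsg.Agent.Lib.Helper30.SL2Gen

open Polynomial

/-- closure of a set of pairs under the two kinds of elementary moves and under scalings. -/
structure MoveClosed (k : Type*) {K : Type*} [Field k] [Field K] [Algebra k K] (α : K)
    (O : Set (K × K)) : Prop where
  one : ((1 : K), (0 : K)) ∈ O
  addA : ∀ p r : K, (p, r) ∈ O → ∀ c : k, (p + algebraMap k K c * r, r) ∈ O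
  addB : ∀ p r : K, (p, r) ∈ O → ∀ c : k, (p, r + algebraMap k K c * α * p) ∈ O
  scale : ∀ p r : K, (p, r) ∈ O → ∀ c c' : k, c ≠ 0 → c' ≠ 0 →
    (algebraMap k K c * p, algebraMap k K c' * r) ∈ O

section Descent

variable {k K : Type*} [Field k] [Field K] [Algebra k K] {α : K} {O : Set (K × K)}

/-- the pair of values at `α` lies in the orbit set. -/
def Ot (α : K) (O : Set (K × K)) (P Q : k[X]) : Prop := (aeval α P, aeval α Q) ∈ O

lemma Ot_congr {P Q P' Q' : k[X]} (hP : aeval α P' = aeval α P) (hQ : aeval α Q' = aeval α Q)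
    (h : Ot α O P Q) : Ot α O P' Q' := by
  unfold Ot at *; rw [hP, hQ]; exact h

lemma Ot_addA (h : MoveClosed k α O) {P Q : k[X]} (hO : Ot α O P Q) (c : k) :
    Ot α O (P + C c * Q) Q := by
  have := h.addA _ _ hO c
  unfold Ot; simpa [aeval_C] using this

lemma Ot_addB (h : MoveClosed k α O) {P Q : k[X]} (hO : Ot α O P Q) (c : k) :
    Ot α O P (Q + C c * (X * P)) := by
  have := h.addB _ _ hO c
  unfold Ot; simpa [aeval_C, mul_assoc] using this

lemma Ot_scale (h : MoveClosed k α O) {P Q : k[X]} (hO : Ot α O P Q) {c c' : k} (hc : c ≠ 0)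
    (hc' : c' ≠ 0) : Ot α O (C c * P) (C c' * Q) := by
  have := h.scale _ _ hO c c' hc hc'
  unfold Ot; simpa [aeval_C] using this

lemma Ot_of_piv (h : MoveClosed k α O) : ∀ (j : ℕ) (P Q : k[X]), P.natDegree ≤ j →
    Q.natDegree ≤ j → Q.coeff 0 = 0 → piv j P Q ≠ 0 → Ot α O P Q
  | 0, P, Q, hP, hQ, hQ0, hpiv => by
      have hQz : Q = 0 := by
        rw [eq_C_of_natDegree_le_zero hQ, hQ0, C_0]
      have hPc : P = C (P.coeff 0) := eq_C_of_natDegree_le_zero hP
      have hc : P.coeff 0 ≠ 0 := by simpa [piv] using hpiv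
      have h1 : Ot α O (1 : k[X]) 0 := by
        unfold Ot; simpa using h.one
      have := Ot_scale h h1 hc hc
      rw [hQz, hPc]
      simpa using this
  | j+1, P, Q, hP, hQ, hQ0, hpiv => by
      simp only [piv] at hpiv
      have ha : Q.coeff (j+1) ≠ 0 := fun h0 => hpiv (by rw [h0]; ring)
      have hb : (stA j P Q).coeff j ≠ 0 := fun h0 => hpiv (by rw [h0]; ring)
      have hrest : piv j (stA j P Q) (stB j (stA j P Q) Q) ≠ 0 := fun h0 => hpiv (by rw [h0]; ring)
      have hP' : (stA j P Q).natDegree ≤ j := stA_natDegree hP hQ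
      have hQ' : (stB j (stA j P Q) Q).natDegree ≤ j := stB_natDegree hP' hQ
      have hQ'0 : (stB j (stA j P Q) Q).coeff 0 = 0 := stB_coeff_zero hQ0
      have ih := Ot_of_piv h j _ _ hP' hQ' hQ'0 hrest
      -- recover Q
      have h1 := Ot_addB h ih (Q.coeff (j+1))
      have h2 := Ot_scale h h1 (one_ne_zero) (inv_ne_zero hb)
      have h3 : Ot α O (stA j P Q) Q := by
        refine Ot_congr ?_ ?_ h2
        · simp
        · congr 1
          unfold stB
          rw [sub_add_cancel, ← mul_assoc, ← C_mul, inv_mul_cancel₀ hb, C_1, one_mul]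
      -- recover P
      have h4 := Ot_addA h h3 (P.coeff (j+1))
      have h5 := Ot_scale h h4 (inv_ne_zero ha) (one_ne_zero)
      refine Ot_congr ?_ ?_ h5
      · congr 1
        unfold stA
        rw [sub_add_cancel, ← mul_assoc, ← C_mul, inv_mul_cancel₀ ha, C_1, one_mul]
      · simp

end Descent

end Cfsg.Agent.Lib.Helper30.SL2Gen
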