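import Cfsg.Agent.Lib.Helper30.SL2GenC2

set_option autoImplicit false

/-!
# S5060, keystone C, part 3: the wrap-around step and an explicit pair with all pivots `1`
-/

namespace Cfsg.Agent.Lib.Helper30.SL2Gen

open Polynomial

section Top

variable {k K : Type*} [Field k] [Field K] [Algebra k K] {α : K} {O : Set (K × K)}

lemma wrap_natDegree {f : k[X]} {m : ℕ} (hf : f.Monic) (hfd : f.natDegree = m+1) (P : k[X])
    (hP : P.natDegree ≤ m) : (X * P - C (P.coeff m) * f).natDegree ≤ m := by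
  apply natDegree_le_of_succ
  · refine (natDegree_sub_le _ _).trans (max_le ?_ ((natDegree_C_mul_le _ _).trans hfd.le))
    refine (natDegree_mul_le).trans ?_
    have := natDegree_X_le (R := k)
    omega
  · have h1 : f.coeff (m+1) = 1 := by rw [← hfd]; exact hf.coeff_natDegree
    simp [coeff_C_mul, coeff_X_mul, h1]

lemma topQ_natDegree {f : k[X]} {m : ℕ} (hf : f.Monic) (hfd : f.natDegree = m+1) (u : k)
    (P Q : k[X]) (hP : P.natDegree ≤ m) (hQ : Q.natDegree ≤ m) :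
    (topQ m f u P Q).natDegree ≤ m := by
  unfold topQ
  exact (natDegree_sub_le _ _).trans (max_le ((natDegree_C_mul_le _ _).trans hQ)
    ((natDegree_C_mul_le _ _).trans (wrap_natDegree hf hfd P hP)))

lemma topQ_coeff_zero {f : k[X]} {m : ℕ} (hf0 : f.coeff 0 ≠ 0) (P Q : k[X]) :
    (topQ m f (-f.coeff 0)⁻¹ P Q).coeff 0 = 0 := by
  have h0 : -f.coeff 0 ≠ 0 := neg_ne_zero.mpr hf0
  simp only [topQ, coeff_sub, coeff_C_mul, coeff_X_mul_zero]
  field_simp
  ring

lemma Ot_of_pivTop (h : MoveClosed k α O) {f : k[X]} {m : ℕ} (hf : f.Monic)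
    (hfd : f.natDegree = m+1) (hfα : aeval α f = 0) (hf0 : f.coeff 0 ≠ 0) (P Q : k[X])
    (hP : P.natDegree ≤ m) (hQ : Q.natDegree ≤ m)
    (hpiv : pivTop m f (-f.coeff 0)⁻¹ P Q ≠ 0) : Ot α O P Q := by
  unfold pivTop at hpiv
  have hc0 : P.coeff m ≠ 0 := fun h0 => hpiv (by rw [h0]; ring)
  have hrest : piv m P (topQ m f (-f.coeff 0)⁻¹ P Q) ≠ 0 := fun h0 => hpiv (by rw [h0]; ring)
  have ih := Ot_of_piv h m P _ hP (topQ_natDegree hf hfd _ P Q hP hQ) (topQ_coeff_zero hf0 P Q) hrest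
  have h1 := Ot_addB h ih (Q.coeff 0 * (-f.coeff 0)⁻¹)
  have h2 := Ot_scale h h1 (one_ne_zero) (inv_ne_zero hc0)
  refine Ot_congr ?_ ?_ h2
  · simp
  · have hc0' : algebraMap k K (P.coeff m) ≠ 0 := by
      simpa using hc0
    simp only [topQ, map_mul, map_add, map_sub, aeval_C, aeval_X, hfα, mul_zero, sub_zero]
    rw [map_inv₀]
    field_simp
    ring

end Top

section Explicit

variable {R : Type*} [CommRing R]

/-- the explicit pairs `(Pe j, Qe j)` (Morgan-Voyce polynomials), mutually recursive. -/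
noncomputable def PQe : ℕ → R[X] × R[X]
  | 0 => (1, 0)
  | j+1 => ((PQe j).1 + ((PQe j).2 + X * (PQe j).1), (PQe j).2 + X * (PQe j).1)

lemma PQe_succ_snd (j : ℕ) : (PQe (R := R) (j+1)).2 = (PQe j).2 + X * (PQe j).1 := rfl

lemma PQe_succ_fst (j : ℕ) : (PQe (R := R) (j+1)).1 = (PQe j).1 + (PQe (j+1)).2 := rfl

lemma PQe_natDegree : ∀ j : ℕ, (PQe (R := R) j).1.natDegree ≤ j ∧ (PQe (R := R) j).2.natDegree ≤ j
  | 0 => by simp [PQe]
  | j+1 => by
      obtain ⟨h1, h2⟩ := PQe_natDegree j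
      have hX : (X * (PQe (R := R) j).1).natDegree ≤ j + 1 := by
        refine (natDegree_mul_le).trans ?_
        have := natDegree_X_le (R := R)
        omega
      have hs : (PQe (R := R) (j+1)).2.natDegree ≤ j+1 := by
        rw [PQe_succ_snd]
        exact (natDegree_add_le _ _).trans (max_le (h2.trans (Nat.le_succ j)) hX)
      refine ⟨?_, hs⟩
      rw [PQe_succ_fst]
      exact (natDegree_add_le _ _).trans (max_le (h1.trans (Nat.le_succ j)) hs)

lemma PQe_coeff_top : ∀ j : ℕ, (PQe (R := R) j).1.coeff j = 1 ∧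
    (PQe (R := R) (j+1)).2.coeff (j+1) = 1
  | 0 => by simp [PQe]
  | j+1 => by
      obtain ⟨h1, h2⟩ := PQe_coeff_top j
      obtain ⟨d1, d2⟩ := PQe_natDegree (R := R) j
      obtain ⟨e1, e2⟩ := PQe_natDegree (R := R) (j+1)
      have hA : (PQe (R := R) (j+1)).1.coeff (j+1) = 1 := by
        rw [PQe_succ_fst, coeff_add, h2, coeff_eq_zero_of_natDegree_lt (by omega), zero_add]
      refine ⟨hA, ?_⟩
      rw [PQe_succ_snd, coeff_add, coeff_X_mul, hA,
        coeff_eq_zero_of_natDegree_lt (by omega), zero_add]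

lemma PQe_snd_coeff_zero : ∀ j : ℕ, (PQe (R := R) j).2.coeff 0 = 0
  | 0 => by simp [PQe]
  | j+1 => by
      rw [PQe_succ_snd, coeff_add, PQe_snd_coeff_zero j, coeff_X_mul_zero, add_zero]

lemma PQe_stA (j : ℕ) : stA j (PQe (R := R) (j+1)).1 (PQe (R := R) (j+1)).2 = (PQe j).1 := by
  obtain ⟨h1, h2⟩ := PQe_coeff_top (R := R) j
  obtain ⟨h3, -⟩ := PQe_coeff_top (R := R) (j+1)
  unfold stA
  rw [h2, h3, C_1, one_mul, one_mul, PQe_succ_fst, add_sub_cancel_right]

lemma PQe_stB (j : ℕ) : stB j (PQe (R := R) j).1 (PQe (R := R) (j+1)).2 = (PQe j).2 := by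
  obtain ⟨h1, h2⟩ := PQe_coeff_top (R := R) j
  unfold stB
  rw [h2, h1, C_1, one_mul, one_mul, PQe_succ_snd, add_sub_cancel_right]

lemma PQe_piv : ∀ j : ℕ, piv j (PQe (R := R) j).1 (PQe (R := R) j).2 = 1
  | 0 => by simp [piv, PQe]
  | j+1 => by
      obtain ⟨h1, h2⟩ := PQe_coeff_top (R := R) j
      simp only [piv, PQe_stA, PQe_stB, h1, h2, PQe_piv j, mul_one]

end Explicit

end Cfsg.Agent.Lib.Helper30.SL2Gen
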