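import Mathlib
import Cfsg.Prelude.Def_Local
import Cfsg.Agent.Lib.Helper30.GLBlock
import Cfsg.Agent.Lib.Helper30.Layer

set_option autoImplicit false

namespace Cfsg.Agent.Lib.Helper30.SLBlock

open Matrix

variable {F : Type*} [Field F] {m : ℕ}

/-- the block diagonal matrix `diag(A, a)` -/
def bl (A : Matrix (Fin m) (Fin m) F) (a : F) : Matrix (Fin (m + 1)) (Fin (m + 1)) F :=
  Matrix.of fun i j =>
    Fin.lastCases (Fin.lastCases a (fun _ => 0) j) (fun i' => Fin.lastCases 0 (fun j' => A i' j') j) i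

@[simp] theorem bl_last_last (A : Matrix (Fin m) (Fin m) F) (a : F) :
    bl A a (Fin.last m) (Fin.last m) = a := by
  simp [bl]

@[simp] theorem bl_last_cs (A : Matrix (Fin m) (Fin m) F) (a : F) (j : Fin m) :
    bl A a (Fin.last m) j.castSucc = 0 := by
  simp [bl]

@[simp] theorem bl_cs_last (A : Matrix (Fin m) (Fin m) F) (a : F) (i : Fin m) :
    bl A a i.castSucc (Fin.last m) = 0 := by
  simp [bl]

@[simp] theorem bl_cs_cs (A : Matrix (Fin m) (Fin m) F) (a : F) (i j : Fin m) :
    bl A a i.castSucc j.castSucc = A i j := by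
  simp [bl]

theorem bl_mul (a b : F) (A B : Matrix (Fin m) (Fin m) F) :
    bl A a * bl B b = bl (A * B) (a * b) := by
  ext i j
  refine Fin.lastCases ?_ (fun i' => ?_) i <;> refine Fin.lastCases ?_ (fun j' => ?_) j <;>
    simp [Matrix.mul_apply, Fin.sum_univ_castSucc]

theorem bl_one : bl (1 : Matrix (Fin m) (Fin m) F) (1 : F) = 1 := by
  ext i j
  refine Fin.lastCases ?_ (fun i' => ?_) i <;> refine Fin.lastCases ?_ (fun j' => ?_) j <;>
    simp [Matrix.one_apply, Fin.castSucc_ne_last, (Fin.castSucc_ne_last _).symm]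

theorem det_bl (A : Matrix (Fin m) (Fin m) F) (a : F) : (bl A a).det = A.det * a := by
  rw [Matrix.det_succ_row _ (Fin.last m), Fin.sum_univ_castSucc]
  have h1 : (bl A a).submatrix Fin.castSucc Fin.castSucc = A := by
    ext i j
    simp
  simp [h1, Fin.succAbove_last, mul_comm]

theorem bl_injective {a b : F} {A B : Matrix (Fin m) (Fin m) F} (h : bl A a = bl B b) :
    A = B ∧ a = b := by
  constructor
  · ext i j
    have := congrFun (congrFun h i.castSucc) j.castSucc
    simpa using this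
  · have := congrFun (congrFun h (Fin.last m)) (Fin.last m)
    simpa using this

theorem eq_bl_of_zero (M : Matrix (Fin (m + 1)) (Fin (m + 1)) F)
    (h1 : ∀ j : Fin m, M (Fin.last m) j.castSucc = 0)
    (h2 : ∀ i : Fin m, M i.castSucc (Fin.last m) = 0) :
    M = bl (M.submatrix Fin.castSucc Fin.castSucc) (M (Fin.last m) (Fin.last m)) := by
  ext i j
  refine Fin.lastCases ?_ (fun i' => ?_) i <;> refine Fin.lastCases ?_ (fun j' => ?_) j <;>
    simp [h1, h2]

theorem bl_mul_apply_cs (a : F) (A : Matrix (Fin m) (Fin m) F)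
    (M : Matrix (Fin (m + 1)) (Fin (m + 1)) F) (i : Fin m) (j : Fin (m + 1)) :
    (bl A a * M) i.castSucc j = ∑ k, A i k * M k.castSucc j := by
  simp [Matrix.mul_apply, Fin.sum_univ_castSucc]

theorem bl_mul_apply_last (a : F) (A : Matrix (Fin m) (Fin m) F)
    (M : Matrix (Fin (m + 1)) (Fin (m + 1)) F) (j : Fin (m + 1)) :
    (bl A a * M) (Fin.last m) j = a * M (Fin.last m) j := by
  simp [Matrix.mul_apply, Fin.sum_univ_castSucc]

theorem mul_bl_apply_cs (a : F) (A : Matrix (Fin m) (Fin m) F)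
    (M : Matrix (Fin (m + 1)) (Fin (m + 1)) F) (i : Fin (m + 1)) (j : Fin m) :
    (M * bl A a) i j.castSucc = ∑ k, M i k.castSucc * A k j := by
  simp [Matrix.mul_apply, Fin.sum_univ_castSucc]

theorem mul_bl_apply_last (a : F) (A : Matrix (Fin m) (Fin m) F)
    (M : Matrix (Fin (m + 1)) (Fin (m + 1)) F) (i : Fin (m + 1)) :
    (M * bl A a) i (Fin.last m) = M i (Fin.last m) * a := by
  simp [Matrix.mul_apply, Fin.sum_univ_castSucc]


theorem neg_one_bl_mul_apply_cs (a : F)
    (M : Matrix (Fin (m + 1)) (Fin (m + 1)) F) (i : Fin m) (j : Fin (m + 1)) :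
    (bl (-1 : Matrix (Fin m) (Fin m) F) a * M) i.castSucc j = -M i.castSucc j := by
  rw [bl_mul_apply_cs]
  simp [Matrix.neg_apply, Matrix.one_apply]

theorem mul_neg_one_bl_apply_cs (a : F)
    (M : Matrix (Fin (m + 1)) (Fin (m + 1)) F) (i : Fin (m + 1)) (j : Fin m) :
    (M * bl (-1 : Matrix (Fin m) (Fin m) F) a) i j.castSucc = -M i j.castSucc := by
  rw [mul_bl_apply_cs]
  simp [Matrix.neg_apply, Matrix.one_apply]

/-- the underlying matrix -/
def mt {k : ℕ} (g : SpecialLinearGroup (Fin k) F) : Matrix (Fin k) (Fin k) F := g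

theorem mt_mul {k : ℕ} (g h : SpecialLinearGroup (Fin k) F) : mt (g * h) = mt g * mt h :=
  Matrix.SpecialLinearGroup.coe_mul g h

theorem mt_one {k : ℕ} : mt (1 : SpecialLinearGroup (Fin k) F) = 1 := rfl

theorem mt_det {k : ℕ} (g : SpecialLinearGroup (Fin k) F) : (mt g).det = 1 := g.det_coe

theorem mt_mk {k : ℕ} (M : Matrix (Fin k) (Fin k) F) (h : M.det = 1) :
    mt (⟨M, h⟩ : SpecialLinearGroup (Fin k) F) = M := rfl

theorem mt_ext {k : ℕ} {g h : SpecialLinearGroup (Fin k) F} (e : mt g = mt h) : g = h :=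
  Subtype.ext e

variable (F m)

/-- block embedding `SL_m → SL_{m+1}`, `A ↦ diag(A, 1)` -/
def upL : SpecialLinearGroup (Fin m) F →* SpecialLinearGroup (Fin (m + 1)) F where
  toFun A := ⟨bl (mt A) 1, by rw [det_bl, mt_det A, mul_one]⟩
  map_one' := Subtype.ext bl_one
  map_mul' A B := Subtype.ext (by
    show bl (mt (A * B)) 1 = bl (mt A) 1 * bl (mt B) 1
    rw [bl_mul, mul_one, mt_mul])

variable {F m}

theorem upL_val (A : SpecialLinearGroup (Fin m) F) : mt (upL F m A) = bl (mt A) 1 := rfl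

theorem upL_injective : Function.Injective (upL F m) := by
  intro A B h
  have h1 : bl (mt A) (1 : F) = bl (mt B) 1 := by
    rw [← upL_val, ← upL_val, h]
  exact Subtype.ext (bl_injective h1).1

/-- elements of `C(t)`, `t = diag(-1,…,-1,1)`, are block diagonal -/
theorem cent_t_form (h2 : (2 : F) ≠ 0) (t : SpecialLinearGroup (Fin (m + 1)) F)
    (ht : mt t = bl (-1) 1) (g : SpecialLinearGroup (Fin (m + 1)) F)
    (hg : g ∈ Subgroup.centralizer ({t} : Set (SpecialLinearGroup (Fin (m + 1)) F))) :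
    ∃ (X : Matrix (Fin m) (Fin m) F) (a : F), mt g = bl X a := by
  rw [Subgroup.mem_centralizer_singleton_iff] at hg
  have h0 : bl (-1) 1 * mt g = mt g * bl (-1) 1 := by
    rw [← ht, ← mt_mul, ← mt_mul, hg]
  have key : ∀ x : F, x = -x → x = 0 := by
    intro x hx
    have : 2 * x = 0 := by
      have : x + x = 0 := by
        nth_rewrite 1 [hx]
        ring
      rw [two_mul]; exact this
    rcases mul_eq_zero.mp this with h | h
    · exact absurd h h2
    · exact h
  refine ⟨_, _, eq_bl_of_zero _ ?_ ?_⟩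
  · intro j
    have := congrFun (congrFun h0 (Fin.last m)) j.castSucc
    rw [bl_mul_apply_last, mul_neg_one_bl_apply_cs, one_mul] at this
    exact key _ this
  · intro i
    have := congrFun (congrFun h0 i.castSucc) (Fin.last m)
    rw [neg_one_bl_mul_apply_cs, mul_bl_apply_last, mul_one] at this
    exact key _ this.symm

theorem upL_mem_cent (t : SpecialLinearGroup (Fin (m + 1)) F)
    (ht : mt t = bl (-1) 1) (A : SpecialLinearGroup (Fin m) F) :
    upL F m A ∈ Subgroup.centralizer ({t} : Set (SpecialLinearGroup (Fin (m + 1)) F)) := by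
  rw [Subgroup.mem_centralizer_singleton_iff]
  apply mt_ext
  rw [mt_mul, mt_mul, upL_val, ht, bl_mul, bl_mul]
  simp

/-- `L₀` is normalized by `C(t)` -/
theorem conj_upL_mem (h2 : (2 : F) ≠ 0) (t : SpecialLinearGroup (Fin (m + 1)) F)
    (ht : mt t = bl (-1) 1) (g : SpecialLinearGroup (Fin (m + 1)) F)
    (hg : g ∈ Subgroup.centralizer ({t} : Set (SpecialLinearGroup (Fin (m + 1)) F)))
    (A : SpecialLinearGroup (Fin m) F) : g * upL F m A * g⁻¹ ∈ (upL F m).range := by
  obtain ⟨X, a, hX⟩ := cent_t_form h2 t ht g hg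
  obtain ⟨X', a', hX'⟩ := cent_t_form h2 t ht g⁻¹ (Subgroup.inv_mem _ hg)
  have h1 : bl X a * bl X' a' = 1 := by
    rw [← hX, ← hX', ← mt_mul, mul_inv_cancel]
    rfl
  rw [bl_mul, ← bl_one] at h1
  obtain ⟨hXX, haa⟩ := bl_injective h1
  have hdet : (X * mt A * X').det = 1 := by
    rw [Matrix.det_mul, Matrix.det_mul, mt_det A, mul_one, ← Matrix.det_mul, hXX, Matrix.det_one]
  refine ⟨⟨X * mt A * X', hdet⟩, ?_⟩
  apply mt_ext
  show bl (X * mt A * X') 1 = _
  rw [mt_mul, mt_mul, hX, hX', upL_val, bl_mul, bl_mul,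
    mul_one, haa]

/-- the shape of elements of `C_G(L₀)` -/
def IsK (g : SpecialLinearGroup (Fin (m + 1)) F) : Prop :=
  ∃ (l μ : F), mt g = bl (Matrix.scalar (Fin m) l) μ

theorem mem_centralizer_of_isK {g : SpecialLinearGroup (Fin (m + 1)) F} (hg : IsK g) :
    g ∈ Subgroup.centralizer ((upL F m).range : Set (SpecialLinearGroup (Fin (m + 1)) F)) := by
  obtain ⟨l, μ, h⟩ := hg
  rw [Subgroup.mem_centralizer_iff]
  rintro _ ⟨A, rfl⟩
  apply mt_ext
  rw [mt_mul, mt_mul, upL_val, h, bl_mul, bl_mul,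
    mul_comm μ 1]
  congr 1
  exact ((Matrix.scalar_commute l (fun r => Commute.all l r) (mt A)).eq).symm

theorem isK_of_mem_centralizer (hm : 2 ≤ m) {g : SpecialLinearGroup (Fin (m + 1)) F}
    (hg : g ∈ Subgroup.centralizer ((upL F m).range : Set (SpecialLinearGroup (Fin (m + 1)) F))) :
    IsK g := by
  rw [Subgroup.mem_centralizer_iff] at hg
  have hcomm : ∀ A : SpecialLinearGroup (Fin m) F, bl (mt A) 1 * mt g = mt g * bl (mt A) 1 := by
    intro A
    have := hg (upL F m A) ⟨A, rfl⟩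
    rw [← upL_val, ← mt_mul, ← mt_mul, this]
  -- transvections
  have htv : ∀ i j : Fin m, i ≠ j →
      mt g j.castSucc (Fin.last m) = 0 ∧ mt g (Fin.last m) i.castSucc = 0 := by
    intro i j hij
    have h := hcomm ⟨Matrix.transvection i j 1, Matrix.det_transvection_of_ne i j hij 1⟩
    constructor
    · have := congrFun (congrFun h i.castSucc) (Fin.last m)
      rw [bl_mul_apply_cs, mul_bl_apply_last, mul_one] at this
      simp only [mt_mk, Matrix.transvection, Matrix.add_apply, Matrix.one_apply, Matrix.single_apply,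
        add_mul, Finset.sum_add_distrib, ite_mul, one_mul, zero_mul, true_and,
        Finset.sum_ite_eq, Finset.mem_univ, if_true] at this
      exact add_eq_left.mp this
    · have := congrFun (congrFun h (Fin.last m)) j.castSucc
      rw [bl_mul_apply_last, mul_bl_apply_cs, one_mul] at this
      simp only [mt_mk, Matrix.transvection, Matrix.add_apply, Matrix.one_apply, Matrix.single_apply,
        mul_add, Finset.sum_add_distrib, mul_ite, mul_one, mul_zero, and_true,
        Finset.sum_ite_eq', Finset.sum_ite_eq, Finset.mem_univ, if_true] at this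
      exact add_eq_left.mp this.symm
  have hex : ∀ x : Fin m, ∃ y : Fin m, y ≠ x := by
    intro x
    by_cases hx : x = ⟨0, by omega⟩
    · exact ⟨⟨1, by omega⟩, by rw [hx]; simp [Fin.ext_iff]⟩
    · exact ⟨⟨0, by omega⟩, Ne.symm hx⟩
  have hform := eq_bl_of_zero (mt g) (fun j => by
      obtain ⟨y, hy⟩ := hex j
      exact (htv j y hy.symm).2) (fun i => by
      obtain ⟨y, hy⟩ := hex i
      exact (htv y i hy).1)
  set X := (mt g).submatrix Fin.castSucc Fin.castSucc with hXdef
  set μ := mt g (Fin.last m) (Fin.last m) with hμ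
  have hsc : X ∈ Set.range (Matrix.scalar (Fin m)) := by
    apply Matrix.mem_range_scalar_of_commute_transvectionStruct
    intro ts
    have h := hcomm ⟨ts.toMatrix, by
      rw [Matrix.TransvectionStruct.toMatrix]; exact Matrix.det_transvection_of_ne _ _ ts.hij _⟩
    rw [hform, bl_mul, bl_mul] at h
    exact (bl_injective h).1
  obtain ⟨l, hl⟩ := hsc
  exact ⟨l, μ, by rw [hform, hl]⟩


theorem isK_comm {g h : SpecialLinearGroup (Fin (m + 1)) F} (hg : IsK g) (hh : IsK h) :
    g * h = h * g := by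
  obtain ⟨l, μ, e⟩ := hg
  obtain ⟨l', μ', e'⟩ := hh
  apply mt_ext
  rw [mt_mul, mt_mul, e, e', bl_mul, bl_mul, mul_comm μ μ', ← map_mul, ← map_mul, mul_comm l l']

theorem isK_involution (hm : 1 ≤ m) (hme : Even m) {x : SpecialLinearGroup (Fin (m + 1)) F}
    (hx : IsK x) (hx2 : x * x = 1) (hx1 : x ≠ 1) : mt x = bl (-1) 1 := by
  obtain ⟨l, μ, e⟩ := hx
  have h1 : bl (Matrix.scalar (Fin m) l * Matrix.scalar (Fin m) l) (μ * μ) = bl 1 1 := by
    rw [← bl_mul, ← e, ← mt_mul, hx2, mt_one, bl_one]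
  obtain ⟨h2, h3⟩ := bl_injective h1
  have hl : l * l = 1 := by
    rw [← map_mul] at h2
    have := congrFun (congrFun h2 ⟨0, by omega⟩) ⟨0, by omega⟩
    simpa using this
  have hdet : l ^ m * μ = 1 := by
    have := mt_det x
    rw [e, det_bl] at this
    simpa [Matrix.det_diagonal] using this
  have hlm : l ^ m = 1 := by
    obtain ⟨k, hk⟩ := hme
    rw [hk, pow_add, ← mul_pow, hl, one_pow]
  have hμ : μ = 1 := by rw [hlm, one_mul] at hdet; exact hdet
  rcases mul_self_eq_one_iff.mp hl with h | h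
  · exfalso
    apply hx1
    apply mt_ext
    rw [e, h, hμ, map_one, bl_one, mt_one]
  · rw [e, h, hμ, map_neg, map_one]

theorem t_isK {t : SpecialLinearGroup (Fin (m + 1)) F} (ht : mt t = bl (-1) 1) : IsK t :=
  ⟨-1, 1, by rw [ht, map_neg, map_one]⟩

theorem t_mul_self {t : SpecialLinearGroup (Fin (m + 1)) F} (ht : mt t = bl (-1) 1) :
    t * t = 1 := by
  apply mt_ext
  rw [mt_mul, ht, bl_mul, mt_one]
  simp [bl_one]

theorem t_ne_one (h2 : (2 : F) ≠ 0) (hm : 1 ≤ m) {t : SpecialLinearGroup (Fin (m + 1)) F}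
    (ht : mt t = bl (-1) 1) : t ≠ 1 := by
  intro h
  have h1 : mt t (Fin.castSucc ⟨0, by omega⟩) (Fin.castSucc ⟨0, by omega⟩) = 1 := by
    rw [h, mt_one]; simp
  rw [ht, bl_cs_cs] at h1
  simp only [Matrix.neg_apply, Matrix.one_apply_eq] at h1
  apply h2
  have : (1 : F) + 1 = 0 := by
    nth_rewrite 1 [← h1]
    ring
  rw [← one_add_one_eq_two]; exact this

theorem normalizer_le_normalizer_centralizer {G : Type*} [Group G] (H : Subgroup G) :
    Subgroup.normalizer (H : Set G) ≤
      Subgroup.normalizer ((Subgroup.centralizer (H : Set G) : Subgroup G) : Set G) := by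
  have key : ∀ g ∈ Subgroup.normalizer (H : Set G), ∀ x ∈ Subgroup.centralizer (H : Set G),
      g * x * g⁻¹ ∈ Subgroup.centralizer (H : Set G) := by
    intro g hg x hx
    rw [Subgroup.mem_centralizer_iff] at hx ⊢
    intro h hh
    have h1 : g⁻¹ * h * g ∈ H := by
      have := (Subgroup.mem_normalizer_iff.mp (Subgroup.inv_mem _ hg) h).mp hh
      simpa using this
    have h3 := hx _ h1
    calc h * (g * x * g⁻¹) = g * ((g⁻¹ * h * g) * x) * g⁻¹ := by group
      _ = g * (x * (g⁻¹ * h * g)) * g⁻¹ := by rw [h3]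
      _ = g * x * g⁻¹ * h := by group
  intro g hg
  rw [Subgroup.mem_normalizer_iff]
  intro x
  constructor
  · exact key g hg x
  · intro hx
    have := key g⁻¹ (Subgroup.inv_mem _ hg) _ hx
    simpa [mul_assoc] using this

end Cfsg.Agent.Lib.Helper30.SLBlock
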