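import Cfsg.Agent.Lib.Helper30.SLBlock

set_option autoImplicit false

namespace Cfsg.Agent.Lib.Helper30.SLBlock

open Matrix Subgroup

variable {F : Type*} [Field F] {m : ℕ}

theorem main [Finite F] (h2 : (2 : F) ≠ 0) (hm : 6 ≤ m) (hme : Even m)
    (t : SpecialLinearGroup (Fin (m + 1)) F) (ht : mt t = bl (-1) 1) :
    Cfsg.IsStandardSubgroup ((Cfsg.layer ↥(Subgroup.centralizer
      ({t} : Set (SpecialLinearGroup (Fin (m + 1)) F)))).map
      (Subgroup.centralizer ({t} : Set (SpecialLinearGroup (Fin (m + 1)) F))).subtype) := by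
  set C := Subgroup.centralizer ({t} : Set (SpecialLinearGroup (Fin (m + 1)) F)) with hC
  set L0 := (upL F m).range with hL0
  have hL0C : L0 ≤ C := by
    rintro _ ⟨A, rfl⟩
    exact upL_mem_cent t ht A
  have hqsSL : Cfsg.IsQuasisimple (SpecialLinearGroup (Fin m) F) :=
    GLBlock.sl_quasisimple (by omega) (by omega)
  have hqs : Cfsg.IsQuasisimple ↥L0 :=
    Cfsg.Agent.Lib.Helper29.qs_of_mulEquiv (MonoidHom.ofInjective upL_injective) hqsSL
  have hcentL0 : ∀ g, g ∈ Subgroup.centralizer (L0 : Set (SpecialLinearGroup (Fin (m + 1)) F))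
      ↔ IsK g :=
    fun g => ⟨isK_of_mem_centralizer (by omega), mem_centralizer_of_isK⟩
  have hnorm : ∀ g ∈ C, ∀ x ∈ L0, g * x * g⁻¹ ∈ L0 := by
    rintro g hg _ ⟨A, rfl⟩
    exact conj_upL_mem h2 t ht g hg A
  have hCN : C ≤ Subgroup.normalizer (L0 : Set (SpecialLinearGroup (Fin (m + 1)) F)) := by
    intro g hg
    rw [Subgroup.mem_normalizer_iff]
    intro x
    constructor
    · exact hnorm g hg x
    · intro hx
      have := hnorm g⁻¹ (Subgroup.inv_mem _ hg) _ hx
      simpa [mul_assoc] using this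
  have htC : t ∈ C := by
    rw [hC, Subgroup.mem_centralizer_singleton_iff]
  have ht2 : orderOf t = 2 :=
    orderOf_eq_prime (by rw [sq]; exact t_mul_self ht) (t_ne_one h2 (by omega) ht)
  -- involutions of K
  have hinv : ∀ x : SpecialLinearGroup (Fin (m + 1)) F, IsK x → orderOf x = 2 → x = t := by
    intro x hx hx2
    apply mt_ext
    rw [ht]
    apply isK_involution (by omega) hme hx
    · rw [← sq, ← hx2, pow_orderOf_eq_one]
    · intro h
      rw [h, orderOf_one] at hx2
      omega
  -- the layer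
  have hlayer : (Cfsg.layer ↥C).map C.subtype = L0 := by
    have hL1n : (L0.subgroupOf C).Normal :=
      (Subgroup.normal_subgroupOf_iff_le_normalizer hL0C).mpr hCN
    have hL1q : Cfsg.IsQuasisimple ↥(L0.subgroupOf C) :=
      Cfsg.Agent.Lib.Helper29.qs_of_mulEquiv (Subgroup.subgroupOfEquivOfLe hL0C).symm hqs
    have hL1 : Cfsg.IsComponent (L0.subgroupOf C) := ⟨hL1n.isSubnormal, hL1q⟩
    have hall : ∀ K' : Subgroup ↥C, Cfsg.IsComponent K' → K' = L0.subgroupOf C := by
      intro K' hK'
      by_contra hne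
      have hcomm := Cfsg.Agent.Lib.Helper30.component_commute hK' hL1 hne
      rw [Subgroup.commutator_eq_bot_iff_le_centralizer] at hcomm
      have hK'K : ∀ a ∈ K', IsK (a : SpecialLinearGroup (Fin (m + 1)) F) := by
        intro a ha
        rw [← hcentL0]
        rw [Subgroup.mem_centralizer_iff]
        intro y hy
        have h1 := Subgroup.mem_centralizer_iff.mp (hcomm ha) ⟨y, hL0C hy⟩
          (Subgroup.mem_subgroupOf.mpr hy)
        exact congrArg Subtype.val h1
      have hsolv : Group.IsSolvable ↥K' := by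
        apply Group.isSolvable_of_comm
        intro a b
        apply Subtype.ext
        apply Subtype.ext
        exact isK_comm (hK'K a.1 a.2) (hK'K b.1 b.2)
      exact Cfsg.Agent.Lib.Helper30.component_not_le_solvable hK' hsolv le_rfl
    have : Cfsg.layer ↥C = L0.subgroupOf C := by
      unfold Cfsg.layer
      have hset : {K : Subgroup ↥C | Cfsg.IsComponent K} = {L0.subgroupOf C} := by
        ext K'
        constructor
        · intro hK'
          exact hall K' hK'
        · intro hK'
          rw [Set.mem_singleton_iff] at hK'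
          rw [hK']
          exact hL1
      rw [hset, sSup_singleton]
    rw [this, Subgroup.map_subgroupOf_eq_of_le hL0C]
  rw [hlayer]
  -- `L0` is not commutative
  have hnc : ∃ A B : SpecialLinearGroup (Fin m) F, A * B ≠ B * A := by
    by_contra hcon
    push Not at hcon
    apply Cfsg.Agent.Lib.Helper29.qs_center_ne_top hqsSL
    rw [eq_top_iff]
    intro A _
    rw [Subgroup.mem_center_iff]
    intro B
    exact hcon B A
  have hNK : ∀ g : SpecialLinearGroup (Fin (m + 1)) F,
      g ∈ Subgroup.normalizer ((Subgroup.centralizer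
        (L0 : Set (SpecialLinearGroup (Fin (m + 1)) F)) : Subgroup _) : Set _) → g ∈ C := by
    intro g hg
    have h1 : g * t * g⁻¹ ∈ Subgroup.centralizer (L0 : Set (SpecialLinearGroup (Fin (m + 1)) F)) :=
      (Subgroup.mem_normalizer_iff.mp hg t).mp ((hcentL0 t).mpr (t_isK ht))
    have h3 : orderOf (g * t * g⁻¹) = 2 := by
      have : g * t * g⁻¹ = MulAut.conj g t := by simp
      rw [this, MulEquiv.orderOf_eq, ht2]
    have h4 := hinv _ ((hcentL0 _).mp h1) h3
    rw [hC, Subgroup.mem_centralizer_singleton_iff]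
    calc g * t = (g * t * g⁻¹) * g := by group
      _ = t * g := by rw [h4]
  refine ⟨hqs, ⟨?_, ?_⟩, ?_, ?_⟩
  · -- even order
    rw [even_iff_two_dvd, ← ht2]
    have : orderOf (⟨t, (hcentL0 t).mpr (t_isK ht)⟩ :
        Subgroup.centralizer (L0 : Set (SpecialLinearGroup (Fin (m + 1)) F))) = orderOf t :=
      Subgroup.orderOf_mk _ _
    rw [← this]
    exact orderOf_dvd_natCard _
  · intro g hg
    by_contra hodd
    rw [Nat.not_odd_iff_even, even_iff_two_dvd] at hodd
    have : Fact (Nat.Prime 2) := ⟨Nat.prime_two⟩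
    obtain ⟨x, hx⟩ := exists_prime_orderOf_dvd_card' (G := ↥(Subgroup.centralizer
      (L0 : Set (SpecialLinearGroup (Fin (m + 1)) F)) ⊓ (Subgroup.centralizer
      (L0 : Set (SpecialLinearGroup (Fin (m + 1)) F))).map (MulAut.conj g).toMonoidHom)) 2 hodd
    rw [← Subgroup.orderOf_coe] at hx
    have hxm := x.2
    rw [Subgroup.mem_inf] at hxm
    obtain ⟨hx1, y, hy, hyx⟩ := hxm
    have hxt := hinv _ ((hcentL0 _).mp hx1) hx
    have hy2 : orderOf y = 2 := by
      rw [← hx, ← hyx, MulEquiv.coe_toMonoidHom, MulEquiv.orderOf_eq]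
    have hyt := hinv _ ((hcentL0 _).mp hy) hy2
    apply hg
    apply normalizer_le_normalizer_centralizer
    apply hCN
    rw [hC, Subgroup.mem_centralizer_singleton_iff]
    rw [hyt, hxt] at hyx
    simp only [MulEquiv.coe_toMonoidHom, MulAut.conj_apply] at hyx
    calc g * t = (g * t * g⁻¹) * g := by group
      _ = t * g := by rw [hyx]
  · intro g _ hcomm
    rw [Subgroup.commutator_comm, Subgroup.commutator_eq_bot_iff_le_centralizer] at hcomm
    obtain ⟨A, B, hAB⟩ := hnc
    apply hAB
    have hA : MulAut.conj g (upL F m A) ∈ L0.map (MulAut.conj g).toMonoidHom :=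
      ⟨_, ⟨A, rfl⟩, rfl⟩
    have hB : MulAut.conj g (upL F m B) ∈ L0.map (MulAut.conj g).toMonoidHom :=
      ⟨_, ⟨B, rfl⟩, rfl⟩
    have h1 := isK_comm ((hcentL0 _).mp (hcomm hA)) ((hcentL0 _).mp (hcomm hB))
    rw [← map_mul, ← map_mul, ← map_mul, ← map_mul] at h1
    exact upL_injective ((MulAut.conj g).injective h1)
  · apply le_antisymm (normalizer_le_normalizer_centralizer L0)
    intro g hg
    exact hCN (hNK g hg)

end Cfsg.Agent.Lib.Helper30.SLBlock
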