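import Mathlib

set_option autoImplicit false
set_option linter.style.haveILetI false

namespace Cfsg.Agent.Lib.Helper30.SN

open Subgroup

/-- A nontrivial finite group in which every nontrivial subgroup is self-normalizing has prime order. -/
theorem prime_card_of_forall_normalizer_eq {Q : Type*} [Group Q] [Finite Q] [Nontrivial Q]
    (h : ∀ K : Subgroup Q, K ≠ ⊥ → Subgroup.normalizer (K : Set Q) = K) : (Nat.card Q).Prime := by
  classical
  have hsimple : IsSimpleGroup Q := by
    refine ⟨fun K hK => ?_⟩
    by_cases hb : K = ⊥
    · exact Or.inl hb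
    · right
      have := h K hb
      rw [Subgroup.normalizer_eq_top] at this
      exact this.symm
  have hcard : Nat.card Q ≠ 1 := by
    intro h1
    have := (Nat.card_eq_one_iff_unique.mp h1).1
    exact not_subsingleton Q this
  set p := (Nat.card Q).minFac with hp
  have hpp : p.Prime := Nat.minFac_prime hcard
  haveI : Fact p.Prime := ⟨hpp⟩
  have hpd : p ∣ Nat.card Q := Nat.minFac_dvd _
  let P : Sylow p Q := default
  have hPne : (P : Subgroup Q) ≠ ⊥ := by
    intro hbot
    have h1 : Nat.card (P : Subgroup Q) = 1 := by rw [hbot]; exact Subgroup.card_bot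
    have h2 := P.card_eq_multiplicity
    rw [h1] at h2
    have : (Nat.card Q).factorization p = 0 := by
      by_contra hne
      have : 1 < p ^ (Nat.card Q).factorization p := Nat.one_lt_pow hne hpp.one_lt
      omega
    have hfin : Nat.card Q ≠ 0 := Nat.card_pos.ne'
    have := (hpp.factorization_pos_of_dvd hfin hpd)
    omega
  haveI : Nontrivial (P : Subgroup Q) := (Subgroup.nontrivial_iff_ne_bot _).mpr hPne
  haveI hcen : Nontrivial (Subgroup.center (P : Subgroup Q)) := IsPGroup.center_nontrivial P.isPGroup'
  obtain ⟨z, hz⟩ := exists_ne (1 : Subgroup.center (P : Subgroup Q))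
  -- K = zpowers of z in Q
  set z' : Q := ((z : (P : Subgroup Q)) : Q) with hz'
  have hz'ne : z' ≠ 1 := by
    intro h1
    apply hz
    ext
    exact h1
  have hKne : Subgroup.zpowers z' ≠ ⊥ := by
    intro hb
    exact hz'ne (Subgroup.zpowers_eq_bot.mp hb)
  have hPle : (P : Subgroup Q) ≤ Subgroup.zpowers z' := by
    have hN := h _ hKne
    intro g hg
    have : g ∈ Subgroup.normalizer ((Subgroup.zpowers z' : Subgroup Q) : Set Q) := by
      rw [Subgroup.mem_normalizer_iff]
      have hcomm : g * z' = z' * g := by
        have := z.2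
        rw [Subgroup.mem_center_iff] at this
        have h2 := this ⟨g, hg⟩
        have h3 := congrArg (fun x : (P : Subgroup Q) => (x : Q)) h2
        simpa using h3
      have hcz : ∀ k : ℤ, g * z' ^ k * g⁻¹ = z' ^ k := by
        intro k
        have : Commute g (z' ^ k) := (show Commute g z' from hcomm).zpow_right k
        rw [this.eq, mul_assoc, mul_inv_cancel, mul_one]
      intro x
      constructor
      · rintro ⟨k, rfl⟩
        exact ⟨k, (hcz k).symm⟩
      · rintro ⟨k, hk⟩
        refine ⟨k, ?_⟩
        have : x = g⁻¹ * (g * x * g⁻¹) * g := by group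
        rw [this, ← hk]
        have := hcz k
        calc z' ^ k = g⁻¹ * (g * z' ^ k * g⁻¹) * g := by group
          _ = g⁻¹ * z' ^ k * g := by rw [this]
    rw [hN] at this
    exact this
  have hPeq : (P : Subgroup Q) = Subgroup.zpowers z' :=
    le_antisymm hPle (by
      rw [Subgroup.zpowers_le]
      exact (z : (P : Subgroup Q)).2)
  have hPcomm : ∀ a ∈ (P : Subgroup Q), ∀ b ∈ (P : Subgroup Q), a * b = b * a := by
    intro a ha b hb
    rw [hPeq] at ha hb
    obtain ⟨i, rfl⟩ := ha
    obtain ⟨j, rfl⟩ := hb
    exact (Commute.refl z').zpow_zpow i j |>.eq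
  have hNP : Subgroup.normalizer ((P : Subgroup Q) : Set Q) ≤ Subgroup.centralizer ((P : Subgroup Q) : Set Q) := by
    rw [h _ hPne]
    intro a ha
    rw [Subgroup.mem_centralizer_iff]
    intro b hb
    exact hPcomm b hb a ha
  have hcompl := MonoidHom.ker_transferSylow_isComplement' P hNP
  have hker := hsimple.eq_bot_or_eq_top_of_normal (MonoidHom.transferSylow P hNP).ker inferInstance
  have hPtop : (P : Subgroup Q) = ⊤ := by
    rcases hker with hk | hk
    · rw [hk] at hcompl
      exact Subgroup.isComplement'_bot_left.mp hcompl |> fun h => h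
    · rw [hk] at hcompl
      exact absurd (Subgroup.isComplement'_top_left.mp hcompl) hPne
  have hcommQ : ∀ a b : Q, a * b = b * a := by
    intro a b
    exact hPcomm a (by rw [hPtop]; trivial) b (by rw [hPtop]; trivial)
  letI : CommGroup Q := { ‹Group Q› with mul_comm := hcommQ }
  exact IsSimpleGroup.prime_card

/-- LEMMA 1: if every non-abelian subgroup of `G` is self-normalizing and `U` is abelian, then
`N(U) = C(U)`, or `C(U)` is abelian and `|N(U) : C(U)|` is prime. -/
theorem normalizer_eq_centralizer_or_prime {G : Type*} [Group G] [Finite G]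
    (hSN : ∀ H : Subgroup G, ¬ IsMulCommutative H → Subgroup.normalizer (H : Set G) = H)
    (U : Subgroup G) (hU : IsMulCommutative U) :
    Subgroup.normalizer (U : Set G) = Subgroup.centralizer (U : Set G) ∨
    (IsMulCommutative (Subgroup.centralizer (U : Set G)) ∧
      ((Subgroup.centralizer (U : Set G)).relIndex (Subgroup.normalizer (U : Set G))).Prime) := by
  classical
  set N : Subgroup G := Subgroup.normalizer (U : Set G) with hN
  set C : Subgroup G := Subgroup.centralizer (U : Set G) with hC
  have hCN : C ≤ N := Subgroup.centralizer_le_normalizer _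
  have hUC : U ≤ C := Subgroup.le_centralizer_iff_isMulCommutative.mpr hU
  by_cases hEq : N = C
  · exact Or.inl hEq
  right
  have hker : U.normalizerMonoidHom.ker = C.subgroupOf N := Subgroup.normalizerMonoidHom_ker U
  have hnormal : (C.subgroupOf N).Normal := hker ▸ inferInstance
  constructor
  · by_contra hnc
    have h1 := hSN C hnc
    have h2 : N ≤ Subgroup.normalizer (C : Set G) :=
      (Subgroup.normal_subgroupOf_iff_le_normalizer hCN).mp hnormal
    rw [h1] at h2
    exact hEq (le_antisymm h2 hCN)
  · -- the quotient
    set Q := N ⧸ (C.subgroupOf N) with hQ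
    have hnt : Nontrivial Q := by
      by_contra hnt
      rw [not_nontrivial_iff_subsingleton] at hnt
      have : C.subgroupOf N = ⊤ := QuotientGroup.subgroup_eq_top_of_subsingleton _ hnt
      rw [Subgroup.subgroupOf_eq_top] at this
      exact hEq (le_antisymm this hCN)
    have key : ∀ K : Subgroup Q, K ≠ ⊥ → Subgroup.normalizer (K : Set Q) = K := by
      intro K hK
      set K' : Subgroup G := (K.comap (QuotientGroup.mk' (C.subgroupOf N))).map N.subtype with hK'
      have memK' : ∀ x : G, x ∈ K' ↔ ∃ hx : x ∈ N, (QuotientGroup.mk' (C.subgroupOf N)) ⟨x, hx⟩ ∈ K := by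
        intro x
        rw [hK', Subgroup.mem_map]
        constructor
        · rintro ⟨y, hy, rfl⟩
          exact ⟨y.2, hy⟩
        · rintro ⟨hx, hxK⟩
          exact ⟨⟨x, hx⟩, hxK, rfl⟩
      have hnc : ¬ IsMulCommutative K' := by
        intro hcomm
        obtain ⟨⟨q, hqK⟩, hq1⟩ := (Subgroup.ne_bot_iff_exists_ne_one).mp hK
        obtain ⟨n, rfl⟩ := QuotientGroup.mk'_surjective (C.subgroupOf N) q
        have hnC : (n : G) ∉ C := by
          intro hnC
          apply hq1
          ext
          show (QuotientGroup.mk' (C.subgroupOf N)) n = 1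
          rw [QuotientGroup.mk'_apply, QuotientGroup.eq_one_iff]
          exact Subgroup.mem_subgroupOf.mpr hnC
        rw [hC, Subgroup.mem_centralizer_iff] at hnC
        push Not at hnC
        obtain ⟨u, huU, hun⟩ := hnC
        have hnK' : (n : G) ∈ K' := (memK' _).mpr ⟨n.2, hqK⟩
        have huK' : u ∈ K' := by
          refine (memK' _).mpr ⟨hCN (hUC huU), ?_⟩
          have : (QuotientGroup.mk' (C.subgroupOf N)) ⟨u, hCN (hUC huU)⟩ = 1 := by
            rw [QuotientGroup.mk'_apply, QuotientGroup.eq_one_iff]
            exact Subgroup.mem_subgroupOf.mpr (hUC huU)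
          rw [this]
          exact K.one_mem
        have := hcomm.is_comm.comm ⟨u, huK'⟩ ⟨(n : G), hnK'⟩
        exact hun (congrArg Subtype.val this)
      have hself := hSN K' hnc
      apply le_antisymm _ Subgroup.le_normalizer
      intro q hq
      obtain ⟨n, rfl⟩ := QuotientGroup.mk'_surjective (C.subgroupOf N) q
      have hn : (n : G) ∈ Subgroup.normalizer (K' : Set G) := by
        rw [Subgroup.mem_normalizer_iff]
        intro x
        rw [memK', memK']
        rw [Subgroup.mem_normalizer_iff] at hq
        constructor
        · rintro ⟨hx, hxK⟩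
          refine ⟨N.mul_mem (N.mul_mem n.2 hx) (N.inv_mem n.2), ?_⟩
          have := (hq _).mp hxK
          convert this using 1
          rw [← map_inv, ← map_mul, ← map_mul]
          rfl
        · rintro ⟨hx, hxK⟩
          have hxN : x ∈ N := by
            have := N.mul_mem (N.mul_mem (N.inv_mem n.2) hx) n.2
            simpa [mul_assoc] using this
          refine ⟨hxN, ?_⟩
          apply (hq _).mpr
          convert hxK using 1
          rw [← map_inv, ← map_mul, ← map_mul]
          rfl
      rw [hself, memK'] at hn
      obtain ⟨hx, hxK⟩ := hn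
      exact hxK
    have hp := @prime_card_of_forall_normalizer_eq Q _ _ hnt key
    rw [Subgroup.relIndex, Subgroup.index_eq_card]
    exact hp

end Cfsg.Agent.Lib.Helper30.SN
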