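import Cfsg.Agent.Lib.Helper30.SNLemma1
import Cfsg.Agent.S0071

set_option autoImplicit false
set_option linter.style.haveILetI false
set_option maxHeartbeats 800000

namespace Cfsg.Agent.Lib.Helper30.SN

open Subgroup

/-- conjugation by an element of `N(U)` preserves `C(U)`. -/
theorem conj_mem_centralizer_of_mem_normalizer {G : Type*} [Group G] (U : Subgroup G) {n a : G}
    (hn : n ∈ Subgroup.normalizer (U : Set G)) (ha : a ∈ Subgroup.centralizer (U : Set G)) :
    n * a * n⁻¹ ∈ Subgroup.centralizer (U : Set G) := by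
  rw [Subgroup.mem_centralizer_iff] at ha ⊢
  intro u hu
  have hu' : n⁻¹ * u * n ∈ (U : Set G) := by
    have hn' : n⁻¹ ∈ Subgroup.normalizer (U : Set G) := Subgroup.inv_mem _ hn
    have := (Subgroup.mem_normalizer_iff.mp hn' u).mp hu
    simpa using this
  have h1 := ha _ hu'
  -- (n⁻¹ u n) a = a (n⁻¹ u n)
  calc u * (n * a * n⁻¹) = n * ((n⁻¹ * u * n) * a) * n⁻¹ := by group
    _ = n * (a * (n⁻¹ * u * n)) * n⁻¹ := by rw [h1]
    _ = n * a * n⁻¹ * u := by group

/-- LEMMA B: in a non-abelian simple group all of whose non-abelian subgroups are self-normalizing,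
every Sylow subgroup is abelian. -/
theorem sylow_isMulCommutative {G : Type*} [Group G] [Finite G] [IsSimpleGroup G]
    (hna : ¬ IsMulCommutative G)
    (hSN : ∀ H : Subgroup G, ¬ IsMulCommutative H → Subgroup.normalizer (H : Set G) = H)
    {p : ℕ} [Fact p.Prime] (P : Sylow p G) : IsMulCommutative (P : Subgroup G) := by
  classical
  have hpp : p.Prime := Fact.out
  by_contra hP
  -- Step 0: all Sylow p-subgroups are non-abelian
  have hall : ∀ P1 : Sylow p G, ¬ IsMulCommutative (P1 : Subgroup G) := by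
    intro P1 hc
    obtain ⟨g, rfl⟩ := MulAction.exists_smul_eq G P P1
    apply hP
    let e := Sylow.equivSMul P g
    refine ⟨⟨fun a b => ?_⟩⟩
    apply e.injective
    rw [map_mul, map_mul]
    exact hc.is_comm.comm _ _
  -- Step 1: no normal complement
  have hnocompl : ¬ ∃ N : Subgroup G, N.Normal ∧ N.IsComplement' (P : Subgroup G) := by
    rintro ⟨N, hNn, hNc⟩
    rcases hNn.eq_bot_or_eq_top with hN | hN
    · rw [hN] at hNc
      have hPtop : (P : Subgroup G) = ⊤ := Subgroup.isComplement'_bot_left.mp hNc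
      have hpg : IsPGroup p G := by
        intro g
        obtain ⟨k, hk⟩ := P.isPGroup' ⟨g, by rw [hPtop]; trivial⟩
        exact ⟨k, by simpa using congrArg Subtype.val hk⟩
      haveI : Nontrivial G := IsSimpleGroup.toNontrivial
      have hcn : Nontrivial (Subgroup.center G) := hpg.center_nontrivial
      have hcne : Subgroup.center G ≠ ⊥ := (Subgroup.nontrivial_iff_ne_bot _).mp hcn
      have hct : Subgroup.center G = ⊤ :=
        ((inferInstance : (Subgroup.center G).Normal).eq_bot_or_eq_top).resolve_left hcne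
      apply hna
      refine ⟨⟨fun a b => ?_⟩⟩
      have : b ∈ Subgroup.center G := by rw [hct]; trivial
      exact (Subgroup.mem_center_iff.mp this) a
    · rw [hN] at hNc
      have hPbot : (P : Subgroup G) = ⊥ := Subgroup.isComplement'_top_left.mp hNc
      apply hP
      refine ⟨⟨fun a b => ?_⟩⟩
      have hone : ∀ x ∈ (P : Subgroup G), x = 1 := fun x hx => Subgroup.mem_bot.mp (hPbot ▸ hx)
      have ha : (a : G) = 1 := hone _ a.2
      have hb : (b : G) = 1 := hone _ b.2
      ext
      simp [ha, hb]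
  -- Step 2: Frobenius
  rw [Cfsg.Agent.S0071.result P] at hnocompl
  push Not at hnocompl
  obtain ⟨U, hUP, g, hgN, hgcop, hgC⟩ := hnocompl
  have hPpg : IsPGroup p (P : Subgroup G) := P.isPGroup'
  have pel : ∀ x ∈ (P : Subgroup G), ∃ k : ℕ, x ^ p ^ k = 1 := by
    intro x hx
    obtain ⟨k, hk⟩ := hPpg ⟨x, hx⟩
    exact ⟨k, by simpa using congrArg Subtype.val hk⟩
  -- Step 3: U abelian
  have hUab : IsMulCommutative U := by
    by_contra hUn
    have hNU := hSN U hUn
    rw [hNU] at hgN
    obtain ⟨k, hk⟩ := pel g (hUP hgN)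
    have hdvd : orderOf g ∣ p ^ k := orderOf_dvd_of_pow_eq_one hk
    have hcop : Nat.Coprime (orderOf g) (p ^ k) := Nat.Coprime.pow_right k hgcop
    have h1 : orderOf g = 1 := Nat.Coprime.eq_one_of_dvd hcop hdvd
    rw [orderOf_eq_one_iff] at h1
    apply hgC
    rw [h1]
    exact Subgroup.one_mem _
  -- Step 4: Lemma 1 on U
  rcases normalizer_eq_centralizer_or_prime hSN U hUab with hEq | ⟨hCab, -⟩
  · rw [hEq] at hgN
    exact hgC hgN
  set C : Subgroup G := Subgroup.centralizer (U : Set G) with hC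
  have hCcomm : ∀ a ∈ C, ∀ b ∈ C, a * b = b * a := fun a ha b hb =>
    congrArg Subtype.val (hCab.is_comm.comm ⟨a, ha⟩ ⟨b, hb⟩)
  have hUC : U ≤ C := Subgroup.le_centralizer_iff_isMulCommutative.mpr hUab
  -- Step 5: A = p-elements of C
  let A : Subgroup G :=
    { carrier := {c | c ∈ C ∧ ∃ k : ℕ, c ^ p ^ k = 1}
      one_mem' := ⟨C.one_mem, 0, by simp⟩
      mul_mem' := by
        rintro a b ⟨ha, ka, hka⟩ ⟨hb, kb, hkb⟩
        refine ⟨C.mul_mem ha hb, ka + kb, ?_⟩
        have hcomm : Commute a b := hCcomm a ha b hb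
        rw [hcomm.mul_pow, pow_add, pow_mul, hka, one_pow, one_mul, mul_comm (p ^ ka), pow_mul, hkb,
          one_pow]
      inv_mem' := by
        rintro a ⟨ha, ka, hka⟩
        exact ⟨C.inv_mem ha, ka, by rw [inv_pow, hka, inv_one]⟩ }
  have memA : ∀ x : G, x ∈ A ↔ x ∈ C ∧ ∃ k : ℕ, x ^ p ^ k = 1 := fun x => Iff.rfl
  have hAC : A ≤ C := fun x hx => ((memA x).mp hx).1
  have hUA : U ≤ A := fun u hu => (memA u).mpr ⟨hUC hu, pel u (hUP hu)⟩
  have hApg : IsPGroup p A := by
    intro a
    obtain ⟨k, hk⟩ := ((memA a).mp a.2).2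
    exact ⟨k, Subtype.ext (by simpa using hk)⟩
  have hAab : IsMulCommutative A :=
    ⟨⟨fun a b => Subtype.ext (hCcomm a (hAC a.2) b (hAC b.2))⟩⟩
  -- Step 6: C(A) = C(U)
  have hCA : Subgroup.centralizer (A : Set G) = C := by
    apply le_antisymm
    · exact Subgroup.centralizer_le (fun u hu => hUA hu)
    · intro c hc
      rw [Subgroup.mem_centralizer_iff]
      intro a ha
      exact hCcomm a (hAC ha) c hc
  -- N(U) ≤ N(A)
  have hNUA : Subgroup.normalizer (U : Set G) ≤ Subgroup.normalizer (A : Set G) := by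
    have fwd : ∀ n ∈ Subgroup.normalizer (U : Set G), ∀ a ∈ A, n * a * n⁻¹ ∈ A := by
      intro n hn a ha
      obtain ⟨haC, k, hk⟩ := (memA a).mp ha
      refine (memA _).mpr ⟨conj_mem_centralizer_of_mem_normalizer U hn haC, k, ?_⟩
      rw [conj_pow, hk, mul_one, mul_inv_cancel]
    intro n hn
    rw [Subgroup.mem_normalizer_iff]
    intro a
    constructor
    · exact fwd n hn a
    · intro h
      have := fwd n⁻¹ (Subgroup.inv_mem _ hn) _ h
      simpa [mul_assoc] using this
  have hgNA : g ∈ Subgroup.normalizer (A : Set G) := hNUA hgN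
  have hgCA : g ∉ Subgroup.centralizer (A : Set G) := by rw [hCA]; exact hgC
  -- Step 7: Lemma 1 on A
  rcases normalizer_eq_centralizer_or_prime hSN A hAab with hEqA | ⟨-, hprime⟩
  · rw [hEqA] at hgNA
    exact hgCA hgNA
  set NA : Subgroup G := Subgroup.normalizer (A : Set G) with hNA
  set CA : Subgroup G := Subgroup.centralizer (A : Set G) with hCAdef
  have hCANA : CA ≤ NA := Subgroup.centralizer_le_normalizer _
  have hnormal : (CA.subgroupOf NA).Normal := by
    have := Subgroup.normalizerMonoidHom_ker A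
    rw [← this]
    infer_instance
  have hpow : ∀ n ∈ NA, n ^ (CA.relIndex NA) ∈ CA := by
    intro n hn
    have := Subgroup.pow_index_mem (CA.subgroupOf NA) ⟨n, hn⟩
    rw [Subgroup.mem_subgroupOf] at this
    change n ^ (CA.subgroupOf NA).index ∈ CA
    simpa using this
  -- Step 8: P1 ⊇ A, s ∈ N_{P1}(A) \ A
  obtain ⟨P1, hAP1⟩ := hApg.exists_le_sylow
  have hP1na := hall P1
  have hAneP1 : A.subgroupOf (P1 : Subgroup G) < ⊤ := by
    rw [lt_top_iff_ne_top]
    intro htop
    rw [Subgroup.subgroupOf_eq_top] at htop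
    have hEq : A = (P1 : Subgroup G) := le_antisymm hAP1 htop
    apply hP1na
    rw [← hEq]
    exact hAab
  haveI : Group.IsNilpotent (P1 : Subgroup G) := P1.isPGroup'.isNilpotent
  have hnc := (normalizerCondition_of_isNilpotent (G := (P1 : Subgroup G))) _ hAneP1
  obtain ⟨s', hs'N, hs'A⟩ := SetLike.exists_of_lt hnc
  set s : G := (s' : G) with hs
  have hsA : s ∉ A := fun h => hs'A (Subgroup.mem_subgroupOf.mpr h)
  have hsP1 : s ∈ (P1 : Subgroup G) := s'.2
  have hsNA : s ∈ NA := by
    rw [hNA, Subgroup.mem_normalizer_iff]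
    rw [Subgroup.mem_normalizer_iff] at hs'N
    intro a
    constructor
    · intro ha
      have := (hs'N ⟨a, hAP1 ha⟩).mp (Subgroup.mem_subgroupOf.mpr ha)
      rw [Subgroup.mem_subgroupOf] at this
      simpa using this
    · intro h
      have haP1 : a ∈ (P1 : Subgroup G) := by
        have h1 : s * a * s⁻¹ ∈ (P1 : Subgroup G) := hAP1 h
        have := (P1 : Subgroup G).mul_mem ((P1 : Subgroup G).mul_mem ((P1 : Subgroup G).inv_mem hsP1) h1) hsP1
        simpa [mul_assoc] using this
      have := (hs'N ⟨a, haP1⟩).mpr (by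
        rw [Subgroup.mem_subgroupOf]
        simpa using h)
      exact Subgroup.mem_subgroupOf.mp this
  obtain ⟨ks, hks⟩ : ∃ k : ℕ, s ^ p ^ k = 1 := by
    obtain ⟨k, hk⟩ := P1.isPGroup' s'
    exact ⟨k, by simpa using congrArg Subtype.val hk⟩
  -- Step 9: s ∉ C(A)
  have hsCA : s ∉ CA := by
    intro h
    have h' : s ∈ C := hCA ▸ h
    exact hsA ((memA s).mpr ⟨h', ks, hks⟩)
  -- Step 10: the prime index is p
  set r := CA.relIndex NA with hr
  have hrp : r = p := by
    by_contra hne
    have hcop : Nat.Coprime r (orderOf s) := by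
      have hdvd : orderOf s ∣ p ^ ks := orderOf_dvd_of_pow_eq_one hks
      have : Nat.Coprime r (p ^ ks) :=
        Nat.Coprime.pow_right ks ((Nat.coprime_primes hprime hpp).mpr hne)
      exact Nat.Coprime.coprime_dvd_right hdvd this
    obtain ⟨m, hm⟩ := exists_pow_eq_self_of_coprime hcop
    apply hsCA
    rw [← hm]
    exact CA.pow_mem (hpow s hsNA) m
  have hgp : g ^ p ∈ CA := hrp ▸ hpow g hgNA
  have hcop : Nat.Coprime p (orderOf g) := hgcop.symm
  obtain ⟨m, hm⟩ := exists_pow_eq_self_of_coprime hcop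
  apply hgCA
  rw [← hm]
  exact CA.pow_mem hgp m

end Cfsg.Agent.Lib.Helper30.SN
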