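import Mathlib

/-!
# K-SPC-C10 (keystone 267619): polynomial square roots of unipotent matrices, char ≠ 2.
Architect: helper73.  Spec: `notes/S2676_keystones.lean.txt`.
-/

set_option autoImplicit false

namespace Cfsg.Agent.Lib.Helper30.SPC

open Polynomial

/-- Newton iteration: a polynomial square root of `1 + X` modulo `X ^ (r+1)`, char ≠ 2. -/
theorem exists_sqrt_one_add_X {F : Type*} [Field F] (h2 : (2 : F) ≠ 0) (r : ℕ) :
    ∃ Q S A : F[X], Q * Q = 1 + X + X ^ (r + 1) * S ∧ Q = 1 + X * A := by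
  induction r with
  | zero =>
    refine ⟨1, -1, 0, ?_, ?_⟩
    · ring
    · ring
  | succ r ih =>
    obtain ⟨Q, S, A, hQ, hA⟩ := ih
    have hc : (C (2 : F)⁻¹ : F[X]) * 2 = 1 := by
      have : (2 : F[X]) = C (2 : F) := (map_ofNat C 2).symm
      rw [this, ← C_mul, inv_mul_cancel₀ h2, C_1]
    refine ⟨Q - C (2 : F)⁻¹ * X ^ (r + 1) * S,
      -(S * A) + C (2 : F)⁻¹ * C (2 : F)⁻¹ * X ^ r * S * S,
      A - C (2 : F)⁻¹ * X ^ r * S, ?_, ?_⟩
    · have e1 : (Q - C (2 : F)⁻¹ * X ^ (r + 1) * S) * (Q - C (2 : F)⁻¹ * X ^ (r + 1) * S)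
          = Q * Q - (C (2 : F)⁻¹ * 2) * X ^ (r + 1) * S * Q
            + C (2 : F)⁻¹ * C (2 : F)⁻¹ * X ^ (r + 1) * X ^ (r + 1) * S * S := by ring
      rw [e1, hc, hQ, hA]
      ring
    · rw [hA]; ring

/-- K-SPC-C10 -/
theorem exists_poly_sqrt {F : Type*} [Field F] {ι : Type*} [Fintype ι] [DecidableEq ι]
    (h2 : (2 : F) ≠ 0)
    (h : Matrix ι ι F) (hn : IsNilpotent (h - 1)) :
    ∃ P : Polynomial F, Polynomial.aeval h P * Polynomial.aeval h P = h := by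
  obtain ⟨k, hk⟩ := hn
  obtain ⟨Q, S, A, hQ, -⟩ := exists_sqrt_one_add_X h2 k
  refine ⟨Q.comp (X - C 1), ?_⟩
  have e : Polynomial.aeval h (Q.comp (X - C 1)) = Polynomial.aeval (h - 1) Q := by
    rw [Polynomial.aeval_comp]
    congr 1
    simp
  rw [e, ← map_mul, hQ]
  simp only [map_add, map_mul, map_one, map_pow, Polynomial.aeval_X]
  rw [pow_succ, hk]
  simp

end Cfsg.Agent.Lib.Helper30.SPC
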