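import Mathlib
import Cfsg.Prelude.Def_GeometricClasses
import Cfsg.Agent.Lib.Helper87.SU3Defs
import Cfsg.Agent.Lib.Helper19.Unitary
import Cfsg.Agent.Lib.Helper23.SUMaxD6c
import Cfsg.Agent.Lib.Helper51.FieldAutU1
import Cfsg.Agent.Lib.Helper46.UnitaryField2

/-!
# K-SU3-NF3 (577814, architect helper87): an absolutely irreducible symplectic-type group of order 27 inside
the similarity group of the Hermitian form on `F_25^3` is `GU`-conjugate to the standard Heisenberg group.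
-/

set_option autoImplicit false

namespace Cfsg.Agent.Lib.Helper30.SU3K

open Cfsg Cfsg.Geo Matrix Cfsg.Agent.Lib.Helper87.SU3

variable {F : Type*} [Field F]

local notation "M3" => Matrix (Fin 3) (Fin 3) F
local notation "G3" => GL (Fin 3) F

/-! ### cube roots of unity -/

theorem cube_root_cases {ω c : F} (hω : ω ^ 2 + ω + 1 = 0) (hc : c ^ 3 = 1) :
    c = 1 ∨ c = ω ∨ c = ω ^ 2 := by
  have h : (c - 1) * ((c - ω) * (c - ω ^ 2)) = 0 := by
    linear_combination hc + (ω - 1 - c) * (c - 1) * hω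
  rcases mul_eq_zero.1 h with h1 | h1
  · left; exact sub_eq_zero.1 h1
  · rcases mul_eq_zero.1 h1 with h2 | h2
    · right; left; exact sub_eq_zero.1 h2
    · right; right; exact sub_eq_zero.1 h2

theorem omega_cube {ω : F} (hω : ω ^ 2 + ω + 1 = 0) : ω ^ 3 = 1 := by
  linear_combination (ω - 1) * hω

theorem omega_ne_zero {ω : F} (hω : ω ^ 2 + ω + 1 = 0) : ω ≠ 0 := by
  rintro rfl
  simp at hω

theorem omega_sq_ne_one {ω : F} (hω : ω ^ 2 + ω + 1 = 0) (h1 : ω ≠ 1) : ω ^ 2 ≠ 1 := by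
  intro h
  have h2 : (ω - 1) * (ω + 1) = 0 := by linear_combination h
  rcases mul_eq_zero.1 h2 with h3 | h3
  · exact h1 (sub_eq_zero.1 h3)
  · have h4 : ω = -1 := by linear_combination h3
    rw [h4] at hω
    norm_num at hω

theorem omega_sq_ne_omega {ω : F} (hω : ω ^ 2 + ω + 1 = 0) (h1 : ω ≠ 1) : ω ^ 2 ≠ ω := by
  intro h
  have h2 : ω * (ω - 1) = 0 := by linear_combination h
  rcases mul_eq_zero.1 h2 with h3 | h3
  · exact omega_ne_zero hω h3
  · exact h1 (sub_eq_zero.1 h3)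

/-! ### matrices commuting with `aM`, `bM` -/

theorem scalar_of_commute {ω : F} (hω : ω ^ 2 + ω + 1 = 0) (h1 : ω ≠ 1) (M : M3)
    (ha : M * aM ω = aM ω * M) (hb : M * bM = bM * M) : M = M 0 0 • (1 : M3) := by
  have hω0 := omega_ne_zero hω
  have hω2 := omega_sq_ne_one hω h1
  have hω3 := omega_sq_ne_omega hω h1
  have ea := fun i j => congrFun (congrFun ha i) j
  have eb := fun i j => congrFun (congrFun hb i) j
  have a01 := ea 0 1
  have a02 := ea 0 2
  have a10 := ea 1 0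
  have a12 := ea 1 2
  have a20 := ea 2 0
  have a21 := ea 2 1
  have b00 := eb 1 0
  have b11 := eb 2 1
  simp [Matrix.mul_apply, Fin.sum_univ_three, aM, bM] at a01 a02 a10 a12 a20 a21 b00 b11
  have z01 : M 0 1 = 0 := by
    have : M 0 1 * (ω - 1) = 0 := by linear_combination a01
    rcases mul_eq_zero.1 this with h | h
    · exact h
    · exact absurd (sub_eq_zero.1 h) h1
  have z02 : M 0 2 = 0 := by
    have : M 0 2 * (ω ^ 2 - 1) = 0 := by linear_combination a02
    rcases mul_eq_zero.1 this with h | h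
    · exact h
    · exact absurd (sub_eq_zero.1 h) hω2
  have z10 : M 1 0 = 0 := by
    have : M 1 0 * (ω - 1) = 0 := by linear_combination -a10
    rcases mul_eq_zero.1 this with h | h
    · exact h
    · exact absurd (sub_eq_zero.1 h) h1
  have z12 : M 1 2 = 0 := by
    have : M 1 2 * (ω ^ 2 - ω) = 0 := by linear_combination a12
    rcases mul_eq_zero.1 this with h | h
    · exact h
    · exact absurd (sub_eq_zero.1 h) hω3
  have z20 : M 2 0 = 0 := by
    have : M 2 0 * (ω ^ 2 - 1) = 0 := by linear_combination -a20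
    rcases mul_eq_zero.1 this with h | h
    · exact h
    · exact absurd (sub_eq_zero.1 h) hω2
  have z21 : M 2 1 = 0 := by
    have : M 2 1 * (ω ^ 2 - ω) = 0 := by linear_combination -a21
    rcases mul_eq_zero.1 this with h | h
    · exact h
    · exact absurd (sub_eq_zero.1 h) hω3
  ext i j
  fin_cases i <;> fin_cases j <;> simp [z01, z02, z10, z12, z20, z21, b00, b11]

/-! ### the eigenbasis -/

theorem three_ne_zero_of_card [Fintype F] (hF : Fintype.card F = 25) : (3 : F) ≠ 0 := by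
  obtain ⟨p, hchar⟩ := CharP.exists F
  have hp : p.Prime := CharP.char_is_prime F p
  haveI : Fact p.Prime := ⟨hp⟩
  obtain ⟨n, hn⟩ := FiniteField.card F p
  have hp5 : p = 5 := by
    have h1 : p ∣ 25 := by
      rw [← hF, hn.2]
      exact dvd_pow_self p n.ne_zero
    have h2 : p ∣ 5 ^ 2 := by simpa using h1
    exact (Nat.prime_dvd_prime_iff_eq hp (by norm_num)).1 (hp.dvd_of_dvd_pow h2)
  subst hp5
  intro h3
  have : ((3 : ℕ) : F) = 0 := by simpa using h3
  rw [CharP.cast_eq_zero_iff F 5 3] at this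
  omega

/-- trace of a matrix conjugate to a non-trivial multiple of itself -/
theorem trace_eq_zero_of_conj {c : F} (hc : c ≠ 1) (A B Bi : M3) (hBi : Bi * B = 1)
    (h : A * B = c • (B * A)) : A.trace = 0 := by
  have hBi' : B * Bi = 1 := mul_eq_one_comm.1 hBi
  have e1 : A = c • (B * A * Bi) := by
    calc A = A * (B * Bi) := by rw [hBi', mul_one]
      _ = (A * B) * Bi := by rw [Matrix.mul_assoc]
      _ = c • (B * A * Bi) := by rw [h, Matrix.smul_mul]
  have e2 : (B * A * Bi).trace = A.trace := by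
    rw [Matrix.trace_mul_cycle, hBi, one_mul]
  have e3 : A.trace = c * A.trace := by
    conv_lhs => rw [e1]
    rw [Matrix.trace_smul, e2, smul_eq_mul]
  have e4 : (c - 1) * A.trace = 0 := by linear_combination -e3
  rcases mul_eq_zero.1 e4 with h5 | h5
  · exact absurd (sub_eq_zero.1 h5) hc
  · exact h5

theorem exists_fixed_vector [Fintype F] (hF : Fintype.card F = 25) {ω : F} (hω : ω ^ 2 + ω + 1 = 0)
    (h1 : ω ≠ 1) (A B Bi : M3) (hBi : Bi * B = 1) (hA3 : A * A * A = 1)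
    (hAB : A * B = ω • (B * A)) : ∃ v : Fin 3 → F, v ≠ 0 ∧ A *ᵥ v = v := by
  have h3 := three_ne_zero_of_card hF
  have hω2 := omega_sq_ne_one hω h1
  have t1 : A.trace = 0 := trace_eq_zero_of_conj h1 A B Bi hBi hAB
  have hAAB : (A * A) * B = (ω ^ 2) • (B * (A * A)) := by
    calc (A * A) * B = A * (A * B) := by rw [Matrix.mul_assoc]
      _ = ω • (A * (B * A)) := by rw [hAB, Matrix.mul_smul]
      _ = ω • ((A * B) * A) := by rw [Matrix.mul_assoc]
      _ = (ω ^ 2) • (B * (A * A)) := by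
        rw [hAB, Matrix.smul_mul, smul_smul, Matrix.mul_assoc, sq]
  have t2 : (A * A).trace = 0 := trace_eq_zero_of_conj hω2 (A * A) B Bi hBi hAAB
  set P : M3 := 1 + A + A * A with hP
  have hPtr : P.trace = 3 := by
    rw [hP, Matrix.trace_add, Matrix.trace_add, t1, t2, Matrix.trace_one]
    simp
  have hP0 : P ≠ 0 := by
    intro h
    rw [h, Matrix.trace_zero] at hPtr
    exact h3 hPtr.symm
  have hAP : A * P = P := by
    rw [hP, Matrix.mul_add, Matrix.mul_add, mul_one, ← Matrix.mul_assoc, hA3]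
    abel
  have : ∃ w : Fin 3 → F, P *ᵥ w ≠ 0 := by
    by_contra hcon
    push Not at hcon
    apply hP0
    ext i j
    have := congrFun (hcon (Pi.single j 1)) i
    rw [Matrix.mulVec_single_one] at this
    simpa using this
  obtain ⟨w, hw⟩ := this
  refine ⟨P *ᵥ w, hw, ?_⟩
  rw [Matrix.mulVec_mulVec, hAP]

theorem herm_eq_zero_of_eigen (A : M3)
    (hA : ∀ u w, hermForm 3 F 5 (A *ᵥ u) (A *ᵥ w) = hermForm 3 F 5 u w) (v w : Fin 3 → F) (l m : F)
    (hv : A *ᵥ v = l • v) (hw : A *ᵥ w = m • w) (hne : l * m ^ 5 ≠ 1) : hermForm 3 F 5 v w = 0 := by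
  have h := hA v w
  rw [hv, hw, Cfsg.Agent.Lib.Helper19.hermForm_smul_left, Cfsg.Agent.Lib.Helper19.hermForm_smul_right] at h
  have h2 : (l * m ^ 5 - 1) * hermForm 3 F 5 v w = 0 := by linear_combination h
  rcases mul_eq_zero.1 h2 with h3 | h3
  · exact absurd (sub_eq_zero.1 h3) hne
  · exact h3

theorem omega_pow_ne_one {ω : F} (hω : ω ^ 2 + ω + 1 = 0) (h1 : ω ≠ 1) (m : ℕ) (hm : m % 3 ≠ 0) :
    ω ^ m ≠ 1 := by
  rw [pow_eq_pow_mod m (omega_cube hω)]
  have : m % 3 = 1 ∨ m % 3 = 2 := by omega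
  rcases this with h | h <;> rw [h]
  · rwa [pow_one]
  · exact omega_sq_ne_one hω h1

theorem exists_unitary_frame [Fintype F] (hF : Fintype.card F = 25) {ω : F} (hω : ω ^ 2 + ω + 1 = 0)
    (h1 : ω ≠ 1) (a b : G3) (ha : a ∈ GU 3 F 5) (hb : b ∈ GU 3 F 5) (ha3 : a ^ 3 = 1) (hb3 : b ^ 3 = 1)
    (hab : (a : M3) * (b : M3) = ω • ((b : M3) * (a : M3))) :
    ∃ g ∈ GU 3 F 5, (a : M3) * (g : M3) = (g : M3) * aM ω ∧ (b : M3) * (g : M3) = (g : M3) * bM := by
  have hF' : Fintype.card F = 5 ^ 2 := by rw [hF]; norm_num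
  set A : M3 := (a : M3) with hAdef
  set B : M3 := (b : M3) with hBdef
  set Bi : M3 := ((b⁻¹ : G3) : M3) with hBidef
  have hBi : Bi * B = 1 := by rw [hBidef, hBdef, ← Units.val_mul, inv_mul_cancel, Units.val_one]
  have hA3 : A * A * A = 1 := by
    have := congrArg Units.val ha3
    rw [Units.val_pow_eq_pow_val, Units.val_one, pow_succ, pow_two] at this
    exact this
  have hB3 : B * B * B = 1 := by
    have := congrArg Units.val hb3
    rw [Units.val_pow_eq_pow_val, Units.val_one, pow_succ, pow_two] at this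
    exact this
  have hGUa : ∀ u w, hermForm 3 F 5 (A *ᵥ u) (A *ᵥ w) = hermForm 3 F 5 u w := ha
  have hGUb : ∀ u w, hermForm 3 F 5 (B *ᵥ u) (B *ᵥ w) = hermForm 3 F 5 u w := hb
  have hω0 := omega_ne_zero hω
  have hω3 := omega_cube hω
  obtain ⟨v₀, hv₀, hAv₀⟩ := exists_fixed_vector hF hω h1 A B Bi hBi hA3 hab
  have hBinj : ∀ v : Fin 3 → F, B *ᵥ v = 0 → v = 0 := by
    intro v hv
    have : Bi *ᵥ (B *ᵥ v) = v := by rw [Matrix.mulVec_mulVec, hBi, Matrix.one_mulVec]
    rw [← this, hv, Matrix.mulVec_zero]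
  set v₁ := B *ᵥ v₀ with hv₁def
  set v₂ := B *ᵥ v₁ with hv₂def
  have hBv₂ : B *ᵥ v₂ = v₀ := by
    rw [hv₂def, hv₁def, Matrix.mulVec_mulVec, Matrix.mulVec_mulVec, hB3,
      Matrix.one_mulVec]
  have hv₁ : v₁ ≠ 0 := fun h => hv₀ (hBinj _ h)
  have hv₂ : v₂ ≠ 0 := fun h => hv₁ (hBinj _ h)
  have hAv₁ : A *ᵥ v₁ = ω • v₁ := by
    rw [hv₁def, Matrix.mulVec_mulVec, hab, Matrix.smul_mulVec, ← Matrix.mulVec_mulVec, hAv₀]
  have hAv₂ : A *ᵥ v₂ = ω ^ 2 • v₂ := by
    rw [hv₂def, Matrix.mulVec_mulVec, hab, Matrix.smul_mulVec, ← Matrix.mulVec_mulVec, hAv₁,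
      Matrix.mulVec_smul, smul_smul, sq]
  -- the norm
  set N := hermForm 3 F 5 v₀ v₀ with hNdef
  have hN1 : hermForm 3 F 5 v₁ v₁ = N := by rw [hv₁def, hGUb]
  have hN2 : hermForm 3 F 5 v₂ v₂ = N := by rw [hv₂def, hGUb, hN1]
  have hAv₀' : A *ᵥ v₀ = (1 : F) • v₀ := by rw [one_smul, hAv₀]
  have o01 : hermForm 3 F 5 v₀ v₁ = 0 :=
    herm_eq_zero_of_eigen A hGUa v₀ v₁ 1 ω hAv₀' hAv₁ (by
      rw [one_mul]; exact omega_pow_ne_one hω h1 5 (by norm_num))
  have o02 : hermForm 3 F 5 v₀ v₂ = 0 :=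
    herm_eq_zero_of_eigen A hGUa v₀ v₂ 1 (ω ^ 2) hAv₀' hAv₂ (by
      rw [one_mul, ← pow_mul]; exact omega_pow_ne_one hω h1 10 (by norm_num))
  have o10 : hermForm 3 F 5 v₁ v₀ = 0 :=
    herm_eq_zero_of_eigen A hGUa v₁ v₀ ω 1 hAv₁ hAv₀' (by
      rw [one_pow, mul_one]; exact h1)
  have o12 : hermForm 3 F 5 v₁ v₂ = 0 :=
    herm_eq_zero_of_eigen A hGUa v₁ v₂ ω (ω ^ 2) hAv₁ hAv₂ (by
      rw [← pow_mul, ← pow_succ']; exact omega_pow_ne_one hω h1 11 (by norm_num))
  have o20 : hermForm 3 F 5 v₂ v₀ = 0 :=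
    herm_eq_zero_of_eigen A hGUa v₂ v₀ (ω ^ 2) 1 hAv₂ hAv₀' (by
      rw [one_pow, mul_one]; exact omega_sq_ne_one hω h1)
  have o21 : hermForm 3 F 5 v₂ v₁ = 0 :=
    herm_eq_zero_of_eigen A hGUa v₂ v₁ (ω ^ 2) ω hAv₂ hAv₁ (by
      rw [← pow_add]; exact omega_pow_ne_one hω h1 7 (by norm_num))
  -- linear independence
  have hinj : Function.Injective (fun i : Fin 3 => ω ^ (i : ℕ)) := by
    intro i j hij
    by_contra hne
    have key : ∀ i j : Fin 3, (i : ℕ) < (j : ℕ) → ω ^ (i : ℕ) = ω ^ (j : ℕ) → False := by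
      intro i j hlt hij
      have h' : ω ^ (i : ℕ) * ω ^ ((j : ℕ) - i) = ω ^ (i : ℕ) * 1 := by
        rw [← pow_add, Nat.add_sub_cancel' hlt.le, mul_one]; exact hij.symm
      have h'' := mul_left_cancel₀ (pow_ne_zero _ hω0) h'
      have hi := i.2
      have hj := j.2
      exact omega_pow_ne_one hω h1 ((j : ℕ) - i) (by omega) h''
    rcases lt_or_gt_of_ne (Fin.val_ne_of_ne hne) with hlt | hlt
    · exact key i j hlt hij
    · exact key j i hlt hij.symm
  set vv : Fin 3 → (Fin 3 → F) := ![v₀, v₁, v₂] with hvv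
  have heig : ∀ i, A *ᵥ vv i = ω ^ (i : ℕ) • vv i := by
    intro i
    fin_cases i
    · simpa [hvv] using hAv₀
    · simpa [hvv] using hAv₁
    · simpa [hvv] using hAv₂
  have hvne : ∀ i, vv i ≠ 0 := by
    intro i
    fin_cases i
    · simpa [hvv] using hv₀
    · simpa [hvv] using hv₁
    · simpa [hvv] using hv₂
  have hli : LinearIndependent F vv := by
    apply Module.End.eigenvectors_linearIndependent' (Matrix.toLin' A) (fun i : Fin 3 => ω ^ (i : ℕ)) hinj vv
    intro i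
    rw [Module.End.hasEigenvector_iff, Module.End.mem_eigenspace_iff, Matrix.toLin'_apply]
    exact ⟨heig i, hvne i⟩
  have hunit : IsUnit (Matrix.of vv) := Matrix.linearIndependent_rows_iff_isUnit.1 hli
  have hherm : ∀ i j, hermForm 3 F 5 (vv i) (vv j) = if i = j then N else 0 := by
    intro i j
    fin_cases i <;> fin_cases j <;> simp [hvv, o01, o02, o10, o12, o20, o21, hN1, hN2, hNdef]
  -- `N ≠ 0`
  have hN0 : N ≠ 0 := by
    intro hN0
    have hz : Matrix.of vv * Matrix.of (fun k j : Fin 3 => (vv j k) ^ 5) = 0 := by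
      ext i j
      rw [Matrix.mul_apply]
      have := hherm i j
      rw [hN0] at this
      simp only [ite_self] at this
      simpa [hermForm] using this
    obtain ⟨u, hu⟩ := hunit
    have hz2 : Matrix.of (fun k j : Fin 3 => (vv j k) ^ 5) = 0 := by
      have : ((u⁻¹ : (Matrix (Fin 3) (Fin 3) F)ˣ) : M3) * (Matrix.of vv *
          Matrix.of (fun k j : Fin 3 => (vv j k) ^ 5)) = 0 := by rw [hz, mul_zero]
      rwa [← Matrix.mul_assoc, ← hu, ← Units.val_mul, inv_mul_cancel, Units.val_one, one_mul] at this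
    apply hvne 0
    funext k
    have := congrFun (congrFun hz2 k) 0
    simp only [Matrix.of_apply, Matrix.zero_apply] at this
    exact pow_eq_zero_iff (by norm_num) |>.1 this
  have hN5 : N ^ 5 = N := Cfsg.Agent.Lib.Helper19.hermForm_conj hF' v₀ v₀
  obtain ⟨c, hc⟩ := Cfsg.Agent.Lib.Helper46.exists_norm_eq hF' N
    (by rw [Cfsg.Agent.Lib.Helper46.frobRing_apply]; exact hN5) hN0
  rw [Cfsg.Agent.Lib.Helper46.frobRing_apply] at hc
  have hc0 : c ≠ 0 := by
    rintro rfl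
    apply hN0
    rw [← hc, zero_mul]
  -- the rescaled frame
  set ww : Fin 3 → (Fin 3 → F) := fun i => c⁻¹ • vv i with hww
  have hherm' : ∀ i j, hermForm 3 F 5 (ww i) (ww j) = if i = j then 1 else 0 := by
    intro i j
    rw [hww]
    simp only
    rw [Cfsg.Agent.Lib.Helper19.hermForm_smul_left, Cfsg.Agent.Lib.Helper19.hermForm_smul_right, hherm]
    split_ifs with hij
    · rw [← hc]
      field_simp
    · simp
  have heig' : ∀ i, A *ᵥ ww i = ω ^ (i : ℕ) • ww i := by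
    intro i
    rw [hww]
    simp only
    rw [Matrix.mulVec_smul, heig, smul_comm]
  have hB0 : B *ᵥ ww 0 = ww 1 := by
    rw [hww]; simp only
    rw [Matrix.mulVec_smul]
    simp [hvv, hv₁def]
  have hB1 : B *ᵥ ww 1 = ww 2 := by
    rw [hww]; simp only
    rw [Matrix.mulVec_smul]
    simp [hvv, hv₂def]
  have hB2 : B *ᵥ ww 2 = ww 0 := by
    rw [hww]; simp only
    rw [Matrix.mulVec_smul]
    simp [hvv, hBv₂]
  set φ : F →+* F := Cfsg.Agent.Lib.Helper19.frobQ hF' with hφdef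
  have hφ : ∀ x, φ x = x ^ 5 := Cfsg.Agent.Lib.Helper19.frobQ_apply hF'
  set gm : M3 := Matrix.of (fun i j => ww j i) with hgm
  have hgram : gmᵀ * gm.map φ = 1 := by
    ext i j
    rw [Matrix.mul_apply]
    have := hherm' i j
    rw [Matrix.one_apply]
    simp only [hermForm] at this
    simpa [hgm, hφ] using this
  have hleft : (gm.map φ)ᵀ * gm = 1 := by
    have := congrArg Matrix.transpose hgram
    rwa [Matrix.transpose_mul, Matrix.transpose_transpose, Matrix.transpose_one] at this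
  have hright : gm * (gm.map φ)ᵀ = 1 := mul_eq_one_comm.1 hleft
  set g : G3 := ⟨gm, (gm.map φ)ᵀ, hright, hleft⟩ with hg
  have hgval : (g : M3) = gm := rfl
  refine ⟨g, ?_, ?_, ?_⟩
  · rw [Cfsg.Agent.Lib.Helper51.mem_GU_iff_mul φ hφ g, hgval]
    exact hgram
  · rw [hgval]
    ext i j
    have e : (A * gm) i j = (A *ᵥ ww j) i := rfl
    rw [e, heig' j]
    fin_cases j <;> simp [Matrix.mul_apply, Fin.sum_univ_three, aM, hgm, mul_comm]
  · rw [hgval]
    ext i j
    have e : (B * gm) i j = (B *ᵥ ww j) i := rfl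
    rw [e]
    fin_cases j
    · simp only [Fin.zero_eta, Fin.isValue]
      rw [hB0]
      simp [Matrix.mul_apply, Fin.sum_univ_three, bM, hgm]
    · simp only [Fin.mk_one, Fin.isValue]
      rw [hB1]
      simp [Matrix.mul_apply, Fin.sum_univ_three, bM, hgm]
    · simp only [Fin.reduceFinMk, Fin.isValue]
      rw [hB2]
      simp [Matrix.mul_apply, Fin.sum_univ_three, bM, hgm]

/-! ### words in the generators -/

theorem swap_pow {c : F} (A B : M3) (h : B * A = c • (A * B)) (k : ℕ) :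
    B ^ k * A = c ^ k • (A * B ^ k) := by
  induction k with
  | zero => simp
  | succ k ih =>
    calc B ^ (k + 1) * A = B ^ k * (B * A) := by rw [pow_succ, Matrix.mul_assoc]
      _ = c • ((B ^ k * A) * B) := by rw [h, Matrix.mul_smul, Matrix.mul_assoc]
      _ = c ^ (k + 1) • (A * B ^ (k + 1)) := by
        rw [ih, Matrix.smul_mul, smul_smul, Matrix.mul_assoc, ← pow_succ, ← pow_succ']

theorem conj_word {ω : F} (A B G Gi : M3) (hGi : Gi * G = 1) (hag : A * G = G * aM ω)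
    (hbg : B * G = G * bM) (i j k : ℕ) :
    Gi * (ω ^ i • (A ^ j * B ^ k)) * G = ω ^ i • (aM ω ^ j * bM ^ k) := by
  have hA : G * aM ω ^ j = A ^ j * G := (SemiconjBy.pow_right (show SemiconjBy G (aM ω) A from hag.symm) j)
  have hB : G * bM ^ k = B ^ k * G := (SemiconjBy.pow_right (show SemiconjBy G bM B from hbg.symm) k)
  calc Gi * (ω ^ i • (A ^ j * B ^ k)) * G = ω ^ i • (Gi * (A ^ j * (B ^ k * G))) := by
        rw [Matrix.mul_smul, Matrix.smul_mul, Matrix.mul_assoc, Matrix.mul_assoc]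
    _ = ω ^ i • (Gi * ((A ^ j * G) * bM ^ k)) := by rw [← hB, Matrix.mul_assoc]
    _ = ω ^ i • ((Gi * G) * (aM ω ^ j * bM ^ k)) := by
        rw [← hA, Matrix.mul_assoc, Matrix.mul_assoc]
    _ = ω ^ i • (aM ω ^ j * bM ^ k) := by rw [hGi, one_mul]

/-- commutators in `R` are scalar cube roots of unity -/
theorem comm_scalar (R : Subgroup G3) (habs : ActsAbsolutelyIrreducibly (matrixSet R))
    (hcard : Nat.card R = 27) (hcen : Nat.card (Subgroup.center R) = 3) (hexp : ∀ x ∈ R, x ^ 3 = 1) :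
    ∀ x ∈ R, ∀ y ∈ R, ∃ c : F, c ^ 3 = 1 ∧ (x : M3) * (y : M3) = c • ((y : M3) * (x : M3)) := by
  haveI : Finite ↥R := Nat.finite_of_card_ne_zero (by rw [hcard]; norm_num)
  haveI : Fact (Nat.Prime 3) := ⟨by norm_num⟩
  have hQ : Nat.card (↥R ⧸ Subgroup.center ↥R) = 3 ^ 2 := by
    have := Subgroup.card_eq_card_quotient_mul_card_subgroup (Subgroup.center ↥R)
    rw [hcard, hcen] at this
    omega
  have hQc := IsPGroup.isMulCommutative_of_card_eq_prime_sq (p := 3) hQ
  intro x hx y hy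
  have h1 := hQc.is_comm.comm (QuotientGroup.mk (⟨x, hx⟩ : ↥R)) (QuotientGroup.mk (⟨y, hy⟩ : ↥R))
  rw [← QuotientGroup.mk_mul, ← QuotientGroup.mk_mul, eq_comm, QuotientGroup.eq] at h1
  set w : ↥R := ((⟨y, hy⟩ : ↥R) * ⟨x, hx⟩)⁻¹ * ((⟨x, hx⟩ : ↥R) * ⟨y, hy⟩) with hw
  have hwc : ∀ s ∈ matrixSet R, ((w : G3) : M3) * s = s * ((w : G3) : M3) := by
    rintro s ⟨r, hr, rfl⟩
    have := Subgroup.mem_center_iff.1 h1 ⟨r, hr⟩
    have h2 := congrArg (fun t : ↥R => ((t : G3) : M3)) this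
    simp only [Subgroup.coe_mul, Units.val_mul] at h2
    exact h2.symm
  obtain ⟨c, hc⟩ := habs.2 _ hwc
  have hxy : (x : M3) * (y : M3) = (y : M3) * (x : M3) * ((w : G3) : M3) := by
    have : (⟨x, hx⟩ : ↥R) * ⟨y, hy⟩ = (⟨y, hy⟩ : ↥R) * ⟨x, hx⟩ * w := by
      rw [hw]; group
    have h2 := congrArg (fun t : ↥R => ((t : G3) : M3)) this
    simpa only [Subgroup.coe_mul, Units.val_mul] using h2
  refine ⟨c, ?_, ?_⟩
  · have hw3 : (w : G3) ^ 3 = 1 := hexp _ w.2
    have h2 := congrArg Units.val hw3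
    rw [Units.val_pow_eq_pow_val, Units.val_one, hc, smul_pow, one_pow] at h2
    have h3 := congrFun (congrFun h2 0) 0
    simpa using h3
  · rw [hxy, hc, Matrix.mul_smul, mul_one]

theorem exists_pow_mul_eq_one {ω c : F} (hω : ω ^ 2 + ω + 1 = 0) (hc : c ^ 3 = 1) :
    ∃ k : ℕ, ω ^ k * c = 1 := by
  have h3 := omega_cube hω
  rcases cube_root_cases hω hc with rfl | rfl | rfl
  · exact ⟨0, by simp⟩
  · exact ⟨2, by rw [← pow_succ]; exact h3⟩
  · exact ⟨1, by rw [pow_one, ← pow_succ']; exact h3⟩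

/-- every element of `R` is a word `ω^i a^j b^k` -/
theorem word_of_mem {ω : F} (hω : ω ^ 2 + ω + 1 = 0) (h1 : ω ≠ 1) (R : Subgroup G3)
    (hexp : ∀ x ∈ R, x ^ 3 = 1)
    (hcs : ∀ x ∈ R, ∀ y ∈ R, ∃ c : F, c ^ 3 = 1 ∧ (x : M3) * (y : M3) = c • ((y : M3) * (x : M3)))
    (a b g : G3) (ha : a ∈ R) (hb : b ∈ R)
    (hab : (a : M3) * (b : M3) = ω • ((b : M3) * (a : M3)))
    (hag : (a : M3) * (g : M3) = (g : M3) * aM ω) (hbg : (b : M3) * (g : M3) = (g : M3) * bM)
    (y : G3) (hy : y ∈ R) :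
    ∃ i j k : ℕ, (y : M3) = ω ^ i • ((a : M3) ^ j * (b : M3) ^ k) := by
  have hω3 := omega_cube hω
  set A : M3 := (a : M3) with hAdef
  set B : M3 := (b : M3) with hBdef
  set G : M3 := (g : M3) with hGdef
  set Gi : M3 := ((g⁻¹ : G3) : M3) with hGidef
  set Y : M3 := (y : M3) with hYdef
  have hGi : Gi * G = 1 := by rw [hGidef, hGdef, ← Units.val_mul, inv_mul_cancel, Units.val_one]
  have hGi' : G * Gi = 1 := by rw [hGidef, hGdef, ← Units.val_mul, mul_inv_cancel, Units.val_one]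
  have hA3 : A ^ 3 = 1 := by
    have := congrArg Units.val (hexp a ha)
    rwa [Units.val_pow_eq_pow_val, Units.val_one] at this
  have hB3 : B ^ 3 = 1 := by
    have := congrArg Units.val (hexp b hb)
    rwa [Units.val_pow_eq_pow_val, Units.val_one] at this
  -- `B * A = ω² • (A * B)`
  have hba : B * A = ω ^ 2 • (A * B) := by
    rw [hab, smul_smul, ← pow_succ, hω3, one_smul]
  -- step A
  obtain ⟨c₁, hc₁, hYA⟩ := hcs y hy a ha
  change Y * A = c₁ • (A * Y) at hYA
  have hc₁' : (ω ^ 2) ^ 3 = 1 := by rw [← pow_mul, mul_comm, pow_mul, hω3, one_pow]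
  have hω' : (ω ^ 2) ^ 2 + ω ^ 2 + 1 = 0 := by linear_combination (ω ^ 2 - ω + 1) * hω
  obtain ⟨k, hk⟩ := exists_pow_mul_eq_one hω' hc₁
  have hy' : y * b ^ k ∈ R := R.mul_mem hy (R.pow_mem hb k)
  obtain ⟨Y', hY'def⟩ : ∃ Y' : M3, Y' = Y * B ^ k := ⟨_, rfl⟩
  have hY'val : ((y * b ^ k : G3) : M3) = Y' := by
    rw [Units.val_mul, Units.val_pow_eq_pow_val, hY'def]
  have hY'A : Y' * A = A * Y' := by
    calc Y' * A = Y * (B ^ k * A) := by rw [hY'def, Matrix.mul_assoc]
      _ = (ω ^ 2) ^ k • ((Y * A) * B ^ k) := by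
        rw [swap_pow A B hba k, Matrix.mul_smul, Matrix.mul_assoc]
      _ = ((ω ^ 2) ^ k * c₁) • (A * (Y * B ^ k)) := by
        rw [hYA, Matrix.smul_mul, smul_smul, Matrix.mul_assoc]
      _ = A * Y' := by rw [hk, one_smul, hY'def]
  -- step B
  obtain ⟨c₂, hc₂, hY'B⟩ := hcs _ hy' b hb
  rw [hY'val] at hY'B
  change Y' * B = c₂ • (B * Y') at hY'B
  obtain ⟨j, hj⟩ := exists_pow_mul_eq_one hω hc₂
  have hy'' : y * b ^ k * a ^ j ∈ R := R.mul_mem hy' (R.pow_mem ha j)
  obtain ⟨Y'', hY''def⟩ : ∃ Y'' : M3, Y'' = Y' * A ^ j := ⟨_, rfl⟩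
  have hY''val : ((y * b ^ k * a ^ j : G3) : M3) = Y'' := by
    rw [Units.val_mul, Units.val_pow_eq_pow_val, hY'val, hY''def]
  have hY''B : Y'' * B = B * Y'' := by
    calc Y'' * B = Y' * (A ^ j * B) := by rw [hY''def, Matrix.mul_assoc]
      _ = ω ^ j • ((Y' * B) * A ^ j) := by
        rw [swap_pow B A hab j, Matrix.mul_smul, Matrix.mul_assoc]
      _ = (ω ^ j * c₂) • (B * (Y' * A ^ j)) := by
        rw [hY'B, Matrix.smul_mul, smul_smul, Matrix.mul_assoc]
      _ = B * Y'' := by rw [hj, one_smul, hY''def]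
  have hY''A : Y'' * A = A * Y'' := by
    calc Y'' * A = Y' * (A ^ j * A) := by rw [hY''def, Matrix.mul_assoc]
      _ = (Y' * A) * A ^ j := by rw [← pow_succ, pow_succ', Matrix.mul_assoc]
      _ = A * Y'' := by rw [hY'A, Matrix.mul_assoc, hY''def]
  -- `Y''` is scalar
  have hGiA : Gi * A = aM ω * Gi := by
    calc Gi * A = Gi * A * (G * Gi) := by rw [hGi', mul_one]
      _ = Gi * (A * G) * Gi := by simp only [Matrix.mul_assoc]
      _ = aM ω * Gi := by rw [hag, ← Matrix.mul_assoc, hGi, one_mul]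
  have hGiB : Gi * B = bM * Gi := by
    calc Gi * B = Gi * B * (G * Gi) := by rw [hGi', mul_one]
      _ = Gi * (B * G) * Gi := by simp only [Matrix.mul_assoc]
      _ = bM * Gi := by rw [hbg, ← Matrix.mul_assoc, hGi, one_mul]
  obtain ⟨M, hMdef⟩ : ∃ M : M3, M = Gi * Y'' * G := ⟨_, rfl⟩
  have hMa : M * aM ω = aM ω * M := by
    calc M * aM ω = Gi * Y'' * (G * aM ω) := by rw [hMdef, Matrix.mul_assoc]
      _ = Gi * (Y'' * A) * G := by rw [← hag]; simp only [Matrix.mul_assoc]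
      _ = (Gi * A) * Y'' * G := by rw [hY''A]; simp only [Matrix.mul_assoc]
      _ = aM ω * M := by rw [hGiA, hMdef]; simp only [Matrix.mul_assoc]
  have hMb : M * bM = bM * M := by
    calc M * bM = Gi * Y'' * (G * bM) := by rw [hMdef, Matrix.mul_assoc]
      _ = Gi * (Y'' * B) * G := by rw [← hbg]; simp only [Matrix.mul_assoc]
      _ = (Gi * B) * Y'' * G := by rw [hY''B]; simp only [Matrix.mul_assoc]
      _ = bM * M := by rw [hGiB, hMdef]; simp only [Matrix.mul_assoc]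
  have hMs := scalar_of_commute hω h1 M hMa hMb
  set d : F := M 0 0 with hd
  have hY''s : Y'' = d • (1 : M3) := by
    calc Y'' = (G * Gi) * Y'' * (G * Gi) := by rw [hGi', one_mul, mul_one]
      _ = G * M * Gi := by rw [hMdef]; simp only [Matrix.mul_assoc]
      _ = d • (1 : M3) := by rw [hMs, Matrix.mul_smul, mul_one, Matrix.smul_mul, hGi']
  have hd3 : d ^ 3 = 1 := by
    have h2 := congrArg Units.val (hexp _ hy'')
    rw [Units.val_pow_eq_pow_val, Units.val_one, hY''val, hY''s, smul_pow, one_pow] at h2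
    have h3 := congrFun (congrFun h2 0) 0
    simpa using h3
  obtain ⟨i, hi⟩ : ∃ i : ℕ, d = ω ^ i := by
    rcases cube_root_cases hω hd3 with h | h | h
    · exact ⟨0, by rw [h, pow_zero]⟩
    · exact ⟨1, by rw [h, pow_one]⟩
    · exact ⟨2, h⟩
  refine ⟨i, 2 * j, 2 * k, ?_⟩
  have e1 : Y'' * A ^ (2 * j) = Y' := by
    rw [hY''def, Matrix.mul_assoc, ← pow_add, show j + 2 * j = 3 * j by ring, pow_mul, hA3, one_pow,
      mul_one]
  have e2 : Y' * B ^ (2 * k) = Y := by
    rw [hY'def, Matrix.mul_assoc, ← pow_add, show k + 2 * k = 3 * k by ring, pow_mul, hB3, one_pow,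
      mul_one]
  calc Y = Y'' * A ^ (2 * j) * B ^ (2 * k) := by rw [e1, e2]
    _ = ω ^ i • (A ^ (2 * j) * B ^ (2 * k)) := by
      rw [hY''s, hi, Matrix.smul_mul, one_mul, Matrix.smul_mul]

/-- **K-SU3-NF3** (577814). -/
theorem exists_conj_heis_five [Fintype F] (hF : Fintype.card F = 25) (R : Subgroup G3)
    (hR : IsSymplecticTypeGroup 3 R)
    (habs : ActsAbsolutelyIrreducibly (matrixSet R)) (hsim : R ≤ similarityGroup (hermForm 3 F 5))
    (hcard : Nat.card R = 27) (hcen : Nat.card (Subgroup.center R) = 3) :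
    ∃ g ∈ GU 3 F 5, ∃ ω : F, ω ^ 2 + ω + 1 = 0 ∧ ∃ R₀ : Subgroup G3, IsHeis ω R₀ ∧
      R = R₀.map (MulAut.conj g).toMonoidHom := by
  have hF' : Fintype.card F = 5 ^ 2 := by rw [hF]; norm_num
  haveI : Finite ↥R := Nat.finite_of_card_ne_zero (by rw [hcard]; norm_num)
  -- exponent three
  have hexp : ∀ x ∈ R, x ^ 3 = 1 := by
    intro x hx
    have h1 : Monoid.exponent ↥R = 3 := by
      rw [hR.exponent_eq]; norm_num
    have h2 := Monoid.pow_exponent_eq_one (⟨x, hx⟩ : ↥R)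
    rw [h1] at h2
    have h3 := congrArg (fun t : ↥R => (t : G3)) h2
    simpa using h3
  have hGU : R ≤ GU 3 F 5 :=
    Cfsg.Agent.Lib.Helper23.SUMax.le_GU_of_pow_eq_one hF' (by norm_num) R hsim hexp (by norm_num)
  have hcs := comm_scalar R habs hcard hcen hexp
  -- non-commuting elements
  have hnc : ∃ a ∈ R, ∃ b ∈ R, a * b ≠ b * a := by
    by_contra hcon
    push Not at hcon
    have htop : Subgroup.center ↥R = ⊤ := by
      rw [eq_top_iff]
      intro x _
      rw [Subgroup.mem_center_iff]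
      intro y
      apply Subtype.ext
      exact hcon y y.2 x x.2
    rw [htop, Subgroup.card_top, hcard] at hcen
    omega
  obtain ⟨a, ha, b, hb, hne⟩ := hnc
  obtain ⟨ω, hω3, hab⟩ := hcs a ha b hb
  have h1 : ω ≠ 1 := by
    rintro rfl
    apply hne
    apply Units.ext
    rw [Units.val_mul, Units.val_mul, hab, one_smul]
  have hω : ω ^ 2 + ω + 1 = 0 := by
    have h2 : (ω - 1) * (ω ^ 2 + ω + 1) = 0 := by linear_combination hω3
    rcases mul_eq_zero.1 h2 with h3 | h3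
    · exact absurd (sub_eq_zero.1 h3) h1
    · exact h3
  obtain ⟨g, hgGU, hag, hbg⟩ := exists_unitary_frame hF hω h1 a b (hGU ha) (hGU hb)
    (hexp a ha) (hexp b hb) hab
  have hword := word_of_mem hω h1 R hexp hcs a b g ha hb hab hag hbg
  have hGi : ((g⁻¹ : G3) : M3) * (g : M3) = 1 := by
    rw [← Units.val_mul, inv_mul_cancel, Units.val_one]
  -- the central element
  set z : G3 := (b * a)⁻¹ * (a * b) with hz
  have hzR : z ∈ R := R.mul_mem (R.inv_mem (R.mul_mem hb ha)) (R.mul_mem ha hb)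
  have hzval : (z : M3) = ω • (1 : M3) := by
    have e1 : ((b * a : G3) : M3) * (z : M3) = ((b * a : G3) : M3) * (ω • (1 : M3)) := by
      rw [← Units.val_mul, hz, mul_inv_cancel_left, Units.val_mul, hab, Matrix.mul_smul, mul_one,
        Units.val_mul]
    have e2 : (((b * a)⁻¹ : G3) : M3) * (((b * a : G3) : M3) * (z : M3)) =
        (((b * a)⁻¹ : G3) : M3) * (((b * a : G3) : M3) * (ω • (1 : M3))) := by rw [e1]
    rwa [← Matrix.mul_assoc, ← Matrix.mul_assoc, ← Units.val_mul, inv_mul_cancel, Units.val_one,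
      one_mul, one_mul] at e2
  refine ⟨g, hgGU, ω, hω, R.map (MulAut.conj g⁻¹).toMonoidHom, ?_, ?_⟩
  · intro x
    constructor
    · rintro ⟨y, hy, rfl⟩
      obtain ⟨i, j, k, hijk⟩ := hword y hy
      refine ⟨i, j, k, ?_⟩
      have e : (((MulAut.conj g⁻¹).toMonoidHom y : G3) : M3) =
          ((g⁻¹ : G3) : M3) * (y : M3) * (g : M3) := by
        simp [MulAut.conj_apply, Units.val_mul]
      rw [e, hijk]
      exact conj_word _ _ _ _ hGi hag hbg i j k
    · rintro ⟨i, j, k, hx⟩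
      refine ⟨z ^ i * a ^ j * b ^ k, R.mul_mem (R.mul_mem (R.pow_mem hzR i) (R.pow_mem ha j))
        (R.pow_mem hb k), ?_⟩
      apply Units.ext
      have e : (((MulAut.conj g⁻¹).toMonoidHom (z ^ i * a ^ j * b ^ k) : G3) : M3) =
          ((g⁻¹ : G3) : M3) * ((z ^ i * a ^ j * b ^ k : G3) : M3) * (g : M3) := by
        simp [MulAut.conj_apply, Units.val_mul]
      rw [e, hx, Units.val_mul, Units.val_mul, Units.val_pow_eq_pow_val, Units.val_pow_eq_pow_val,
        Units.val_pow_eq_pow_val, hzval, smul_pow, one_pow, Matrix.smul_mul, one_mul, Matrix.smul_mul]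
      exact conj_word _ _ _ _ hGi hag hbg i j k
  · rw [Subgroup.map_map]
    have : (MulAut.conj g).toMonoidHom.comp (MulAut.conj g⁻¹).toMonoidHom = MonoidHom.id G3 := by
      refine MonoidHom.ext fun x => ?_
      show g * (g⁻¹ * x * g⁻¹⁻¹) * g⁻¹ = x
      group
    rw [this, Subgroup.map_id]

end Cfsg.Agent.Lib.Helper30.SU3K
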