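import Mathlib
import Cfsg.Prelude.Def_GeometricClasses
import Cfsg.Agent.Lib.Helper19.Unitary
import Cfsg.Agent.Lib.Helper99.FieldSub

/-!
# K-SU5X-A: an adjoint-closed degree-5 field subalgebra of `M_5(F_4)` contains an element of order 11 of `SU_5(2)`
-/

set_option autoImplicit false

namespace Cfsg.Agent.Lib.Helper30.SU5X

open Cfsg Cfsg.Geo Cfsg.Agent.Lib.Helper19
open scoped Matrix MatrixGroups

variable {F : Type*} [Field F] [Fintype F]

/-- `y` is an adjoint of `x` for the standard hermitian form on `F^5`, `q = 2`. -/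
def Adj (x y : Matrix (Fin 5) (Fin 5) F) : Prop :=
  ∀ u v, hermForm 5 F 2 (x *ᵥ u) v = hermForm 5 F 2 u (y *ᵥ v)

theorem herm_single_left (i : Fin 5) (w : Fin 5 → F) :
    hermForm 5 F 2 (Pi.single i 1) w = (w i) ^ 2 := by
  unfold hermForm
  rw [Finset.sum_eq_single i]
  · simp
  · intro j _ hj
    rw [Pi.single_eq_of_ne hj, zero_mul]
  · intro h; exact absurd (Finset.mem_univ i) h

theorem eq_of_herm_right (hF : Fintype.card F = 2 ^ 2) (w w' : Fin 5 → F)
    (h : ∀ u, hermForm 5 F 2 u w = hermForm 5 F 2 u w') : w = w' := by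
  funext i
  have h1 := h (Pi.single i 1)
  rw [herm_single_left, herm_single_left] at h1
  have h2 := congrArg (fun x => x ^ 2) h1
  simp only [pow_q_pow_q hF] at h2
  exact h2

theorem Adj.unique (hF : Fintype.card F = 2 ^ 2) {x y y' : Matrix (Fin 5) (Fin 5) F}
    (h : Adj x y) (h' : Adj x y') : y = y' := by
  apply Matrix.toLin'.injective
  apply LinearMap.ext
  intro v
  rw [Matrix.toLin'_apply, Matrix.toLin'_apply]
  apply eq_of_herm_right hF
  intro u
  rw [← h, ← h']

theorem Adj.symm (hF : Fintype.card F = 2 ^ 2) {x y : Matrix (Fin 5) (Fin 5) F}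
    (h : Adj x y) : Adj y x := by
  intro u v
  rw [← hermForm_conj hF, ← h, hermForm_conj hF]

theorem Adj.mul {x y x' y' : Matrix (Fin 5) (Fin 5) F} (h : Adj x y) (h' : Adj x' y') :
    Adj (x * x') (y' * y) := by
  intro u v
  rw [← Matrix.mulVec_mulVec, h, h', Matrix.mulVec_mulVec]

theorem Adj.one : Adj (1 : Matrix (Fin 5) (Fin 5) F) 1 := by
  intro u v
  rw [Matrix.one_mulVec, Matrix.one_mulVec]

theorem Adj.pow {x y : Matrix (Fin 5) (Fin 5) F} (h : Adj x y) (n : ℕ) : Adj (x ^ n) (y ^ n) := by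
  induction n with
  | zero => simpa using Adj.one
  | succ n ih =>
    rw [pow_succ, pow_succ']
    exact ih.mul h

theorem Adj.add (hF : Fintype.card F = 2 ^ 2) {x y x' y' : Matrix (Fin 5) (Fin 5) F}
    (h : Adj x y) (h' : Adj x' y') : Adj (x + x') (y + y') := by
  intro u v
  rw [Matrix.add_mulVec, Matrix.add_mulVec, hermForm_add_left, hermForm_add_right hF, h, h']

theorem Adj.zero (hF : Fintype.card F = 2 ^ 2) : Adj (0 : Matrix (Fin 5) (Fin 5) F) 0 := by
  intro u v
  rw [Matrix.zero_mulVec, Matrix.zero_mulVec]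
  unfold hermForm
  simp

theorem two_eq_zero (hF : Fintype.card F = 2 ^ 2) : (2 : F) = 0 := by
  have h := FiniteField.cast_card_eq_zero F
  rw [hF] at h
  have h2 : (2 : F) ^ 2 = 0 := by exact_mod_cast h
  exact pow_eq_zero_iff (two_ne_zero) |>.mp h2

theorem neg_eq_self (hF : Fintype.card F = 2 ^ 2) (x : Matrix (Fin 5) (Fin 5) F) : -x = x := by
  have h2 := two_eq_zero hF
  rw [neg_eq_iff_add_eq_zero, ← two_smul F x, h2, zero_smul]

/-- a non-trivial scalar is not self-adjoint -/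
theorem exists_scalar_not_selfadjoint (hF : Fintype.card F = 2 ^ 2) :
    ∃ ω : F, ¬ Adj (ω • (1 : Matrix (Fin 5) (Fin 5) F)) (ω • 1) := by
  classical
  have hcard : ({0, 1} : Finset F).card < (Finset.univ : Finset F).card := by
    rw [Finset.card_univ, hF]
    exact lt_of_le_of_lt (Finset.card_insert_le _ _) (by simp)
  obtain ⟨ω, -, hω⟩ := Finset.exists_mem_notMem_of_card_lt_card hcard
  rw [Finset.mem_insert, Finset.mem_singleton, not_or] at hω
  refine ⟨ω, fun h => ?_⟩
  have h1 := h (Pi.single 0 1) (Pi.single 0 1)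
  rw [Matrix.smul_mulVec, Matrix.one_mulVec, hermForm_smul_left, hermForm_smul_right,
    herm_single_left] at h1
  simp only [Pi.single_eq_same, one_pow, mul_one] at h1
  have h2 : ω * (ω - 1) = 0 := by rw [mul_sub, mul_one, ← pow_two, ← h1, sub_self]
  rcases mul_eq_zero.mp h2 with h3 | h3
  · exact hω.1 h3
  · exact hω.2 (sub_eq_zero.mp h3)

/-- an element of order 11 in the field `K` of order `4^5` -/
theorem exists_order_eleven (hF : Fintype.card F = 2 ^ 2)
    (K : Subalgebra F (Matrix (Fin 5) (Fin 5) F)) (hK : IsFieldSubalgebra 5 K) :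
    ∃ km : Matrix (Fin 5) (Fin 5) F, km ∈ K ∧ km ^ 11 = 1 ∧ km ≠ 1 := by
  classical
  letI : Field ↥K := (Cfsg.Agent.Lib.Helper99.FieldSub.isField K hK).toField
  haveI : Fintype ↥K := Fintype.ofFinite _
  have hcardK : Fintype.card ↥K = 1024 := by
    rw [Module.card_eq_pow_finrank (K := F) (V := ↥K), hK.finrank_eq, hF]
    norm_num
  have hu : Fintype.card (↥K)ˣ = 1023 := by rw [Fintype.card_units, hcardK]
  haveI : Fact (Nat.Prime 11) := ⟨by norm_num⟩
  obtain ⟨u, hu11⟩ := exists_prime_orderOf_dvd_card 11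
    (by rw [hu]; norm_num : 11 ∣ Fintype.card (↥K)ˣ)
  refine ⟨((u : ↥K) : Matrix (Fin 5) (Fin 5) F), (u : ↥K).2, ?_, ?_⟩
  · have h1 : u ^ 11 = 1 := by rw [← hu11]; exact pow_orderOf_eq_one u
    have h2 := congrArg (fun w : (↥K)ˣ => ((w : ↥K) : Matrix (Fin 5) (Fin 5) F)) h1
    simpa using h2
  · intro h
    have h1 : u = 1 := Units.ext (Subtype.ext h)
    rw [h1, orderOf_one] at hu11
    norm_num at hu11

/-- a self-adjoint eleventh root of unity in `K` is trivial: the self-adjoint elements form a proper subfield -/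
theorem selfadjoint_eq_one (hF : Fintype.card F = 2 ^ 2)
    (K : Subalgebra F (Matrix (Fin 5) (Fin 5) F)) (hK : IsFieldSubalgebra 5 K)
    (a : Matrix (Fin 5) (Fin 5) F) (ha : a ∈ K) (hSA : Adj a a) (h11 : a ^ 11 = 1) : a = 1 := by
  classical
  letI : Field ↥K := (Cfsg.Agent.Lib.Helper99.FieldSub.isField K hK).toField
  haveI : Fintype ↥K := Fintype.ofFinite _
  have hcardK : Fintype.card ↥K = 1024 := by
    rw [Module.card_eq_pow_finrank (K := F) (V := ↥K), hK.finrank_eq, hF]
    norm_num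
  let S : Subfield ↥K :=
    { carrier := {x | Adj (x : Matrix (Fin 5) (Fin 5) F) (x : Matrix (Fin 5) (Fin 5) F)}
      mul_mem' := fun {x y} hx hy => by
        have h := Adj.mul hx hy
        rw [hK.comm y.1 y.2 x.1 x.2] at h
        exact h
      one_mem' := Adj.one
      add_mem' := fun {x y} hx hy => Adj.add hF hx hy
      zero_mem' := Adj.zero hF
      neg_mem' := fun {x} hx => by
        show Adj (-(x : Matrix (Fin 5) (Fin 5) F)) (-(x : Matrix (Fin 5) (Fin 5) F))
        rw [neg_eq_self hF]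
        exact hx
      inv_mem' := fun x hx => by
        by_cases hx0 : x = 0
        · rw [hx0, inv_zero]
          exact Adj.zero hF
        · have hxy : (x : Matrix (Fin 5) (Fin 5) F) * ((x⁻¹ : ↥K) : Matrix (Fin 5) (Fin 5) F) = 1 :=
            congrArg Subtype.val (mul_inv_cancel₀ hx0)
          intro u v
          have e1 : ∀ w : Fin 5 → F, (x : Matrix (Fin 5) (Fin 5) F) *ᵥ
              (((x⁻¹ : ↥K) : Matrix (Fin 5) (Fin 5) F) *ᵥ w) = w := by
            intro w
            rw [Matrix.mulVec_mulVec, hxy, Matrix.one_mulVec]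
          calc hermForm 5 F 2 (((x⁻¹ : ↥K) : Matrix (Fin 5) (Fin 5) F) *ᵥ u) v
              = hermForm 5 F 2 (((x⁻¹ : ↥K) : Matrix (Fin 5) (Fin 5) F) *ᵥ u)
                  ((x : Matrix (Fin 5) (Fin 5) F) *ᵥ (((x⁻¹ : ↥K) : Matrix (Fin 5) (Fin 5) F) *ᵥ v)) := by
                rw [e1]
            _ = hermForm 5 F 2 ((x : Matrix (Fin 5) (Fin 5) F) *ᵥ
                  (((x⁻¹ : ↥K) : Matrix (Fin 5) (Fin 5) F) *ᵥ u))
                  (((x⁻¹ : ↥K) : Matrix (Fin 5) (Fin 5) F) *ᵥ v) := (hx _ _).symm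
            _ = hermForm 5 F 2 u (((x⁻¹ : ↥K) : Matrix (Fin 5) (Fin 5) F) *ᵥ v) := by rw [e1] }
  let T : AddSubgroup ↥K := S.toSubring.toAddSubgroup
  haveI : Fintype ↥S := Fintype.ofFinite _
  have hST : Fintype.card ↥S = Nat.card ↥T := by
    rw [← Nat.card_eq_fintype_card]
    rfl
  have hdvd : Nat.card ↥T ∣ 2 ^ 10 := by
    have h := AddSubgroup.card_addSubgroup_dvd_card T
    rw [Nat.card_eq_fintype_card (α := ↥K), hcardK] at h
    exact h
  obtain ⟨m, hm, hTm⟩ := (Nat.dvd_prime_pow Nat.prime_two).mp hdvd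
  by_contra hne
  have ha0 : a ≠ 0 := by
    intro h
    rw [h, zero_pow (by norm_num)] at h11
    exact zero_ne_one h11
  let aS : ↥S := ⟨⟨a, ha⟩, hSA⟩
  have haS0 : aS ≠ 0 := by
    intro h
    apply ha0
    exact congrArg (fun z : ↥S => ((z : ↥K) : Matrix (Fin 5) (Fin 5) F)) h
  have hpow : ∀ n : ℕ, (((aS ^ n : ↥S) : ↥K) : Matrix (Fin 5) (Fin 5) F) = a ^ n := by
    intro n
    induction n with
    | zero => rfl
    | succ n ih =>
      rw [pow_succ, pow_succ, ← ih]
      rfl
  have h1 := FiniteField.pow_card_sub_one_eq_one aS haS0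
  rw [hST, hTm] at h1
  have h2 : a ^ (2 ^ m - 1) = 1 := by
    rw [← hpow, h1]
    rfl
  haveI : Fact (Nat.Prime 11) := ⟨by norm_num⟩
  have hord : orderOf a = 11 := orderOf_eq_prime h11 hne
  have h3 : 11 ∣ 2 ^ m - 1 := by
    rw [← hord]
    exact orderOf_dvd_of_pow_eq_one h2
  have hm0 : m ≠ 0 := by
    intro h
    have h4 : 1 < Fintype.card ↥S := Fintype.one_lt_card
    rw [hST, hTm, h] at h4
    norm_num at h4
  have hm1 : 1 ≤ m := Nat.pos_of_ne_zero hm0
  have hm10 : m = 10 := by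
    interval_cases m <;> first | rfl | (exfalso; norm_num at h3)
  have hTtop : T = ⊤ := by
    rw [← AddSubgroup.card_eq_iff_eq_top, hTm, hm10, Nat.card_eq_fintype_card, hcardK]
    norm_num
  obtain ⟨ω, hω⟩ := exists_scalar_not_selfadjoint hF
  have hωK : ω • (1 : Matrix (Fin 5) (Fin 5) F) ∈ K := K.smul_mem K.one_mem ω
  have hmem : (⟨ω • 1, hωK⟩ : ↥K) ∈ T := by
    rw [hTtop]
    exact AddSubgroup.mem_top _
  exact hω hmem

/-- K-SU5X-A (keystone 579601). -/
theorem exists_order_eleven_mem_SU (hF : Fintype.card F = 2 ^ 2)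
    (K : Subalgebra F (Matrix (Fin 5) (Fin 5) F)) (hK : IsFieldSubalgebra 5 K)
    (hadj : IsAdjointClosedFor (hermForm 5 F 2) K) :
    ∃ k : GL (Fin 5) F, (k : Matrix (Fin 5) (Fin 5) F) ∈ K ∧ k ^ 11 = 1 ∧ k ≠ 1 ∧
      k ∈ GU 5 F 2 ⊓ specialLinear (Fin 5) F := by
  classical
  obtain ⟨km, hkmK, h11, hne1⟩ := exists_order_eleven hF K hK
  obtain ⟨k', hk'K, hAdj⟩ := hadj km hkmK
  have hAdj : Adj km k' := hAdj
  have hk'11 : k' ^ 11 = 1 := by
    have h := hAdj.pow 11
    rw [h11] at h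
    exact Adj.unique hF h Adj.one
  have hcomm : km * k' = k' * km := hK.comm km hkmK k' hk'K
  have haK : km * k' ∈ K := K.mul_mem hkmK hk'K
  have hSA : Adj (km * k') (km * k') := hAdj.mul (hAdj.symm hF)
  have ha11 : (km * k') ^ 11 = 1 := by
    rw [(show Commute km k' from hcomm).mul_pow, h11, hk'11, one_mul]
  have ha1 : km * k' = 1 := selfadjoint_eq_one hF K hK _ haK hSA ha11
  let k : GL (Fin 5) F := ⟨km, km ^ 10, by rw [← pow_succ', h11], by rw [← pow_succ, h11]⟩
  have hkval : (k : Matrix (Fin 5) (Fin 5) F) = km := rfl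
  refine ⟨k, hkmK, ?_, ?_, ?_⟩
  · apply Units.ext
    rw [Units.val_pow_eq_pow_val, hkval, h11, Units.val_one]
  · intro h
    apply hne1
    rw [← hkval, h, Units.val_one]
  · refine Subgroup.mem_inf.mpr ⟨?_, ?_⟩
    · intro u v
      show hermForm 5 F 2 (km *ᵥ u) (km *ᵥ v) = hermForm 5 F 2 u v
      rw [hAdj, Matrix.mulVec_mulVec, ← hcomm, ha1, Matrix.one_mulVec]
    · have hd11 : km.det ^ 11 = 1 := by rw [← Matrix.det_pow, h11, Matrix.det_one]
      have hd0 : km.det ≠ 0 := by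
        intro h
        rw [h, zero_pow (by norm_num)] at hd11
        exact zero_ne_one hd11
      have hd3 : km.det ^ 3 = 1 := by
        have h := FiniteField.pow_card_sub_one_eq_one km.det hd0
        rw [hF] at h
        exact h
      have hd1 : km.det = 1 := by
        have h12 : km.det ^ 12 = 1 := by
          rw [show 12 = 3 * 4 from rfl, pow_mul, hd3, one_pow]
        rw [show 12 = 11 + 1 from rfl, pow_succ, hd11, one_mul] at h12
        exact h12
      show k ∈ (Matrix.GeneralLinearGroup.det : GL (Fin 5) F →* Fˣ).ker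
      rw [MonoidHom.mem_ker]
      apply Units.ext
      rw [Matrix.GeneralLinearGroup.val_det_apply, hkval, hd1, Units.val_one]

end Cfsg.Agent.Lib.Helper30.SU5X
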