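import Mathlib
import Cfsg.Prelude.Def_GeometricClasses
import Cfsg.Agent.Lib.Helper61.AschDefs
import Cfsg.Agent.Lib.Helper43.SpAschDefs
import Cfsg.Agent.Lib.Helper43.SpAschDefs2

/-!
# K-SpAsch-S2c: a pair of complementary totally singular subspaces gives a member of a symplectic class
(`q` odd: the pair itself; `q` even: the quadratic form `Q v = f (π₀ v) (π₁ v)`).
-/

set_option autoImplicit false

namespace Cfsg.Agent.Lib.Helper30.SpAsch

open Cfsg Cfsg.Geo Cfsg.Agent.Lib.Helper61.Asch Cfsg.Agent.Lib.Helper43.SpAsch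
open scoped Matrix Kronecker MatrixGroups

variable {F : Type*} [Field F] [Fintype F] {n : ℕ}

local notation "V" => (Fin n → F)
local notation "Mat" => Matrix (Fin n) (Fin n) F
local notation "Z" => scalars (Fin n) F

/-- a finite field of even order has characteristic two -/
theorem two_eq_zero_of_not_odd_card (hq : ¬ Odd (Fintype.card F)) : (2 : F) = 0 := by
  have heven : Even (Fintype.card F) := Nat.not_odd_iff_even.mp hq
  obtain ⟨p, hp⟩ := CharP.exists F
  haveI := hp
  obtain ⟨k, hpp, hk⟩ := FiniteField.card F p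
  rw [hk, Nat.even_pow] at heven
  have hp2 : p = 2 := (Nat.Prime.even_iff hpp).mp heven.1
  subst hp2
  exact_mod_cast CharP.cast_eq_zero F 2

section Quad

variable {f : (Fin n → F) → (Fin n → F) → F}

/-- the quadratic form attached to a pair of complementary subspaces -/
noncomputable def pairQ {U₀ W₀ : Submodule F V} (f : V → V → F) (hc : IsCompl U₀ W₀) (v : V) : F :=
  f (U₀.projection W₀ hc v) (W₀.projection U₀ hc.symm v)

theorem pairQ_add {U₀ W₀ : Submodule F V} (hc : IsCompl U₀ W₀) {a b : V} (ha : a ∈ U₀) (hb : b ∈ W₀) :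
    pairQ f hc (a + b) = f a b := by
  unfold pairQ
  rw [map_add, map_add, Submodule.projection_apply_of_mem_left hc ha,
    Submodule.projection_apply_of_mem_right hc hb, add_zero,
    Submodule.projection_apply_of_mem_right hc.symm ha,
    Submodule.projection_apply_of_mem_left hc.symm hb, zero_add]

theorem exists_decomp {U₀ W₀ : Submodule F V} (hc : IsCompl U₀ W₀) (u : V) : ∃ a ∈ U₀, ∃ b ∈ W₀, a + b = u :=
  ⟨_, Submodule.projection_apply_mem hc u, _, Submodule.projection_apply_mem hc.symm u,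
    Submodule.projection_add_projection_eq_self hc u⟩

theorem pairQ_smul {U₀ W₀ : Submodule F V} (hf : IsSymplecticForm f) (hc : IsCompl U₀ W₀) (c : F) (v : V) :
    pairQ f hc (c • v) = c ^ 2 * pairQ f hc v := by
  unfold pairQ
  rw [map_smul, map_smul, hf.bilinear.smul_left, hf.bilinear.smul_right]
  ring

theorem polar_pairQ {U₀ W₀ : Submodule F V} (hf : IsSymplecticForm f) (h2 : (2 : F) = 0) (hc : IsCompl U₀ W₀)
    (hP : IsTotallySingularFor f U₀) (hR : IsTotallySingularFor f W₀) (u v : V) :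
    QuadraticMap.polar (pairQ f hc) u v = f u v := by
  obtain ⟨a, ha, b, hb, rfl⟩ := exists_decomp hc u
  obtain ⟨a', ha', b', hb', rfl⟩ := exists_decomp hc v
  unfold QuadraticMap.polar
  rw [add_add_add_comm, pairQ_add hc (U₀.add_mem ha ha') (W₀.add_mem hb hb'), pairQ_add hc ha hb,
    pairQ_add hc ha' hb']
  have hPz := hP a ha a' ha'
  have hRz := hR b hb b' hb'
  have hskew := hf.skew b a'
  rw [hf.bilinear.add_left, hf.bilinear.add_right, hf.bilinear.add_right, hf.bilinear.add_left,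
    hf.bilinear.add_right, hf.bilinear.add_right]
  linear_combination (f a' b) * h2 - hPz - hRz - hskew

theorem isNondegenerateQuadraticForm_pairQ {U₀ W₀ : Submodule F V} (hf : IsSymplecticForm f) (h2 : (2 : F) = 0)
    (hc : IsCompl U₀ W₀) (hP : IsTotallySingularFor f U₀) (hR : IsTotallySingularFor f W₀) :
    IsNondegenerateQuadraticForm (pairQ f hc) := by
  have hpol : QuadraticMap.polar (pairQ f hc) = f := by
    funext u v
    exact polar_pairQ hf h2 hc hP hR u v
  refine ⟨pairQ_smul hf hc, ?_, ?_⟩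
  · rw [hpol]
    exact hf.bilinear
  · rw [hpol]
    exact hf.nondegenerate

theorem pairQ_similarity_fix {U₀ W₀ : Submodule F V} (hc : IsCompl U₀ W₀) (g : Mat) (c : F)
    (hsim : ∀ u v, f (g *ᵥ u) (g *ᵥ v) = c * f u v)
    (hgP : ∀ a ∈ U₀, g *ᵥ a ∈ U₀) (hgR : ∀ b ∈ W₀, g *ᵥ b ∈ W₀) (v : V) :
    pairQ f hc (g *ᵥ v) = c * pairQ f hc v := by
  obtain ⟨a, ha, b, hb, rfl⟩ := exists_decomp hc v
  rw [Matrix.mulVec_add, pairQ_add hc (hgP a ha) (hgR b hb), pairQ_add hc ha hb, hsim]

theorem pairQ_similarity_swap {U₀ W₀ : Submodule F V} (hf : IsSymplecticForm f) (h2 : (2 : F) = 0) (hc : IsCompl U₀ W₀)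
    (g : Mat) (c : F) (hsim : ∀ u v, f (g *ᵥ u) (g *ᵥ v) = c * f u v)
    (hgP : ∀ a ∈ U₀, g *ᵥ a ∈ W₀) (hgR : ∀ b ∈ W₀, g *ᵥ b ∈ U₀) (v : V) :
    pairQ f hc (g *ᵥ v) = c * pairQ f hc v := by
  obtain ⟨a, ha, b, hb, rfl⟩ := exists_decomp hc v
  rw [Matrix.mulVec_add, add_comm, pairQ_add hc (hgR b hb) (hgP a ha), pairQ_add hc ha hb, hsim,
    hf.skew b a]
  linear_combination (-c * f a b) * h2

end Quad

/-- **K-SpAsch-S2c**. -/
theorem sgeom_of_tsPair {f : V → V → F} (hf : IsSymplecticForm f) (K : Subgroup (GL (Fin n) F))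
    (hKΔ : K ≤ similarityGroup f) (k : ℕ) (hk : 2 * k = n) (D : Fin 2 → Submodule F V) (hD : IsMDecomposition k D)
    (hts : ∀ i, IsTotallySingularFor f (D i)) (hKD : K ≤ decompositionStabilizer D) : SGeom f K := by
  by_cases hq : Odd (Fintype.card F)
  · exact .tsPair hq k (by rw [Fintype.card_fin]; exact hk) D hD hts hKD
  · have h2 : (2 : F) = 0 := two_eq_zero_of_not_odd_card hq
    have hc : IsCompl (D 0) (D 1) := by
      refine ⟨hD.indep.pairwiseDisjoint (by decide : (0 : Fin 2) ≠ 1), ?_⟩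
      rw [codisjoint_iff, eq_top_iff, ← hD.iSup_eq_top]
      refine iSup_le fun i => ?_
      have key : ∀ x : Fin 2, x = 0 ∨ x = 1 := by decide
      rcases key i with rfl | rfl
      · exact le_sup_left
      · exact le_sup_right
    refine .quad hq (pairQ f hc) (isNondegenerateQuadraticForm_pairQ hf h2 hc (hts 0) (hts 1))
      (polar_pairQ hf h2 hc (hts 0) (hts 1)) ?_
    intro g hg
    obtain ⟨c, hcs⟩ := hKΔ hg
    obtain ⟨σ, hσ⟩ := hKD hg
    have hmem : ∀ i, ∀ a ∈ D i, (g : Mat) *ᵥ a ∈ D (σ i) := by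
      intro i a ha
      rw [← hσ i]
      exact ⟨a, ha, Matrix.toLin'_apply _ _⟩
    have key : ∀ x : Fin 2, x = 0 ∨ x = 1 := by decide
    refine ⟨c, ?_⟩
    rcases key (σ 0) with h0 | h0
    · have h1 : σ 1 = 1 := by
        rcases key (σ 1) with h1 | h1
        · exact absurd (σ.injective (h1.trans h0.symm)) (by decide)
        · exact h1
      exact pairQ_similarity_fix hc _ _ hcs (fun a ha => h0 ▸ hmem 0 a ha)
        (fun b hb => h1 ▸ hmem 1 b hb)
    · have h1 : σ 1 = 0 := by
        rcases key (σ 1) with h1 | h1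
        · exact h1
        · exact absurd (σ.injective (h1.trans h0.symm)) (by decide)
      exact pairQ_similarity_swap hf h2 hc _ _ hcs (fun a ha => h0 ▸ hmem 0 a ha)
        (fun b hb => h1 ▸ hmem 1 b hb)

end Cfsg.Agent.Lib.Helper30.SpAsch
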