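import Cfsg.Agent.Lib.Helper49.SubfieldInvol
import Cfsg.Agent.Lib.Helper49.FieldExtInvol
import Cfsg.Agent.Lib.Helper49.SpSemiConj
import Cfsg.Agent.Lib.Helper49.SpDet
import Cfsg.Agent.Lib.Helper50.SpTransvCent
import Cfsg.Agent.Lib.Helper79.SpUDefs

/-!
# K-SpU-G0 (keystone 597605, architect helper79, row S5976)

An involution `x` of `Sp_{2d}(q)`, `q` odd, is `Sp`-conjugate into the normaliser of the standard
unitary-type quadratic subalgebra `K0 d δ = F[θ₀]`: `x` is `GL`-conjugate to a doubled `±1` diagonal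
matrix `y = fromBlocks D 0 0 D` (the number of `-1` is even as `det x = 1`), `y` is symplectic and
commutes with `θ₀`, and semisimple symplectic matrices conjugate in `GL` are conjugate in `Sp`.
-/

set_option autoImplicit false

namespace Cfsg.Agent.Lib.Helper30.SpU

open Cfsg Cfsg.Geo Cfsg.Agent.Lib.Helper79.SpU Cfsg.Agent.Lib.Helper49
open scoped Matrix MatrixGroups

variable {F : Type*} [Field F]

/-- the doubled diagonal matrix -/
def dbl (d : ℕ) (ε : Fin d → F) : Matrix (Fin d ⊕ Fin d) (Fin d ⊕ Fin d) F :=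
  Matrix.fromBlocks (Matrix.diagonal ε) 0 0 (Matrix.diagonal ε)

theorem diagonal_pm_mul_self (d : ℕ) (ε : Fin d → F) (hε : ∀ i, ε i = 1 ∨ ε i = -1) :
    Matrix.diagonal ε * Matrix.diagonal ε = 1 := by
  rw [Matrix.diagonal_mul_diagonal, ← Matrix.diagonal_one]
  congr 1
  funext i
  rcases hε i with h | h <;> rw [h] <;> simp

theorem dbl_mul_self (d : ℕ) (ε : Fin d → F) (hε : ∀ i, ε i = 1 ∨ ε i = -1) :
    dbl d ε * dbl d ε = 1 := by
  unfold dbl
  rw [Matrix.fromBlocks_multiply, ← Matrix.fromBlocks_one, diagonal_pm_mul_self d ε hε]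
  simp

theorem dbl_mem_symplectic (d : ℕ) (ε : Fin d → F) (hε : ∀ i, ε i = 1 ∨ ε i = -1) :
    dbl d ε ∈ Matrix.symplecticGroup (Fin d) F := by
  have hDD := diagonal_pm_mul_self d ε hε
  rw [SymplecticGroup.mem_iff]
  unfold dbl Matrix.J
  rw [Matrix.fromBlocks_transpose, Matrix.diagonal_transpose, Matrix.transpose_zero,
    Matrix.fromBlocks_multiply, Matrix.fromBlocks_multiply]
  simp only [Matrix.mul_zero, Matrix.zero_mul, Matrix.mul_one, Matrix.one_mul, add_zero, zero_add,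
    Matrix.mul_neg, Matrix.neg_mul, neg_zero, hDD]

theorem dbl_comm_theta (d : ℕ) (ε : Fin d → F) (δ : F) :
    dbl d ε * theta d δ = theta d δ * dbl d ε := by
  unfold dbl theta
  rw [Matrix.fromBlocks_multiply, Matrix.fromBlocks_multiply]
  simp

/-- an invertible matrix commuting with `θ₀` normalises `K0` -/
theorem mem_normalizer_K0_of_commute (d : ℕ) (δ : F) (g : GL (Fin d ⊕ Fin d) F)
    (hg : (g : Matrix (Fin d ⊕ Fin d) (Fin d ⊕ Fin d) F) * theta d δ =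
      theta d δ * (g : Matrix (Fin d ⊕ Fin d) (Fin d ⊕ Fin d) F)) :
    g ∈ subalgebraNormalizer (K0 d δ) := by
  obtain ⟨G, hG⟩ : ∃ G : Matrix (Fin d ⊕ Fin d) (Fin d ⊕ Fin d) F,
    G = (g : Matrix (Fin d ⊕ Fin d) (Fin d ⊕ Fin d) F) := ⟨_, rfl⟩
  obtain ⟨G', hG'⟩ : ∃ G' : Matrix (Fin d ⊕ Fin d) (Fin d ⊕ Fin d) F,
    G' = ((g⁻¹ : GL (Fin d ⊕ Fin d) F) : Matrix (Fin d ⊕ Fin d) (Fin d ⊕ Fin d) F) := ⟨_, rfl⟩
  have h1 : G * G' = 1 := by
    rw [hG, hG', ← Units.val_mul, mul_inv_cancel, Units.val_one]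
  have h2 : G' * G = 1 := by
    rw [hG, hG', ← Units.val_mul, inv_mul_cancel, Units.val_one]
  rw [← hG] at hg
  have hcomm : ∀ k ∈ K0 d δ, G * k = k * G := by
    intro k hk
    obtain ⟨a, b, rfl⟩ := (mem_K0_iff d δ k).mp hk
    rw [mul_add, add_mul, Matrix.mul_smul, Matrix.smul_mul, Matrix.mul_smul, Matrix.smul_mul,
      mul_one, one_mul, hg]
  change ∀ k : Matrix (Fin d ⊕ Fin d) (Fin d ⊕ Fin d) F, k ∈ K0 d δ ↔
    (g : Matrix (Fin d ⊕ Fin d) (Fin d ⊕ Fin d) F) * k *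
      ((g⁻¹ : GL (Fin d ⊕ Fin d) F) : Matrix (Fin d ⊕ Fin d) (Fin d ⊕ Fin d) F) ∈ K0 d δ
  rw [← hG, ← hG']
  intro k
  constructor
  · intro hk
    rw [hcomm k hk, mul_assoc, h1, mul_one]
    exact hk
  · intro hk
    have h3 := hcomm _ hk
    have e1 : G * (G * k * G') = G * k := by
      rw [h3, mul_assoc (G * k), h2, mul_one]
    have e : G * k * G' = k := by
      calc G * k * G' = G' * (G * (G * k * G')) := by rw [← mul_assoc G', h2, one_mul]
        _ = G' * (G * k) := by rw [e1]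
        _ = k := by rw [← mul_assoc, h2, one_mul]
    rw [← e]
    exact hk

theorem invol_pos [Fintype F] (hodd : Odd (Fintype.card F)) (d : ℕ) (hd : 1 ≤ d) (δ : F) (hδ : ¬ IsSquare δ)
    (x : GL (Fin d ⊕ Fin d) F) (hx : x ∈ spGL d F)
    (hx2 : (x : Matrix (Fin d ⊕ Fin d) (Fin d ⊕ Fin d) F) * (x : Matrix (Fin d ⊕ Fin d) (Fin d ⊕ Fin d) F) = 1)
    (hx1 : (x : Matrix (Fin d ⊕ Fin d) (Fin d ⊕ Fin d) F) ≠ 1) (hx1' : (x : Matrix (Fin d ⊕ Fin d) (Fin d ⊕ Fin d) F) ≠ -1) :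
    ∃ g ∈ spGL d F, g⁻¹ * x * g ∈ subalgebraNormalizer (K0 d δ) := by
  classical
  have hchar : ringChar F ≠ 2 := by
    intro h
    have := FiniteField.even_card_of_char_two h
    rcases hodd with ⟨k, hk⟩
    omega
  have h2 : (2 : F) ≠ 0 := Ring.two_ne_zero hchar
  have h1ne : (1 : F) ≠ -1 := by
    intro h
    apply h2
    have : (1 : F) + 1 = 0 := by nth_rewrite 1 [h]; simp
    rw [← this]; norm_num
  -- the symplectic matrix of `x`
  obtain ⟨A, hA⟩ : ∃ A : Matrix.symplecticGroup (Fin d) F,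
      Cfsg.Agent.Lib.Helper50.spEquiv d A = ⟨x, hx⟩ :=
    ⟨(Cfsg.Agent.Lib.Helper50.spEquiv d).symm ⟨x, hx⟩, MulEquiv.apply_symm_apply _ _⟩
  obtain ⟨X, hX⟩ : ∃ X : Matrix (Fin d ⊕ Fin d) (Fin d ⊕ Fin d) F,
    X = (x : Matrix (Fin d ⊕ Fin d) (Fin d ⊕ Fin d) F) := ⟨_, rfl⟩
  have hAX : (A : Matrix (Fin d ⊕ Fin d) (Fin d ⊕ Fin d) F) = X := by
    have h : (A : Matrix (Fin d ⊕ Fin d) (Fin d ⊕ Fin d) F) =
      (((Cfsg.Agent.Lib.Helper50.spEquiv d A : ↥(spGL d F)) : GL (Fin d ⊕ Fin d) F) :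
        Matrix (Fin d ⊕ Fin d) (Fin d ⊕ Fin d) F) := rfl
    rw [h, hA, hX]
  rw [← hX] at hx2
  -- reindex to `Fin (2 * d)`
  let e : (Fin d ⊕ Fin d) ≃ Fin (2 * d) := finSumFinEquiv.trans (finCongr (two_mul d).symm)
  obtain ⟨s, hs_def⟩ : ∃ s : Matrix (Fin (2 * d)) (Fin (2 * d)) F, s = Matrix.reindex e e X :=
    ⟨_, rfl⟩
  have hs : s * s = 1 := by
    rw [hs_def, Matrix.reindex_apply, Matrix.submatrix_mul_equiv, hx2, Matrix.submatrix_one_equiv]
  have hXs : X = s.submatrix e e := by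
    rw [hs_def, Matrix.reindex_apply, Matrix.submatrix_submatrix, Equiv.symm_comp_self,
      Matrix.submatrix_id_id]
  have hsdet : s.det = 1 := by
    rw [hs_def, Matrix.det_reindex_self, ← hAX]
    exact det_eq_one_of_mem_symplecticGroup A
  have hn0 : 0 < 2 * d := by omega
  obtain ⟨P, ε, hPdet, hε, hsP⟩ := exists_sl_conj_diag h2 hn0 s hs
  have hPP : P * P⁻¹ = 1 := Matrix.mul_nonsing_inv P (by rw [hPdet]; exact isUnit_one)
  have hprodε : ∏ i, ε i = 1 := by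
    have h := congrArg Matrix.det hsP
    rw [Matrix.det_mul, Matrix.det_mul, hsdet, hPdet, Matrix.det_diagonal, one_mul, one_mul] at h
    exact h.symm
  have hprod : ∏ i, ε i = (-1 : F) ^ (Finset.univ.filter (fun i => ε i = -1)).card := by
    have h1 : ∀ i, ε i = if ε i = -1 then (-1 : F) else 1 := by
      intro i
      rcases hε i with h | h
      · rw [h]
        rw [if_neg h1ne]
      · rw [h]; simp
    rw [Finset.prod_congr rfl (fun i _ => h1 i), Finset.prod_ite, Finset.prod_const,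
      Finset.prod_const_one, mul_one]
  have hbeven : Even (Finset.univ.filter (fun i => ε i = -1)).card := by
    by_contra hnodd
    rw [Nat.not_even_iff_odd] at hnodd
    rw [hnodd.neg_one_pow, hprodε] at hprod
    exact h1ne hprod
  obtain ⟨σ, ε', hσ⟩ := diagonal_pm_eq_reindex h2 d rfl ε hε hbeven
  have hε' : ∀ j, ε' j = 1 ∨ ε' j = -1 := by
    intro j
    have h := congrFun (congrFun hσ (σ.symm (Sum.inl j))) (σ.symm (Sum.inl j))
    rw [Matrix.diagonal_apply_eq, Matrix.reindex_apply, Matrix.submatrix_apply, Equiv.symm_symm,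
      Equiv.apply_symm_apply, Matrix.fromBlocks_apply₁₁, Matrix.diagonal_apply_eq] at h
    rw [← h]
    exact hε _
  have hYε : dbl d ε' = (Matrix.diagonal ε).submatrix σ.symm σ.symm := by
    rw [hσ, Matrix.reindex_apply, Matrix.submatrix_submatrix, Equiv.symm_symm,
      Equiv.self_comp_symm, Matrix.submatrix_id_id, dbl]
  -- the conjugating matrix
  have hP1 : P.submatrix e σ.symm * P⁻¹.submatrix σ.symm e = 1 := by
    rw [Matrix.submatrix_mul_equiv, hPP, Matrix.submatrix_one_equiv]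
  have hunit : IsUnit (P.submatrix e σ.symm).det := Matrix.isUnit_det_of_right_inverse hP1
  have hconj : P.submatrix e σ.symm * dbl d ε' = X * P.submatrix e σ.symm := by
    rw [hYε, hXs, Matrix.submatrix_mul_equiv, Matrix.submatrix_mul_equiv, hsP]
  -- the symplectic element `y`
  let YS : Matrix.symplecticGroup (Fin d) F := ⟨dbl d ε', dbl_mem_symplectic d ε' hε'⟩
  have hYS2 : YS ^ 2 = 1 := by
    apply Subtype.ext
    rw [pow_two]
    exact dbl_mul_self d ε' hε'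
  have hk : ((2 : ℕ) : F) ≠ 0 := by
    rw [Nat.cast_ofNat]; exact h2
  have hIC : IsConj YS A := by
    apply sp_conj_of_matrix_conj YS A 2 hk hYS2 (P.submatrix e σ.symm) hunit
    rw [hAX]
    exact hconj
  obtain ⟨c, hc⟩ := isConj_iff.mp hIC
  refine ⟨((Cfsg.Agent.Lib.Helper50.spEquiv d c : ↥(spGL d F)) : GL (Fin d ⊕ Fin d) F),
    (Cfsg.Agent.Lib.Helper50.spEquiv d c).2, ?_⟩
  have hxA : x = ((Cfsg.Agent.Lib.Helper50.spEquiv d A : ↥(spGL d F)) : GL (Fin d ⊕ Fin d) F) := by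
    rw [hA]
  have hY : ((Cfsg.Agent.Lib.Helper50.spEquiv d c : ↥(spGL d F)) : GL (Fin d ⊕ Fin d) F)⁻¹ * x *
      ((Cfsg.Agent.Lib.Helper50.spEquiv d c : ↥(spGL d F)) : GL (Fin d ⊕ Fin d) F) =
      ((Cfsg.Agent.Lib.Helper50.spEquiv d YS : ↥(spGL d F)) : GL (Fin d ⊕ Fin d) F) := by
    have h3 : c⁻¹ * A * c = YS := by
      rw [← hc]; group
    rw [hxA, ← Subgroup.coe_inv, ← Subgroup.coe_mul, ← Subgroup.coe_mul, ← map_inv, ← map_mul,
      ← map_mul, h3]
  rw [hY]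
  apply mem_normalizer_K0_of_commute
  exact dbl_comm_theta d ε' δ

end Cfsg.Agent.Lib.Helper30.SpU
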