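import Mathlib
import Cfsg.Prelude.Def_Solvable
import Cfsg.Prelude.Def_SolvableStructure
import Cfsg.Agent.Lib.Helper21.SqFL5
import Cfsg.Agent.Lib.Helper12.Supersolvable
import Cfsg.Agent.Lib.Helper20.KazGroup
import Cfsg.Agent.Lib.Helper65.Hall

/-!
# S4130, M4: solvable + all class sizes squarefree => supersolvable
-/

set_option autoImplicit false

namespace Cfsg.Agent.Lib.Helper30.SqF

open Subgroup

universe u

/-- A squarefree number is not divisible by the square of a prime. -/
theorem not_sq_dvd_of_squarefree {q n : ℕ} (hq : q.Prime) (hn : Squarefree n) : ¬ q ^ 2 ∣ n := by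
  intro h
  have h1 : q * q ∣ n := by rwa [← sq]
  have := hn q h1
  exact hq.one_lt.ne' (Nat.isUnit_iff.mp this)

theorem isSupersolvable_of_sqfree_aux (n : ℕ) :
    ∀ (G : Type u) [Group G] [Finite G], Nat.card G ≤ n → Group.IsSolvable G →
      (∀ x : G, Squarefree (centralizer ({x} : Set G)).index) → Cfsg.IsSupersolvable G := by
  induction n with
  | zero =>
    intro G _ _ hn _ _
    have : 0 < Nat.card G := Nat.card_pos
    omega
  | succ n ih =>
    intro G _ _ hn hs h
    by_cases htriv : Subsingleton G
    · exact Cfsg.Agent.Lib.Helper12.isSupersolvable_of_subsingleton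
    · rw [not_subsingleton_iff_nontrivial] at htriv
      obtain ⟨q, A, hq, hAn, hA1, hAq, hAab⟩ :=
        Cfsg.Agent.Lib.Helper65.exists_normal_abelian_pgroup G
      haveI : Fact q.Prime := ⟨hq⟩
      haveI := hAn
      obtain ⟨M, hMn, hMA, hMq⟩ :=
        Cfsg.Agent.Lib.Helper21.SqF.exists_normal_card_prime_le q A hA1 hAq hAab
          (fun g => not_sq_dvd_of_squarefree hq (h g))
      haveI := hMn
      haveI : IsCyclic M := isCyclic_of_prime_card hMq
      apply Cfsg.Agent.Lib.Helper12.isSupersolvable_of_cyclic_normal M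
      apply ih (G ⧸ M)
      · have h1 : Nat.card G = Nat.card (G ⧸ M) * Nat.card M := by
          rw [← Subgroup.index_eq_card, mul_comm]; exact (Subgroup.card_mul_index M).symm
        rw [hMq] at h1
        have h2 : 0 < Nat.card (G ⧸ M) := Nat.card_pos
        have h3 : 2 ≤ q := hq.two_le
        nlinarith
      · exact Group.isSolvable_of_surjective (QuotientGroup.mk'_surjective M)
      · intro x
        obtain ⟨y, rfl⟩ := QuotientGroup.mk'_surjective M x
        exact Squarefree.squarefree_of_dvd
          (Cfsg.Agent.Lib.Helper20.index_centralizer_quotient_dvd M y) (h y)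

/-- M4. -/
theorem isSupersolvable_of_sqfree {G : Type u} [Group G] [Finite G] (hs : Group.IsSolvable G)
    (h : ∀ x : G, Squarefree (centralizer ({x} : Set G)).index) : Cfsg.IsSupersolvable G :=
  isSupersolvable_of_sqfree_aux (Nat.card G) G le_rfl hs h

end Cfsg.Agent.Lib.Helper30.SqF
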