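import Mathlib
import Cfsg.Prelude.Def_Solvable
import Cfsg.Prelude.Def_SolvableStructure
import Cfsg.Agent.Lib.Helper30.SqFM4
import Cfsg.Agent.Lib.Helper12.SupersolvableCyclic
import Cfsg.Agent.Lib.Helper15.FPF
import Cfsg.Agent.Lib.Helper73.SqFCount

/-!
# S4130, M5: supersolvable + squarefree class sizes => `G'` cyclic of squarefree order

Everything here is relative to the black box E0 (`card_commutator_dvd_of_isPGroup`), passed as a
hypothesis `hE0`; the final glue is in `SqFM5Main`.
-/

set_option autoImplicit false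

namespace Cfsg.Agent.Lib.Helper30.SqF

open Subgroup

universe u

/-- The `p`-part of `|G'|` divides `p` when `G'` is nilpotent and class sizes are `p^2`-free. -/
theorem not_sq_dvd_card_commutator {G : Type u} [Group G] [Finite G] (p : ℕ) [hp : Fact p.Prime]
    (hE0 : ∀ (H : Type u) [Group H] [Finite H], IsPGroup p (commutator H) →
      (∀ x : H, ¬ p ^ 2 ∣ (centralizer ({x} : Set H)).index) → Nat.card (commutator H) ∣ p)
    (hnil : Group.IsNilpotent (commutator G))
    (h : ∀ x : G, ¬ p ^ 2 ∣ (centralizer ({x} : Set G)).index) :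
    ¬ p ^ 2 ∣ Nat.card (commutator G) := by
  haveI := hnil
  set D : Subgroup G := commutator G with hD
  have hnpc := Cfsg.Agent.Lib.Helper15.hasNormalPComplement_of_isNilpotent D p
  obtain ⟨N, hNn, hcard, hmem⟩ := Cfsg.Agent.Lib.Helper73.SqF.npc_mem_iff p hnpc
  set K : Subgroup G := N.map D.subtype with hK
  have hDn : D.Normal := by rw [hD]; infer_instance
  have hKn : K.Normal := by
    constructor
    intro k hk g
    obtain ⟨n, hn, rfl⟩ := hk
    have hgD : g * (n : G) * g⁻¹ ∈ D := hDn.conj_mem _ n.2 g
    refine ⟨⟨g * (n : G) * g⁻¹, hgD⟩, ?_, rfl⟩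
    rw [SetLike.mem_coe, hmem] at hn ⊢
    have h1 : orderOf (⟨g * (n : G) * g⁻¹, hgD⟩ : D) = orderOf n := by
      rw [← Subgroup.orderOf_coe, ← Subgroup.orderOf_coe n]
      exact (MulAut.conj g).orderOf_eq (n : G)
    rw [h1]; exact hn
  haveI := hKn
  -- the commutator subgroup of the quotient
  have hcomm : commutator (G ⧸ K) = D.map (QuotientGroup.mk' K) := by
    rw [hD, _root_.commutator_def, _root_.commutator_def, Subgroup.map_commutator,
      Subgroup.map_top_of_surjective _ (QuotientGroup.mk'_surjective K)]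
  -- its cardinality
  let f : D →* G ⧸ K := (QuotientGroup.mk' K).comp D.subtype
  have hrange : f.range = commutator (G ⧸ K) := by
    rw [hcomm, MonoidHom.range_comp, Subgroup.range_subtype]
  have hker : f.ker = N := by
    ext x
    rw [MonoidHom.mem_ker, MonoidHom.comp_apply, QuotientGroup.mk'_apply,
      QuotientGroup.eq_one_iff, hK]
    constructor
    · rintro ⟨y, hy, hyx⟩
      have : y = x := Subtype.ext hyx
      rw [← this]; exact hy
    · intro hx
      exact ⟨x, hx, rfl⟩
  have hcard2 : Nat.card (commutator (G ⧸ K)) = p ^ (Nat.card D).factorization p := by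
    have h1 : f.ker.index = Nat.card f.range := Subgroup.index_ker f
    have h2 : Nat.card f.ker * f.ker.index = Nat.card D := Subgroup.card_mul_index f.ker
    rw [h1, hker, hrange] at h2
    have h3 : 0 < Nat.card N := Nat.card_pos
    rw [← hcard] at h2
    exact Nat.eq_of_mul_eq_mul_left h3 h2
  have hPG : IsPGroup p (commutator (G ⧸ K)) := IsPGroup.of_card hcard2
  have hcls : ∀ x : G ⧸ K, ¬ p ^ 2 ∣ (centralizer ({x} : Set (G ⧸ K))).index := by
    intro x hx
    obtain ⟨y, rfl⟩ := QuotientGroup.mk'_surjective K x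
    exact h y (hx.trans (Cfsg.Agent.Lib.Helper20.index_centralizer_quotient_dvd K y))
  have hdvd := hE0 (G ⧸ K) hPG hcls
  rw [hcard2] at hdvd
  have hv : (Nat.card D).factorization p ≤ 1 := by
    have : p ^ (Nat.card D).factorization p ∣ p ^ 1 := by rwa [pow_one]
    exact (Nat.pow_dvd_pow_iff_le_right hp.out.one_lt).mp this
  intro h2
  have : 2 ≤ (Nat.card D).factorization p :=
    (hp.out.pow_dvd_iff_le_factorization Nat.card_pos.ne').mp h2
  omega

/-- M5, relative to E0. -/
theorem commutator_cyclic_sqfree_of_E0 {G : Type u} [Group G] [Finite G]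
    (hE0 : ∀ (p : ℕ) [Fact p.Prime] (H : Type u) [Group H] [Finite H],
      IsPGroup p (commutator H) →
      (∀ x : H, ¬ p ^ 2 ∣ (centralizer ({x} : Set H)).index) → Nat.card (commutator H) ∣ p)
    (hs : Cfsg.IsSupersolvable G)
    (h : ∀ x : G, Squarefree (centralizer ({x} : Set G)).index) :
    IsCyclic (commutator G) ∧ Squarefree (Nat.card (commutator G)) := by
  have hnil : Group.IsNilpotent (commutator G) :=
    Cfsg.Agent.Lib.Helper12.isNilpotent_commutator_of_isSupersolvable hs
  have hsq : Squarefree (Nat.card (commutator G)) := by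
    rw [Nat.squarefree_iff_prime_squarefree]
    intro p hp hpp
    haveI : Fact p.Prime := ⟨hp⟩
    refine not_sq_dvd_card_commutator p (hE0 p) hnil
      (fun x => not_sq_dvd_of_squarefree hp (h x)) ?_
    rwa [sq]
  refine ⟨?_, hsq⟩
  haveI := hnil
  haveI : IsZGroup (commutator G) := IsZGroup.of_squarefree hsq
  infer_instance

end Cfsg.Agent.Lib.Helper30.SqF
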