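import Mathlib
import Cfsg.Agent.Lib.Helper30.SqFM5
import Cfsg.Agent.Lib.Helper31.SqFL8

/-!
# S4130, M5: final glue with E0 (Helper31)
-/

set_option autoImplicit false

namespace Cfsg.Agent.Lib.Helper30.SqF

open Subgroup

universe u

/-- M5. -/
theorem commutator_cyclic_sqfree {G : Type u} [Group G] [Finite G] (hs : Cfsg.IsSupersolvable G)
    (h : ∀ x : G, Squarefree (centralizer ({x} : Set G)).index) :
    IsCyclic (commutator G) ∧ Squarefree (Nat.card (commutator G)) :=
  commutator_cyclic_sqfree_of_E0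
    (fun p _ _ _ _ hG' hh => Cfsg.Agent.Lib.Helper31.SqF.card_commutator_dvd_of_isPGroup p hG' hh)
    hs h

end Cfsg.Agent.Lib.Helper30.SqF
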