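import Mathlib
import Cfsg.Agent.Lib.Helper30.Generation
import Cfsg.Agent.Lib.Helper66.DihedralIso

set_option autoImplicit false
set_option linter.style.haveILetI false

namespace Cfsg.Agent.Lib.Helper30

open Subgroup
open scoped commutatorElement

section Dih

variable {G : Type*} [Group G]

/-- The conclusion of Thompson's dihedral lemma. -/
def DihConclusion (L A : Subgroup G) (d : ℕ) : Prop :=
  ∃ (Ai : Fin d → Subgroup G) (Li : Fin d → Subgroup G) (n : Fin d → ℕ),
    (∀ i, Ai i ≤ A ∧ Nat.card ↥(Ai i) = 2 ∧ Li i ≤ L ∧ Odd (n i) ∧ 3 ≤ n i ∧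
      Nonempty (↥(Ai i ⊔ Li i) ≃* DihedralGroup (n i))) ∧
    (⨆ i, Ai i) = A ∧ ∀ i j, i ≠ j → ∀ x ∈ Ai i ⊔ Li i, ∀ y ∈ Ai j ⊔ Li j, x * y = y * x

/-- An involution inverting an element of odd order generates with it a dihedral group. -/
theorem dih_pair {a x : G} (ha : a * a = 1) (ha1 : a ≠ 1) (hax : a * x * a⁻¹ = x⁻¹)
    (hodd : Odd (orderOf x)) (hx1 : x ≠ 1) :
    Nat.card ↥(zpowers a) = 2 ∧ 3 ≤ orderOf x ∧
      Nonempty (↥(zpowers a ⊔ zpowers x) ≃* DihedralGroup (orderOf x)) := by
  have hainv : a⁻¹ = a := inv_eq_of_mul_eq_one_left ha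
  have hoa : orderOf a = 2 := orderOf_eq_prime (by rw [pow_two]; exact ha) ha1
  have hy : (a * x) * (a * x) = 1 := by
    have h1 : a * x * a = x⁻¹ := by rw [← hax, hainv]
    calc a * x * (a * x) = (a * x * a) * x := by simp [mul_assoc]
      _ = 1 := by rw [h1]; simp
  have hy1 : a * x ≠ 1 := by
    intro h
    have hxa : x = a := by
      have : x = a⁻¹ := eq_inv_of_mul_eq_one_right h
      rw [this, hainv]
    rw [hxa, hoa] at hodd
    exact absurd hodd (by decide)
  have hoy : orderOf (a * x) = 2 := orderOf_eq_prime (by rw [pow_two]; exact hy) hy1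
  have hprod : a * (a * x) = x := by rw [← mul_assoc, ha, one_mul]
  refine ⟨by rw [Nat.card_zpowers, hoa], ?_, ?_⟩
  · rcases hodd with ⟨k, hk⟩
    have : orderOf x ≠ 1 := fun h => hx1 (orderOf_eq_one_iff.mp h)
    omega
  · obtain ⟨e⟩ := Cfsg.Agent.Lib.Helper66.nonempty_closure_pair_equiv_dihedral hoa hoy
    rw [hprod] at e
    have hcl : closure ({a, a * x} : Set G) = zpowers a ⊔ zpowers x := by
      apply le_antisymm
      · rw [Subgroup.closure_le]
        rintro z (rfl | rfl)
        · exact Subgroup.mem_sup_left (Subgroup.mem_zpowers _)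
        · exact Subgroup.mul_mem _ (Subgroup.mem_sup_left (Subgroup.mem_zpowers _))
            (Subgroup.mem_sup_right (Subgroup.mem_zpowers _))
      · refine sup_le ?_ ?_
        · rw [Subgroup.zpowers_le]
          exact Subgroup.subset_closure (by simp)
        · rw [Subgroup.zpowers_le]
          have hx : a * (a * x) ∈ closure ({a, a * x} : Set G) :=
            Subgroup.mul_mem _ (Subgroup.subset_closure (by simp))
              (Subgroup.subset_closure (by simp))
          rwa [hprod] at hx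
    exact ⟨(MulEquiv.subgroupCongr hcl.symm).trans e⟩

/-- An involution acting trivially on `M` and on `L / M`, with `L` of odd order, centralizes `L`. -/
theorem dih_centralizes {c : G} {L M : Subgroup G} [Finite G] (hc : c * c = 1)
    (hodd : Odd (Nat.card L)) (hLM : L ≤ normalizer (M : Set G)) (hML : M ≤ L)
    (hcM : ∀ m ∈ M, c * m = m * c) (hcL : ∀ l ∈ L, c * l * c⁻¹ * l⁻¹ ∈ M) :
    ∀ l ∈ L, c * l = l * c := by
  intro l hl
  have hcinv : c⁻¹ = c := inv_eq_of_mul_eq_one_left hc
  have hm : l⁻¹ * (c * l * c⁻¹) ∈ M := by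
    have h1 := hcL l hl
    have h2 := ((hLM (L.inv_mem hl)) _).mp h1
    simpa [mul_assoc] using h2
  set m := l⁻¹ * (c * l * c⁻¹) with hmdef
  have h1 : c * l * c⁻¹ = l * m := by rw [hmdef]; simp [mul_assoc]
  have h2 : c * (l * m) * c⁻¹ = l * m * m := by
    have : c * (l * m) * c⁻¹ = (c * l * c⁻¹) * (c * m * c⁻¹) := by simp [mul_assoc]
    rw [this, h1]
    have : c * m * c⁻¹ = m := by rw [hcM m hm]; simp
    rw [this]
  have h3 : c * (c * l * c⁻¹) * c⁻¹ = l := by
    rw [hcinv]
    calc c * (c * l * c) * c = (c * c) * l * (c * c) := by simp [mul_assoc]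
      _ = l := by rw [hc]; simp
  rw [h1, h2] at h3
  have h4 : m * m = 1 := by
    have : l * (m * m) = l * 1 := by rw [← mul_assoc, h3, mul_one]
    exact mul_left_cancel this
  have h5 : orderOf m ∣ 2 := orderOf_dvd_of_pow_eq_one (by rw [pow_two]; exact h4)
  have h6 : orderOf m ∣ Nat.card L := by
    have := orderOf_dvd_natCard (⟨m, hML hm⟩ : ↥L)
    rwa [Subgroup.orderOf_mk] at this
  have h7 : orderOf m = 1 := by
    have hcop : Nat.Coprime 2 (Nat.card L) := (Nat.coprime_two_left).mpr hodd
    exact Nat.eq_one_of_dvd_coprimes hcop h5 h6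
  have h8 : m = 1 := orderOf_eq_one_iff.mp h7
  rw [h8, mul_one] at h1
  calc c * l = (c * l * c⁻¹) * c := by simp
    _ = l * c := by rw [h1]

end Dih

section Dih2

variable {G : Type*} [Group G]

/-- The elements normalizing `M` and moving each element of `S` only inside its coset of `M`. -/
def actKer (S : Set G) (M : Subgroup G) : Subgroup G where
  carrier := {c | c ∈ normalizer (M : Set G) ∧ ∀ l ∈ S, c * l * c⁻¹ * l⁻¹ ∈ M}
  one_mem' := ⟨Subgroup.one_mem _, fun l _ => by simp⟩
  mul_mem' := by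
    rintro c c' ⟨hc, hcl⟩ ⟨hc', hcl'⟩
    refine ⟨Subgroup.mul_mem _ hc hc', fun l hl => ?_⟩
    have h1 : c * c' * l * (c * c')⁻¹ * l⁻¹ =
        (c * (c' * l * c'⁻¹ * l⁻¹) * c⁻¹) * (c * l * c⁻¹ * l⁻¹) := by group
    rw [h1]
    exact M.mul_mem ((hc _).mp (hcl' l hl)) (hcl l hl)
  inv_mem' := by
    rintro c ⟨hc, hcl⟩
    refine ⟨Subgroup.inv_mem _ hc, fun l hl => ?_⟩
    have h1 : c⁻¹ * l * c⁻¹⁻¹ * l⁻¹ = c⁻¹ * (c * l * c⁻¹ * l⁻¹)⁻¹ * c⁻¹⁻¹ := by group
    rw [h1]
    exact ((Subgroup.inv_mem _ hc) _).mp (M.inv_mem (hcl l hl))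

theorem mem_actKer {S : Set G} {M : Subgroup G} {c : G} :
    c ∈ actKer S M ↔ c ∈ normalizer (M : Set G) ∧ ∀ l ∈ S, c * l * c⁻¹ * l⁻¹ ∈ M := Iff.rfl

theorem dih_mem_sup {A B : Subgroup G} (h : A ≤ normalizer (B : Set G)) {x : G} :
    x ∈ A ⊔ B ↔ ∃ a ∈ A, ∃ b ∈ B, a * b = x := by
  rw [← SetLike.mem_coe, Subgroup.coe_mul_of_left_le_normalizer_right A B h, Set.mem_mul]
  simp

variable [Finite G] {L M A : Subgroup G}

/-- Fixed cosets of an involution with `C_L(b) ≤ M` are trivial. -/
theorem dih_fixed {b : G} (hb2 : b * b = 1) (hbL : b ∈ normalizer (L : Set G))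
    (hbM : b ∈ normalizer (M : Set G)) (hML : M ≤ L) (hLM : L ≤ normalizer (M : Set G))
    (hodd : Odd (Nat.card L)) (hCb : L ⊓ centralizer {b} ≤ M) {l : G} (hl : l ∈ L)
    (hfix : b * l * b⁻¹ * l⁻¹ ∈ M) : l ∈ M := by
  have hzL : zpowers b ≤ normalizer (L : Set G) := Subgroup.zpowers_le.mpr hbL
  have hzM : zpowers b ≤ normalizer (M : Set G) := Subgroup.zpowers_le.mpr hbM
  have hord : orderOf b ∣ 2 := orderOf_dvd_of_pow_eq_one (by rw [pow_two]; exact hb2)
  have hcop : (Nat.card (zpowers b)).Coprime (Nat.card L) := by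
    rw [Nat.card_zpowers]
    exact Nat.Coprime.coprime_dvd_left hord (Nat.coprime_two_left.mpr hodd)
  have hker : zpowers b ≤ actKer {l} M := by
    rw [Subgroup.zpowers_le, mem_actKer]
    refine ⟨hbM, ?_⟩
    intro l' hl'
    rw [Set.mem_singleton_iff] at hl'
    rw [hl']; exact hfix
  obtain ⟨c, hc, hcM⟩ := Cfsg.Agent.S0022.result (zpowers b) L hzL hcop (Or.inl inferInstance)
    M hML hLM hzM l hl (fun g hg => (mem_actKer.mp (hker hg)).2 l rfl)
  have hc2 : c ∈ M := by
    apply hCb
    refine Subgroup.mem_inf.mpr ⟨(Subgroup.mem_inf.mp hc).1, ?_⟩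
    rw [Subgroup.mem_centralizer_iff]
    intro g hg
    rw [Set.mem_singleton_iff] at hg
    subst hg
    exact (Subgroup.mem_centralizer_iff.mp (Subgroup.mem_inf.mp hc).2) _ (Subgroup.mem_zpowers _)
  have : l⁻¹ ∈ M := by
    have := M.mul_mem hcM (M.inv_mem hc2)
    simpa using this
  simpa using M.inv_mem this

/-- An involution `b` with `C_L(b) ≤ M` inverts `L / M` (for `L / M` abelian). -/
theorem dih_inverts {b : G} (hb2 : b * b = 1) (hbL : b ∈ normalizer (L : Set G))
    (hbM : b ∈ normalizer (M : Set G)) (hML : M ≤ L) (hLM : L ≤ normalizer (M : Set G))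
    (hcomm : ⁅L, L⁆ ≤ M)
    (hodd : Odd (Nat.card L)) (hCb : L ⊓ centralizer {b} ≤ M) {l : G} (hl : l ∈ L) :
    l * (b * l * b⁻¹) ∈ M := by
  have hbinv : b⁻¹ = b := inv_eq_of_mul_eq_one_left hb2
  have hu : b * l * b⁻¹ ∈ L := (hbL l).mp hl
  apply dih_fixed hb2 hbL hbM hML hLM hodd hCb (L.mul_mem hl hu)
  have hbu : b * (b * l * b⁻¹) * b⁻¹ = l := by
    have : b * (b * l * b⁻¹) * b⁻¹ = (b * b) * l * (b * b)⁻¹ := by group
    rw [this, hb2]; simp
  have key : ∀ u : G, u = b * l * b⁻¹ → b * u * b⁻¹ = l →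
      b * (l * u) * b⁻¹ * (l * u)⁻¹ = ⁅u, l⁆ := by
    intro u hu hbu
    have e1 : b * (l * u) * b⁻¹ = (b * l * b⁻¹) * (b * u * b⁻¹) := by group
    rw [e1, hbu, ← hu, commutatorElement_def]; group
  have h1 := key _ rfl hbu
  rw [h1]
  exact hcomm (Subgroup.commutator_mem_commutator hu hl)

/-- Two involutions inverting `L / M` have a product acting trivially on `L / M`. -/
theorem dih_prod_mem_actKer {b b' : G} (hb2 : b * b = 1) (hb'2 : b' * b' = 1)
    (hbL : b ∈ normalizer (L : Set G)) (hb'L : b' ∈ normalizer (L : Set G))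
    (hbM : b ∈ normalizer (M : Set G)) (hb'M : b' ∈ normalizer (M : Set G))
    (hML : M ≤ L) (hLM : L ≤ normalizer (M : Set G)) (hcomm : ⁅L, L⁆ ≤ M)
    (hodd : Odd (Nat.card L)) (hCb : L ⊓ centralizer {b} ≤ M) (hCb' : L ⊓ centralizer {b'} ≤ M) :
    b * b' ∈ actKer (L : Set G) M := by
  rw [mem_actKer]
  refine ⟨Subgroup.mul_mem _ hbM hb'M, ?_⟩
  intro l hl
  have hl' : l ∈ L := hl
  have hu : b' * l * b'⁻¹ ∈ L := (hb'L l).mp hl'
  have h1 := dih_inverts hb'2 hb'L hb'M hML hLM hcomm hodd hCb' hl'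
  have h2 := dih_inverts hb2 hbL hbM hML hLM hcomm hodd hCb hu
  -- `w l⁻¹ = (l u)⁻¹ (l (u w) l⁻¹)`
  have h3 : b * b' * l * (b * b')⁻¹ * l⁻¹ =
      (l * (b' * l * b'⁻¹))⁻¹ *
        (l * ((b' * l * b'⁻¹) * (b * (b' * l * b'⁻¹) * b⁻¹)) * l⁻¹) := by group
  rw [h3]
  exact M.mul_mem (M.inv_mem h1) ((hLM hl' _).mp h2)

end Dih2

section Dih3

variable {G : Type*} [Group G] [Finite G]

theorem dih_main : ∀ n : ℕ, ∀ (L A : Subgroup G) (d : ℕ), Nat.card L ≤ n →
    Group.IsSolvable L → Odd (Nat.card L) → (∀ x ∈ A, ∀ y ∈ A, x * y = y * x) →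
    (∀ a ∈ A, a * a = 1) → Nat.card A = 2 ^ d → A ≤ normalizer (L : Set G) →
    A ⊓ centralizer (L : Set G) = ⊥ → DihConclusion L A d := by
  intro n
  induction n with
  | zero =>
    intro L A d hL
    exact absurd hL (by have := Nat.card_pos (α := ↥L); omega)
  | succ n ih =>
    intro L A d hLn hLs hLodd hAc hA2 hAd hAL hfaith
    rcases Nat.eq_zero_or_pos d with hd0 | hdpos
    · subst hd0
      have hAbot : A = ⊥ := by
        rw [pow_zero] at hAd
        exact Subgroup.card_eq_one.mp hAd
      refine ⟨Fin.elim0, Fin.elim0, Fin.elim0, fun i => i.elim0, ?_, fun i => i.elim0⟩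
      rw [hAbot]
      exact iSup_of_empty _
    obtain ⟨d', rfl⟩ : ∃ d', d = d' + 1 := ⟨d - 1, by omega⟩
    by_cases hex : ∃ L' : Subgroup G, L' ≤ L ∧ L' ≠ L ∧ A ≤ normalizer (L' : Set G) ∧
        A ⊓ centralizer (L' : Set G) = ⊥
    · obtain ⟨L', hL'L, hL'ne, hAL', hfaith'⟩ := hex
      have hcard : Nat.card L' ≤ n := by
        by_contra hcon
        push Not at hcon
        exact hL'ne (Subgroup.eq_of_le_of_card_ge hL'L (by omega))
      have hL's : Group.IsSolvable L' :=
        Group.isSolvable_of_isSolvable_injective (Subgroup.inclusion_injective hL'L)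
      have hL'odd : Odd (Nat.card L') := hLodd.of_dvd_nat (Subgroup.card_dvd_of_le hL'L)
      obtain ⟨Ai, Li, ni, h1, h2, h3⟩ :=
        ih L' A (d' + 1) hcard hL's hL'odd hAc hA2 hAd hAL' hfaith'
      exact ⟨Ai, Li, ni, fun i => ⟨(h1 i).1, (h1 i).2.1, (h1 i).2.2.1.trans hL'L, (h1 i).2.2.2⟩,
        h2, h3⟩
    · push Not at hex
      have hA1 : A ≠ ⊥ := by
        intro h
        rw [h, Subgroup.card_bot] at hAd
        have : 2 ^ (d' + 1) ≥ 2 ^ 1 := Nat.pow_le_pow_right (by norm_num) (by omega)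
        omega
      have hLbot : L ≠ ⊥ := by
        intro h
        apply hA1
        rw [← hfaith, h, eq_comm, inf_eq_left]
        intro x _
        rw [Subgroup.mem_centralizer_iff]
        intro y hy
        have : y = 1 := Subgroup.mem_bot.mp hy
        rw [this]; simp
      haveI : Nontrivial L := (Subgroup.nontrivial_iff_ne_bot L).mpr hLbot
      haveI := hLs
      have hlt : _root_.commutator L < ⊤ := Group.IsSolvable.commutator_lt_top_of_nontrivial L
      have hKL : ⁅L, L⁆ ≤ L := Subgroup.commutator_le_self L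
      have hKne : ⁅L, L⁆ ≠ L := by
        intro h
        rw [← Subgroup.map_subtype_commutator] at h
        have h2 : (_root_.commutator ↥L).map L.subtype = (⊤ : Subgroup ↥L).map L.subtype := by
          rw [h, ← MonoidHom.range_eq_map, Subgroup.range_subtype]
        exact hlt.ne (Subgroup.map_injective L.subtype_injective h2)
      -- a maximal `A`-invariant proper subgroup containing the commutator
      obtain ⟨M, hMmax⟩ := (Set.toFinite {M : Subgroup G | ⁅L, L⁆ ≤ M ∧ M ≤ L ∧ M ≠ L ∧
        A ≤ normalizer (M : Set G)}).exists_maximal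
          ⟨⁅L, L⁆, le_rfl, hKL, hKne, gen_le_normalizer_commutator hAL⟩
      obtain ⟨hcomm, hML, hMne, hAM⟩ := hMmax.prop
      have hLM : L ≤ normalizer (M : Set G) := by
        rw [Subgroup.le_normalizer_iff_commutator_le_right]
        exact (Subgroup.commutator_mono le_rfl hML).trans hcomm
      have hmaxM : ∀ M' : Subgroup G, M ≤ M' → M' ≤ L → A ≤ normalizer (M' : Set G) →
          M' ≠ L → M' = M := by
        intro M' h1 h2 h3 h4
        exact le_antisymm (hMmax.le_of_ge ⟨hcomm.trans h1, h2, h4, h3⟩ h1) h1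
      have hCM := hex M hML hMne hAM
      obtain ⟨⟨a, haAM⟩, ha1'⟩ := (Subgroup.ne_bot_iff_exists_ne_one).mp hCM
      have ha1 : a ≠ 1 := fun h => ha1' (Subtype.ext h)
      have haA : a ∈ A := (Subgroup.mem_inf.mp haAM).1
      have haM : ∀ m ∈ M, a * m = m * a := fun m hm =>
        ((Subgroup.mem_centralizer_iff.mp (Subgroup.mem_inf.mp haAM).2) m hm).symm
      -- dichotomy
      have hdich : ∀ b ∈ A, b ∉ A ⊓ actKer (L : Set G) M → L ⊓ centralizer {b} ≤ M := by
        intro b hb hbA0
        have hMb : M ⊔ (L ⊓ centralizer {b}) ≤ L := sup_le hML inf_le_left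
        have hAMb : A ≤ normalizer ((M ⊔ (L ⊓ centralizer {b}) : Subgroup G) : Set G) :=
          gen_le_normalizer_sup hAM
            (fun g hg => gen_mem_normalizer_inf_centralizer (hAL hg) (hAc g hg b hb))
        by_cases hMbL : M ⊔ (L ⊓ centralizer {b}) = L
        · exfalso
          apply hbA0
          refine Subgroup.mem_inf.mpr ⟨hb, mem_actKer.mpr ⟨hAM hb, ?_⟩⟩
          intro l hl
          have hl' : l ∈ (L ⊓ centralizer {b}) ⊔ M := by rw [sup_comm, hMbL]; exact hl
          obtain ⟨c, hc, m, hm, rfl⟩ := (dih_mem_sup (inf_le_left.trans hLM)).mp hl'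
          have hcb : b * c = c * b :=
            (Subgroup.mem_centralizer_iff.mp (Subgroup.mem_inf.mp hc).2) b rfl
          have e : b * (c * m) * b⁻¹ * (c * m)⁻¹ = c * (b * m * b⁻¹ * m⁻¹) * c⁻¹ := by
            calc b * (c * m) * b⁻¹ * (c * m)⁻¹ = (b * c) * m * b⁻¹ * m⁻¹ * c⁻¹ := by group
              _ = (c * b) * m * b⁻¹ * m⁻¹ * c⁻¹ := by rw [hcb]
              _ = _ := by group
          rw [e]
          exact ((hLM (Subgroup.mem_inf.mp hc).1) _).mp
            (M.mul_mem ((hAM hb m).mp hm) (M.inv_mem hm))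
        · have := hmaxM _ le_sup_left hMb hAMb hMbL
          rw [← this]; exact le_sup_right
      -- `A₀` is faithful on `M`
      have hA0faith : ∀ c ∈ A ⊓ actKer (L : Set G) M, (∀ m ∈ M, c * m = m * c) → c = 1 := by
        intro c hc hcM
        have hcA := (Subgroup.mem_inf.mp hc).1
        have hck := mem_actKer.mp (Subgroup.mem_inf.mp hc).2
        have h1 := dih_centralizes (hA2 c hcA) hLodd hLM hML hcM (fun l hl => hck.2 l hl)
        have : c ∈ A ⊓ centralizer (L : Set G) :=
          Subgroup.mem_inf.mpr ⟨hcA, Subgroup.mem_centralizer_iff.mpr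
            (fun l hl => (h1 l hl).symm)⟩
        rw [hfaith] at this
        exact Subgroup.mem_bot.mp this
      have haA0 : a ∉ A ⊓ actKer (L : Set G) M := fun h => ha1 (hA0faith a h haM)
      have hCa := hdich a haA haA0
      have hcover : ∀ b ∈ A, b ∈ A ⊓ actKer (L : Set G) M ∨ a * b ∈ A ⊓ actKer (L : Set G) M := by
        intro b hb
        by_cases hbA0 : b ∈ A ⊓ actKer (L : Set G) M
        · exact Or.inl hbA0
        · right
          exact Subgroup.mem_inf.mpr ⟨A.mul_mem haA hb,
            dih_prod_mem_actKer (hA2 a haA) (hA2 b hb) (hAL haA) (hAL hb) (hAM haA) (hAM hb)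
              hML hLM hcomm hLodd hCa (hdich b hb hbA0)⟩
      have hA0A : A ⊓ actKer (L : Set G) M ≤ A := inf_le_left
      have hAsup : A ≤ (A ⊓ actKer (L : Set G) M) ⊔ zpowers a := by
        intro b hb
        rcases hcover b hb with h | h
        · exact Subgroup.mem_sup_left h
        · have : b = a⁻¹ * (a * b) := by simp
          rw [this]
          exact Subgroup.mul_mem _ (Subgroup.mem_sup_right
            (Subgroup.inv_mem _ (Subgroup.mem_zpowers a))) (Subgroup.mem_sup_left h)
      have hcardA0 : Nat.card ↥(A ⊓ actKer (L : Set G) M) = 2 ^ d' := by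
        have h1 : Nat.card A ≤ 2 * Nat.card ↥(A ⊓ actKer (L : Set G) M) :=
          (Subgroup.card_le_of_le hAsup).trans
            (gen_card_sup_zpowers_le 2 _ a (by rw [pow_two]; exact hA2 a haA)
              (fun c hc => hAc a haA c (hA0A hc)))
        have h2 : Nat.card ↥(A ⊓ actKer (L : Set G) M) ∣ Nat.card A := Subgroup.card_dvd_of_le hA0A
        have h3 : Nat.card ↥(A ⊓ actKer (L : Set G) M) ≠ Nat.card A := by
          intro h
          have := Subgroup.eq_of_le_of_card_ge hA0A h.ge
          exact haA0 (by rw [this]; exact haA)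
        rw [hAd] at h1 h2 h3
        obtain ⟨k, hk, hk2⟩ := (Nat.dvd_prime_pow Nat.prime_two).mp h2
        rw [hk2] at h1 h3 ⊢
        have hk3 : k ≠ d' + 1 := fun h => h3 (by rw [h])
        have hk4 : d' + 1 ≤ k + 1 := by
          have : 2 ^ (d' + 1) ≤ 2 ^ (k + 1) := by rw [pow_succ 2 k, mul_comm]; exact h1
          exact (Nat.pow_le_pow_iff_right (by norm_num)).mp this
        have : k = d' := by omega
        rw [this]
      -- induction hypothesis for `M`, `A₀`
      have hMcard : Nat.card M ≤ n := by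
        by_contra hcon
        push Not at hcon
        exact hMne (Subgroup.eq_of_le_of_card_ge hML (by omega))
      have hMs : Group.IsSolvable M :=
        Group.isSolvable_of_isSolvable_injective (Subgroup.inclusion_injective hML)
      have hModd : Odd (Nat.card M) := hLodd.of_dvd_nat (Subgroup.card_dvd_of_le hML)
      have hA0M : (A ⊓ actKer (L : Set G) M) ⊓ centralizer (M : Set G) = ⊥ := by
        rw [eq_bot_iff]
        intro c hc
        have := hA0faith c (Subgroup.mem_inf.mp hc).1 (fun m hm =>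
          ((Subgroup.mem_centralizer_iff.mp (Subgroup.mem_inf.mp hc).2) m hm).symm)
        exact Subgroup.mem_bot.mpr this
      obtain ⟨Ai, Li, ni, h1, h2, h3⟩ := ih M (A ⊓ actKer (L : Set G) M) d' hMcard hMs hModd
        (fun x hx y hy => hAc x (hA0A hx) y (hA0A hy)) (fun c hc => hA2 c (hA0A hc)) hcardA0
        (hA0A.trans hAM) hA0M
      -- an element of `C_L(A₀)` outside `M`
      obtain ⟨l0, hl0L, hl0M⟩ : ∃ l0 ∈ L, l0 ∉ M := by
        by_contra hcon
        push Not at hcon
        exact hMne (le_antisymm hML hcon)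
      have hcopA0 : (Nat.card ↥(A ⊓ actKer (L : Set G) M)).Coprime (Nat.card L) := by
        rw [hcardA0]
        exact Nat.Coprime.pow_left _ (Nat.coprime_two_left.mpr hLodd)
      obtain ⟨l, hl, hlM⟩ := Cfsg.Agent.S0022.result (A ⊓ actKer (L : Set G) M) L
        (hA0A.trans hAL) hcopA0
        (Or.inl (Group.isSolvable_of_comm (fun x y => Subtype.ext (hAc x (hA0A x.2) y (hA0A y.2)))))
        M hML hLM (hA0A.trans hAM) l0 hl0L
        (fun c hc => (mem_actKer.mp (Subgroup.mem_inf.mp hc).2).2 l0 hl0L)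
      have hlL := (Subgroup.mem_inf.mp hl).1
      have hlA0 := Subgroup.mem_centralizer_iff.mp (Subgroup.mem_inf.mp hl).2
      have hlnM : l ∉ M := by
        intro h
        apply hl0M
        have : l0⁻¹ ∈ M := by
          have := M.mul_mem hlM (M.inv_mem h)
          simpa using this
        simpa using M.inv_mem this
      -- the element inverted by `a`
      have hxL : l⁻¹ * (a * l * a⁻¹) ∈ L := L.mul_mem (L.inv_mem hlL) ((hAL haA l).mp hlL)
      have hx1 : l⁻¹ * (a * l * a⁻¹) ≠ 1 := by
        intro h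
        apply hlnM
        apply hCa
        refine Subgroup.mem_inf.mpr ⟨hlL, Subgroup.mem_centralizer_iff.mpr ?_⟩
        intro g hg
        rw [Set.mem_singleton_iff] at hg
        subst hg
        have h' : g * l * g⁻¹ = l := by
          have := congrArg (fun z => l * z) h
          simpa using this
        calc g * l = (g * l * g⁻¹) * g := by simp
          _ = l * g := by rw [h']
      have haa : a * (a * l * a⁻¹) * a⁻¹ = l := by
        have : a * (a * l * a⁻¹) * a⁻¹ = (a * a) * l * (a * a)⁻¹ := by group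
        rw [this, hA2 a haA]; simp
      have hax : a * (l⁻¹ * (a * l * a⁻¹)) * a⁻¹ = (l⁻¹ * (a * l * a⁻¹))⁻¹ := by
        calc a * (l⁻¹ * (a * l * a⁻¹)) * a⁻¹
            = (a * l * a⁻¹)⁻¹ * (a * (a * l * a⁻¹) * a⁻¹) := by group
          _ = (a * l * a⁻¹)⁻¹ * l := by rw [haa]
          _ = (l⁻¹ * (a * l * a⁻¹))⁻¹ := by group
      have hxA0 : ∀ c ∈ A ⊓ actKer (L : Set G) M,
          c * (l⁻¹ * (a * l * a⁻¹)) = (l⁻¹ * (a * l * a⁻¹)) * c := by
        intro c hc
        have hcl : Commute c l := hlA0 c hc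
        have hca : Commute c a := hAc c (hA0A hc) a haA
        exact (hcl.inv_right.mul_right ((hca.mul_right hcl).mul_right hca.inv_right))
      have hxM : ∀ m ∈ M, (l⁻¹ * (a * l * a⁻¹)) * m = m * (l⁻¹ * (a * l * a⁻¹)) := by
        intro m hm
        have hlm : l * m * l⁻¹ ∈ M := (hLM hlL m).mp hm
        have e1 : a⁻¹ * m * a = m := by
          rw [mul_assoc, ← haM m hm, ← mul_assoc, inv_mul_cancel, one_mul]
        have e2 : a * (l * m * l⁻¹) * a⁻¹ = l * m * l⁻¹ := by
          rw [haM _ hlm]; simp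
        have h3 : (a * l * a⁻¹) * m * (a * l * a⁻¹)⁻¹ = l * m * l⁻¹ := by
          calc (a * l * a⁻¹) * m * (a * l * a⁻¹)⁻¹
              = a * (l * (a⁻¹ * m * a) * l⁻¹) * a⁻¹ := by group
            _ = a * (l * m * l⁻¹) * a⁻¹ := by rw [e1]
            _ = l * m * l⁻¹ := e2
        have h4 : (l⁻¹ * (a * l * a⁻¹)) * m * (l⁻¹ * (a * l * a⁻¹))⁻¹ = m := by
          calc (l⁻¹ * (a * l * a⁻¹)) * m * (l⁻¹ * (a * l * a⁻¹))⁻¹
              = l⁻¹ * ((a * l * a⁻¹) * m * (a * l * a⁻¹)⁻¹) * l := by group
            _ = l⁻¹ * (l * m * l⁻¹) * l := by rw [h3]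
            _ = m := by group
        calc (l⁻¹ * (a * l * a⁻¹)) * m
            = ((l⁻¹ * (a * l * a⁻¹)) * m * (l⁻¹ * (a * l * a⁻¹))⁻¹) * (l⁻¹ * (a * l * a⁻¹)) := by
              group
          _ = m * (l⁻¹ * (a * l * a⁻¹)) := by rw [h4]
      generalize l⁻¹ * (a * l * a⁻¹) = x at hxL hx1 hax hxA0 hxM
      have hxodd : Odd (orderOf x) := by
        have : orderOf x ∣ Nat.card L := by
          have := orderOf_dvd_natCard (⟨x, hxL⟩ : ↥L)
          rwa [Subgroup.orderOf_mk] at this
        exact hLodd.of_dvd_nat this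
      obtain ⟨hc2, hn3, hiso⟩ := dih_pair (hA2 a haA) ha1 hax hxodd hx1
      have hcent : ∀ g : G, (∀ c ∈ A ⊓ actKer (L : Set G) M, c * g = g * c) →
          (∀ m ∈ M, g * m = m * g) →
          g ∈ centralizer (((A ⊓ actKer (L : Set G) M) ⊔ M : Subgroup G) : Set G) := by
        intro g hg1 hg2
        have hle : (A ⊓ actKer (L : Set G) M) ⊔ M ≤ centralizer {g} := by
          refine sup_le ?_ ?_
          · intro c hc
            rw [Subgroup.mem_centralizer_iff]
            intro y hy
            rw [Set.mem_singleton_iff] at hy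
            rw [hy]; exact (hg1 c hc).symm
          · intro m hm
            rw [Subgroup.mem_centralizer_iff]
            intro y hy
            rw [Set.mem_singleton_iff] at hy
            rw [hy]; exact hg2 m hm
        rw [Subgroup.mem_centralizer_iff]
        intro z hz
        exact ((Subgroup.mem_centralizer_iff.mp (hle hz)) g rfl).symm
      have hD1 : zpowers a ⊔ zpowers x ≤
          centralizer (((A ⊓ actKer (L : Set G) M) ⊔ M : Subgroup G) : Set G) := by
        refine sup_le ?_ ?_
        · rw [Subgroup.zpowers_le]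
          exact hcent a (fun c hc => hAc c (hA0A hc) a haA) haM
        · rw [Subgroup.zpowers_le]
          exact hcent x hxA0 hxM
      refine ⟨Fin.cons (zpowers a) Ai, Fin.cons (zpowers x) Li, Fin.cons (orderOf x) ni, ?_, ?_, ?_⟩
      · intro i
        refine Fin.cases ?_ (fun j => ?_) i
        · simp only [Fin.cons_zero]
          exact ⟨Subgroup.zpowers_le.mpr haA, hc2, Subgroup.zpowers_le.mpr hxL, hxodd, hn3, hiso⟩
        · simp only [Fin.cons_succ]
          exact ⟨(h1 j).1.trans hA0A, (h1 j).2.1, (h1 j).2.2.1.trans hML, (h1 j).2.2.2⟩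
      · apply le_antisymm
        · refine iSup_le fun i => ?_
          refine Fin.cases ?_ (fun j => ?_) i
          · simp only [Fin.cons_zero]; exact Subgroup.zpowers_le.mpr haA
          · simp only [Fin.cons_succ]; exact (h1 j).1.trans hA0A
        · refine hAsup.trans (sup_le ?_ ?_)
          · rw [← h2]
            refine iSup_le fun j => ?_
            have := le_iSup (fun i => (Fin.cons (zpowers a) Ai : Fin (d' + 1) → Subgroup G) i) j.succ
            simpa only [Fin.cons_succ] using this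
          · have := le_iSup (fun i => (Fin.cons (zpowers a) Ai : Fin (d' + 1) → Subgroup G) i) 0
            simpa only [Fin.cons_zero] using this
      · intro i j
        induction i using Fin.cases with
        | zero =>
          induction j using Fin.cases with
          | zero => intro h; exact absurd rfl h
          | succ j =>
            intro _ y hy z hz
            simp only [Fin.cons_zero] at hy
            simp only [Fin.cons_succ] at hz
            have hz' : z ∈ (A ⊓ actKer (L : Set G) M) ⊔ M :=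
              sup_le_sup (h1 j).1 (h1 j).2.2.1 hz
            exact ((Subgroup.mem_centralizer_iff.mp (hD1 hy)) z hz').symm
        | succ i =>
          induction j using Fin.cases with
          | zero =>
            intro _ y hy z hz
            simp only [Fin.cons_zero] at hz
            simp only [Fin.cons_succ] at hy
            have hy' : y ∈ (A ⊓ actKer (L : Set G) M) ⊔ M :=
              sup_le_sup (h1 i).1 (h1 i).2.2.1 hy
            exact (Subgroup.mem_centralizer_iff.mp (hD1 hz)) y hy'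
          | succ j =>
            intro h y hy z hz
            simp only [Fin.cons_succ] at hy hz
            exact h3 i j (fun e => h (by rw [e])) y hy z hz

end Dih3

end Cfsg.Agent.Lib.Helper30
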