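import Mathlib
import Cfsg.Prelude.Def_Local
import Cfsg.Agent.Lib.Helper56.CharPFStar

set_option autoImplicit false
set_option linter.unusedSectionVars false

namespace Cfsg.Agent.Lib.Helper30

open Matrix

section TV

variable {F : Type*} [Field F] [Fintype F] [DecidableEq F] {n : ℕ}

theorem tv_zero_or_one (hF : Fintype.card F = 2) (x : F) : x = 0 ∨ x = 1 := by
  by_contra h
  push Not at h
  have h3 : ({0, 1, x} : Finset F).card = 3 := by
    rw [Finset.card_insert_of_notMem, Finset.card_insert_of_notMem, Finset.card_singleton]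
    · simp only [Finset.mem_singleton]; exact fun e => h.2 e.symm
    · simp only [Finset.mem_insert, Finset.mem_singleton, not_or]
      exact ⟨zero_ne_one, fun e => h.1 e.symm⟩
  have := Finset.card_le_univ ({0, 1, x} : Finset F)
  omega

theorem tv_add_self (hF : Fintype.card F = 2) (x : F) : x + x = 0 := by
  have h11 : (1 : F) + 1 = 0 := by
    rcases tv_zero_or_one hF ((1 : F) + 1) with h | h
    · exact h
    · exfalso
      have : (1 : F) = 0 := by
        have := congrArg (fun z => z - 1) h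
        simp at this
      exact one_ne_zero this
  rcases tv_zero_or_one hF x with h | h
  · rw [h]; simp
  · rw [h]; exact h11

theorem tv_mat_add_self (hF : Fintype.card F = 2) (M : Matrix (Fin n) (Fin n) F) : M + M = 0 := by
  ext k l
  simp [tv_add_self hF]

variable (i j : Fin n)

theorem tv_diag_eq_one (hF : Fintype.card F = 2) {M : Matrix (Fin n) (Fin n) F}
    (hM : Commute (single i j (1 : F)) M) (hdet : M.det ≠ 0) : M i i = 1 ∧ M j j = 1 := by
  have h1 : M i i = M j j := diag_eq_of_commute_single hM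
  have h2 : M i i ≠ 0 := by
    intro h
    apply hdet
    apply Matrix.det_eq_zero_of_column_eq_zero i
    intro k
    by_cases hk : k = i
    · rw [hk]; exact h
    · exact col_eq_zero_of_commute_single hM hk
  have h3 : M i i = 1 := (tv_zero_or_one hF _).resolve_left h2
  exact ⟨h3, h1 ▸ h3⟩

theorem tv_mul_single_ii (hF : Fintype.card F = 2) {M : Matrix (Fin n) (Fin n) F}
    (hM : Commute (single i j (1 : F)) M) (hdet : M.det ≠ 0) :
    M * single i i (1 : F) = single i i 1 := by
  ext k l
  by_cases hl : l = i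
  · subst hl
    rw [mul_single_apply_same, mul_one]
    by_cases hk : k = l
    · subst hk
      rw [(tv_diag_eq_one k j hF hM hdet).1]; simp
    · rw [col_eq_zero_of_commute_single hM hk]
      rw [single_apply_of_ne]
      exact fun h => hk h.1.symm
  · rw [mul_single_apply_of_ne (hbj := hl), single_apply_of_ne]
    exact fun h => hl h.2.symm

theorem tv_single_jj_mul (hF : Fintype.card F = 2) {M : Matrix (Fin n) (Fin n) F}
    (hM : Commute (single i j (1 : F)) M) (hdet : M.det ≠ 0) :
    single j j (1 : F) * M = single j j 1 := by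
  ext k l
  by_cases hk : k = j
  · subst hk
    rw [single_mul_apply_same, one_mul]
    by_cases hl : l = k
    · subst hl
      rw [(tv_diag_eq_one i l hF hM hdet).2]; simp
    · rw [row_eq_zero_of_commute_single hM hl]
      rw [single_apply_of_ne]
      exact fun h => hl h.2.symm
  · rw [single_mul_apply_of_ne (h := hk), single_apply_of_ne]
    exact fun h => hk h.1.symm

end TV

section TV2

variable {F : Type*} [Field F] [Fintype F] [DecidableEq F] {n : ℕ} (i j : Fin n)

local notation "SLn" => Matrix.SpecialLinearGroup (Fin n) F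
local notation "Eii" => (single i i (1 : F) : Matrix (Fin n) (Fin n) F)
local notation "Ejj" => (single j j (1 : F) : Matrix (Fin n) (Fin n) F)

theorem tv_commute_of_mem {t g : SLn}
    (ht : (t : Matrix (Fin n) (Fin n) F) = Matrix.transvection i j 1)
    (hg : g ∈ Subgroup.centralizer ({t} : Set SLn)) :
    Commute (single i j (1 : F)) (g : Matrix (Fin n) (Fin n) F) := by
  have h := (Subgroup.mem_centralizer_iff.mp hg) t rfl
  have h2 : (t : Matrix (Fin n) (Fin n) F) * (g : Matrix (Fin n) (Fin n) F) = g * t := by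
    rw [← Matrix.SpecialLinearGroup.coe_mul, h, Matrix.SpecialLinearGroup.coe_mul]
  rw [ht, transvection, add_mul, mul_add, one_mul, mul_one] at h2
  exact add_left_cancel h2

theorem tv_det_ne_zero (g : SLn) : (g : Matrix (Fin n) (Fin n) F).det ≠ 0 := by
  rw [g.det_coe]; exact one_ne_zero

theorem tv_Pm_Eii : (1 - Eii) * Eii = 0 := by
  rw [sub_mul, one_mul, single_mul_single_same, mul_one, sub_self]

theorem tv_Ejj_Rm : Ejj * (1 - Ejj) = 0 := by
  rw [mul_sub, mul_one, single_mul_single_same, mul_one, sub_self]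

theorem tv_B1 {M : Matrix (Fin n) (Fin n) F} (hM : M * Eii = Eii) :
    (1 - Eii) * M * (1 - Eii) = (1 - Eii) * M := by
  rw [mul_sub, mul_one, mul_assoc, hM, tv_Pm_Eii, sub_zero]

theorem tv_B2 {M : Matrix (Fin n) (Fin n) F} (hM : Ejj * M = Ejj) :
    (1 - Ejj) * M * (1 - Ejj) = M * (1 - Ejj) := by
  rw [sub_mul, one_mul, sub_mul, hM, tv_Ejj_Rm, sub_zero]

/-- closure of the defining condition of `Q` under products -/
theorem tv_mul_closed {g h : Matrix (Fin n) (Fin n) F} (hh : Ejj * h = Ejj)
    (hgQ : (1 - Eii) * g * (1 - Ejj) = (1 - Eii) * (1 - Ejj))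
    (hhQ : (1 - Eii) * h * (1 - Ejj) = (1 - Eii) * (1 - Ejj)) :
    (1 - Eii) * (g * h) * (1 - Ejj) = (1 - Eii) * (1 - Ejj) := by
  have e1 : (1 - Eii) * (g * h) * (1 - Ejj) =
      ((1 - Eii) * g * (1 - Ejj)) * h * (1 - Ejj) + (1 - Eii) * g * (Ejj * h) * (1 - Ejj) := by
    have : g = g * (1 - Ejj) + g * Ejj := by rw [← mul_add, sub_add_cancel, mul_one]
    conv_lhs => rw [this]
    simp only [mul_add, add_mul, mul_assoc]
  rw [e1, hgQ, hh, mul_assoc ((1 - Eii) * g), tv_Ejj_Rm, mul_zero, add_zero]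
  rw [mul_assoc, mul_assoc, ← mul_assoc (1 - Ejj), tv_B2 j hh, ← mul_assoc, hhQ]

end TV2

section TV3

variable {F : Type*} [Field F] [Fintype F] [DecidableEq F] {n : ℕ} (i j : Fin n)

local notation "SLn" => Matrix.SpecialLinearGroup (Fin n) F
local notation "Eii" => (single i i (1 : F) : Matrix (Fin n) (Fin n) F)
local notation "Ejj" => (single j j (1 : F) : Matrix (Fin n) (Fin n) F)

variable (hF : Fintype.card F = 2) (t : Matrix.SpecialLinearGroup (Fin n) F)
  (ht : (t : Matrix (Fin n) (Fin n) F) = Matrix.transvection i j 1)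

include hF ht in
theorem tv_A1 {g : SLn} (hg : g ∈ Subgroup.centralizer ({t} : Set SLn)) :
    (g : Matrix (Fin n) (Fin n) F) * Eii = Eii :=
  tv_mul_single_ii i j hF (tv_commute_of_mem i j ht hg) (tv_det_ne_zero g)

include hF ht in
theorem tv_A2 {g : SLn} (hg : g ∈ Subgroup.centralizer ({t} : Set SLn)) :
    Ejj * (g : Matrix (Fin n) (Fin n) F) = Ejj :=
  tv_single_jj_mul i j hF (tv_commute_of_mem i j ht hg) (tv_det_ne_zero g)

/-- The unipotent radical of the centralizer of a transvection. -/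
def tvQ : Subgroup ↥(Subgroup.centralizer ({t} : Set SLn)) where
  carrier := {g | (1 - Eii) * ((g : SLn) : Matrix (Fin n) (Fin n) F) * (1 - Ejj) =
    (1 - Eii) * (1 - Ejj)}
  one_mem' := by simp
  mul_mem' := by
    intro g h hg hh
    have := tv_mul_closed i j (tv_A2 i j hF t ht h.2) hg hh
    simpa using this
  inv_mem' := by
    intro g hg
    show (1 - Eii) * (((g⁻¹ : ↥(Subgroup.centralizer ({t} : Set SLn))) : SLn) :
      Matrix (Fin n) (Fin n) F) * (1 - Ejj) = (1 - Eii) * (1 - Ejj)
    have hginv : ((g⁻¹ : ↥(Subgroup.centralizer ({t} : Set SLn))) : SLn) ∈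
        Subgroup.centralizer ({t} : Set SLn) := (g⁻¹).2
    have h1 := tv_B1 i (tv_A1 i j hF t ht hginv)
    have hmul : (((g⁻¹ : ↥(Subgroup.centralizer ({t} : Set SLn))) : SLn) :
        Matrix (Fin n) (Fin n) F) * ((g : SLn) : Matrix (Fin n) (Fin n) F) = 1 := by
      rw [← Matrix.SpecialLinearGroup.coe_mul, ← Subgroup.coe_mul, inv_mul_cancel]
      simp
    have hg' : (1 - Eii) * ((g : SLn) : Matrix (Fin n) (Fin n) F) * (1 - Ejj) =
        (1 - Eii) * (1 - Ejj) := hg
    calc (1 - Eii) * (((g⁻¹ : ↥(Subgroup.centralizer ({t} : Set SLn))) : SLn) :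
          Matrix (Fin n) (Fin n) F) * (1 - Ejj)
        = ((1 - Eii) * (((g⁻¹ : ↥(Subgroup.centralizer ({t} : Set SLn))) : SLn) :
          Matrix (Fin n) (Fin n) F) * (1 - Eii)) * (1 - Ejj) := by rw [h1]
      _ = (1 - Eii) * (((g⁻¹ : ↥(Subgroup.centralizer ({t} : Set SLn))) : SLn) :
          Matrix (Fin n) (Fin n) F) * ((1 - Eii) * (1 - Ejj)) := by simp only [mul_assoc]
      _ = (1 - Eii) * (((g⁻¹ : ↥(Subgroup.centralizer ({t} : Set SLn))) : SLn) :
          Matrix (Fin n) (Fin n) F) * ((1 - Eii) * ((g : SLn) : Matrix (Fin n) (Fin n) F) *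
            (1 - Ejj)) := by rw [hg']
      _ = ((1 - Eii) * (((g⁻¹ : ↥(Subgroup.centralizer ({t} : Set SLn))) : SLn) :
          Matrix (Fin n) (Fin n) F) * (1 - Eii)) * ((g : SLn) : Matrix (Fin n) (Fin n) F) *
            (1 - Ejj) := by simp only [mul_assoc]
      _ = (1 - Eii) * ((((g⁻¹ : ↥(Subgroup.centralizer ({t} : Set SLn))) : SLn) :
          Matrix (Fin n) (Fin n) F) * ((g : SLn) : Matrix (Fin n) (Fin n) F)) * (1 - Ejj) := by
            rw [h1]; simp only [mul_assoc]
      _ = (1 - Eii) * (1 - Ejj) := by rw [hmul, mul_one]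

theorem mem_tvQ {g : ↥(Subgroup.centralizer ({t} : Set SLn))} :
    g ∈ tvQ i j hF t ht ↔
      (1 - Eii) * ((g : SLn) : Matrix (Fin n) (Fin n) F) * (1 - Ejj) = (1 - Eii) * (1 - Ejj) :=
  Iff.rfl

theorem tvQ_normal : (tvQ i j hF t ht).Normal := by
  constructor
  intro q hq c
  rw [mem_tvQ] at hq ⊢
  have hc := tv_B1 i (tv_A1 i j hF t ht c.2)
  have hcinv := tv_B2 j (tv_A2 i j hF t ht (c⁻¹).2)
  have hmul : ((c : SLn) : Matrix (Fin n) (Fin n) F) *
      (((c⁻¹ : ↥(Subgroup.centralizer ({t} : Set SLn))) : SLn) : Matrix (Fin n) (Fin n) F) = 1 := by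
    rw [← Matrix.SpecialLinearGroup.coe_mul, ← Subgroup.coe_mul, mul_inv_cancel]
    simp
  have e0 : (((c * q * c⁻¹ : ↥(Subgroup.centralizer ({t} : Set SLn))) : SLn) :
      Matrix (Fin n) (Fin n) F) = ((c : SLn) : Matrix (Fin n) (Fin n) F) *
        ((q : SLn) : Matrix (Fin n) (Fin n) F) *
        (((c⁻¹ : ↥(Subgroup.centralizer ({t} : Set SLn))) : SLn) : Matrix (Fin n) (Fin n) F) := by
    simp [Subgroup.coe_mul, Matrix.SpecialLinearGroup.coe_mul]
  rw [e0]
  set C := ((c : SLn) : Matrix (Fin n) (Fin n) F) with hCdef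
  set C' := (((c⁻¹ : ↥(Subgroup.centralizer ({t} : Set SLn))) : SLn) :
    Matrix (Fin n) (Fin n) F) with hC'def
  set Qm := ((q : SLn) : Matrix (Fin n) (Fin n) F) with hQdef
  calc (1 - Eii) * (C * Qm * C') * (1 - Ejj)
      = ((1 - Eii) * C) * Qm * (C' * (1 - Ejj)) := by simp only [mul_assoc]
    _ = ((1 - Eii) * C * (1 - Eii)) * Qm * ((1 - Ejj) * C' * (1 - Ejj)) := by rw [hc, hcinv]
    _ = (1 - Eii) * C * ((1 - Eii) * Qm * (1 - Ejj)) * C' * (1 - Ejj) := by
        simp only [mul_assoc]
    _ = (1 - Eii) * C * ((1 - Eii) * (1 - Ejj)) * C' * (1 - Ejj) := by rw [hq]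
    _ = ((1 - Eii) * C * (1 - Eii)) * ((1 - Ejj) * C' * (1 - Ejj)) := by simp only [mul_assoc]
    _ = ((1 - Eii) * C) * (C' * (1 - Ejj)) := by rw [hc, hcinv]
    _ = (1 - Eii) * (C * C') * (1 - Ejj) := by simp only [mul_assoc]
    _ = (1 - Eii) * (1 - Ejj) := by rw [hmul, mul_one]

theorem tvQ_isPGroup : IsPGroup 2 ↥(tvQ i j hF t ht) := by
  intro g
  refine ⟨2, ?_⟩
  have hgQ := (mem_tvQ i j hF t ht).mp g.2
  have hA1 := tv_A1 i j hF t ht (g : ↥(Subgroup.centralizer ({t} : Set SLn))).2
  have hA2 := tv_A2 i j hF t ht (g : ↥(Subgroup.centralizer ({t} : Set SLn))).2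
  set M := (((g : ↥(Subgroup.centralizer ({t} : Set SLn))) : SLn) : Matrix (Fin n) (Fin n) F)
    with hM
  -- N = M - 1
  have hN1 : (M - 1) * Eii = 0 := by rw [sub_mul, hA1, one_mul, sub_self]
  have hN2 : Ejj * (M - 1) = 0 := by rw [mul_sub, hA2, mul_one, sub_self]
  have hN3 : (1 - Eii) * (M - 1) * (1 - Ejj) = 0 := by
    rw [mul_sub (1 - Eii) M 1, sub_mul, hgQ, mul_one, sub_self]
  have hNP : (M - 1) * (1 - Eii) = M - 1 := by rw [mul_sub, hN1, mul_one, sub_zero]
  have hRN : (1 - Ejj) * (M - 1) = M - 1 := by rw [sub_mul, hN2, one_mul, sub_zero]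
  have hN3' : (M - 1) * (M - 1) * (M - 1) = 0 := by
    calc (M - 1) * (M - 1) * (M - 1)
        = ((M - 1) * (1 - Eii)) * (M - 1) * ((1 - Ejj) * (M - 1)) := by rw [hNP, hRN]
      _ = (M - 1) * ((1 - Eii) * (M - 1) * (1 - Ejj)) * (M - 1) := by simp only [mul_assoc]
      _ = 0 := by rw [hN3]; simp
  have hsq : M * M = 1 + (M - 1) * (M - 1) := by
    have h2 : (M - 1) + (M - 1) = 0 := tv_mat_add_self hF _
    have : M * M = 1 + ((M - 1) + (M - 1)) + (M - 1) * (M - 1) := by noncomm_ring
    rw [this, h2, add_zero]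
  have h4 : M * M * (M * M) = 1 := by
    rw [hsq]
    have h2 : (M - 1) * (M - 1) + (M - 1) * (M - 1) = 0 := tv_mat_add_self hF _
    have : (1 + (M - 1) * (M - 1)) * (1 + (M - 1) * (M - 1)) =
        1 + ((M - 1) * (M - 1) + (M - 1) * (M - 1)) +
          ((M - 1) * (M - 1) * (M - 1)) * (M - 1) := by noncomm_ring
    rw [this, h2, hN3']; simp
  apply Subtype.ext
  apply Subtype.ext
  apply Subtype.ext
  show ((((g ^ 2 ^ 2 : ↥(tvQ i j hF t ht)) : ↥(Subgroup.centralizer ({t} : Set SLn))) : SLn) :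
    Matrix (Fin n) (Fin n) F) = 1
  have : (g ^ 2 ^ 2 : ↥(tvQ i j hF t ht)) = g * g * (g * g) := by
    norm_num [pow_succ, mul_assoc]
  rw [this]
  simp only [Subgroup.coe_mul, Matrix.SpecialLinearGroup.coe_mul]
  exact h4

/-- A transvection as an element of the special linear group. -/
def tvElem (a b : Fin n) (hab : a ≠ b) : Matrix.SpecialLinearGroup (Fin n) F :=
  ⟨transvection a b 1, det_transvection_of_ne a b hab 1⟩

theorem coe_tvElem (a b : Fin n) (hab : a ≠ b) :
    ((tvElem a b hab : Matrix.SpecialLinearGroup (Fin n) F) : Matrix (Fin n) (Fin n) F) =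
      transvection a b 1 := rfl

theorem tvQ_self_centralizing (hij : i ≠ j) :
    Subgroup.centralizer ((tvQ i j hF t ht : Subgroup _) : Set _) ≤ tvQ i j hF t ht := by
  intro g hg
  rw [mem_tvQ]
  have hrow : ∀ k l : Fin n, k ≠ i →
      ((g : SLn) : Matrix (Fin n) (Fin n) F) k l = (1 : Matrix (Fin n) (Fin n) F) k l := by
    intro k l hk
    by_cases hkj : k = j
    · subst hkj
      have := congrFun (congrFun (tv_A2 i k hF t ht g.2) k) l
      rw [single_mul_apply_same, one_mul] at this
      rw [this]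
      simp [Matrix.single_apply, Matrix.one_apply]
    · have hik : i ≠ k := fun h => hk h.symm
      have hq0C : (tvElem i k hik : SLn) ∈ Subgroup.centralizer ({t} : Set SLn) := by
        rw [Subgroup.mem_centralizer_iff]
        intro h hh
        rw [Set.mem_singleton_iff] at hh
        subst hh
        apply Subtype.ext
        rw [Matrix.SpecialLinearGroup.coe_mul, Matrix.SpecialLinearGroup.coe_mul, coe_tvElem, ht]
        have e1 : (single i j (1 : F) : Matrix (Fin n) (Fin n) F) * single i k (1 : F) = 0 :=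
          single_mul_single_of_ne _ _ _ _ hij.symm _
        have e2 : (single i k (1 : F) : Matrix (Fin n) (Fin n) F) * single i j (1 : F) = 0 :=
          single_mul_single_of_ne _ _ _ _ hk _
        simp only [transvection, add_mul, mul_add, one_mul, mul_one, e1, e2]
        abel
      have hq0Q : (⟨tvElem i k hik, hq0C⟩ :
          ↥(Subgroup.centralizer ({t} : Set SLn))) ∈ tvQ i j hF t ht := by
        rw [mem_tvQ]
        show (1 - Eii) * transvection i k 1 * (1 - Ejj) = _
        have : (1 - Eii) * transvection i k (1 : F) = (1 - Eii) := by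
          rw [transvection, mul_add, mul_one, sub_mul, one_mul, single_mul_single_same, mul_one,
            sub_self, add_zero]
        rw [this]
      have hcomm := (Subgroup.mem_centralizer_iff.mp hg) _ hq0Q
      have hcommM : Commute (single i k (1 : F)) ((g : SLn) : Matrix (Fin n) (Fin n) F) := by
        have h2 : (transvection i k (1 : F)) * ((g : SLn) : Matrix (Fin n) (Fin n) F) =
            ((g : SLn) : Matrix (Fin n) (Fin n) F) * transvection i k 1 := by
          have := congrArg (fun z : ↥(Subgroup.centralizer ({t} : Set SLn)) =>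
            ((z : SLn) : Matrix (Fin n) (Fin n) F)) hcomm
          simpa [Subgroup.coe_mul, Matrix.SpecialLinearGroup.coe_mul, coe_tvElem] using this
        rw [transvection, add_mul, mul_add, one_mul, mul_one] at h2
        exact add_left_cancel h2
      by_cases hl : l = k
      · subst hl
        rw [one_apply_eq]
        have h1 := diag_eq_of_commute_single hcommM
        have h2 := (tv_diag_eq_one i j hF (tv_commute_of_mem i j ht g.2) (tv_det_ne_zero _)).1
        rw [← h1, h2]
      · rw [row_eq_zero_of_commute_single hcommM hl, one_apply_ne (Ne.symm hl)]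
  have hPg : (1 - Eii) * ((g : SLn) : Matrix (Fin n) (Fin n) F) = (1 - Eii) := by
    ext k l
    rw [sub_mul, one_mul, Matrix.sub_apply, Matrix.sub_apply]
    by_cases hk : k = i
    · subst hk
      rw [single_mul_apply_same, one_mul, sub_self]
      simp [Matrix.one_apply, Matrix.single_apply]
    · rw [single_mul_apply_of_ne (h := hk), hrow k l hk, sub_zero, single_apply_of_ne, sub_zero]
      exact fun h => hk h.1.symm
  rw [hPg]

include hF ht in
theorem tv_genFitting_eq (hij : i ≠ j) :
    Cfsg.generalizedFittingSubgroup ↥(Subgroup.centralizer ({t} : Set SLn)) =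
      Cfsg.pCore 2 ↥(Subgroup.centralizer ({t} : Set SLn)) := by
  rw [Cfsg.Agent.Lib.Helper56.genFitting_eq_pCore_iff]
  have hQle : tvQ i j hF t ht ≤ Cfsg.pCore 2 ↥(Subgroup.centralizer ({t} : Set SLn)) :=
    Cfsg.Agent.Lib.Helper76.le_pCore (tvQ_normal i j hF t ht) (tvQ_isPGroup i j hF t ht)
  exact (Subgroup.centralizer_le hQle).trans ((tvQ_self_centralizing i j hF t ht hij).trans hQle)

end TV3

end Cfsg.Agent.Lib.Helper30
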