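import Cfsg.Agent.Lib.Helper10.SchurTwoU
import Cfsg.Agent.Lib.Helper10.M23Gen
import Cfsg.Agent.Lib.Helper92.PermModule
import Cfsg.Agent.Lib.Helper95.M24InvolN

/-!
Keystone K-S5529-C (helper30): three facts on `M23` acting on the 24 points:
two orbits; involutions fix 8 points; elements of order 3 fix at least 6 points.
-/

set_option autoImplicit false

namespace Cfsg.Agent.Lib.Helper30.TripleGen

open Equiv Cfsg Cfsg.Agent.Lib.Helper10 Cfsg.Agent.Lib.Helper10.SchurTwo

/-- K-S5529-C1.  `M23` has exactly two orbits on the 24 points. -/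
theorem m23_orbits :
    Nat.card (MulAction.orbitRel.Quotient ↥Cfsg.Spor.M23 Cfsg.GolayPt) = 2 := by
  rw [Nat.card_eq_two_iff]
  refine ⟨Quotient.mk'' (none : GolayPt), Quotient.mk'' (some 0 : GolayPt), ?_, ?_⟩
  · intro h
    rw [Quotient.eq''] at h
    obtain ⟨σ, hσ⟩ := h
    have h1 : (σ : Perm GolayPt) (some 0) = none := hσ
    have h2 : (σ : Perm GolayPt) none = none := (Subgroup.mem_inf.mp σ.2).2
    have h3 := (σ : Perm GolayPt).injective (h1.trans h2.symm)
    exact Option.some_ne_none _ h3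
  · rw [Set.eq_univ_iff_forall]
    intro q
    induction q using Quotient.inductionOn' with
    | h x =>
      by_cases hx : x = none
      · left
        rw [hx]
      · right
        rw [Set.mem_singleton_iff, Quotient.eq'']
        obtain ⟨σ, hσ, h1, h2⟩ := Cfsg.Agent.Lib.Helper92.two_trans none (some 0) none x
          (Option.some_ne_none _).symm (Ne.symm hx)
        exact ⟨⟨σ, Subgroup.mem_inf.mpr ⟨hσ, h1⟩⟩, h2⟩

/-- K-S5529-C2.  An involution of `M23` fixes 8 of the 24 points. -/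
theorem m23_invol_fixed (t : Perm Cfsg.GolayPt) (ht : t ∈ Cfsg.Spor.M23) (h2 : orderOf t = 2) :
    8 ≤ (Finset.univ.filter fun a => t a = a).card := by
  have ht24 : t ∈ M24 := (Subgroup.mem_inf.mp ht).1
  have htn : t none = none := (Subgroup.mem_inf.mp ht).2
  obtain ⟨k, hk, h | h⟩ := Cfsg.Agent.Lib.Helper92.invol_conj t ht24 h2
  · have h3 : t = k⁻¹ * wordPerm Cfsg.Agent.Lib.Helper92.z1w * k⁻¹⁻¹ := by rw [← h]; group
    rw [h3, Cfsg.Agent.Lib.Helper95.M24InvolN.filter_fix_conj, Finset.card_smul_finset,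
      Cfsg.Agent.Lib.Helper92.z1_fixed, card_fs]
    exact (Cfsg.Agent.Lib.Helper92.z1fix_octad.2.2).ge
  · exfalso
    have h3 : (k * t * k⁻¹) (k none) = k none := by
      simp [htn]
    rw [h] at h3
    exact Cfsg.Agent.Lib.Helper92.z2_fixed _ h3

/-! ### elements of order 3 -/

/-- `n`-fold repetition of a word. -/
def rep (w : List ℕ) : ℕ → List ℕ
  | 0 => []
  | n + 1 => w ++ rep w n

theorem wordPerm_rep (w : List ℕ) (n : ℕ) : wordPerm (rep w n) = wordPerm w ^ n := by
  induction n with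
  | zero => rfl
  | succ n ih => rw [rep, wordPerm_app, ih, pow_succ']

/-- masks of the fixed points of `x^a y^b`. -/
def maskT : List (List ℕ) :=
  [[16777215, 10651664, 10651664], [8519703, 8536120, 12787728], [8519703, 12787728, 8536120]]

def mask (a b : ℕ) : ℕ := (maskT.getD a []).getD b 0

theorem mask_spec : ∀ a b : Fin 3, ∀ i : Fin 24,
    (mask a b).testBit i = decide (evalW (rep xw23 a ++ rep yw23 b) i = i) := by decide +kernel

theorem mask_pc : ∀ a b : Fin 3, (a.val ≠ 0 ∨ b.val ≠ 0) → 6 ≤ pc (mask a b) := by decide +kernel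

theorem word_fix_card (w : List ℕ) (m : ℕ)
    (hm : ∀ i : Fin 24, m.testBit i = decide (evalW w i = i)) :
    (Finset.univ.filter fun p => wordPerm w p = p).card = pc m := by
  have h : (Finset.univ.filter fun p => wordPerm w p = p) = fs m := by
    ext p
    rw [Finset.mem_filter, mem_fs, Cfsg.Agent.Lib.Helper92.wordPerm_fix_iff]
    have := hm ⟨idx p, idx_lt p⟩
    simp only at this
    rw [this]
    simp
  rw [h, card_fs]

theorem mem_closure_pair_of_commute {G : Type*} [Group G] {x y : G} (hxy : Commute x y) {z : G}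
    (hz : z ∈ Subgroup.closure ({x, y} : Set G)) : ∃ m n : ℤ, z = x ^ m * y ^ n := by
  induction hz using Subgroup.closure_induction with
  | mem w hw =>
    rcases hw with rfl | rfl
    · exact ⟨1, 0, by simp⟩
    · exact ⟨0, 1, by simp⟩
  | one => exact ⟨0, 0, by simp⟩
  | mul u v _ _ hu hv =>
    obtain ⟨m, n, rfl⟩ := hu
    obtain ⟨m', n', rfl⟩ := hv
    refine ⟨m + m', n + n', ?_⟩
    rw [zpow_add, zpow_add]
    have h1 : y ^ n * x ^ m' = x ^ m' * y ^ n := ((hxy.zpow_zpow m' n).symm).eq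
    calc x ^ m * y ^ n * (x ^ m' * y ^ n') = x ^ m * (y ^ n * x ^ m') * y ^ n' := by
          simp only [mul_assoc]
      _ = x ^ m * (x ^ m' * y ^ n) * y ^ n' := by rw [h1]
      _ = x ^ m * x ^ m' * (y ^ n * y ^ n') := by simp only [mul_assoc]
  | inv u _ hu =>
    obtain ⟨m, n, rfl⟩ := hu
    refine ⟨-m, -n, ?_⟩
    rw [mul_inv_rev, zpow_neg, zpow_neg]
    exact ((hxy.zpow_zpow m n).inv_inv).eq.symm

theorem zpow_eq_fin3 {G : Type*} [Group G] (x : G) (hx : x ^ 3 = 1) (m : ℤ) :
    ∃ a : Fin 3, x ^ m = x ^ (a : ℕ) := by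
  have h0 : 0 ≤ m % 3 := Int.emod_nonneg _ (by norm_num)
  have h1 : m % 3 < 3 := Int.emod_lt_of_pos _ (by norm_num)
  refine ⟨⟨(m % 3).toNat, by omega⟩, ?_⟩
  have h2 : x ^ m = x ^ (m % 3) := by
    conv_lhs => rw [← Int.emod_add_mul_ediv m 3]
    rw [zpow_add, zpow_mul]
    have : x ^ (3 : ℤ) = 1 := by
      have := hx
      rw [← zpow_natCast] at this
      exact_mod_cast this
    rw [this, one_zpow, mul_one]
  rw [h2]
  show x ^ (m % 3) = x ^ ((m % 3).toNat)
  rw [← zpow_natCast, Int.toNat_of_nonneg h0]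

theorem hx3 : wordPerm xw23 ^ 3 = 1 := by
  have h : wordPerm xw23 * wordPerm xw23 * wordPerm xw23 = 1 := by
    rw [← wordPerm_app, ← wordPerm_app, ← wordPerm_nil]
    exact word_eq (by decide +kernel)
  rw [pow_succ, pow_two]; exact h

theorem hy3 : wordPerm yw23 ^ 3 = 1 := by
  have h : wordPerm yw23 * wordPerm yw23 * wordPerm yw23 = 1 := by
    rw [← wordPerm_app, ← wordPerm_app, ← wordPerm_nil]
    exact word_eq (by decide +kernel)
  rw [pow_succ, pow_two]; exact h

theorem hxy : wordPerm xw23 * wordPerm yw23 = wordPerm yw23 * wordPerm xw23 := by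
  rw [← wordPerm_app, ← wordPerm_app]
  exact word_eq (by decide +kernel)

theorem xmem : wordPerm xw23 ∈ Spor.M23 := wordPerm_mem_M23 xw23 (by decide +kernel)
theorem ymem : wordPerm yw23 ∈ Spor.M23 := wordPerm_mem_M23 yw23 (by decide +kernel)

theorem y_ne_one : wordPerm yw23 ≠ 1 := by
  intro h1
  have h2 : wordPerm yw23 (pt 0) = pt 0 := by rw [h1]; rfl
  exact word_apply_ne (by decide) (by decide +kernel) h2

theorem x_not_mem : wordPerm xw23 ∉ Subgroup.zpowers (wordPerm yw23) := by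
  intro h
  obtain ⟨k, hk⟩ := Subgroup.mem_zpowers_iff.mp h
  have hfix : wordPerm yw23 (pt 11) = pt 11 := word_apply_eq (by decide) (by decide +kernel)
  have h2 : (wordPerm yw23 ^ k) (pt 11) = pt 11 :=
    Equiv.Perm.zpow_apply_eq_self_of_apply_eq_self hfix k
  rw [hk] at h2
  exact word_apply_ne (by decide) (by decide +kernel) h2

/-- every element of order 3 of `M23` is conjugate to some `x^a y^b`. -/
theorem conj_into_P (g : Perm GolayPt) (hg : g ∈ Spor.M23) (h3 : orderOf g = 3) :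
    ∃ (k : Perm GolayPt) (a b : Fin 3), (a.val ≠ 0 ∨ b.val ≠ 0) ∧
      g = k * wordPerm (rep xw23 a ++ rep yw23 b) * k⁻¹ := by
  haveI : Fact (Nat.Prime 3) := ⟨Nat.prime_three⟩
  set X : ↥Spor.M23 := ⟨wordPerm xw23, xmem⟩ with hX
  set Y : ↥Spor.M23 := ⟨wordPerm yw23, ymem⟩ with hY
  have hX3 : X ^ 3 = 1 := Subtype.ext hx3
  have hY3 : Y ^ 3 = 1 := Subtype.ext hy3
  have hXY : Commute X Y := Subtype.ext hxy
  set P : Subgroup ↥Spor.M23 := Subgroup.closure {X, Y} with hP
  -- form of the elements of P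
  have hform : ∀ z ∈ P, ∃ a b : Fin 3, z = X ^ (a : ℕ) * Y ^ (b : ℕ) := by
    intro z hz
    obtain ⟨m, n, rfl⟩ := mem_closure_pair_of_commute hXY hz
    obtain ⟨a, ha⟩ := zpow_eq_fin3 X hX3 m
    obtain ⟨b, hb⟩ := zpow_eq_fin3 Y hY3 n
    exact ⟨a, b, by rw [ha, hb]⟩
  -- P is a 3-group
  have hPp : IsPGroup 3 P := by
    intro z
    refine ⟨1, ?_⟩
    obtain ⟨a, b, hab⟩ := hform z.1 z.2
    apply Subtype.ext
    rw [Subgroup.coe_pow, hab, pow_one, (hXY.pow_pow a b).mul_pow, ← pow_mul, ← pow_mul,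
      mul_comm (a : ℕ), mul_comm (b : ℕ), pow_mul, pow_mul, hX3, hY3, one_pow, one_pow, mul_one]
    rfl
  -- card P ≤ 9
  have hle9 : Nat.card P ≤ 9 := by
    have hsurj : Function.Surjective (fun ab : Fin 3 × Fin 3 =>
        (⟨X ^ (ab.1 : ℕ) * Y ^ (ab.2 : ℕ), P.mul_mem
          (P.pow_mem (Subgroup.subset_closure (by simp)) _)
          (P.pow_mem (Subgroup.subset_closure (by simp)) _)⟩ : P)) := by
      intro z
      obtain ⟨a, b, hab⟩ := hform z.1 z.2
      exact ⟨(a, b), Subtype.ext hab.symm⟩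
    have := Nat.card_le_card_of_surjective _ hsurj
    simpa using this
  -- card P > 3
  have hYo : orderOf Y = 3 := by
    apply orderOf_eq_prime hY3
    intro h
    exact y_ne_one (congrArg Subtype.val h)
  have hYP : Subgroup.zpowers Y ≤ P := by
    rw [Subgroup.zpowers_le]
    exact Subgroup.subset_closure (by simp)
  have hXP : X ∈ P := Subgroup.subset_closure (by simp)
  have hXnY : X ∉ Subgroup.zpowers Y := by
    intro h
    obtain ⟨k, hk⟩ := Subgroup.mem_zpowers_iff.mp h
    apply x_not_mem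
    rw [Subgroup.mem_zpowers_iff]
    refine ⟨k, ?_⟩
    have := congrArg Subtype.val hk
    simpa using this
  have hgt3 : 3 < Nat.card P := by
    by_contra hcon
    push_neg at hcon
    have hcY : Nat.card (Subgroup.zpowers Y) = 3 := by rw [Nat.card_zpowers, hYo]
    have := Subgroup.eq_of_le_of_card_ge hYP (by rw [hcY]; exact hcon)
    exact hXnY (this ▸ hXP)
  obtain ⟨n, hn⟩ := hPp.exists_card_eq
  have hP9 : Nat.card P = 9 := by
    rw [hn] at hle9 hgt3 ⊢
    have h1 : n < 3 := by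
      by_contra hcon
      push_neg at hcon
      have : 3 ^ 3 ≤ 3 ^ n := Nat.pow_le_pow_right (by norm_num) hcon
      omega
    interval_cases n <;> omega
  -- Sylow subgroup over P
  obtain ⟨Q, hPQ⟩ := hPp.exists_le_sylow
  obtain ⟨m, hm⟩ := Q.2.exists_card_eq
  have hQ9 : Nat.card (Q : Subgroup ↥Spor.M23) = 9 := by
    have hdvd : Nat.card (Q : Subgroup ↥Spor.M23) ∣ 10200960 := by
      rw [← card_M23]
      exact Subgroup.card_subgroup_dvd_card _
    have hPd : Nat.card P ∣ Nat.card (Q : Subgroup ↥Spor.M23) := Subgroup.card_dvd_of_le hPQ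
    rw [hm] at hdvd hPd ⊢
    rw [hP9] at hPd
    have h1 : m < 3 := by
      by_contra hcon
      push_neg at hcon
      have h27 : 3 ^ 3 ∣ 10200960 := (pow_dvd_pow 3 hcon).trans hdvd
      norm_num at h27
    interval_cases m
    · norm_num at hPd
    · norm_num at hPd
    · norm_num
  have hPQeq : P = (Q : Subgroup ↥Spor.M23) :=
    Subgroup.eq_of_le_of_card_ge hPQ (by rw [hQ9, hP9])
  -- the element g
  set g' : ↥Spor.M23 := ⟨g, hg⟩ with hg'
  have hg'o : orderOf g' = 3 := by
    rw [← h3]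
    exact (Subgroup.orderOf_mk g hg)
  have hgp : IsPGroup 3 (Subgroup.zpowers g') := by
    apply IsPGroup.of_card (n := 1)
    rw [Nat.card_zpowers, hg'o, pow_one]
  obtain ⟨Q', hQ'⟩ := hgp.exists_le_sylow
  obtain ⟨k, hk⟩ := MulAction.exists_smul_eq ↥Spor.M23 Q Q'
  have hgQ' : g' ∈ (Q' : Subgroup ↥Spor.M23) := hQ' (Subgroup.mem_zpowers g')
  rw [← hk, Sylow.coe_subgroup_smul, Subgroup.mem_pointwise_smul_iff_inv_smul_mem] at hgQ'
  have hz : k⁻¹ * g' * k ∈ P := by
    rw [hPQeq]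
    simpa [MulAut.smul_def] using hgQ'
  obtain ⟨a, b, hab⟩ := hform _ hz
  have hg1 : g' ≠ 1 := by
    intro h
    rw [h, orderOf_one] at hg'o
    norm_num at hg'o
  refine ⟨k.1, a, b, ?_, ?_⟩
  · by_contra hcon
    push_neg at hcon
    rw [hcon.1, hcon.2, pow_zero, pow_zero, mul_one] at hab
    apply hg1
    have : g' = k * (k⁻¹ * g' * k) * k⁻¹ := by group
    rw [this, hab]; group
  · rw [wordPerm_app, wordPerm_rep, wordPerm_rep]
    have h1 : g' = k * (X ^ (a : ℕ) * Y ^ (b : ℕ)) * k⁻¹ := by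
      rw [← hab]; group
    have := congrArg Subtype.val h1
    simpa using this

/-- K-S5529-C3.  An element of order 3 of `M23` fixes at least 6 of the 24 points. -/
theorem m23_three_fixed (g : Perm Cfsg.GolayPt) (hg : g ∈ Cfsg.Spor.M23) (h3 : orderOf g = 3) :
    6 ≤ (Finset.univ.filter fun a => g a = a).card := by
  obtain ⟨k, a, b, hab, hgk⟩ := conj_into_P g hg h3
  rw [hgk, Cfsg.Agent.Lib.Helper95.M24InvolN.filter_fix_conj, Finset.card_smul_finset,
    word_fix_card _ _ (mask_spec a b)]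
  exact mask_pc a b hab

end Cfsg.Agent.Lib.Helper30.TripleGen
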