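import Mathlib
import Cfsg.Prelude.Def_JordanBlocks
import Cfsg.Prelude.Def_LieClassical
import Cfsg.Agent.Lib.Helper73.UCDefs
import Cfsg.Agent.Lib.Helper49.UnipCentralizer

/-!
# K-UC pack (S2646), leaf C2b (264614, parallel hand): the number of non-top coefficient indices
-/

set_option autoImplicit false

namespace Cfsg.Agent.Lib.Helper30.UC

open Matrix Cfsg.Agent.Lib.Helper73.UC

/-- the number of `s : Fin m` which are not the top index -/
theorem card_fin_not_top (m a b : ℕ) (hm : a = b → m = b) (hb : 1 ≤ b) :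
    Fintype.card {s : Fin m // ¬ (a = b ∧ (s : ℕ) + 1 = b)} = m - if a = b then 1 else 0 := by
  classical
  rw [Fintype.card_subtype_compl, Fintype.card_fin]
  congr 1
  by_cases h : a = b
  · rw [if_pos h]
    have hmb := hm h
    subst hmb
    rw [Fintype.card_eq_one_iff]
    refine ⟨⟨⟨m - 1, by omega⟩, h, by simp only; omega⟩, ?_⟩
    rintro ⟨s, -, hs⟩
    apply Subtype.ext
    apply Fin.ext
    simp only
    omega
  · rw [if_neg h]
    rw [Fintype.card_eq_zero_iff]
    exact ⟨fun x => h x.2.1⟩

/-- LEAF C2b. -/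
theorem card_nonTop {t : ℕ} (d : Fin t → ℕ) (hd : ∀ k, 1 ≤ d k) :
    Nat.card {p : CIdx d // ¬ Helper73.UC.IsTop d p} = gam d := by
  classical
  have h1 : Nat.card {p : CIdx d // ¬ Helper73.UC.IsTop d p} =
      ∑ l : Fin t, ∑ k : Fin t, (min (d l) (d k) - if d l = d k then 1 else 0) := by
    rw [Nat.card_eq_fintype_card]
    have e : {p : CIdx d // ¬ Helper73.UC.IsTop d p} ≃
        ((l : Fin t) × (k : Fin t) ×
          {s : Fin (min (d l) (d k)) // ¬ (d l = d k ∧ (s : ℕ) + 1 = d k)}) :=
      { toFun := fun p => ⟨p.1.1, p.1.2.1, ⟨p.1.2.2, p.2⟩⟩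
        invFun := fun x => ⟨⟨x.1, x.2.1, x.2.2.1⟩, x.2.2.2⟩
        left_inv := fun p => rfl
        right_inv := fun x => rfl }
    rw [Fintype.card_congr e, Fintype.card_sigma]
    apply Finset.sum_congr rfl
    intro l _
    rw [Fintype.card_sigma]
    apply Finset.sum_congr rfl
    intro k _
    exact card_fin_not_top (min (d l) (d k)) (d l) (d k) (fun h => by rw [h, min_self]) (hd k)
  rw [h1]
  have h2 := Cfsg.Agent.Lib.Helper49.exponent_eq d hd
  rw [Cfsg.Agent.Lib.Helper49.card_JPos d hd, Cfsg.Agent.Lib.Helper49.card_jb_lt] at h2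
  have h3 : gam d = 2 * (∑ i ∈ Finset.range (Finset.univ.sup d + 1),
        ∑ j ∈ Finset.range (Finset.univ.sup d + 1),
          if i < j then i * Cfsg.Agent.Lib.Helper49.jmult d i * Cfsg.Agent.Lib.Helper49.jmult d j
          else 0) +
      ∑ i ∈ Finset.range (Finset.univ.sup d + 1),
        (i - 1) * Cfsg.Agent.Lib.Helper49.jmult d i ^ 2 := rfl
  rw [h3, ← h2, Finset.sum_comm, ← Finset.sum_add_distrib]
  apply Finset.sum_congr rfl
  intro k _
  rw [← Finset.sum_add_distrib]
  apply Finset.sum_congr rfl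
  intro l _
  have := hd l
  have := hd k
  rcases lt_trichotomy (d l) (d k) with h | h | h
  · rw [if_neg (by omega), if_pos h, if_pos (by omega), min_eq_left (by omega)]
    omega
  · rw [if_pos h, if_neg (by omega), if_pos (by omega), h, min_self]
    omega
  · rw [if_neg (by omega), if_neg (by omega), if_neg (by omega), min_eq_right (by omega)]
    omega

end Cfsg.Agent.Lib.Helper30.UC
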