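import Mathlib
import Cfsg.Prelude.Def_JordanBlocks
import Cfsg.Prelude.Def_LieClassical
import Cfsg.Agent.Lib.Helper73.UCDefs
import Cfsg.Agent.Lib.Helper56.UCC2a

/-!
# K-UC pack (S2646), leaf C2c (264615): the fibre of `topC` over `T ∈ BDH` -- core

The count of non-top indices (LEAF C2b) is a hypothesis here; LEAF C2a is helper56's.
-/

set_option autoImplicit false

namespace Cfsg.Agent.Lib.Helper30.UC

open Matrix Cfsg.Agent.Lib.Helper73.UC

variable {K : Type*} [Field K]

theorem cswap_cswap {t : ℕ} {d : Fin t → ℕ} (p : CIdx d) : cswap (cswap p) = p := by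
  obtain ⟨l, k, s⟩ := p
  rfl

theorem isTop_cswap {t : ℕ} {d : Fin t → ℕ} (p : CIdx d) : Helper73.UC.IsTop d (cswap p) ↔ Helper73.UC.IsTop d p := by
  obtain ⟨l, k, s⟩ := p
  show (d k = d l ∧ (s : ℕ) + 1 = d l) ↔ (d l = d k ∧ (s : ℕ) + 1 = d k)
  constructor
  · rintro ⟨h1, h2⟩; exact ⟨h1.symm, by omega⟩
  · rintro ⟨h1, h2⟩; exact ⟨h1.symm, by omega⟩

/-- the top matrix reads off the coefficient at a top index -/
theorem topC_apply_of_isTop {t : ℕ} {d : Fin t → ℕ} (hd : ∀ k, 1 ≤ d k) (c : CIdx d → K)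
    (p : CIdx d) (hp : Helper73.UC.IsTop d p) : topC d hd c p.1 p.2.1 = c p := by
  obtain ⟨l, k, s⟩ := p
  obtain ⟨h1, h2⟩ := hp
  change d l = d k at h1
  change (s : ℕ) + 1 = d k at h2
  show topC d hd c l k = c ⟨l, k, s⟩
  simp only [topC, Matrix.of_apply]
  rw [dif_pos h1]
  congr 3
  apply Fin.ext
  simp only
  omega

/-- a `φ`-hermitian matrix has `T k l = φ (T l k)` -/
theorem hadj_apply_of_eq {t : ℕ} (φ : K →+* K) (T : Matrix (Fin t) (Fin t) K) (hT : hadj φ T = T)
    (l k : Fin t) : T k l = φ (T l k) := by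
  have h := congrFun (congrFun hT k) l
  simp only [hadj, Matrix.transpose_apply, Matrix.map_apply] at h
  exact h.symm

/-- LEAF C2c with LEAF C2b as a hypothesis. -/
theorem card_fiber_topC_of [Fintype K] {q t : ℕ} (hK : Fintype.card K = q ^ 2)
    (φ : K →+* K) (hφ : ∀ x, φ x = x ^ q) (hφφ : ∀ x, φ (φ x) = x)
    (d : Fin t → ℕ) (hd : ∀ k, 1 ≤ d k) (T : Matrix (Fin t) (Fin t) K) (hT : T ∈ BDH d φ)
    (hC2b : Nat.card {p : CIdx d // ¬ Helper73.UC.IsTop d p} = gam d) :
    Nat.card {c : CIdx d → K // c ∈ HC d φ ∧ topC d hd c = T} = q ^ gam d := by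
  classical
  let S := {p : CIdx d // ¬ Helper73.UC.IsTop d p}
  let σ : S → S := fun x => ⟨cswap x.1, fun h => x.2 ((isTop_cswap x.1).mp h)⟩
  have hσ : ∀ x, σ (σ x) = x := fun x => Subtype.ext (cswap_cswap x.1)
  have hC2a := Cfsg.Agent.Lib.Helper56.UC.card_hermitian_functions hK φ hφ σ hσ
  rw [← hC2b, ← Nat.card_eq_fintype_card (α := S)] at *
  rw [← hC2a]
  refine Nat.card_congr
    { toFun := fun c => ⟨fun x => c.1 x.1, fun x => c.2.1 x.1⟩
      invFun := fun c' =>
        ⟨fun p => if h : Helper73.UC.IsTop d p then T p.1 p.2.1 else c'.1 ⟨p, h⟩, ?_, ?_⟩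
      left_inv := ?_
      right_inv := ?_ }
  · -- hermitian
    intro p
    by_cases h : Helper73.UC.IsTop d p
    · have h' : Helper73.UC.IsTop d (cswap p) := (isTop_cswap p).mpr h
      simp only [dif_pos h, dif_pos h']
      obtain ⟨l, k, s⟩ := p
      exact hadj_apply_of_eq φ T hT.1 l k
    · have h' : ¬ Helper73.UC.IsTop d (cswap p) := fun hh => h ((isTop_cswap p).mp hh)
      simp only [dif_neg h, dif_neg h']
      exact c'.2 ⟨p, h⟩
  · -- top part
    ext l k
    simp only [topC, Matrix.of_apply]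
    by_cases h : d l = d k
    · rw [dif_pos h]
      have htop : Helper73.UC.IsTop d (⟨l, k, ⟨d k - 1, by have := hd k; rw [h, min_self]; omega⟩⟩ : CIdx d) := by
        refine ⟨h, ?_⟩
        have := hd k
        simp only
        omega
      rw [dif_pos htop]
    · rw [dif_neg h]
      exact (hT.2 l k h).symm
  · -- left inverse
    rintro ⟨c, hc, hcT⟩
    apply Subtype.ext
    funext p
    by_cases h : Helper73.UC.IsTop d p
    · simp only [dif_pos h]
      rw [← hcT]
      exact topC_apply_of_isTop hd c p h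
    · simp only [dif_neg h]
  · -- right inverse
    rintro ⟨c', hc'⟩
    apply Subtype.ext
    funext x
    simp only [dif_neg x.2]
    rfl

end Cfsg.Agent.Lib.Helper30.UC
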