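import Mathlib
import Cfsg.Prelude.Def_JordanBlocks
import Cfsg.Prelude.Def_LieClassical
import Cfsg.Agent.Lib.Helper73.UCDefs
import Cfsg.Agent.Lib.Helper30.UCC2cCore
import Cfsg.Agent.Lib.Helper30.UCC2b

/-!
# K-UC pack (S2646), leaf C2c (264615): the fibre of `topC` over `T ∈ BDH` has `q ^ gam d` elements
-/

set_option autoImplicit false

namespace Cfsg.Agent.Lib.Helper30.UC

open Matrix Cfsg.Agent.Lib.Helper73.UC

variable {K : Type*} [Field K]

/-- LEAF C2c. -/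
theorem card_fiber_topC [Fintype K] {q t : ℕ} (hK : Fintype.card K = q ^ 2)
    (φ : K →+* K) (hφ : ∀ x, φ x = x ^ q) (hφφ : ∀ x, φ (φ x) = x)
    (d : Fin t → ℕ) (hd : ∀ k, 1 ≤ d k) (T : Matrix (Fin t) (Fin t) K) (hT : T ∈ BDH d φ) :
    Nat.card {c : CIdx d → K // c ∈ HC d φ ∧ topC d hd c = T} = q ^ gam d :=
  card_fiber_topC_of hK φ hφ hφφ d hd T hT (card_nonTop d hd)

end Cfsg.Agent.Lib.Helper30.UC
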